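import Mathlib

/-!
# The facts on `L = G₂(4)` used in the standard subgroup theorem (interface)

`u ∈ As`, `w ∈ Al` are elements of order 5, `As`, `Al` commuting subgroups `A₅`.
-/

set_option autoImplicit false

namespace Cfsg.Agent.StdG24

open Subgroup

/-- the subgroup generated by the conjugates of `w` under the centralizer of `a` -/
def Wof {L : Type*} [Group L] (w a : L) : Subgroup L :=
  closure {y | ∃ x, x * a = a * x ∧ y = x * w * x⁻¹}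

/-- Data in `L = G₂(4)`. -/
structure Data (L : Type*) [Group L] where
  u : L
  w : L
  As : Subgroup L
  Al : Subgroup L
  z : L
  v : L

/-- The facts used in steps 3, 4, 5 of helper823's proof (R14 #4198). -/
structure Facts {L : Type*} [Group L] (D : Data L) : Prop where
  simple : ∀ N : Subgroup L, N.Normal → N = ⊥ ∨ N = ⊤
  perf : commutator L = ⊤
  nontriv : ∃ x : L, x ≠ 1
  u5 : D.u ^ 5 = 1
  u1 : D.u ≠ 1
  w5 : D.w ^ 5 = 1
  w1 : D.w ≠ 1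
  uAs : D.u ∈ D.As
  wAl : D.w ∈ D.Al
  comm : ∀ a ∈ D.As, ∀ b ∈ D.Al, a * b = b * a
  centAs : ∀ a ∈ D.As, (∀ b ∈ D.As, a * b = b * a) → a = 1
  centAl : ∀ a ∈ D.Al, (∀ b ∈ D.Al, a * b = b * a) → a = 1
  /-- an automorphism fixing `w` is conjugation by an element of `⟨w⟩ × As` -/
  aut_w : ∀ α : L ≃* L, α D.w = D.w → ∃ i : ℕ, ∃ c ∈ D.As, ∀ x, α x = (D.w ^ i * c) * x * (D.w ^ i * c)⁻¹
  /-- an automorphism fixing `u` is conjugation by an element of `⟨u⟩ × Al` -/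
  aut_u : ∀ α : L ≃* L, α D.u = D.u → ∃ i : ℕ, ∃ c ∈ D.Al, ∀ x, α x = (D.u ^ i * c) * x * (D.u ^ i * c)⁻¹
  /-- squares of automorphisms are inner -/
  sq : ∀ α : L ≃* L, ∃ c : L, ∀ x, α (α x) = c * x * c⁻¹
  /-- (F5) for one involution of `Al` -/
  zAl : D.z ∈ D.Al
  z1 : D.z ≠ 1
  z2 : D.z * D.z = 1
  zW : D.z ∈ Wof D.u D.z
  /-- the elements of `Al` commuting with an involution of `Al` commute (`Al = A₅`) -/
  abelAl : ∀ y ∈ D.Al, y ≠ 1 → y * y = 1 → ∀ c ∈ D.Al, ∀ c' ∈ D.Al, c * y = y * c → c' * y = y * c' →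
    c * c' = c' * c
  /-- (F7) -/
  exB : ∀ d : L, d ^ 5 = 1 → ∃ B : Subgroup L, (∀ b ∈ B, b * d = d * b) ∧ B ≤ ⁅B, B⁆ ∧ B ≠ ⊥ ∧
    closure {x : L | ∃ a ∈ B, a ≠ 1 ∧ a * a = 1 ∧ x * a = a * x} = ⊤
  /-- (F6): for every involution `a` of `As` the involutions of `Wof w a` are conjugate into `Al` -/
  inv2A : ∀ a ∈ D.As, a ≠ 1 → a * a = 1 → ∀ y ∈ Wof D.w a, y ≠ 1 → y * y = 1 →
    ∃ l : L, l * y * l⁻¹ ∈ D.Al
  /-- (F8) for one involution `v` of `As` -/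
  vAs : D.v ∈ D.As
  v1 : D.v ≠ 1
  v2 : D.v * D.v = 1
  gen_v : Wof D.w D.v ≤ closure {y | ∃ x ∈ Wof D.w D.v, y = x * D.w * x⁻¹}
  fus_v : ∃ y ∈ Wof D.w D.v, y ≠ 1 ∧ y * y = 1 ∧ ∃ p : L, p * D.v * p⁻¹ = D.v * y

end Cfsg.Agent.StdG24
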