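import Mathlib
import Cfsg.Agent.StdG24.Facts
import Cfsg.Agent.StdAlt.Conj

/-!
# Embeddings of `L = G₂(4)` as a standard subgroup: basic lemmas
-/

set_option autoImplicit false

namespace Cfsg.Agent.StdG24

open Subgroup

section General

variable {G : Type*} [Group G]

/-- Let `K ≤ H`, `K` of even order and tightly embedded with `N(K) = M`. If the 2-elements of `M ⊓ H` lie in `K`
then every 2-subgroup of `H` is conjugate in `H` to a subgroup of `K`. -/
theorem exists_conj_le_of_tight [Finite G] {H K M : Subgroup G} (hKH : K ≤ H)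
    (key : ∀ t g, t ∈ K → t ≠ 1 → t * t = 1 → g * t * g⁻¹ ∈ K → g ∈ M)
    (h2 : ∀ m ∈ M, m ∈ H → (∃ n, m ^ 2 ^ n = 1) → m ∈ K)
    (hev : ∃ t ∈ K, t ≠ 1 ∧ t * t = 1) {P : Subgroup G} (hPH : P ≤ H) (hP : IsPGroup 2 P) :
    ∃ c ∈ H, ∀ x ∈ P, c * x * c⁻¹ ∈ K := by
  obtain ⟨t0, ht0, ht01, ht02⟩ := hev
  obtain ⟨R⟩ : Nonempty (Sylow 2 K) := inferInstance
  have hR'2 : IsPGroup 2 ((R : Subgroup K).map K.subtype) := R.isPGroup'.map _
  have hR'K : (R : Subgroup K).map K.subtype ≤ K := map_subtype_le _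
  have hmax : ∀ Q : Subgroup G, Q ≤ K → IsPGroup 2 Q → (R : Subgroup K).map K.subtype ≤ Q →
      Q = (R : Subgroup K).map K.subtype := by
    intro Q hQK hQ hRQ
    have h1 : IsPGroup 2 (Q.subgroupOf K) := hQ.of_injective (subgroupOfEquivOfLe hQK).toMonoidHom
      (subgroupOfEquivOfLe hQK).injective
    have h3 : (R : Subgroup K) ≤ Q.subgroupOf K := by
      intro x hx
      rw [mem_subgroupOf]
      exact hRQ ⟨x, hx, rfl⟩
    have h4 := R.is_maximal' h1 h3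
    rw [← h4, subgroupOf_map_subtype, inf_eq_left.2 hQK]
  -- an involution of `R`
  have hRinv : ∃ t ∈ (R : Subgroup K).map K.subtype, t ≠ 1 ∧ t * t = 1 := by
    have h1 : IsPGroup 2 (zpowers (⟨t0, ht0⟩ : K)) := by
      apply IsPGroup.of_card (n := 1)
      rw [Nat.card_zpowers, pow_one]
      refine orderOf_eq_prime ?_ ?_
      · rw [pow_two]; exact Subtype.ext ht02
      · intro h; exact ht01 (congrArg Subtype.val h)
    obtain ⟨Q, hQ⟩ := h1.exists_le_sylow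
    obtain ⟨c, hc⟩ := MulAction.exists_smul_eq K Q R
    refine ⟨c * t0 * (c : G)⁻¹, ⟨c * ⟨t0, ht0⟩ * c⁻¹, ?_, rfl⟩, ?_, ?_⟩
    · rw [← hc]
      exact ⟨_, hQ (mem_zpowers _), rfl⟩
    · intro h
      apply ht01
      have h3 : t0 = (c : G)⁻¹ * (c * t0 * (c : G)⁻¹) * c := by group
      rw [h3, h]; group
    · have h3 : (c : G) * t0 * (c : G)⁻¹ * (c * t0 * (c : G)⁻¹) = c * (t0 * t0) * (c : G)⁻¹ := by group
      rw [h3, ht02]; group
  obtain ⟨t, htR, ht1, htt⟩ := hRinv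
  set R' : Subgroup G := (R : Subgroup K).map K.subtype with hR'
  have hR'H : R' ≤ H := hR'K.trans hKH
  have h5 : IsPGroup 2 (R'.subgroupOf H) := hR'2.of_injective (subgroupOfEquivOfLe hR'H).toMonoidHom
    (subgroupOfEquivOfLe hR'H).injective
  obtain ⟨T, hT⟩ := h5.exists_le_sylow
  set T' : Subgroup G := (T : Subgroup H).map H.subtype with hT'
  have hT'2 : IsPGroup 2 T' := T.isPGroup'.map _
  have hT'H : T' ≤ H := map_subtype_le _
  have hRT : R' ≤ T' := by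
    intro x hx
    exact ⟨⟨x, hR'H hx⟩, hT (mem_subgroupOf.2 hx), rfl⟩
  have hTK : T' = R' := by
    by_contra hne
    have hlt : R'.subgroupOf T' < ⊤ := by
      rw [lt_top_iff_ne_top]
      intro h
      exact hne (le_antisymm (subgroupOf_eq_top.1 h) hRT)
    haveI : Group.IsNilpotent T' := hT'2.isNilpotent
    have h1 := Group.normalizerCondition_of_isNilpotent (G := T') _ hlt
    obtain ⟨⟨x, hxP⟩, hx1, hx2⟩ := SetLike.exists_of_lt h1
    rw [mem_subgroupOf] at hx2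
    have hnorm : ∀ y ∈ R', x * y * x⁻¹ ∈ R' := by
      intro y hy
      have h3 := (mem_normalizer_iff.1 hx1 ⟨y, hRT hy⟩).1 (mem_subgroupOf.2 hy)
      exact mem_subgroupOf.1 h3
    have hxM : x ∈ M := key t x (hR'K htR) ht1 htt (hR'K (hnorm t htR))
    obtain ⟨n, hn⟩ := hT'2 ⟨x, hxP⟩
    have hxK : x ∈ K := h2 x hxM (hT'H hxP) ⟨n, congrArg Subtype.val hn⟩
    have h3 : R' ⊔ zpowers x = R' :=
      hmax _ (sup_le hR'K ((zpowers_le).2 hxK))
        (hT'2.to_le (sup_le hRT (by rwa [zpowers_le]))) le_sup_left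
    apply hx2
    change x ∈ R'
    rw [← h3]
    exact mem_sup_right (mem_zpowers x)
  have h6 : IsPGroup 2 (P.subgroupOf H) := hP.of_injective (subgroupOfEquivOfLe hPH).toMonoidHom
    (subgroupOfEquivOfLe hPH).injective
  obtain ⟨Q, hQ⟩ := h6.exists_le_sylow
  obtain ⟨c, hc⟩ := MulAction.exists_smul_eq H Q T
  refine ⟨c, c.2, fun x hx => hR'K ?_⟩
  have h7 : (⟨x, hPH hx⟩ : H) ∈ Q := hQ (mem_subgroupOf.2 hx)
  have h8 : c * ⟨x, hPH hx⟩ * c⁻¹ ∈ T := by
    rw [← hc]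
    exact ⟨_, h7, rfl⟩
  rw [← hTK]
  exact ⟨_, h8, rfl⟩

/-- the cyclic group generated by an involution is a 2-group -/
theorem isPGroup_zpowers {t : G} (h : t * t = 1) : IsPGroup 2 (zpowers t) := by
  rintro ⟨x, hx⟩
  obtain ⟨k, rfl⟩ := mem_zpowers_iff.1 hx
  refine ⟨1, Subtype.ext ?_⟩
  change (t ^ k) ^ (2 ^ 1) = 1
  rw [pow_one, pow_two, ← zpow_add, ← mul_two, zpow_mul', zpow_two, h, one_zpow]

end General

variable {L : Type*} [Group L] {G : Type*} [Group G]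

/-- the conjugate of an embedding -/
def cjh (g : G) (e : L →* G) : L →* G := (MulAut.conj g).toMonoidHom.comp e

@[simp] theorem cjh_apply (g : G) (e : L →* G) (x : L) : cjh g e x = g * e x * g⁻¹ := rfl

/-- centralizer of the image -/
def KK (e : L →* G) : Subgroup G := centralizer (e.range : Set G)

/-- normalizer of the image -/
def MM (e : L →* G) : Subgroup G := normalizer (e.range : Set G)

theorem mem_KK {e : L →* G} {k : G} : k ∈ KK e ↔ ∀ x, k * e x = e x * k := by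
  rw [KK, mem_centralizer_iff]
  constructor
  · intro h x
    exact (h _ ⟨x, rfl⟩).symm
  · rintro h _ ⟨x, rfl⟩
    exact (h x).symm

theorem mem_MM {e : L →* G} {m : G} :
    m ∈ MM e ↔ (∀ x, ∃ y, m * e x * m⁻¹ = e y) ∧ ∀ x, ∃ y, m⁻¹ * e x * m = e y := by
  rw [MM, mem_normalizer_iff]
  constructor
  · intro h
    refine ⟨fun x => ?_, fun x => ?_⟩
    · obtain ⟨y, hy⟩ := (h (e x)).1 ⟨x, rfl⟩
      exact ⟨y, hy.symm⟩
    · obtain ⟨y, hy⟩ := (h (m⁻¹ * e x * m)).2 ⟨x, by group⟩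
      exact ⟨y, hy.symm⟩
  · rintro ⟨h1, h2⟩ x
    constructor
    · rintro ⟨y, rfl⟩
      obtain ⟨y', hy'⟩ := h1 y
      exact ⟨y', hy'.symm⟩
    · rintro ⟨y, hy⟩
      obtain ⟨y', hy'⟩ := h2 y
      refine ⟨y', ?_⟩
      rw [← hy', hy]; group

theorem KK_le_MM (e : L →* G) : KK e ≤ MM e := centralizer_le_normalizer _

theorem apply_mem_MM (e : L →* G) (x : L) : e x ∈ MM e :=
  le_normalizer (H := e.range) ⟨x, rfl⟩

theorem mem_KK_cjh {g x : G} {e : L →* G} : x ∈ KK (cjh g e) ↔ g⁻¹ * x * g ∈ KK e := by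
  rw [mem_KK, mem_KK]
  constructor
  · intro h y
    have h1 := h y
    rw [cjh_apply] at h1
    calc g⁻¹ * x * g * e y = g⁻¹ * (x * (g * e y * g⁻¹)) * g := by group
      _ = g⁻¹ * (g * e y * g⁻¹ * x) * g := by rw [h1]
      _ = e y * (g⁻¹ * x * g) := by group
  · intro h y
    have h1 := h y
    rw [cjh_apply]
    calc x * (g * e y * g⁻¹) = g * (g⁻¹ * x * g * e y) * g⁻¹ := by group
      _ = g * (e y * (g⁻¹ * x * g)) * g⁻¹ := by rw [h1]
      _ = g * e y * g⁻¹ * x := by group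

theorem mem_MM_cjh {g x : G} {e : L →* G} : x ∈ MM (cjh g e) ↔ g⁻¹ * x * g ∈ MM e := by
  rw [mem_MM, mem_MM]
  refine and_congr (forall_congr' fun y => exists_congr fun y' => ?_)
    (forall_congr' fun y => exists_congr fun y' => ?_)
  · rw [cjh_apply, cjh_apply]
    constructor
    · intro h
      calc g⁻¹ * x * g * e y * (g⁻¹ * x * g)⁻¹ = g⁻¹ * (x * (g * e y * g⁻¹) * x⁻¹) * g := by group
        _ = e y' := by rw [h]; group
    · intro h
      calc x * (g * e y * g⁻¹) * x⁻¹ = g * (g⁻¹ * x * g * e y * (g⁻¹ * x * g)⁻¹) * g⁻¹ := by group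
        _ = g * e y' * g⁻¹ := by rw [h]
  · rw [cjh_apply, cjh_apply]
    constructor
    · intro h
      calc (g⁻¹ * x * g)⁻¹ * e y * (g⁻¹ * x * g) = g⁻¹ * (x⁻¹ * (g * e y * g⁻¹) * x) * g := by group
        _ = e y' := by rw [h]; group
    · intro h
      calc x⁻¹ * (g * e y * g⁻¹) * x = g * ((g⁻¹ * x * g)⁻¹ * e y * (g⁻¹ * x * g)) * g⁻¹ := by group
        _ = g * e y' * g⁻¹ := by rw [h]

theorem cjh_cjh (g h : G) (e : L →* G) : cjh g (cjh h e) = cjh (g * h) e := by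
  ext x
  simp only [cjh_apply, mul_inv_rev]
  group

theorem cjh_one (e : L →* G) : cjh 1 e = e := by
  ext x
  simp

/-- The consequences of "`e : L → G` is an isomorphism onto a standard subgroup". -/
structure Emb (e : L →* G) : Prop where
  inj : Function.Injective e
  key : ∀ k g, k ∈ KK e → k ≠ 1 → k * k = 1 → g * k * g⁻¹ ∈ KK e → g ∈ MM e
  disj : ∀ x, e x ∈ KK e → x = 1
  ncomm : ∀ g : G, (∀ x y, e x * (g * e y * g⁻¹) = (g * e y * g⁻¹) * e x) → False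
  even : ∃ t ∈ KK e, t ≠ 1 ∧ t * t = 1

namespace Emb

variable {e : L →* G}

theorem cjh (h : Emb e) (g : G) : Emb (StdG24.cjh g e) := by
  refine ⟨fun x y hxy => ?_, fun k x hk h1 h2 hx => ?_, fun x hx => ?_, fun x hx => ?_, ?_⟩
  · simp only [cjh_apply, mul_left_inj, mul_right_inj] at hxy
    exact h.inj hxy
  · rw [mem_KK_cjh] at hk hx
    rw [mem_MM_cjh]
    refine h.key (g⁻¹ * k * g) (g⁻¹ * x * g) hk ?_ ?_ ?_
    · intro h3
      apply h1
      rw [show k = g * (g⁻¹ * k * g) * g⁻¹ by group, h3]; group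
    · rw [show g⁻¹ * k * g * (g⁻¹ * k * g) = g⁻¹ * (k * k) * g by group, h2]; group
    · rw [show g⁻¹ * x * g * (g⁻¹ * k * g) * (g⁻¹ * x * g)⁻¹ = g⁻¹ * (x * k * x⁻¹) * g by group]
      exact hx
  · rw [mem_KK_cjh, cjh_apply] at hx
    apply h.disj
    rwa [show g⁻¹ * (g * e x * g⁻¹) * g = e x by group] at hx
  · apply h.ncomm (g⁻¹ * x * g)
    intro a b
    have h1 := hx a b
    simp only [cjh_apply] at h1
    calc e a * (g⁻¹ * x * g * e b * (g⁻¹ * x * g)⁻¹)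
        = g⁻¹ * (g * e a * g⁻¹ * (x * (g * e b * g⁻¹) * x⁻¹)) * g := by group
      _ = g⁻¹ * (x * (g * e b * g⁻¹) * x⁻¹ * (g * e a * g⁻¹)) * g := by rw [h1]
      _ = (g⁻¹ * x * g * e b * (g⁻¹ * x * g)⁻¹) * e a := by group
  · obtain ⟨t, ht, ht1, ht2⟩ := h.even
    refine ⟨g * t * g⁻¹, ?_, ?_, ?_⟩
    · rw [mem_KK_cjh, show g⁻¹ * (g * t * g⁻¹) * g = t by group]; exact ht
    · intro h3
      apply ht1
      rw [show t = g⁻¹ * (g * t * g⁻¹) * g by group, h3]; group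
    · rw [show g * t * g⁻¹ * (g * t * g⁻¹) = g * (t * t) * g⁻¹ by group, ht2]; group

/-- an element commuting with an involution of `K` lies in `M` -/
theorem nrm (h : Emb e) {k : G} (hk : k ∈ KK e) (h1 : k ≠ 1) (h2 : k * k = 1) {g : G}
    (hg : g * k = k * g) : g ∈ MM e :=
  h.key k g hk h1 h2 (by rw [hg, mul_inv_cancel_right]; exact hk)

/-- the automorphism of `L` induced by an element of `M` -/
theorem exists_aut (h : Emb e) {m : G} (hm : m ∈ MM e) :
    ∃ α : L ≃* L, ∀ x, e (α x) = m * e x * m⁻¹ := by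
  obtain ⟨h1, h2⟩ := mem_MM.1 hm
  choose f hf using h1
  choose f' hf' using h2
  refine ⟨{ toFun := f, invFun := f', left_inv := fun x => h.inj ?_, right_inv := fun x => h.inj ?_,
            map_mul' := fun x y => h.inj ?_ }, fun x => (hf x).symm⟩
  · rw [← hf', ← hf]; group
  · rw [← hf, ← hf']; group
  · rw [map_mul, ← hf, ← hf, ← hf, map_mul]; group

/-- if `m` induces conjugation by `t` then `m ∈ K e(t)` -/
theorem mem_of_aut {m : G} {t : L} (hmt : ∀ x, m * e x * m⁻¹ = e (t * x * t⁻¹)) :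
    m * (e t)⁻¹ ∈ KK e := by
  rw [mem_KK]
  intro x
  have h1 := hmt (t⁻¹ * x * t)
  rw [show t * (t⁻¹ * x * t) * t⁻¹ = x by group] at h1
  calc m * (e t)⁻¹ * e x = m * ((e t)⁻¹ * e x * e t) * m⁻¹ * (m * (e t)⁻¹) := by group
    _ = m * e (t⁻¹ * x * t) * m⁻¹ * (m * (e t)⁻¹) := by rw [map_mul, map_mul, map_inv]
    _ = e x * (m * (e t)⁻¹) := by rw [h1]

theorem conj_KK {m : G} (h : m ∈ MM e) {k : G} (hk : k ∈ KK e) : m * k * m⁻¹ ∈ KK e := by
  rw [mem_KK] at hk ⊢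
  intro x
  obtain ⟨y, hy⟩ := (mem_MM.1 h).2 x
  have h1 := hk y
  rw [← hy] at h1
  calc m * k * m⁻¹ * e x = m * (k * (m⁻¹ * e x * m)) * m⁻¹ := by group
    _ = m * (m⁻¹ * e x * m * k) * m⁻¹ := by rw [h1]
    _ = e x * (m * k * m⁻¹) := by group

end Emb

end Cfsg.Agent.StdG24
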