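import Cfsg.Agent.StdG24.Ord6
import Cfsg.Agent.S1679
import Cfsg.Agent.ChevalleyStructure.FieldIso

/-!
# The six-dimensional model is the Chevalley group of type `G₂` over the field with four elements
-/

set_option autoImplicit false

namespace Cfsg.Agent.StdG24.Iso6

open Cfsg.Agent.SporRec.GF4
open Cfsg.Agent.StdG24.Mod6
open Cfsg.Agent.StdG24.Ord6

theorem equiv_Gp : Nonempty (L ≃* Cfsg.Agent.SporRec.G24Mat.Gp) :=
  Cfsg.Agent.S1679.iso_of_gens B Cfsg.Agent.SporRec.G24Match.A B_rel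
    Cfsg.Agent.SporRec.G24Match.A_rel _ Cfsg.Agent.SporRec.G24Mat.Gp closure_B
    Cfsg.Agent.SporRec.G24Match.closure_A (fun _ => card_L.ge)
    Cfsg.Agent.SporRec.G24Match.card_Gp_ge

/-- `G₂(4)` over any field with four elements -/
theorem equiv_chev (F : Type*) [Field F] [Fintype F] (hF : Fintype.card F = 4) :
    Nonempty (L ≃* Cfsg.Lie.chevG2.group F) := by
  obtain ⟨e⟩ := equiv_Gp
  have f : F4 ≃+* F := FiniteField.ringEquivOfCardEq (by rw [hF, F4.card_F4])
  exact ⟨e.trans (ChevalleyStructure.FieldIso.groupEquiv Cfsg.Lie.chevG2 f)⟩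

end Cfsg.Agent.StdG24.Iso6
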