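import Mathlib

/-!
# Automorphisms of a group isomorphic to `A₅`

An automorphism fixing an element `u` of order 5 and an involution inverting `u` is trivial; an
automorphism fixing `u` is conjugation by a power of `u`; an automorphism fixing a four-group
elementwise is conjugation by an element of that four-group.
-/

set_option autoImplicit false

namespace Cfsg.Agent.StdG24.AutA5

open Equiv

abbrev P := Equiv.Perm (Fin 5)

def u0 : P := finRotate 5
def i0 : P := Equiv.swap 1 4 * Equiv.swap 2 3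
def a0 : P := Equiv.swap 0 1 * Equiv.swap 2 3
def b0 : P := Equiv.swap 0 2 * Equiv.swap 1 3
def c0 : P := Equiv.swap 0 1 * Equiv.swap 1 2

def sg (x : P) : Bool × Bool := (decide (x * x = 1), decide (x * x * x = 1))

theorem sigD : ∀ x y : P, Perm.sign x = 1 → Perm.sign y = 1 →
    (∀ k ∈ List.range 5, sg (u0 ^ k * x) = sg (u0 ^ k * y) ∧ sg (i0 * u0 ^ k * x) = sg (i0 * u0 ^ k * y)) →
    x = y := by decide +kernel

def A4L : List P := [1, c0, c0 * c0, a0, c0 * a0, c0 * c0 * a0, b0, c0 * b0, c0 * c0 * b0, a0 * b0,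
  c0 * (a0 * b0), c0 * c0 * (a0 * b0)]

theorem sign_A4L : ∀ g ∈ A4L, Perm.sign g = 1 := by decide +kernel

def sA (x : P) : List (Bool × Bool) := A4L.map fun g => sg (g * x)

theorem sigA : ∀ x y : P, Perm.sign x = 1 → Perm.sign y = 1 → sA x = sA y → x = y := by
  decide +kernel

theorem norm5 : ∀ u : P, u ^ 5 = 1 → u ≠ 1 → ∃ s : P, s * u * s⁻¹ = u0 := by decide +kernel

theorem norm2 : ∀ i : P, i ≠ 1 → i * i = 1 → i * u0 * i = u0⁻¹ →
    ∃ m ∈ List.range 5, u0 ^ m * i * (u0 ^ m)⁻¹ = i0 := by decide +kernel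

theorem normV : ∀ a : P, Perm.sign a = 1 → a ≠ 1 → a * a = 1 → ∃ s : P, s * a * s⁻¹ = a0 := by
  decide +kernel

theorem normV2 : ∀ b : P, Perm.sign b = 1 → b ≠ 1 → b * b = 1 → b ≠ a0 → a0 * b = b * a0 →
    ∃ s : P, s * a0 * s⁻¹ = a0 ∧ s * b * s⁻¹ = b0 := by decide +kernel

theorem normC : ∀ y : P, y * a0 * y⁻¹ = c0 * a0 * c0⁻¹ → y * b0 * y⁻¹ = c0 * b0 * c0⁻¹ →
    Perm.sign y = 1 → ∃ v ∈ [1, a0, b0, a0 * b0], v * y * v⁻¹ = c0 := by decide +kernel

theorem cent5 : ∀ x : P, x * u0 = u0 * x → ∃ k ∈ List.range 5, x = u0 ^ k := by decide +kernel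

theorem conj5 : ∀ x : P, x ^ 5 = 1 → x ≠ 1 →
    ∃ k ∈ List.range 5, ∃ s : P, Perm.sign s = 1 ∧ s * x * s⁻¹ = u0 ^ k := by decide +kernel

theorem cent2 : ∀ x : P, Perm.sign x = 1 → x * a0 = a0 * x → x * x = 1 := by decide +kernel

theorem four_facts : a0 ≠ 1 ∧ a0 * a0 = 1 ∧ b0 ≠ 1 ∧ b0 * b0 = 1 ∧ a0 ≠ b0 ∧ a0 * b0 = b0 * a0 := by
  decide +kernel

theorem c0_conj : c0 * a0 * c0⁻¹ ∈ [a0, b0, a0 * b0] ∧ c0 * b0 * c0⁻¹ ∈ [a0, b0, a0 * b0] := by
  decide +kernel

theorem gcd_facts : u0 ≠ 1 ∧ u0 ^ 5 = 1 ∧ i0 ≠ 1 ∧ i0 * i0 = 1 ∧ i0 * u0 * i0 = u0⁻¹ ∧ Perm.sign i0 = 1 ∧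
    Perm.sign u0 = 1 ∧ Perm.sign c0 = 1 ∧ Perm.sign a0 = 1 ∧ Perm.sign b0 = 1 := by decide +kernel


/-! ### transport -/

section Transport

variable {A : Type*} [Group A] (e : A ≃* alternatingGroup (Fin 5))

/-- `A` in `S₅`, conjugated by `s` -/
def emb (s : P) : A →* P :=
  (MulAut.conj s).toMonoidHom.comp ((alternatingGroup (Fin 5)).subtype.comp e.toMonoidHom)

theorem emb_apply (s : P) (x : A) : emb e s x = s * (e x : P) * s⁻¹ := rfl

theorem emb_injective (s : P) : Function.Injective (emb e s) := by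
  intro x y h
  rw [emb_apply, emb_apply] at h
  have h1 : ((e x : alternatingGroup (Fin 5)) : P) = (e y : P) := by
    have := mul_right_cancel h
    exact mul_left_cancel this
  exact e.injective (Subtype.ext h1)

theorem sign_emb (s : P) (x : A) : Perm.sign (emb e s x) = 1 := by
  rw [emb_apply]
  have h : Perm.sign ((e x : alternatingGroup (Fin 5)) : P) = 1 :=
    Equiv.Perm.mem_alternatingGroup.1 (e x).2
  simp [h]

theorem exists_emb (s : P) (y : P) (hy : Perm.sign y = 1) : ∃ x, emb e s x = y := by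
  refine ⟨e.symm ⟨s⁻¹ * y * s, Equiv.Perm.mem_alternatingGroup.2 (by simp [hy])⟩, ?_⟩
  rw [emb_apply, MulEquiv.apply_symm_apply]
  show s * (s⁻¹ * y * s) * s⁻¹ = y
  group

theorem sg_emb (s : P) (α : MulAut A) (x : A) : sg (emb e s (α x)) = sg (emb e s x) := by
  have h : ∀ y : A, (emb e s (α y) = 1 ↔ emb e s y = 1) := by
    intro y
    rw [← map_one (emb e s), (emb_injective e s).eq_iff, (emb_injective e s).eq_iff]
    constructor
    · intro h1
      rw [← map_one α] at h1
      exact α.injective h1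
    · rintro rfl
      exact map_one α
  unfold sg
  rw [Prod.mk.injEq]
  constructor
  · rw [decide_eq_decide, ← map_mul, ← map_mul, ← map_mul]
    exact h _
  · rw [decide_eq_decide, ← map_mul, ← map_mul, ← map_mul, ← map_mul, ← map_mul, ← map_mul]
    exact h _

end Transport

section Main

variable {A : Type*} [Group A]

/-- An automorphism of `A₅` fixing an element `u` of order 5 and an involution inverting `u` is
trivial. -/
theorem eq_one_of_fix (e : A ≃* alternatingGroup (Fin 5)) (α : MulAut A) {u i : A} (hu : u ≠ 1)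
    (hu5 : u ^ 5 = 1) (hi : i ≠ 1) (hii : i * i = 1) (hui : i * u * i = u⁻¹) (h1 : α u = u)
    (h2 : α i = i) (x : A) : α x = x := by
  obtain ⟨s₁, hs₁⟩ := norm5 (emb e 1 u) (by rw [← map_pow, hu5, map_one])
    (fun h => hu (emb_injective e 1 (by rw [h, map_one])))
  have hE1 : ∀ y, emb e s₁ y = s₁ * emb e 1 y * s₁⁻¹ := by
    intro y; rw [emb_apply, emb_apply]; group
  have hu1 : emb e s₁ u = u0 := by rw [hE1, hs₁]
  obtain ⟨m, -, hm⟩ := norm2 (emb e s₁ i) (fun h => hi (emb_injective e s₁ (by rw [h, map_one])))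
    (by rw [← map_mul, hii, map_one]) (by rw [← hu1, ← map_mul, ← map_mul, hui, map_inv])
  set s := u0 ^ m * s₁ with hs
  have hE : ∀ y, emb e s y = u0 ^ m * emb e s₁ y * (u0 ^ m)⁻¹ := by
    intro y; rw [emb_apply, emb_apply, hs]; group
  have hu2 : emb e s u = u0 := by rw [hE, hu1]; group
  have hi2 : emb e s i = i0 := by rw [hE, hm]
  apply emb_injective e s
  apply sigD _ _ (sign_emb _ _ _) (sign_emb _ _ _)
  intro k _
  constructor
  · rw [← hu2, ← map_pow, ← map_mul, ← map_mul, ← sg_emb e s α (u ^ k * x), map_mul α, map_pow α, h1]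
  · rw [← hu2, ← hi2, ← map_pow, ← map_mul, ← map_mul, ← map_mul, ← sg_emb e s α (i * u ^ k * x),
      map_mul α, map_mul α, map_pow α, h1, h2]

/-- An automorphism of `A₅` fixing an element `u` of order 5 is conjugation by a power of `u`. -/
theorem conj_of_fix (e : A ≃* alternatingGroup (Fin 5)) (α : MulAut A) {u : A} (hu : u ≠ 1)
    (hu5 : u ^ 5 = 1) (h1 : α u = u) : ∃ k : ℕ, ∀ x, α x = u ^ k * x * (u ^ k)⁻¹ := by
  obtain ⟨s, hs⟩ := norm5 (emb e 1 u) (by rw [← map_pow, hu5, map_one])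
    (fun h => hu (emb_injective e 1 (by rw [h, map_one])))
  have hE1 : ∀ y, emb e s y = s * emb e 1 y * s⁻¹ := by
    intro y; rw [emb_apply, emb_apply]; group
  have hu1 : emb e s u = u0 := by rw [hE1, hs]
  obtain ⟨-, -, hi1, hi2, hi3, hi4, -⟩ := gcd_facts
  obtain ⟨i, hi⟩ := exists_emb e s i0 hi4
  have hinj := emb_injective e s
  have ei1 : i ≠ 1 := fun h => hi1 (by rw [← hi, h, map_one])
  have ei2 : i * i = 1 := hinj (by rw [map_mul, hi, hi2, map_one])
  have ei3 : i * u * i = u⁻¹ := hinj (by rw [map_mul, map_mul, hi, hu1, hi3, map_inv, hu1])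
  have f1 : α i ≠ 1 := fun h => ei1 (α.injective (by rw [h, map_one]))
  have f2 : α i * α i = 1 := by rw [← map_mul, ei2, map_one]
  have f3 : α i * u * α i = u⁻¹ := by
    have := congrArg α ei3
    rwa [map_mul, map_mul, map_inv, h1] at this
  obtain ⟨m, -, hm⟩ := norm2 (emb e s (α i)) (fun h => f1 (hinj (by rw [h, map_one])))
    (by rw [← map_mul, f2, map_one]) (by rw [← hu1, ← map_mul, ← map_mul, f3, map_inv])
  have h2 : u ^ m * α i * (u ^ m)⁻¹ = i := hinj (by
    rw [map_mul, map_mul, map_inv, map_pow, hu1, hm, hi])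
  have key := eq_one_of_fix e (MulAut.conj (u ^ m) * α) hu hu5 ei1 ei2 ei3
    (by show u ^ m * α u * (u ^ m)⁻¹ = u
        rw [h1, ← pow_succ, pow_succ', mul_inv_cancel_right]) h2
  refine ⟨4 * m, fun x => ?_⟩
  have hx : u ^ m * α x * (u ^ m)⁻¹ = x := key x
  have hinv : (u ^ m)⁻¹ = u ^ (4 * m) := by
    rw [inv_eq_iff_mul_eq_one, ← pow_add, show m + 4 * m = 5 * m by ring, pow_mul, hu5, one_pow]
  rw [← hinv, inv_inv]
  calc α x = (u ^ m)⁻¹ * (u ^ m * α x * (u ^ m)⁻¹) * u ^ m := by group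
    _ = (u ^ m)⁻¹ * x * u ^ m := by rw [hx]

/-- the centralizer of an element of order 5 in `A₅` -/
theorem cent_five (e : A ≃* alternatingGroup (Fin 5)) {u : A} (hu : u ≠ 1) (hu5 : u ^ 5 = 1)
    {x : A} (hx : x * u = u * x) : ∃ k : ℕ, x = u ^ k := by
  obtain ⟨s, hs⟩ := norm5 (emb e 1 u) (by rw [← map_pow, hu5, map_one])
    (fun h => hu (emb_injective e 1 (by rw [h, map_one])))
  have hE1 : ∀ y, emb e s y = s * emb e 1 y * s⁻¹ := by
    intro y; rw [emb_apply, emb_apply]; group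
  have hu1 : emb e s u = u0 := by rw [hE1, hs]
  obtain ⟨k, -, hk⟩ := cent5 (emb e s x) (by rw [← hu1, ← map_mul, hx, map_mul])
  exact ⟨k, emb_injective e s (by rw [hk, map_pow, hu1])⟩

/-- all elements of order 5 are conjugate to powers of a given one -/
theorem conj_five (e : A ≃* alternatingGroup (Fin 5)) {u : A} (hu : u ≠ 1) (hu5 : u ^ 5 = 1)
    {x : A} (hx : x ≠ 1) (hx5 : x ^ 5 = 1) : ∃ (k : ℕ) (c : A), c * x * c⁻¹ = u ^ k := by
  obtain ⟨s, hs⟩ := norm5 (emb e 1 u) (by rw [← map_pow, hu5, map_one])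
    (fun h => hu (emb_injective e 1 (by rw [h, map_one])))
  have hE1 : ∀ y, emb e s y = s * emb e 1 y * s⁻¹ := by
    intro y; rw [emb_apply, emb_apply]; group
  have hu1 : emb e s u = u0 := by rw [hE1, hs]
  have hinj := emb_injective e s
  obtain ⟨k, -, r, hr, hk⟩ := conj5 (emb e s x) (by rw [← map_pow, hx5, map_one])
    (fun h => hx (hinj (by rw [h, map_one])))
  obtain ⟨c, hc⟩ := exists_emb e s r hr
  exact ⟨k, c, hinj (by rw [map_mul, map_mul, map_inv, hc, hk, map_pow, hu1])⟩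

/-- elements commuting with an involution of `A₅` have order at most 2 -/
theorem cent_two (e : A ≃* alternatingGroup (Fin 5)) {z : A} (hz : z ≠ 1) (hzz : z * z = 1)
    {x : A} (hx : x * z = z * x) : x * x = 1 := by
  obtain ⟨s, hs⟩ := normV (emb e 1 z) (sign_emb _ _ _)
    (fun h => hz (emb_injective e 1 (by rw [h, map_one]))) (by rw [← map_mul, hzz, map_one])
  have hE1 : ∀ y, emb e s y = s * emb e 1 y * s⁻¹ := by
    intro y; rw [emb_apply, emb_apply]; group
  have ha1 : emb e s z = a0 := by rw [hE1, hs]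
  apply emb_injective e s
  rw [map_mul, map_one]
  exact cent2 _ (sign_emb _ _ _) (by rw [← ha1, ← map_mul, hx, map_mul])

/-- existence of a four-group -/
theorem exists_four (e : A ≃* alternatingGroup (Fin 5)) :
    ∃ a b : A, a ≠ 1 ∧ a * a = 1 ∧ b ≠ 1 ∧ b * b = 1 ∧ a ≠ b ∧ a * b = b * a := by
  obtain ⟨h1, h2, h3, h4, h5, h6⟩ := four_facts
  obtain ⟨-, -, -, -, -, -, -, -, ha, hb⟩ := gcd_facts
  obtain ⟨a, ha⟩ := exists_emb e 1 a0 ha
  obtain ⟨b, hb⟩ := exists_emb e 1 b0 hb
  have hinj := emb_injective e 1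
  refine ⟨a, b, fun h => h1 (by rw [← ha, h, map_one]), hinj (by rw [map_mul, ha, h2, map_one]),
    fun h => h3 (by rw [← hb, h, map_one]), hinj (by rw [map_mul, hb, h4, map_one]),
    fun h => h5 (by rw [← ha, ← hb, h]), hinj (by rw [map_mul, map_mul, ha, hb, h6])⟩

/-- existence of an involution inverting an element of order 5 -/
theorem exists_inverting (e : A ≃* alternatingGroup (Fin 5)) {u : A} (hu : u ≠ 1) (hu5 : u ^ 5 = 1) :
    ∃ i : A, i ≠ 1 ∧ i * i = 1 ∧ i * u * i = u⁻¹ := by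
  obtain ⟨s, hs⟩ := norm5 (emb e 1 u) (by rw [← map_pow, hu5, map_one])
    (fun h => hu (emb_injective e 1 (by rw [h, map_one])))
  have hE1 : ∀ y, emb e s y = s * emb e 1 y * s⁻¹ := by
    intro y; rw [emb_apply, emb_apply]; group
  have hu1 : emb e s u = u0 := by rw [hE1, hs]
  obtain ⟨-, -, hi1, hi2, hi3, hi4, -⟩ := gcd_facts
  obtain ⟨i, hi⟩ := exists_emb e s i0 hi4
  have hinj := emb_injective e s
  exact ⟨i, fun h => hi1 (by rw [← hi, h, map_one]), hinj (by rw [map_mul, hi, hi2, map_one]),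
    hinj (by rw [map_mul, map_mul, hi, hu1, hi3, map_inv, hu1])⟩

/-- An automorphism of `A₅` fixing two commuting involutions is conjugation by an element of the
four-group they generate. -/
theorem conj_of_fix_four (e : A ≃* alternatingGroup (Fin 5)) (α : MulAut A) {a b : A} (ha : a ≠ 1)
    (hb : b ≠ 1) (haa : a * a = 1) (hbb : b * b = 1) (hab : a ≠ b) (hc : a * b = b * a)
    (h1 : α a = a) (h2 : α b = b) :
    ∃ v : A, (v = 1 ∨ v = a ∨ v = b ∨ v = a * b) ∧ ∀ x, α x = v * x * v⁻¹ := by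
  obtain ⟨s₁, hs₁⟩ := normV (emb e 1 a) (sign_emb _ _ _)
    (fun h => ha (emb_injective e 1 (by rw [h, map_one]))) (by rw [← map_mul, haa, map_one])
  have hE1 : ∀ y, emb e s₁ y = s₁ * emb e 1 y * s₁⁻¹ := by
    intro y; rw [emb_apply, emb_apply]; group
  have ha1 : emb e s₁ a = a0 := by rw [hE1, hs₁]
  obtain ⟨s₂, hs₂, hs₃⟩ := normV2 (emb e s₁ b) (sign_emb _ _ _)
    (fun h => hb (emb_injective e s₁ (by rw [h, map_one]))) (by rw [← map_mul, hbb, map_one])
    (fun h => hab (emb_injective e s₁ (by rw [h, ha1]))) (by rw [← ha1, ← map_mul, ← map_mul, hc])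
  set s := s₂ * s₁ with hs
  have hE : ∀ y, emb e s y = s₂ * emb e s₁ y * s₂⁻¹ := by
    intro y; rw [emb_apply, emb_apply, hs]; group
  have ha2 : emb e s a = a0 := by rw [hE, ha1, hs₂]
  have hb2 : emb e s b = b0 := by rw [hE, hs₃]
  have hinj := emb_injective e s
  obtain ⟨-, -, -, -, -, -, -, hc1, -, -⟩ := gcd_facts
  obtain ⟨c, hcc⟩ := exists_emb e s c0 hc1
  -- `α` fixes the four-group
  have hfixV : ∀ y : A, emb e s y ∈ [a0, b0, a0 * b0] → α y = y := by
    intro y hy
    rw [List.mem_cons, List.mem_cons, List.mem_singleton] at hy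
    rcases hy with hy | hy | hy
    · have : y = a := hinj (by rw [hy, ha2])
      rw [this, h1]
    · have : y = b := hinj (by rw [hy, hb2])
      rw [this, h2]
    · have : y = a * b := hinj (by rw [hy, map_mul, ha2, hb2])
      rw [this, map_mul, h1, h2]
  have hca : α (c * a * c⁻¹) = c * a * c⁻¹ := hfixV _ (by
    rw [map_mul, map_mul, map_inv, hcc, ha2]; exact c0_conj.1)
  have hcb : α (c * b * c⁻¹) = c * b * c⁻¹ := hfixV _ (by
    rw [map_mul, map_mul, map_inv, hcc, hb2]; exact c0_conj.2)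
  obtain ⟨v₀, hv₀, hv⟩ := normC (emb e s (α c))
    (by
      have h3 : α c * a * (α c)⁻¹ = c * a * c⁻¹ := by
        rw [map_mul, map_mul, map_inv, h1] at hca; exact hca
      rw [← ha2, ← hcc, ← map_inv, ← map_mul, ← map_mul, h3, map_mul, map_mul, map_inv])
    (by
      have h3 : α c * b * (α c)⁻¹ = c * b * c⁻¹ := by
        rw [map_mul, map_mul, map_inv, h2] at hcb; exact hcb
      rw [← hb2, ← hcc, ← map_inv, ← map_mul, ← map_mul, h3, map_mul, map_mul, map_inv])
    (sign_emb _ _ _)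
  have hv' : ∃ v : A, (v = 1 ∨ v = a ∨ v = b ∨ v = a * b) ∧ emb e s v = v₀ := by
    rw [List.mem_cons, List.mem_cons, List.mem_cons, List.mem_singleton] at hv₀
    rcases hv₀ with h | h | h | h
    · exact ⟨1, Or.inl rfl, by rw [map_one, h]⟩
    · exact ⟨a, Or.inr (Or.inl rfl), by rw [ha2, h]⟩
    · exact ⟨b, Or.inr (Or.inr (Or.inl rfl)), by rw [hb2, h]⟩
    · exact ⟨a * b, Or.inr (Or.inr (Or.inr rfl)), by rw [map_mul, ha2, hb2, h]⟩
  obtain ⟨v, hvm, hvv⟩ := hv'
  have hva : v * a * v⁻¹ = a := by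
    rw [mul_inv_eq_iff_eq_mul]
    rcases hvm with h | h | h | h <;> rw [h]
    · simp
    · exact hc.symm
    · calc a * b * a = a * (b * a) := mul_assoc _ _ _
        _ = a * (a * b) := by rw [hc]
  have hvb : v * b * v⁻¹ = b := by
    rw [mul_inv_eq_iff_eq_mul]
    rcases hvm with h | h | h | h <;> rw [h]
    · simp
    · exact hc
    · calc a * b * b = b * a * b := by rw [hc]
        _ = b * (a * b) := mul_assoc _ _ _
  have hvc : v * α c * v⁻¹ = c := hinj (by rw [map_mul, map_mul, map_inv, hvv, hv, hcc])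
  set β : MulAut A := MulAut.conj v * α with hβ
  have hβx : ∀ x, β x = v * α x * v⁻¹ := fun x => rfl
  have b1 : β a = a := by rw [hβx, h1, hva]
  have b2 : β b = b := by rw [hβx, h2, hvb]
  have b3 : β c = c := by rw [hβx, hvc]
  have hfix : ∀ g : A, emb e s g ∈ A4L → β g = g := by
    intro g hg
    have key : ∀ w : A, emb e s w = emb e s g → β w = w → β g = g := by
      intro w hw hw'
      rw [← hinj hw, hw']
    unfold A4L at hg
    simp only [List.mem_cons, List.not_mem_nil, or_false] at hg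
    rcases hg with h | h | h | h | h | h | h | h | h | h | h | h
    · exact key 1 (by rw [h, map_one]) (map_one β)
    · exact key c (by rw [h, hcc]) b3
    · exact key (c * c) (by rw [h, map_mul, hcc]) (by rw [map_mul, b3])
    · exact key a (by rw [h, ha2]) b1
    · exact key (c * a) (by rw [h, map_mul, hcc, ha2]) (by rw [map_mul, b3, b1])
    · exact key (c * c * a) (by rw [h, map_mul, map_mul, hcc, ha2]) (by rw [map_mul, map_mul, b3, b1])
    · exact key b (by rw [h, hb2]) b2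
    · exact key (c * b) (by rw [h, map_mul, hcc, hb2]) (by rw [map_mul, b3, b2])
    · exact key (c * c * b) (by rw [h, map_mul, map_mul, hcc, hb2]) (by rw [map_mul, map_mul, b3, b2])
    · exact key (a * b) (by rw [h, map_mul, ha2, hb2]) (by rw [map_mul, b1, b2])
    · exact key (c * (a * b)) (by rw [h, map_mul, map_mul, hcc, ha2, hb2])
        (by rw [map_mul, map_mul, b3, b1, b2])
    · exact key (c * c * (a * b)) (by rw [h, map_mul, map_mul, map_mul, hcc, ha2, hb2])
        (by rw [map_mul, map_mul, map_mul, b3, b1, b2])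
  have hall : ∀ x, β x = x := by
    intro x
    apply hinj
    apply sigA _ _ (sign_emb _ _ _) (sign_emb _ _ _)
    unfold sA
    rw [List.map_inj_left]
    intro g hg
    obtain ⟨g', hg'⟩ := exists_emb e s g (sign_A4L g hg)
    rw [← hg', ← map_mul, ← map_mul, ← sg_emb e s β (g' * x), map_mul β, hfix g' (by rw [hg']; exact hg)]
  refine ⟨v⁻¹, ?_, fun x => ?_⟩
  · rcases hvm with h | h | h | h
    · left; rw [h, inv_one]
    · right; left; rw [h]; exact inv_eq_of_mul_eq_one_left haa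
    · right; right; left; rw [h]; exact inv_eq_of_mul_eq_one_left hbb
    · right; right; right
      rw [h, mul_inv_rev, inv_eq_of_mul_eq_one_left haa, inv_eq_of_mul_eq_one_left hbb, hc]
  · have := hall x
    rw [hβx] at this
    rw [inv_inv]
    calc α x = v⁻¹ * (v * α x * v⁻¹) * v := by group
      _ = v⁻¹ * x * v := by rw [this]

end Main

end Cfsg.Agent.StdG24.AutA5
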