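import Mathlib
import Cfsg.Agent.StdG24.AutL

/-!
# Elements of order 5 in `L = G₂(4)`

`FC d D`: `C(d) = ⟨d⟩ × D` with `D ≅ A₅`, automorphisms fixing `d` are inner. `Ax.exists_FC`: every element of
order 5 has such a `D`. `Ax.top_of_five`: `L` is generated by the centralizers of the nontrivial elements of a Sylow
5-subgroup.
-/

set_option autoImplicit false

namespace Cfsg.Agent.StdG24.FiveL

open Subgroup Cfsg.Agent.StdG24.AutA5 Cfsg.Agent.StdG24.AutL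
open scoped commutatorElement

/-! ### `A₅` -/

theorem cent_ui : ∀ x : P, x * u0 = u0 * x → x * i0 = i0 * x → x = 1 := by decide +kernel

/-- the centre of `A₅` is trivial -/
theorem eq_one_of_comm {A : Type*} [Group A] (e : A ≃* alternatingGroup (Fin 5)) {c : A}
    (h : ∀ x, c * x = x * c) : c = 1 := by
  obtain ⟨-, -, -, -, -, hi, hu, -⟩ := gcd_facts
  obtain ⟨x, hx⟩ := exists_emb e 1 i0 hi
  obtain ⟨y, hy⟩ := exists_emb e 1 u0 hu
  apply emb_injective e 1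
  rw [map_one]
  apply cent_ui
  · rw [← hy, ← map_mul, h, map_mul]
  · rw [← hx, ← map_mul, h, map_mul]

/-- existence of an element of order 5 inverted by an involution -/
theorem exists_five {A : Type*} [Group A] (e : A ≃* alternatingGroup (Fin 5)) :
    ∃ v i : A, v ≠ 1 ∧ v ^ 5 = 1 ∧ i ≠ 1 ∧ i * i = 1 ∧ i * v * i = v⁻¹ := by
  obtain ⟨h1, h2, -, -, -, -, hu, -⟩ := gcd_facts
  obtain ⟨v, hv⟩ := exists_emb e 1 u0 hu
  have hinj := emb_injective e 1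
  have v1 : v ≠ 1 := fun h => h1 (by rw [← hv, h, map_one])
  have v5 : v ^ 5 = 1 := hinj (by rw [map_pow, hv, h2, map_one])
  obtain ⟨i, hi1, hi2, hi3⟩ := exists_inverting e v1 v5
  exact ⟨v, i, v1, v5, hi1, hi2, hi3⟩

/-! ### exponents -/

theorem pow_inv {G : Type*} [Group G] {v : G} (hv5 : v ^ 5 = 1) {k : ℕ} (hk : v ^ k ≠ 1) :
    ∃ m : ℕ, (v ^ k) ^ m = v := by
  have hk0 : k % 5 ≠ 0 := by
    intro h0
    rw [pow_eq_pow_mod k hv5, h0, pow_zero] at hk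
    exact hk rfl
  obtain ⟨m, hm⟩ := Ax.inv5 hk0
  exact ⟨m, by rw [← pow_mul, pow_eq_pow_mod (k * m) hv5, hm, pow_one]⟩

theorem eq_one_of_sq {G : Type*} [Group G] {v : G} (hv5 : v ^ 5 = 1) (h : v * v = 1) : v = 1 := by
  calc v = v ^ 5 * ((v * v)⁻¹) ^ 2 := by group
    _ = 1 := by rw [hv5, h]; simp

/-! ### centralizers of elements of order 5 -/

/-- `C(d) = ⟨d⟩ × D` and automorphisms fixing `d` are inner -/
structure FC {L : Type*} [Group L] (d : L) (D : Subgroup L) : Prop where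
  iso : Nonempty (D ≃* alternatingGroup (Fin 5))
  comm : ∀ c ∈ D, c * d = d * c
  cent : ∀ x, x * d = d * x → ∃ i : ℕ, ∃ c ∈ D, x = d ^ i * c
  aut : ∀ α : MulAut L, α d = d → ∃ i : ℕ, ∃ c ∈ D, ∀ x, α x = (d ^ i * c) * x * (d ^ i * c)⁻¹

variable {L : Type*} [Group L] {E : El L}

theorem FC.w (A : Ax E) : FC E.w E.As := ⟨A.eAs, fun c hc => A.comm c hc _ A.wAl, A.cw, A.aut_w⟩

theorem FC.u (A : Ax E) : FC E.u E.Al :=
  ⟨A.eAl, fun c hc => (A.comm _ A.uAs c hc).symm, A.cu, A.aut_u⟩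

theorem FC.conj {v d g : L} {B : Subgroup L} (h : FC v B) (hv5 : v ^ 5 = 1) {k : ℕ} (hd : d ≠ 1)
    (hg : g * d * g⁻¹ = v ^ k) : FC d (B.map (MulAut.conj g⁻¹).toMonoidHom) := by
  have hk : v ^ k ≠ 1 := by
    rw [← hg]
    intro h1
    apply hd
    rw [show d = g⁻¹ * (g * d * g⁻¹) * g by group, h1]; group
  obtain ⟨m, hm⟩ := pow_inv hv5 hk
  have hdv : g⁻¹ * v * g = d ^ m := by
    rw [← hm, ← hg, conj_pow]; group
  have memD : ∀ c ∈ B, g⁻¹ * c * g ∈ B.map (MulAut.conj g⁻¹).toMonoidHom := by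
    intro c hc
    exact ⟨c, hc, by simp⟩
  refine ⟨?_, ?_, ?_, ?_⟩
  · obtain ⟨e⟩ := h.iso
    exact ⟨(B.equivMapOfInjective _ (MulAut.conj g⁻¹).injective).symm.trans e⟩
  · rintro _ ⟨c, hc, rfl⟩
    show g⁻¹ * c * g⁻¹⁻¹ * d = d * (g⁻¹ * c * g⁻¹⁻¹)
    have h1 : Commute c (v ^ k) := (show Commute c v from h.comm c hc).pow_right k
    rw [← hg] at h1
    calc g⁻¹ * c * g⁻¹⁻¹ * d = g⁻¹ * (c * (g * d * g⁻¹)) * g := by group
      _ = g⁻¹ * ((g * d * g⁻¹) * c) * g := by rw [h1.eq]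
      _ = _ := by group
  · intro x hx
    have h1 : Commute (g * x * g⁻¹) (v ^ k) := by
      rw [← hg]
      show g * x * g⁻¹ * (g * d * g⁻¹) = g * d * g⁻¹ * (g * x * g⁻¹)
      calc g * x * g⁻¹ * (g * d * g⁻¹) = g * (x * d) * g⁻¹ := by group
        _ = _ := by rw [hx]; group
    have h2 := h1.pow_right m
    rw [hm] at h2
    obtain ⟨i, c, hc, h3⟩ := h.cent _ h2
    refine ⟨m * i, g⁻¹ * c * g, memD c hc, ?_⟩
    calc x = g⁻¹ * (g * x * g⁻¹) * g := by group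
      _ = (g⁻¹ * v ^ i * g) * (g⁻¹ * c * g) := by rw [h3]; group
      _ = _ := by
        rw [pow_mul, ← hdv]
        congr 1
        have := conj_pow (i := i) (a := g⁻¹) (b := v)
        rw [inv_inv] at this
        exact this.symm
  · intro α hα
    have hx : ∀ x, (MulAut.conj g * α * MulAut.conj g⁻¹) x = g * α (g⁻¹ * x * g) * g⁻¹ := by
      intro x
      show g * α (g⁻¹ * x * g⁻¹⁻¹) * g⁻¹ = _
      rw [inv_inv]
    have h1 : (MulAut.conj g * α * MulAut.conj g⁻¹) v = v := by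
      rw [hx, hdv, map_pow, hα, ← conj_pow, hg, hm]
    obtain ⟨i, c, hc, h3⟩ := h.aut _ h1
    refine ⟨m * i, g⁻¹ * c * g, memD c hc, fun x => ?_⟩
    have h4 := h3 (g * x * g⁻¹)
    rw [hx, show g⁻¹ * (g * x * g⁻¹) * g = x by group] at h4
    have h5 : d ^ (m * i) * (g⁻¹ * c * g) = g⁻¹ * (v ^ i * c) * g := by
      rw [pow_mul, ← hdv]
      have := conj_pow (i := i) (a := g⁻¹) (b := v)
      rw [inv_inv] at this
      rw [this]; group
    rw [h5]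
    calc α x = g⁻¹ * (g * α x * g⁻¹) * g := by group
      _ = _ := by rw [h4]; group

theorem exists_FC (A : Ax E) {d : L} (hd : d ≠ 1) (hd5 : d ^ 5 = 1) : ∃ D, FC d D := by
  obtain ⟨g, k, h | h⟩ := A.five d hd5
  · exact ⟨_, (FC.u A).conj A.u5 hd h⟩
  · exact ⟨_, (FC.w A).conj A.w5 hd h⟩

theorem FC.inter {d : L} {D : Subgroup L} (h : FC d D) {c : L} (hc : c ∈ D) {i : ℕ} (hi : c = d ^ i) :
    c = 1 := by
  obtain ⟨e⟩ := h.iso
  have := eq_one_of_comm e (c := ⟨c, hc⟩) (fun x => Subtype.ext (by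
    show c * x = x * c
    rw [hi]
    exact ((show Commute (x : L) d from h.comm x x.2).pow_right i).symm.eq))
  exact congrArg Subtype.val this

/-- commutators of elements of `⟨d⟩ × D` lie in `D` -/
theorem FC.comm_mem {d : L} {D : Subgroup L} (h : FC d D) {x y : L} (hx : x * d = d * x)
    (hy : y * d = d * y) : x * y * x⁻¹ * y⁻¹ ∈ D := by
  obtain ⟨i, a, ha, rfl⟩ := h.cent x hx
  obtain ⟨j, b, hb, rfl⟩ := h.cent y hy
  have c1 : Commute (d ^ i) a := (show Commute d a from (h.comm a ha).symm).pow_left i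
  have c2 : Commute (d ^ i) b := (show Commute d b from (h.comm b hb).symm).pow_left i
  have c3 : Commute (d ^ j) a := (show Commute d a from (h.comm a ha).symm).pow_left j
  have c4 : Commute (d ^ j) b := (show Commute d b from (h.comm b hb).symm).pow_left j
  have c5 : Commute (d ^ i) (d ^ j) := (Commute.refl d).pow_pow i j
  have : d ^ i * a * (d ^ j * b) * (d ^ i * a)⁻¹ * (d ^ j * b)⁻¹ = a * b * a⁻¹ * b⁻¹ := by
    rw [mul_inv_rev, mul_inv_rev]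
    calc d ^ i * a * (d ^ j * b) * (a⁻¹ * (d ^ i)⁻¹) * (b⁻¹ * (d ^ j)⁻¹)
        = d ^ i * (a * d ^ j) * b * a⁻¹ * ((d ^ i)⁻¹ * b⁻¹) * (d ^ j)⁻¹ := by group
      _ = d ^ i * (d ^ j * a) * b * a⁻¹ * (b⁻¹ * (d ^ i)⁻¹) * (d ^ j)⁻¹ := by
          rw [c3.eq, (c2.inv_inv).eq]
      _ = (d ^ i * d ^ j) * (a * b * a⁻¹ * b⁻¹) * ((d ^ i)⁻¹ * (d ^ j)⁻¹) := by group
      _ = (a * b * a⁻¹ * b⁻¹) * (d ^ i * d ^ j) * ((d ^ i)⁻¹ * (d ^ j)⁻¹) := by
          have hc' : Commute (d ^ i * d ^ j) (a * b * a⁻¹ * b⁻¹) :=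
            Commute.mul_left (((c1.mul_right c2).mul_right c1.inv_right).mul_right c2.inv_right)
              (((c3.mul_right c4).mul_right c3.inv_right).mul_right c4.inv_right)
          rw [hc'.eq]
      _ = (a * b * a⁻¹ * b⁻¹) * (d ^ j * d ^ i) * ((d ^ i)⁻¹ * (d ^ j)⁻¹) := by rw [c5.eq]
      _ = a * b * a⁻¹ * b⁻¹ := by group
  rw [this]
  exact mul_mem (mul_mem (mul_mem ha hb) (inv_mem ha)) (inv_mem hb)

/-! ### generation -/

theorem inverts (A : Ax E) (a b : ℕ) :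
    (E.i₁ * E.i₂) * (E.w ^ a * E.u ^ b) * (E.i₁ * E.i₂)⁻¹ = (E.w ^ a * E.u ^ b)⁻¹ := by
  set I := E.i₁ * E.i₂ with hI
  have hII : I * I = 1 := by
    rw [hI]
    calc E.i₁ * E.i₂ * (E.i₁ * E.i₂) = E.i₁ * E.i₂ * (E.i₂ * E.i₁) := by rw [A.i₁i₂]
      _ = E.i₁ * (E.i₂ * E.i₂) * E.i₁ := by group
      _ = 1 := by rw [A.i₂i₂, mul_one, A.i₁i₁]
  have hIw : I * E.w * I⁻¹ = E.w⁻¹ := by
    have h1 : I⁻¹ = I := inv_eq_of_mul_eq_one_left hII
    rw [h1, hI]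
    calc E.i₁ * E.i₂ * E.w * (E.i₁ * E.i₂) = E.i₁ * E.i₂ * E.w * (E.i₂ * E.i₁) := by
          rw [← A.i₁i₂]
      _ = E.i₁ * (E.i₂ * E.w * E.i₂) * E.i₁ := by group
      _ = E.i₁ * E.w⁻¹ * E.i₁ := by rw [A.i₂w]
      _ = E.w⁻¹ * (E.i₁ * E.i₁) := by
          rw [(show Commute E.i₁ E.w from A.i₁w).inv_right.eq, mul_assoc]
      _ = E.w⁻¹ := by rw [A.i₁i₁, mul_one]
  have hIu : I * E.u * I⁻¹ = E.u⁻¹ := by
    have h1 : I⁻¹ = I := inv_eq_of_mul_eq_one_left hII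
    rw [h1, hI]
    calc E.i₁ * E.i₂ * E.u * (E.i₁ * E.i₂) = E.i₁ * E.i₂ * E.u * (E.i₂ * E.i₁) := by
          rw [← A.i₁i₂]
      _ = E.i₁ * (E.i₂ * E.u) * (E.i₂ * E.i₁) := by group
      _ = E.i₁ * E.u * (E.i₂ * E.i₂) * E.i₁ := by rw [A.i₂u]; group
      _ = E.u⁻¹ := by rw [A.i₂i₂, mul_one, A.i₁u]
  calc I * (E.w ^ a * E.u ^ b) * I⁻¹ = (I * E.w ^ a * I⁻¹) * (I * E.u ^ b * I⁻¹) := by group
    _ = (E.w⁻¹) ^ a * (E.u⁻¹) ^ b := by rw [← conj_pow, ← conj_pow, hIw, hIu]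
    _ = (E.w ^ a * E.u ^ b)⁻¹ := by
        rw [mul_inv_rev, ← inv_pow, ← inv_pow]
        exact ((A.commuw.inv_inv).pow_pow b a).symm.eq

theorem q5 (A : Ax E) (a b : ℕ) : (E.w ^ a * E.u ^ b) ^ 5 = 1 := by
  rw [A.qpow, mul_comm a, mul_comm b, pow_mul, pow_mul, A.w5, A.u5, one_pow, one_pow, one_mul]

theorem q_eq_one (A : Ax E) {a b : ℕ} (h : (E.w ^ a * E.u ^ b) * (E.i₁ * E.i₂)
    = (E.i₁ * E.i₂) * (E.w ^ a * E.u ^ b)) : E.w ^ a * E.u ^ b = 1 := by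
  have h1 := inverts A a b
  rw [← h, mul_inv_cancel_right] at h1
  apply eq_one_of_sq (q5 A a b)
  nth_rewrite 2 [h1]
  exact mul_inv_cancel _

theorem top_of [IsSimpleGroup L] (A : Ax E) (X : Subgroup L) (hs : E.As ≤ X) (hl : E.Al ≤ X)
    (hn : ∀ x ∈ X, E.n * x * E.n⁻¹ ∈ X) : X = ⊤ := by
  have := A.finite
  have h1 : (⊤ : Subgroup L) ≤ normalizer (X : Set L) := by
    rw [← A.gen, closure_le]
    rintro x ((hx | hx) | hx)
    · exact le_normalizer (hs hx)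
    · exact le_normalizer (hl hx)
    · rw [Set.mem_singleton_iff] at hx
      rw [hx]
      exact mem_normalizer_fintype hn
  have hX : X.Normal := normalizer_eq_top_iff.1 (top_le_iff.1 h1)
  rcases hX.eq_bot_or_eq_top with h | h
  · exfalso
    have := hs A.uAs
    rw [h, mem_bot] at this
    exact A.u1 this
  · exact h

/-- a Sylow 5-subgroup from two commuting elements of order 5 -/
theorem exists_syl (A : Ax E) {d₁ d₂ : L} (h₁ : d₁ ^ 5 = 1) (h₂ : d₂ ^ 5 = 1) (hc : d₁ * d₂ = d₂ * d₁)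
    (hi : ∀ i j : ℕ, d₁ ^ i * d₂ ^ j = 1 → i % 5 = 0 ∧ j % 5 = 0) :
    ∃ Q : Sylow 5 L, ∀ x, x ∈ Q ↔ ∃ i j : ℕ, x = d₁ ^ i * d₂ ^ j := by
  have := A.finite
  have : Fact (Nat.Prime 5) := ⟨by norm_num⟩
  have hmul : ∀ i j i' j' : ℕ, d₁ ^ i * d₂ ^ j * (d₁ ^ i' * d₂ ^ j') = d₁ ^ (i + i') * d₂ ^ (j + j') := by
    intro i j i' j'
    have h : Commute (d₂ ^ j) (d₁ ^ i') := ((show Commute d₁ d₂ from hc).pow_pow i' j).symm
    rw [pow_add, pow_add]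
    calc d₁ ^ i * d₂ ^ j * (d₁ ^ i' * d₂ ^ j') = d₁ ^ i * (d₂ ^ j * d₁ ^ i') * d₂ ^ j' := by group
      _ = _ := by rw [h.eq]; group
  have hpow5 : ∀ i j : ℕ, (d₁ ^ i * d₂ ^ j) ^ 5 = 1 := by
    intro i j
    have h : Commute (d₁ ^ i) (d₂ ^ j) := (show Commute d₁ d₂ from hc).pow_pow i j
    rw [h.mul_pow, ← pow_mul, ← pow_mul, mul_comm i, mul_comm j, pow_mul, pow_mul, h₁, h₂, one_pow,
      one_pow, one_mul]
  let S : Subgroup L :=
    { carrier := {x | ∃ i j : ℕ, x = d₁ ^ i * d₂ ^ j}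
      one_mem' := ⟨0, 0, by simp⟩
      mul_mem' := by
        rintro _ _ ⟨i, j, rfl⟩ ⟨i', j', rfl⟩
        exact ⟨_, _, hmul _ _ _ _⟩
      inv_mem' := by
        rintro _ ⟨i, j, rfl⟩
        refine ⟨4 * i, 4 * j, ?_⟩
        rw [inv_eq_iff_mul_eq_one, hmul, show i + 4 * i = 5 * i by ring, show j + 4 * j = 5 * j by ring,
          pow_mul, pow_mul, h₁, h₂, one_pow, one_pow, one_mul] }
  have hS : IsPGroup 5 S := by
    rintro ⟨x, i, j, rfl⟩
    exact ⟨1, Subtype.ext (by rw [pow_one]; exact hpow5 i j)⟩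
  obtain ⟨Q, hQ⟩ := hS.exists_le_sylow
  have hcQ : Nat.card Q = 25 := by
    rw [Sylow.card_eq_multiplicity, A.card,
      show (251596800 : ℕ) = 5 ^ 2 * 10063872 by norm_num,
      Nat.factorization_mul (by norm_num) (by norm_num), Finsupp.add_apply,
      Nat.Prime.factorization_pow (by norm_num), Finsupp.single_eq_same,
      Nat.factorization_eq_zero_of_not_dvd (by norm_num)]
    norm_num
  have hcS : 25 ≤ Nat.card S := by
    have hinj : Function.Injective (fun p : Fin 5 × Fin 5 =>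
        (⟨d₁ ^ (p.1 : ℕ) * d₂ ^ (p.2 : ℕ), p.1, p.2, rfl⟩ : S)) := by
      rintro ⟨i, j⟩ ⟨i', j'⟩ h
      have h1 : d₁ ^ (i : ℕ) * d₂ ^ (j : ℕ) = d₁ ^ (i' : ℕ) * d₂ ^ (j' : ℕ) := congrArg Subtype.val h
      have h2 : d₁ ^ ((i : ℕ) + 4 * i') * d₂ ^ ((j : ℕ) + 4 * j') = 1 := by
        rw [← hmul, h1, hmul, show (i' : ℕ) + 4 * i' = 5 * i' by ring,
          show (j' : ℕ) + 4 * j' = 5 * j' by ring, pow_mul, pow_mul, h₁, h₂, one_pow, one_pow, one_mul]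
      obtain ⟨h3, h4⟩ := hi _ _ h2
      have e1 : i = i' := by
        apply Fin.ext
        have := i.2
        have := i'.2
        omega
      have e2 : j = j' := by
        apply Fin.ext
        have := j.2
        have := j'.2
        omega
      rw [e1, e2]
    have := Nat.card_le_card_of_injective _ hinj
    rwa [Nat.card_prod, Nat.card_fin] at this
  have hSQ : S = Q := eq_of_le_of_card_ge hQ (by rw [hcQ]; exact hcS)
  refine ⟨Q, fun x => ?_⟩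
  show x ∈ (Q : Subgroup L) ↔ _
  rw [← hSQ]
  exact Iff.rfl

theorem indep (A : Ax E) (i j : ℕ) (h : E.w ^ i * E.u ^ j = 1) : i % 5 = 0 ∧ j % 5 = 0 := by
  have h1 : E.u ^ j ∈ E.As := pow_mem A.uAs j
  have h2 : E.w ^ i ∈ E.Al := pow_mem A.wAl i
  have h3 : E.w ^ i = (E.u ^ j)⁻¹ := eq_inv_of_mul_eq_one_left h
  have h4 : E.w ^ i = 1 := A.inter (by rw [h3]; exact inv_mem h1) h2
  have h5 : E.u ^ j = 1 := by rw [h4, one_mul] at h; exact h
  have : Fact (Nat.Prime 5) := ⟨by norm_num⟩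
  have ow : orderOf E.w = 5 := orderOf_eq_prime A.w5 A.w1
  have ou : orderOf E.u = 5 := orderOf_eq_prime A.u5 A.u1
  have h6 := orderOf_dvd_of_pow_eq_one h4
  have h7 := orderOf_dvd_of_pow_eq_one h5
  rw [ow] at h6
  rw [ou] at h7
  omega

/-- **F7'**: `L` is generated by the centralizers of the nontrivial elements of a Sylow 5-subgroup -/
theorem top_of_five [IsSimpleGroup L] (A : Ax E) {d₁ d₂ : L} (h₁ : d₁ ^ 5 = 1) (h₂ : d₂ ^ 5 = 1)
    (hc : d₁ * d₂ = d₂ * d₁) (hi : ∀ i j : ℕ, d₁ ^ i * d₂ ^ j = 1 → i % 5 = 0 ∧ j % 5 = 0)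
    (X : Subgroup L) (hX : ∀ (i j : ℕ) (x : L), d₁ ^ i * d₂ ^ j ≠ 1 →
      x * (d₁ ^ i * d₂ ^ j) = (d₁ ^ i * d₂ ^ j) * x → x ∈ X) : X = ⊤ := by
  have := A.finite
  have : Fact (Nat.Prime 5) := ⟨by norm_num⟩
  obtain ⟨Q, hQ⟩ := exists_syl A h₁ h₂ hc hi
  obtain ⟨Q', hQ'⟩ := exists_syl A A.w5 A.u5 A.uw.symm (indep A)
  obtain ⟨g, hg⟩ := MulAction.exists_smul_eq L Q Q'
  have hmem : ∀ a b : ℕ, ∃ i j : ℕ, E.w ^ a * E.u ^ b = g * (d₁ ^ i * d₂ ^ j) * g⁻¹ := by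
    intro a b
    have h1 : E.w ^ a * E.u ^ b ∈ ((g • Q : Sylow 5 L) : Subgroup L) := by
      rw [hg]; exact (hQ' _).2 ⟨a, b, rfl⟩
    rw [Sylow.coe_subgroup_smul, mem_pointwise_smul_iff_inv_smul_mem] at h1
    have h2 : (MulAut.conj g)⁻¹ • (E.w ^ a * E.u ^ b) = g⁻¹ * (E.w ^ a * E.u ^ b) * g := by
      rw [← map_inv, MulAut.smul_def, MulAut.conj_apply, inv_inv]
    rw [h2] at h1
    obtain ⟨i, j, h3⟩ := (hQ _).1 h1
    exact ⟨i, j, by rw [← h3]; group⟩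
  -- the elements `x` with `g⁻¹ x g ∈ X`
  have hYgen : ∀ (a b : ℕ) (x : L), E.w ^ a * E.u ^ b ≠ 1 →
      x * (E.w ^ a * E.u ^ b) = (E.w ^ a * E.u ^ b) * x → g⁻¹ * x * g ∈ X := by
    intro a b x hab hx
    obtain ⟨i, j, h3⟩ := hmem a b
    apply hX i j
    · intro h4
      apply hab
      rw [h3, h4]; group
    · rw [h3] at hx
      calc g⁻¹ * x * g * (d₁ ^ i * d₂ ^ j) = g⁻¹ * (x * (g * (d₁ ^ i * d₂ ^ j) * g⁻¹)) * g := by group
        _ = g⁻¹ * ((g * (d₁ ^ i * d₂ ^ j) * g⁻¹) * x) * g := by rw [hx]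
        _ = _ := by group
  set Y : Subgroup L := closure {x | ∃ a b : ℕ, E.w ^ a * E.u ^ b ≠ 1 ∧
    x * (E.w ^ a * E.u ^ b) = (E.w ^ a * E.u ^ b) * x} with hY
  have hYX : ∀ x ∈ Y, g⁻¹ * x * g ∈ X := by
    intro x hx
    have hle : Y ≤ X.comap (MulAut.conj g⁻¹).toMonoidHom := by
      rw [hY, closure_le]
      rintro y ⟨a, b, hab, hy⟩
      show g⁻¹ * y * g⁻¹⁻¹ ∈ X
      rw [inv_inv]
      exact hYgen a b y hab hy
    have := hle hx
    have h2 : g⁻¹ * x * g⁻¹⁻¹ ∈ X := this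
    rwa [inv_inv] at h2
  have hYtop : Y = ⊤ := by
    apply top_of A
    · intro c hc
      exact Subgroup.subset_closure ⟨1, 0, by simpa using A.w1, by simpa using A.comm c hc _ A.wAl⟩
    · intro c hc
      exact Subgroup.subset_closure ⟨0, 1, by simpa using A.u1, by simpa using (A.comm _ A.uAs c hc).symm⟩
    · intro x hx
      have hle : Y ≤ Y.comap (MulAut.conj E.n).toMonoidHom := by
        nth_rewrite 1 [hY]
        rw [closure_le]
        rintro y ⟨a, b, hab, hy⟩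
        apply Subgroup.subset_closure
        have h1 := A.nq (a, b)
        refine ⟨(T (a, b)).1, (T (a, b)).2, ?_, ?_⟩
        · rw [← h1]
          intro h2
          apply hab
          calc E.w ^ a * E.u ^ b = E.n⁻¹ * (E.n * (E.w ^ a * E.u ^ b) * E.n⁻¹) * E.n := by group
            _ = 1 := by rw [h2]; group
        · rw [← h1]
          show E.n * y * E.n⁻¹ * (E.n * (E.w ^ a * E.u ^ b) * E.n⁻¹) =
            E.n * (E.w ^ a * E.u ^ b) * E.n⁻¹ * (E.n * y * E.n⁻¹)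
          calc E.n * y * E.n⁻¹ * (E.n * (E.w ^ a * E.u ^ b) * E.n⁻¹)
              = E.n * (y * (E.w ^ a * E.u ^ b)) * E.n⁻¹ := by group
            _ = _ := by rw [hy]; group
      exact hle hx
  rw [eq_top_iff]
  intro x _
  have h1 := hYX (g * x * g⁻¹) (by rw [hYtop]; trivial)
  rwa [show g⁻¹ * (g * x * g⁻¹) * g = x by group] at h1

end Cfsg.Agent.StdG24.FiveL
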