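import Cfsg.Agent.StdG24.Cls6
import Cfsg.Agent.StdG24.AutL

/-!
# The axioms of `AutL` for the six-dimensional `G₂(4)`
-/

set_option autoImplicit false
set_option linter.constructorNameAsVariable false
set_option linter.unusedVariables false

namespace Cfsg.Agent.StdG24.Ax6

open Cfsg.Agent.StdG24.Mod6
open Cfsg.Agent.StdG24.Ord6
open Cfsg.Agent.StdG24.Al6
open Cfsg.Agent.StdG24.Cent6
open Cfsg.Agent.StdG24.Inv6
open Cfsg.Agent.StdG24.Cls6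
open scoped commutatorElement

/-- elements of `L` -/
def lw : L := ⟨wE, Al_le wE_mem⟩
def lu : L := ⟨uE, As_le uE_mem⟩
def li₁ : L := ⟨gx 2 0, gx_mem _ _⟩
def li₂ : L := ⟨gx 5 0, gx_mem _ _⟩
def ln : L := ⟨nE, nE_mem⟩
def lAs : Subgroup L := As.subgroupOf L
def lAl : Subgroup L := Al.subgroupOf L

theorem mem_lAs {x : L} : x ∈ lAs ↔ (x : GL6) ∈ As := Iff.rfl
theorem mem_lAl {x : L} : x ∈ lAl ↔ (x : GL6) ∈ Al := Iff.rfl

theorem lv_mem : lv ∈ lAs := vE_mem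
theorem lz_mem : lz ∈ lAl := zE_mem

theorem l_comm {x y : L} (hx : x ∈ lAs) (hy : y ∈ lAl) : x * y = y * x :=
  Subtype.ext (comm_Al_As hy hx).symm

theorem eAs : Nonempty (lAs ≃* alternatingGroup (Fin 5)) := by
  obtain ⟨e⟩ := equiv_As
  exact ⟨(Subgroup.subgroupOfEquivOfLe As_le).trans e⟩

theorem eAl : Nonempty (lAl ≃* alternatingGroup (Fin 5)) := by
  obtain ⟨e⟩ := equiv_Al
  exact ⟨(Subgroup.subgroupOfEquivOfLe Al_le).trans e⟩

theorem lw5 : lw ^ 5 = 1 := Subtype.ext wE_pow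
theorem lu5 : lu ^ 5 = 1 := Subtype.ext uE_pow
theorem lw1 : lw ≠ 1 := fun h => wE_ne (congrArg Subtype.val h)
theorem lu1 : lu ≠ 1 := fun h => uE_ne (congrArg Subtype.val h)
theorem lu_mem : lu ∈ lAs := uE_mem
theorem lw_mem : lw ∈ lAl := wE_mem
theorem l_uw : lu * lw = lw * lu := l_comm lu_mem lw_mem

theorem gx_ne (r : Fin 12) (t : Fin 3) : gx r t ≠ 1 := by
  intro h
  have h2 := (eq_one_iff (isCode_gx r t)).1 h
  have h3 : ∀ (r : Fin 12) (t : Fin 3), xc r t ≠ idC := by decide +kernel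
  exact h3 r t h2

theorem inv_checks : cw ([(2, 0)] ++ [(2, 0), (9, 1)] ++ [(2, 0)]) = cw [(9, 1), (2, 0)] ∧
    cw ([(5, 0)] ++ [(5, 0), (6, 1)] ++ [(5, 0)]) = cw [(6, 1), (5, 0)] := by decide +kernel

theorem i₁u : li₁ * lu * li₁ = lu⁻¹ := by
  apply Subtype.ext
  change gx 2 0 * uE * gx 2 0 = uE⁻¹
  have h := ev_eq_of inv_checks.1
  rw [ev_append, ev_append, ev_singleton] at h
  rw [show uE⁻¹ = ev [(9, 1), (2, 0)] from (ev_reverse [(2, 0), (9, 1)]).symm, ← h]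
  rfl

theorem i₂w : li₂ * lw * li₂ = lw⁻¹ := by
  apply Subtype.ext
  change gx 5 0 * wE * gx 5 0 = wE⁻¹
  have h := ev_eq_of inv_checks.2
  rw [ev_append, ev_append, ev_singleton] at h
  rw [show wE⁻¹ = ev [(6, 1), (5, 0)] from (ev_reverse [(5, 0), (6, 1)]).symm, ← h]
  rfl

theorem l_cw (x : L) (h : x * lw = lw * x) : ∃ i : ℕ, ∃ c ∈ lAs, x = lw ^ i * c := by
  obtain ⟨i, s, hs, h1⟩ := cent_w x.2 (congrArg Subtype.val h)
  exact ⟨i, ⟨s, As_le hs⟩, hs, Subtype.ext h1⟩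

theorem l_cu (x : L) (h : x * lu = lu * x) : ∃ i : ℕ, ∃ c ∈ lAl, x = lu ^ i * c := by
  obtain ⟨i, s, hs, h1⟩ := cent_u x.2 (congrArg Subtype.val h)
  exact ⟨i, ⟨s, Al_le hs⟩, hs, Subtype.ext h1⟩

theorem l_nw : ln * lw * ln⁻¹ = lw ^ 2 * lu ^ 2 := Subtype.ext nw
theorem l_nu : ln * lu * ln⁻¹ = lw ^ 4 * lu ^ 2 := Subtype.ext nu

theorem l_gen : Subgroup.closure ((lAs : Set L) ∪ lAl ∪ {ln}) = ⊤ := by
  set K := Subgroup.closure ((lAs : Set L) ∪ lAl ∪ {ln}) with hK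
  have h : L ≤ K.map L.subtype := by
    apply L_le
    · intro x hx
      exact ⟨⟨x, As_le hx⟩, Subgroup.subset_closure (Or.inl (Or.inl hx)), rfl⟩
    · intro x hx
      exact ⟨⟨x, Al_le hx⟩, Subgroup.subset_closure (Or.inl (Or.inr hx)), rfl⟩
    · exact ⟨ln, Subgroup.subset_closure (Or.inr rfl), rfl⟩
  rw [eq_top_iff]
  intro x _
  obtain ⟨y, hy, hyx⟩ := h x.2
  have : y = x := Subtype.ext hyx
  exact this ▸ hy

/-! ### The Sylow 5-subgroup -/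

theorem l_inter {x : L} (h1 : x ∈ lAs) (h2 : x ∈ lAl) : x = 1 := Subtype.ext (inter h1 h2)

theorem comm_uw : Commute lu lw := l_uw

/-- the Sylow 5-subgroup `⟨w, u⟩` -/
def Q : Subgroup L where
  carrier := {x | ∃ a b : ℕ, x = lw ^ a * lu ^ b}
  one_mem' := ⟨0, 0, by simp⟩
  mul_mem' := by
    rintro _ _ ⟨a, b, rfl⟩ ⟨c, d, rfl⟩
    refine ⟨a + c, b + d, ?_⟩
    have h : Commute (lu ^ b) (lw ^ c) := comm_uw.pow_pow b c
    rw [pow_add, pow_add]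
    calc lw ^ a * lu ^ b * (lw ^ c * lu ^ d) = lw ^ a * (lu ^ b * lw ^ c) * lu ^ d := by group
      _ = lw ^ a * (lw ^ c * lu ^ b) * lu ^ d := by rw [h.eq]
      _ = _ := by group
  inv_mem' := by
    rintro _ ⟨a, b, rfl⟩
    refine ⟨4 * a, 4 * b, ?_⟩
    have h : Commute (lu ^ (4 * b)) (lw ^ a) := comm_uw.pow_pow _ a
    have h1 : lw ^ (4 * a) * lu ^ (4 * b) * (lw ^ a * lu ^ b) = 1 := by
      calc lw ^ (4 * a) * lu ^ (4 * b) * (lw ^ a * lu ^ b)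
          = lw ^ (4 * a) * (lu ^ (4 * b) * lw ^ a) * lu ^ b := by group
        _ = lw ^ (4 * a) * (lw ^ a * lu ^ (4 * b)) * lu ^ b := by rw [h.eq]
        _ = (lw ^ 5) ^ a * (lu ^ 5) ^ b := by
          rw [← pow_mul, ← pow_mul]
          have e1 : lw ^ (4 * a) * lw ^ a = lw ^ (5 * a) := by rw [← pow_add]; congr 1; omega
          have e2 : lu ^ (4 * b) * lu ^ b = lu ^ (5 * b) := by rw [← pow_add]; congr 1; omega
          rw [← e1, ← e2]; group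
        _ = 1 := by rw [lw5, lu5, one_pow, one_pow, mul_one]
    exact (eq_inv_of_mul_eq_one_left h1).symm

theorem pow_inj {g : L} (h5 : g ^ 5 = 1) (h1 : g ≠ 1) {i j : ℕ} (hi : i < 5) (hj : j < 5)
    (h : g ^ i = g ^ j) : i = j := by
  have : Fact (Nat.Prime 5) := ⟨by norm_num⟩
  have ho : orderOf g = 5 := orderOf_eq_prime h5 h1
  have := (pow_inj_mod (x := g)).1 h
  rw [ho] at this
  rwa [Nat.mod_eq_of_lt hi, Nat.mod_eq_of_lt hj] at this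

theorem card_Q : Nat.card Q = 25 := by
  have hb : Function.Bijective (fun p : Fin 5 × Fin 5 =>
      (⟨lw ^ (p.1 : ℕ) * lu ^ (p.2 : ℕ), p.1, p.2, rfl⟩ : Q)) := by
    constructor
    · rintro ⟨a, b⟩ ⟨c, d⟩ h
      have h1 : lw ^ (a : ℕ) * lu ^ (b : ℕ) = lw ^ (c : ℕ) * lu ^ (d : ℕ) := congrArg Subtype.val h
      have h2 : (lw ^ (c : ℕ))⁻¹ * lw ^ (a : ℕ) = lu ^ (d : ℕ) * (lu ^ (b : ℕ))⁻¹ := by
        rw [inv_mul_eq_iff_eq_mul, ← mul_assoc, ← h1]; group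
      have h3 : (lw ^ (c : ℕ))⁻¹ * lw ^ (a : ℕ) = 1 := by
        apply l_inter
        · rw [h2]; exact lAs.mul_mem (lAs.pow_mem lu_mem _) (lAs.inv_mem (lAs.pow_mem lu_mem _))
        · exact lAl.mul_mem (lAl.inv_mem (lAl.pow_mem lw_mem _)) (lAl.pow_mem lw_mem _)
      have h4 : lw ^ (a : ℕ) = lw ^ (c : ℕ) := (inv_mul_eq_one.1 h3).symm
      have h5 : lu ^ (b : ℕ) = lu ^ (d : ℕ) := by
        rw [h4] at h1; exact mul_left_cancel h1
      exact Prod.ext (Fin.ext (pow_inj lw5 lw1 a.isLt c.isLt h4))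
        (Fin.ext (pow_inj lu5 lu1 b.isLt d.isLt h5))
    · rintro ⟨_, a, b, rfl⟩
      refine ⟨(⟨a % 5, Nat.mod_lt _ (by norm_num)⟩, ⟨b % 5, Nat.mod_lt _ (by norm_num)⟩), ?_⟩
      apply Subtype.ext
      change lw ^ (a % 5) * lu ^ (b % 5) = lw ^ a * lu ^ b
      rw [← pow_eq_pow_mod a lw5, ← pow_eq_pow_mod b lu5]
  rw [← Nat.card_congr (Equiv.ofBijective _ hb), Nat.card_prod, Nat.card_fin]

theorem conj_Q {x : L} (hx : x ^ 5 = 1) : ∃ (g : L) (a b : ℕ), g * x * g⁻¹ = lw ^ a * lu ^ b := by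
  have : Fact (Nat.Prime 5) := ⟨by norm_num⟩
  have hfac : (Nat.card L).factorization 5 = 2 := by
    rw [card_L, show (251596800 : ℕ) = 5 ^ 2 * 10063872 by norm_num,
      Nat.factorization_mul (by norm_num) (by norm_num), Nat.Prime.factorization_pow (by norm_num)]
    simp only [Finsupp.add_apply, Finsupp.single_eq_same]
    rw [Nat.factorization_eq_zero_of_not_dvd (by norm_num)]
  let S : Sylow 5 L := Sylow.ofCard Q (by rw [hfac, card_Q]; norm_num)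
  have hp : IsPGroup 5 (Subgroup.zpowers x) := by
    rintro ⟨y, n, rfl⟩
    refine ⟨1, Subtype.ext ?_⟩
    change (x ^ n) ^ (5 ^ 1) = 1
    rw [pow_one, ← zpow_natCast, ← zpow_mul, mul_comm, zpow_mul, zpow_natCast, hx, one_zpow]
  obtain ⟨P, hP⟩ := hp.exists_le_sylow
  obtain ⟨g, hg⟩ := MulAction.exists_smul_eq L P S
  have h1 : g * x * g⁻¹ ∈ (g • P : Sylow 5 L) := by
    rw [← SetLike.mem_coe, Sylow.coe_smul]
    exact Set.smul_mem_smul_set (hP (Subgroup.mem_zpowers x))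
  rw [hg] at h1
  obtain ⟨a, b, h⟩ := (show g * x * g⁻¹ ∈ Q from h1)
  exact ⟨g, a, b, h⟩

theorem conj_pow' (g x : L) (k : ℕ) : g * x ^ k * g⁻¹ = (g * x * g⁻¹) ^ k := by
  rw [← MulAut.conj_apply, ← MulAut.conj_apply, map_pow]

theorem n_conj (a b : ℕ) : ln * (lw ^ a * lu ^ b) * ln⁻¹ =
    lw ^ ((2 * a + 4 * b) % 5) * lu ^ ((2 * a + 2 * b) % 5) := by
  have h1 : ln * (lw ^ a * lu ^ b) * ln⁻¹ = (ln * lw * ln⁻¹) ^ a * (ln * lu * ln⁻¹) ^ b := by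
    rw [← conj_pow', ← conj_pow']; group
  have c1 : Commute (lw ^ 2) (lu ^ 2) := (comm_uw.pow_pow 2 2).symm
  have c2 : Commute (lw ^ 4) (lu ^ 2) := (comm_uw.pow_pow 2 4).symm
  have c3 : Commute (lu ^ (2 * a)) (lw ^ (4 * b)) := comm_uw.pow_pow _ _
  rw [h1, l_nw, l_nu, c1.mul_pow, c2.mul_pow, ← pow_mul, ← pow_mul, ← pow_mul, ← pow_mul,
    ← pow_eq_pow_mod (2 * a + 4 * b) lw5, ← pow_eq_pow_mod (2 * a + 2 * b) lu5, pow_add, pow_add]
  calc lw ^ (2 * a) * lu ^ (2 * a) * (lw ^ (4 * b) * lu ^ (2 * b))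
      = lw ^ (2 * a) * (lu ^ (2 * a) * lw ^ (4 * b)) * lu ^ (2 * b) := by group
    _ = lw ^ (2 * a) * (lw ^ (4 * b) * lu ^ (2 * a)) * lu ^ (2 * b) := by rw [c3.eq]
    _ = _ := by group

theorem li₂_inv : li₂⁻¹ = li₂ := Subtype.ext (gx_inv 5 0)
theorem li₁_inv : li₁⁻¹ = li₁ := Subtype.ext (gx_inv 2 0)
theorem li₁_mem : li₁ ∈ lAs := gx2_mem 0
theorem li₂_mem : li₂ ∈ lAl := gx5_mem 0

theorem pow_four {g : L} (h5 : g ^ 5 = 1) : g⁻¹ = g ^ 4 := by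
  have h : g ^ 4 * g = 1 := by rw [← pow_succ, h5]
  exact (eq_inv_of_mul_eq_one_left h).symm

theorem i₂_conj (a b : ℕ) : li₂ * (lw ^ a * lu ^ b) * li₂⁻¹ = lw ^ ((4 * a) % 5) * lu ^ b := by
  have h1 : li₂ * lu ^ b = lu ^ b * li₂ := (l_comm (lAs.pow_mem lu_mem b) li₂_mem).symm
  have h2 : li₂ * lw * li₂⁻¹ = lw ^ 4 := by rw [li₂_inv, i₂w, pow_four lw5]
  calc li₂ * (lw ^ a * lu ^ b) * li₂⁻¹ = li₂ * lw ^ a * (lu ^ b * li₂⁻¹) := by group
    _ = li₂ * lw ^ a * li₂⁻¹ * (li₂ * lu ^ b) * li₂⁻¹ := by group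
    _ = li₂ * lw ^ a * li₂⁻¹ * lu ^ b := by rw [h1]; group
    _ = (lw ^ 4) ^ a * lu ^ b := by rw [conj_pow', h2]
    _ = _ := by rw [← pow_mul, ← pow_eq_pow_mod _ lw5]

theorem walk : ∀ a < 5, ∀ b < 5, ∃ s ∈ [a, (4 * a) % 5],
    (s = 0 ∨ b = 0) ∨ ((2 * s + 4 * b) % 5 = 0 ∨ (2 * s + 2 * b) % 5 = 0) ∨
    ((2 * ((2 * s + 4 * b) % 5) + 4 * ((2 * s + 2 * b) % 5)) % 5 = 0 ∨
      (2 * ((2 * s + 4 * b) % 5) + 2 * ((2 * s + 2 * b) % 5)) % 5 = 0) := by decide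

/-- every element of order 5 is conjugate to a power of `u` or of `w` -/
theorem l_five (x : L) (hx : x ^ 5 = 1) :
    ∃ (g : L) (k : ℕ), g * x * g⁻¹ = lu ^ k ∨ g * x * g⁻¹ = lw ^ k := by
  have fin : ∀ (g : L) (a b : ℕ), g * x * g⁻¹ = lw ^ a * lu ^ b → (a = 0 ∨ b = 0) →
      ∃ (g : L) (k : ℕ), g * x * g⁻¹ = lu ^ k ∨ g * x * g⁻¹ = lw ^ k := by
    rintro g a b h (rfl | rfl)
    · exact ⟨g, b, Or.inl (by rw [h, pow_zero, one_mul])⟩
    · exact ⟨g, a, Or.inr (by rw [h, pow_zero, mul_one])⟩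
  have step : ∀ (g : L) (a b : ℕ), g * x * g⁻¹ = lw ^ a * lu ^ b →
      (ln * g) * x * (ln * g)⁻¹ = lw ^ ((2 * a + 4 * b) % 5) * lu ^ ((2 * a + 2 * b) % 5) := by
    intro g a b h
    rw [← n_conj, ← h]; group
  obtain ⟨g, a, b, h⟩ := conj_Q hx
  rw [pow_eq_pow_mod a lw5, pow_eq_pow_mod b lu5] at h
  obtain ⟨s, hs, hw⟩ := walk (a % 5) (Nat.mod_lt _ (by norm_num)) (b % 5) (Nat.mod_lt _ (by norm_num))
  obtain ⟨g', hg'⟩ : ∃ g' : L, g' * x * g'⁻¹ = lw ^ s * lu ^ (b % 5) := by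
    rw [List.mem_cons, List.mem_singleton] at hs
    rcases hs with rfl | rfl
    · exact ⟨g, h⟩
    · refine ⟨li₂ * g, ?_⟩
      rw [← i₂_conj, ← h]; group
  rcases hw with hw | hw | hw
  · exact fin _ _ _ hg' hw
  · exact fin _ _ _ (step _ _ _ hg') hw
  · exact fin _ _ _ (step _ _ _ (step _ _ _ hg')) hw

/-! ### Separation of the two classes of elements of order five -/

theorem comm_mem_Al {x y : L} (hx : x * lu = lu * x) (hy : y * lu = lu * y) :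
    x * y * x⁻¹ * y⁻¹ ∈ lAl := by
  obtain ⟨i, c, hc, rfl⟩ := l_cu x hx
  obtain ⟨j, d, hd, rfl⟩ := l_cu y hy
  have c1 : Commute (lu ^ i) c := (show Commute lu c from l_comm lu_mem hc).pow_left i
  have c2 : Commute (lu ^ i) d := (show Commute lu d from l_comm lu_mem hd).pow_left i
  have c3 : Commute (lu ^ j) c := (show Commute lu c from l_comm lu_mem hc).pow_left j
  have c4 : Commute (lu ^ j) d := (show Commute lu d from l_comm lu_mem hd).pow_left j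
  have c5 : Commute (lu ^ i) (lu ^ j) := (Commute.refl lu).pow_pow i j
  have key : lu ^ i * c * (lu ^ j * d) * (lu ^ i * c)⁻¹ * (lu ^ j * d)⁻¹ = c * d * c⁻¹ * d⁻¹ := by
    rw [mul_inv_rev, mul_inv_rev]
    calc lu ^ i * c * (lu ^ j * d) * (c⁻¹ * (lu ^ i)⁻¹) * (d⁻¹ * (lu ^ j)⁻¹)
        = lu ^ i * (c * lu ^ j) * d * c⁻¹ * ((lu ^ i)⁻¹ * d⁻¹) * (lu ^ j)⁻¹ := by group
      _ = lu ^ i * (lu ^ j * c) * d * c⁻¹ * (d⁻¹ * (lu ^ i)⁻¹) * (lu ^ j)⁻¹ := by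
          rw [c3.eq, (c2.inv_inv).eq]
      _ = (lu ^ i * lu ^ j) * (c * d * c⁻¹ * d⁻¹) * ((lu ^ i)⁻¹ * (lu ^ j)⁻¹) := by group
      _ = (c * d * c⁻¹ * d⁻¹) * (lu ^ i * lu ^ j) * ((lu ^ i)⁻¹ * (lu ^ j)⁻¹) := by
          have hc' : Commute (lu ^ i * lu ^ j) (c * d * c⁻¹ * d⁻¹) :=
            Commute.mul_left (((c1.mul_right c2).mul_right c1.inv_right).mul_right c2.inv_right)
              (((c3.mul_right c4).mul_right c3.inv_right).mul_right c4.inv_right)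
          rw [hc'.eq]
      _ = (c * d * c⁻¹ * d⁻¹) * (lu ^ j * lu ^ i) * ((lu ^ i)⁻¹ * (lu ^ j)⁻¹) := by rw [c5.eq]
      _ = c * d * c⁻¹ * d⁻¹ := by group
  rw [key]
  exact lAl.mul_mem (lAl.mul_mem (lAl.mul_mem hc hd) (lAl.inv_mem hc)) (lAl.inv_mem hd)

theorem perfect_map {G H : Type*} [Group G] [Group H] (A : Subgroup G) (hp : commutator A = ⊤) (β : G →* H)
    (B : Subgroup H) (h : ∀ x ∈ A, ∀ y ∈ A, β x * β y * (β x)⁻¹ * (β y)⁻¹ ∈ B) : ∀ x ∈ A, β x ∈ B := by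
  have h1 : commutator A ≤ (B.comap β).comap A.subtype := by
    rw [commutator_def, Subgroup.commutator_le]
    intro a _ b _
    rw [Subgroup.mem_comap, Subgroup.mem_comap, commutatorElement_def, map_mul, map_mul, map_mul, map_inv,
      map_inv, map_mul, map_mul, map_mul, map_inv, map_inv]
    exact h _ a.2 _ b.2
  rw [hp] at h1
  intro x hx
  exact h1 (Subgroup.mem_top (⟨x, hx⟩ : A))

theorem l_sep (α : MulAut L) (g : L) (k : ℕ) : α lw ≠ g * lu ^ k * g⁻¹ := by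
  intro h
  -- normalise
  let β : L ≃* L := α.trans (MulAut.conj g⁻¹)
  have hβ : β lw = lu ^ k := by
    change MulAut.conj g⁻¹ (α lw) = lu ^ k
    rw [h, MulAut.conj_apply]; group
  have hk : k % 5 ≠ 0 := by
    intro h0
    rw [pow_eq_pow_mod k lu5, h0, pow_zero] at hβ
    exact lw1 (β.injective (by rw [hβ, map_one]))
  obtain ⟨m, hm⟩ : ∃ m, (k * m) % 5 = 1 := by
    have : ∀ r < 5, r ≠ 0 → ∃ m ∈ List.range 5, (r * m) % 5 = 1 := by decide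
    obtain ⟨m, -, hm⟩ := this (k % 5) (Nat.mod_lt _ (by norm_num)) hk
    exact ⟨m, by rw [← hm, Nat.mod_mul_mod]⟩
  have hum : (lu ^ k) ^ m = lu := by rw [← pow_mul, pow_eq_pow_mod _ lu5, hm, pow_one]
  have hcomm : ∀ x ∈ lAs, β x * lu = lu * β x := by
    intro x hx
    have h1 := congrArg β (l_comm hx lw_mem)
    rw [map_mul, map_mul, hβ] at h1
    have h2 : Commute (β x) (lu ^ k) := h1
    have h3 := h2.pow_right m
    rwa [hum] at h3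
  -- `β` maps `As` to `Al`
  have hmap : ∀ x ∈ lAs, β x ∈ lAl := by
    obtain ⟨e⟩ := eAs
    exact perfect_map lAs (AutL.comm_top e) β.toMonoidHom lAl
      (fun x hx y hy => comm_mem_Al (hcomm x hx) (hcomm y hy))
  have hv := hmap lv lv_mem
  have hvv : lv * lv = 1 := Subtype.ext (gx_sq 9 0)
  have hv1 : lv ≠ 1 := fun h => gx_ne 9 0 (congrArg Subtype.val h)
  obtain ⟨c, hc, hcz⟩ := inv_conj_Al (a := (β lv : L)) hv
    (congrArg Subtype.val (show β lv * β lv = 1 by rw [← map_mul, hvv, map_one]))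
    (fun h => hv1 (β.injective (by rw [map_one]; exact Subtype.ext h)))
  let γ : L ≃* L := β.trans (MulAut.conj ⟨c, Al_le hc⟩)
  have hγ : γ lv = lz := Subtype.ext hcz
  exact not_map_z_v γ.symm (by rw [← hγ, MulEquiv.symm_apply_apply])

/-- the elements used in `AutL` -/
def El6 : AutL.El L where
  u := lu
  w := lw
  i₁ := li₁
  i₂ := li₂
  n := ln
  As := lAs
  Al := lAl

/-- the axioms of `AutL` -/
theorem ax6 : AutL.Ax El6 where
  eAs := eAs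
  eAl := eAl
  comm := fun x hx y hy => l_comm hx hy
  uAs := lu_mem
  u1 := lu1
  u5 := lu5
  wAl := lw_mem
  w1 := lw1
  w5 := lw5
  i₁As := li₁_mem
  i₁1 := fun h => gx_ne 2 0 (congrArg Subtype.val h)
  i₁i₁ := Subtype.ext (gx_sq 2 0)
  i₁u := i₁u
  i₂Al := li₂_mem
  i₂1 := fun h => gx_ne 5 0 (congrArg Subtype.val h)
  i₂i₂ := Subtype.ext (gx_sq 5 0)
  i₂w := i₂w
  cw := l_cw
  cu := l_cu
  ni := Subtype.ext ni
  nw := l_nw
  nu := l_nu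
  gen := l_gen
  sep := l_sep
  five := l_five
  card := card_L

end Cfsg.Agent.StdG24.Ax6
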