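import Cfsg.Agent.StdG24.CloData
import Cfsg.Agent.CoOneType.CentOctad
import Cfsg.Agent.CoOneType.InvMain

/-!
# Involutions of `Co1` and roots (elements of `Co0` of square `-1`)

* `exists_root` : every element of `Co0` of square 1 commutes with a root up to sign.
* `main` : if `y * y = 1` and `y` commutes with the sign change `z` on an octad `o`, then the trace of
  `y` or of `y * z` is 0, or `y` or `-y` acts trivially on the lattice vectors supported on `o`, or
  some root commutes with `z` and, up to sign, with `y`.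
* `co1` : the same in `Spor.Co1`.
-/

set_option autoImplicit false
open Cfsg
open scoped Pointwise

namespace Cfsg.Agent.StdG24.CloInv

open Cfsg.Agent.SporadicA.GolayBase Cfsg.Agent.SporadicA.GolayPerm
open Cfsg.Agent.SporadicStructure.M24El Cfsg.Agent.SporadicA.Co0Mono
open Cfsg.Agent.SporadicA.Co1Simple
open Cfsg.Agent Cfsg.Agent.Co2Type.Mono
open Cfsg.Agent.CoOneType.SignFacts (sup mem_sup notMem_sup wt sup_mem sign_allOne_comm wt_add_allOne
  sup_add_allOne)
open Cfsg.Agent.CoOneType.CentOctad (C0 mem_C0 sign_mem perm_mem)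
open Cfsg.Agent.CoOneType.InvMain (sp_inj sp_mul conj_by_perm cd_all)
open Cfsg.Agent.J4.M24InvolData (P1 P2)
open Cfsg.Agent.J4.M24Invol (ok_P1 ok_P2 invol_conj)
open CloData

/-- `-1`. -/
abbrev neg : Co0 := signCo0 allOne

theorem neg_comm (g : Co0) : g * neg = neg * g := sign_allOne_comm g

theorem neg_mul_self : neg * neg = 1 := signCo0_mul_self _

/-! ### Frames -/

theorem card_stab_octad {O : Finset GolayPt} (hO : O ∈ octads) :
    Nat.card (MulAction.stabilizer M24 O) = 322560 := by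
  have h1 : (MulAction.orbit M24 O) = octads := by
    ext S
    constructor
    · rintro ⟨g, rfl⟩
      exact (smul_mem_octads g.2).2 hO
    · intro hS
      obtain ⟨g, hg⟩ := Cfsg.Agent.S0367.result O S hO hS
      exact ⟨g, hg⟩
  have h2 := (MulAction.stabilizer M24 O).card_mul_index
  rw [MulAction.index_stabilizer, Cfsg.Agent.S0364.result, h1, Cfsg.Agent.S0360.result] at h2
  omega

theorem wordPerm_sup {σ : M24} {c : golayCode} (h : wordPerm σ c = c) : σ • sup c = sup c := by
  have := CoOneType.InvMain.support_wordPerm σ c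
  rw [h] at this
  exact this.symm

theorem wordPerm_of_comm {o c : golayCode} {σ : M24}
    (h : signCo0 c * permCo0 σ * signCo0 o = signCo0 o * (signCo0 c * permCo0 σ)) :
    wordPerm σ o = o := by
  have h1 : signCo0 o = signCo0 o * permCo0 1 := by rw [map_one, mul_one]
  have h2 : signCo0 o * (signCo0 c * permCo0 σ) = signCo0 (o + c) * permCo0 σ := by
    rw [signCo0_add, mul_assoc]
  rw [h2, h1, sp_mul, mul_one] at h
  have h3 := (sp_inj h).1
  rw [add_comm o c] at h3
  exact add_left_cancel h3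

theorem card_NC {o : golayCode} (ho : wt o = 8) :
    Nat.card (N ⊓ C0 o : Subgroup Co0) = 4096 * 322560 := by
  have hoct : sup o ∈ octads := ⟨sup_mem o, ho⟩
  let f : golayCode × MulAction.stabilizer M24 (sup o) → (N ⊓ C0 o : Subgroup Co0) := fun x =>
    ⟨signCo0 x.1 * permCo0 (x.2 : M24),
      N.mul_mem (sign_mem_N _) (perm_mem_N _),
      (C0 o).mul_mem (sign_mem o _) (perm_mem (CoOneType.Thirteen.wordPerm_support _ _ _ x.2.2))⟩
  have hf : Function.Bijective f := by
    constructor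
    · rintro ⟨c, σ⟩ ⟨d, τ⟩ h
      have h1 : signCo0 c * permCo0 (σ : M24) = signCo0 d * permCo0 (τ : M24) :=
        congrArg (fun x : (N ⊓ C0 o : Subgroup Co0) => (x : Co0)) h
      obtain ⟨h2, h3⟩ := sp_inj h1
      exact Prod.ext h2 (Subtype.ext h3)
    · rintro ⟨g, hgN, hgC⟩
      obtain ⟨c, σ, rfl⟩ := exists_sign_perm hgN
      exact ⟨(c, ⟨σ, wordPerm_sup (wordPerm_of_comm (mem_C0.1 hgC))⟩), rfl⟩
  rw [← Nat.card_congr (Equiv.ofBijective f hf), Nat.card_prod, card_stab_octad hoct,
    Cfsg.Agent.S0358.card_golayCode]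

/-- Every element of `C0 o` of square 1 is conjugate in `C0 o` to a monomial element. -/
theorem exists_conj_N {o : golayCode} (ho : wt o = 8) {y : Co0} (hy : y ∈ C0 o)
    (h2 : y * y = 1) : ∃ h ∈ C0 o, h * y * h⁻¹ ∈ N := by
  have hfin : Finite Co0 := CoOneType.FrameFix.finite_co0
  let K : Subgroup (C0 o) := N.subgroupOf (C0 o)
  have hK : Nat.card K = 4096 * 322560 := by
    rw [← card_NC ho]
    have h1 : K.map (C0 o).subtype = N ⊓ C0 o := Subgroup.subgroupOf_map_subtype _ _
    rw [← h1]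
    exact (Nat.card_congr (K.equivMapOfInjective _ (C0 o).subtype_injective).toEquiv)
  have hodd : ¬ 2 ∣ Nat.card (C0 o ⧸ K) := by
    intro hdvd
    have h1 : K.index = Nat.card (C0 o ⧸ K) := rfl
    have h3 := K.card_mul_index
    have h4 := (C0 o).card_mul_index
    rw [S0397.result, ← h3, hK, h1] at h4
    obtain ⟨k, hk⟩ := hdvd
    rw [hk] at h4
    have h5 : 2 ^ 23 ∣ 8315553613086720000 := by
      rw [← h4]
      refine ⟨315 * k * (C0 o).index, ?_⟩
      ring
    revert h5
    norm_num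
  have hP : IsPGroup 2 (Subgroup.zpowers (⟨y, hy⟩ : C0 o)) := by
    have ht : (⟨y, hy⟩ : C0 o) ^ 2 ^ 1 = 1 := by
      apply Subtype.ext
      rw [pow_one, pow_two]
      exact h2
    obtain ⟨k, -, hk⟩ := (Nat.dvd_prime_pow Nat.prime_two).1 (orderOf_dvd_of_pow_eq_one ht)
    apply IsPGroup.of_card (n := k)
    rw [Nat.card_zpowers, hk]
  obtain ⟨x, hx⟩ := hP.nonempty_fixed_point_of_prime_not_dvd_card (C0 o ⧸ K) hodd
  obtain ⟨g, rfl⟩ := QuotientGroup.mk_surjective x
  have h3 := hx ⟨⟨y, hy⟩, Subgroup.mem_zpowers _⟩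
  have h4 : (((⟨y, hy⟩ : C0 o) * g : C0 o) : C0 o ⧸ K) = (g : C0 o ⧸ K) := h3
  rw [QuotientGroup.eq] at h4
  have h5 := K.inv_mem h4
  rw [mul_inv_rev, inv_inv, ← mul_assoc] at h5
  refine ⟨((g : C0 o) : Co0)⁻¹, (C0 o).inv_mem g.2, ?_⟩
  rw [inv_inv]
  exact h5

/-! ### The conclusion -/

/-- `g` fixes the lattice vectors supported on `o`. -/
def FixSup (o : golayCode) (g : Co0) : Prop :=
  ∀ v : leechLattice, (∀ i, i ∉ sup o → (v : GolayPt → ℤ) i = 0) → g • v = v

theorem supported_iff (o : golayCode) (v : leechLattice) :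
    (∀ i, i ∉ sup o → (v : GolayPt → ℤ) i = 0) ↔ signCo0 o • v = -v := by
  constructor
  · intro h
    apply Subtype.ext
    funext i
    rw [signCo0_smul, signMap_apply]
    show sgn ((o : GolayPt → ZMod 2) i) * (v : GolayPt → ℤ) i = -(v : GolayPt → ℤ) i
    by_cases hi : i ∈ sup o
    · rw [(mem_sup o i).1 hi, sgn_one]
      ring
    · rw [h i hi, mul_zero, neg_zero]
  · intro h i hi
    have h1 := congrArg (fun w : leechLattice => (w : GolayPt → ℤ) i) h
    simp only [signCo0_smul, signMap_apply] at h1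
    rw [(notMem_sup o i).1 hi, sgn_zero, one_mul] at h1
    have h2 : ((-v : leechLattice) : GolayPt → ℤ) i = -(v : GolayPt → ℤ) i := rfl
    rw [h2] at h1
    omega

theorem FixSup.of_conj {o o' : golayCode} {g y : Co0} (hg : g * signCo0 o * g⁻¹ = signCo0 o')
    (h : FixSup o' (g * y * g⁻¹)) : FixSup o y := by
  intro v hv
  rw [supported_iff] at hv
  have h1 : signCo0 o' • (g • v) = -(g • v) := by
    rw [← hg, smul_smul, inv_mul_cancel_right, mul_smul, hv, Cfsg.Agent.SporadicA.Co0Mono.smul_neg]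
  have h2 := h (g • v) ((supported_iff o' _).2 h1)
  rw [smul_smul, inv_mul_cancel_right, mul_smul] at h2
  exact MulAction.injective g h2

/-- Possible conclusions for an element `y` of square 1 commuting with `signCo0 o`. -/
def Concl (o : golayCode) (y : Co0) : Prop :=
  tr8 y = 0 ∨ tr8 (y * signCo0 o) = 0 ∨ FixSup o y ∨ FixSup o (neg * y) ∨
    ∃ v : Co0, v * v = neg ∧ v * signCo0 o = signCo0 o * v ∧ (v * y = y * v ∨ v * y = neg * (y * v))

theorem conj_neg (g : Co0) : g * neg * g⁻¹ = neg := by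
  rw [neg_comm, mul_inv_cancel_right]

theorem Concl.of_conj {o o' : golayCode} {g y : Co0} (hg : g * signCo0 o * g⁻¹ = signCo0 o')
    (h : Concl o' (g * y * g⁻¹)) : Concl o y := by
  rcases h with h | h | h | h | ⟨v, hv, hvo, hvy⟩
  · left
    rwa [tr8_conj] at h
  · right; left
    rw [← hg, show g * y * g⁻¹ * (g * signCo0 o * g⁻¹) = g * (y * signCo0 o) * g⁻¹ by group,
      tr8_conj] at h
    exact h
  · right; right; left
    exact FixSup.of_conj hg h
  · right; right; right; left
    apply FixSup.of_conj hg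
    rw [← conj_neg g, show g * neg * g⁻¹ * (g * y * g⁻¹) = g * (neg * y) * g⁻¹ by group] at h
    exact h
  · right; right; right; right
    refine ⟨g⁻¹ * v * g, ?_, ?_, ?_⟩
    · rw [show g⁻¹ * v * g * (g⁻¹ * v * g) = g⁻¹ * (v * v) * g by group, hv]
      have := conj_neg g⁻¹
      rwa [inv_inv] at this
    · have h1 : signCo0 o = g⁻¹ * signCo0 o' * g := by rw [← hg]; group
      rw [h1, show g⁻¹ * v * g * (g⁻¹ * signCo0 o' * g) = g⁻¹ * (v * signCo0 o') * g by group, hvo]
      group
    · rcases hvy with hvy | hvy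
      · left
        have h2 : g⁻¹ * v * g * y = g⁻¹ * (v * (g * y * g⁻¹)) * g := by group
        rw [h2, hvy]
        group
      · right
        have h2 : g⁻¹ * v * g * y = g⁻¹ * (v * (g * y * g⁻¹)) * g := by group
        rw [h2, hvy, show g⁻¹ * (neg * (g * y * g⁻¹ * v)) * g = (g⁻¹ * neg) * (g * y * g⁻¹ * v) * g by
          group, neg_comm g⁻¹]
        group

/-! ### Monomial elements -/

theorem mo_idP {m : ℕ} : mo m idP = signCo0 (cd m) := by
  unfold mo
  rw [el_idP, map_one, mul_one]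

theorem isCode_all : isCode 16777215 = true := by decide +kernel

theorem root_of {r : ℕ × ℕ} (h : rootB r = true) :
    isCode r.1 = true ∧ ok r.2 = true ∧ mo r.1 r.2 * mo r.1 r.2 = neg := by
  unfold rootB at h
  simp only [Bool.and_eq_true, Nat.beq_eq] at h
  obtain ⟨⟨⟨h1, h2⟩, h3⟩, h4⟩ := h
  refine ⟨h1, h2, ?_⟩
  rw [mo_mul h1 h1 h2 h2, h3, h4, mo_idP, cd_all]

theorem com_of {r : ℕ × ℕ} {w m P : ℕ} (hr : rootB r = true) (hw : isCode w = true)
    (hm : isCode m = true) (hP : ok P = true) (h : comB r w m P = true) :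
    ∃ v : Co0, v * v = neg ∧ v * signCo0 (cd w) = signCo0 (cd w) * v ∧
      (v * mo m P = mo m P * v ∨ v * mo m P = neg * (mo m P * v)) := by
  obtain ⟨h1, h2, h3⟩ := root_of hr
  unfold comB at h
  simp only [Bool.and_eq_true, Bool.or_eq_true, Nat.beq_eq] at h
  obtain ⟨⟨h4, h5⟩, h6⟩ := h
  have hn : neg = mo 16777215 idP := by rw [mo_idP, cd_all]
  refine ⟨mo r.1 r.2, h3, ?_, ?_⟩
  · rw [← mo_idP, mo_mul h1 hw h2 ok_idP, h4, mo_mul_mo hw h1, Nat.xor_comm w]
    unfold mo
    rw [el_pcomp h2 ok_idP, el_idP, mul_one]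
  · rcases h6 with h6 | h6
    · left
      rw [mo_mul h1 hm h2 hP, mo_mul hm h1 hP h2, h5, h6]
    · right
      rw [mo_mul h1 hm h2 hP, mo_mul hm h1 hP h2, h5, h6, hn,
        mo_mul_mo isCode_all (isCode_xor hm (isCode_pimg hP h1))]

theorem fixSup_mo {m P w : ℕ} (hm : isCode m = true) (_hP : ok P = true) (hw : isCode w = true)
    (hfix : ∀ i, w.testBit (idx i) = true → (el P : Equiv.Perm GolayPt) i = i)
    (hmw : ∀ i, w.testBit (idx i) = true → m.testBit (idx i) = false) :
    FixSup (cd w) (mo m P) := by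
  intro v hv
  have hmem : ∀ i, i ∈ sup (cd w) ↔ w.testBit (idx i) = true := by
    intro i
    rw [mem_sup, coe_cd hw, word_apply]
    split_ifs with h <;> simp [h]
  apply Subtype.ext
  funext i
  unfold mo
  rw [mul_smul, signCo0_smul, signMap_apply, permCo0_smul, permMap_apply, coe_cd hm, word_apply]
  by_cases hi : w.testBit (idx i) = true
  · have h1 : (el P : Equiv.Perm GolayPt).symm i = i := by
      rw [Equiv.symm_apply_eq]
      exact (hfix i hi).symm
    rw [h1, hmw i hi, if_neg Bool.false_ne_true, sgn_zero, one_mul]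
  · have h2 : (v : GolayPt → ℤ) i = 0 := hv i (fun h => hi ((hmem i).1 h))
    have h3 : (v : GolayPt → ℤ) ((el P : Equiv.Perm GolayPt).symm i) = 0 := by
      apply hv
      intro h
      have h4 := hfix _ ((hmem _).1 h)
      rw [Equiv.apply_symm_apply] at h4
      rw [← h4] at h
      exact hi ((hmem i).1 h)
    rw [h2, h3, mul_zero]

/-- The case of sign words meeting `w` trivially or containing `w`. -/
theorem concl_fix {m P w : ℕ} (hm : isCode m = true) (hP : ok P = true) (hw : isCode w = true)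
    (hfix : ∀ i, w.testBit (idx i) = true → (el P : Equiv.Perm GolayPt) i = i)
    (h : m &&& w = 0 ∨ m &&& w = w) : Concl (cd w) (mo m P) := by
  rcases h with h | h
  · right; right; left
    apply fixSup_mo hm hP hw hfix
    intro i hi
    have h1 := congrArg (fun n : ℕ => n.testBit (idx i)) h
    simp only [Nat.testBit_and, Nat.zero_testBit, hi, Bool.and_true] at h1
    exact h1
  · right; right; right; left
    have hn : neg = mo 16777215 idP := by rw [mo_idP, cd_all]
    rw [hn, mo_mul_mo isCode_all hm]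
    apply fixSup_mo (isCode_xor isCode_all hm) hP hw hfix
    intro i hi
    have h1 := congrArg (fun n : ℕ => n.testBit (idx i)) h
    simp only [Nat.testBit_and, hi, Bool.and_true] at h1
    rw [Nat.testBit_xor, h1]
    have h2 : ∀ j < 24, Nat.testBit 16777215 j = true := by decide
    rw [h2 _ (idx_lt i)]
    rfl

theorem all_and {m : ℕ} (h : m < 2 ^ 24) : 16777215 &&& m = m := by
  apply Nat.eq_of_testBit_eq
  intro j
  rw [Nat.testBit_and]
  by_cases hj : j < 24
  · have h2 : ∀ j < 24, Nat.testBit 16777215 j = true := by decide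
    rw [h2 j hj, Bool.true_and]
  · have h3 : m.testBit j = false :=
      Nat.testBit_lt_two_pow (lt_of_lt_of_le h (Nat.pow_le_pow_right (by norm_num) (by omega)))
    rw [h3, Bool.and_false]

theorem fixm_idP : fixm idP = 16777215 := by decide +kernel

theorem tr8_sign {m : ℕ} (hm : isCode m = true) (h : popcount m = 12) :
    tr8 (signCo0 (cd m)) = 0 := by
  rw [← mo_idP, tr8_mo hm ok_idP, trN, fixm_idP, all_and (isCode_lt hm), h,
    show popcount 16777215 = 24 by decide +kernel]
  norm_num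

/-- Sign changes. -/
theorem concl_sign {m : ℕ} (hm : isCode m = true) : Concl (cd F) (signCo0 (cd m)) := by
  obtain ⟨i, hi, rfl⟩ := isCode_iff_exists.1 hm
  have h := allR_zero_spec chkI_ok i hi
  unfold chkI at h
  simp only [Bool.or_eq_true, Nat.beq_eq] at h
  rw [← mo_idP]
  have hfix : ∀ i, F.testBit (idx i) = true → (el idP : Equiv.Perm GolayPt) i = i := by
    intro i _
    rw [el_idP]
    rfl
  rcases h with (((h | h) | h) | h) | h
  · left
    rw [mo_idP]
    exact tr8_sign hm h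
  · right; left
    rw [mo_idP, ← signCo0_add, ← cd_xor hm isCode_F]
    exact tr8_sign (isCode_xor hm isCode_F) h
  · exact concl_fix hm ok_idP isCode_F hfix (Or.inl h)
  · exact concl_fix hm ok_idP isCode_F hfix (Or.inr h)
  · rw [List.any_eq_true] at h
    obtain ⟨r, hr, hc⟩ := h
    exact Or.inr (Or.inr (Or.inr (Or.inr
      (com_of (List.all_eq_true.1 rootsI_ok r hr) isCode_F hm ok_idP hc))))

/-- Elements with permutation part `P1`. -/
theorem concl_P1 {m w : ℕ} (hm : isCode m = true) (hw : isCode w = true) (hm1 : pimg P1 m = m)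
    (hw1 : pimg P1 w = w) (hw8 : popcount w = 8) : Concl (cd w) (mo m P1) := by
  have hwL : w ∈ octs1 := by
    obtain ⟨j, hj, rfl⟩ := isCode_iff_exists.1 hw
    have h := allR_zero_spec octs1_ok j hj
    rw [hw1, hw8, Nat.beq_refl, Nat.beq_refl, Bool.not_true, Bool.false_or, Bool.false_or,
      List.any_eq_true] at h
    obtain ⟨w', h1, h2⟩ := h
    rwa [← Nat.eq_of_beq_eq_true h2]
  obtain ⟨i, hi, rfl⟩ := isCode_iff_exists.1 hm
  have h := allR_zero_spec chk1_ok i hi
  rw [hm1, Nat.beq_refl, Bool.not_true, Bool.false_or, List.all_eq_true] at h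
  have h1 := h w hwL
  unfold chk1 at h1
  simp only [Bool.or_eq_true, Bool.and_eq_true, Nat.beq_eq] at h1
  rcases h1 with ((h1 | h1) | ⟨h1, h2⟩) | h1
  · left
    rw [tr8_mo hm ok_P1, trN, fixm_P1, h1, popcount_F]
    norm_num
  · right; left
    have h3 : mo (enc i) P1 * signCo0 (cd w) = mo (enc i ^^^ w) P1 := by
      rw [← mo_idP, mo_mul hm hw ok_P1 ok_idP, hw1]
      unfold mo
      rw [el_pcomp ok_P1 ok_idP, el_idP, mul_one]
    rw [h3, tr8_mo (isCode_xor hm hw) ok_P1, trN, fixm_P1, h1, popcount_F]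
    norm_num
  · subst h1
    apply concl_fix hm ok_P1 isCode_F _ h2
    intro j hj
    rw [← fixm_P1, testBit_fixm P1 (idx_lt j), decide_eq_true_eq] at hj
    have h3 := idx_el_smul ok_P1 j
    rw [hj] at h3
    exact idx_injective h3
  · rw [List.any_eq_true] at h1
    obtain ⟨r, hr, hc⟩ := h1
    exact Or.inr (Or.inr (Or.inr (Or.inr
      (com_of (List.all_eq_true.1 roots1_ok r hr) hw hm ok_P1 hc))))

theorem popcount_of_wt {w : ℕ} (hw : isCode w = true) (h : wt (cd w) = 8) : popcount w = 8 := by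
  rw [← card_fin, ← h]
  unfold wt
  congr 1
  ext i
  rw [mem_sup, coe_cd hw, word_apply, mem_fin]
  split_ifs with h1 <;> simp [h1]

theorem wt_wordPerm (g : M24) (c : golayCode) : wt (wordPerm g c) = wt c := by
  unfold wt sup
  rw [CoOneType.InvMain.support_wordPerm, Finset.card_smul_finset]

theorem perm_fix {g σ : M24} {o : golayCode} (h : wordPerm σ o = o) :
    wordPerm (g * σ * g⁻¹) (wordPerm g o) = wordPerm g o := by
  rw [wordPerm_mul, wordPerm_mul, ← wordPerm_mul g⁻¹ g, inv_mul_cancel, wordPerm_one, h]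

/-- The main statement. -/
theorem main {o : golayCode} (ho : wt o = 8) {y : Co0} (hy : y * y = 1)
    (hyo : y * signCo0 o = signCo0 o * y) : Concl o y := by
  obtain ⟨h, hC, hN⟩ := exists_conj_N ho (mem_C0.2 hyo) hy
  have h1 : h * signCo0 o * h⁻¹ = signCo0 o := by
    rw [mem_C0.1 hC, mul_inv_cancel_right]
  apply Concl.of_conj h1
  have hy2 : h * y * h⁻¹ * (h * y * h⁻¹) = 1 := by
    rw [show h * y * h⁻¹ * (h * y * h⁻¹) = h * (y * y) * h⁻¹ by group, hy]
    group
  have hyo2 : h * y * h⁻¹ * signCo0 o = signCo0 o * (h * y * h⁻¹) :=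
    mem_C0.1 ((C0 o).mul_mem ((C0 o).mul_mem hC (mem_C0.2 hyo)) ((C0 o).inv_mem hC))
  obtain ⟨c, σ, hcσ⟩ := exists_sign_perm hN
  rw [hcσ] at hy2 hyo2 ⊢
  clear hcσ
  have hσo : wordPerm σ o = o := wordPerm_of_comm hyo2
  have hsq : c + wordPerm σ c = 0 ∧ σ * σ = 1 := by
    rw [sp_mul, show (1 : Co0) = signCo0 0 * permCo0 1 by rw [signCo0_zero, map_one, mul_one]] at hy2
    exact sp_inj hy2
  by_cases hσ : σ = 1
  · subst hσ
    rw [map_one, mul_one]
    have hF : wt (cd F) = 8 := by
      show (sup (cd F)).card = 8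
      have h2 : sup (cd F) = fin F := by
        ext i
        rw [mem_sup, coe_cd isCode_F, word_apply, mem_fin]
        split_ifs with h1 <;> simp [h1]
      rw [h2, card_fin, popcount_F]
    obtain ⟨g, hg⟩ := CoOneType.InvMain.exists_perm_octad (c := o) (d := cd F)
      ⟨sup_mem o, ho⟩ ⟨sup_mem _, hF⟩
    apply Concl.of_conj (g := permCo0 g) (o' := cd F)
    · rw [perm_mul_sign_mul_inv, hg]
    · rw [perm_mul_sign_mul_inv]
      obtain ⟨m, hm, hcm⟩ := exists_cd (wordPerm g c)
      rw [← hcm]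
      exact concl_sign hm
  · obtain ⟨g, hg⟩ := invol_conj σ hsq.2 hσ
    obtain ⟨m, hm, hcm⟩ := exists_cd (wordPerm g c)
    obtain ⟨w, hw, how⟩ := exists_cd (wordPerm g o)
    have hP : ∃ P, ok P = true ∧ (P = P1 ∨ P = P2) ∧ g * σ * g⁻¹ = el P := by
      rcases hg with hg | hg
      · exact ⟨P1, ok_P1, Or.inl rfl, hg⟩
      · exact ⟨P2, ok_P2, Or.inr rfl, hg⟩
    obtain ⟨P, hPok, hPP, hgP⟩ := hP
    have hwP : pimg P w = w := by
      have h2 := perm_fix (g := g) hσo
      rw [hgP, ← how, wordPerm_cd hPok hw] at h2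
      exact cd_inj (isCode_pimg hPok hw) hw h2
    have hmP : pimg P m = m := by
      have hc2 : wordPerm σ c = c := by
        have h3 : c + wordPerm σ c = c + c := by rw [hsq.1, signCo0_add_self]
        exact add_left_cancel h3
      have h2 := perm_fix (g := g) hc2
      rw [hgP, ← hcm, wordPerm_cd hPok hm] at h2
      exact cd_inj (isCode_pimg hPok hm) hm h2
    have hw8 : popcount w = 8 := by
      apply popcount_of_wt hw
      rw [how, wt_wordPerm, ho]
    apply Concl.of_conj (g := permCo0 g) (o' := cd w)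
    · rw [perm_mul_sign_mul_inv, how]
    · rw [conj_by_perm, hgP, ← hcm]
      show Concl (cd w) (mo m P)
      rcases hPP with rfl | rfl
      · exact concl_P1 hm hw hmP hwP hw8
      · left
        rw [tr8_mo hm ok_P2, trN, fixm_P2, Nat.zero_and]
        norm_num [popcount]

/-! ### Involutions commute with roots -/

theorem isCode_m8 : isCode 11538486 = true := by decide +kernel
theorem isCode_m12 : isCode 13553934 = true := by decide +kernel
theorem pimg_m8 : pimg P2 11538486 = 11538486 := by decide +kernel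
theorem pimg_m12 : pimg P2 13553934 = 13553934 := by decide +kernel
theorem popcount_m8 : popcount 11538486 = 8 := by decide +kernel
theorem popcount_m12 : popcount 13553934 = 12 := by decide +kernel

theorem card_support_cd {w : ℕ} (hw : isCode w = true) :
    (support₂ ((cd w : golayCode) : GolayPt → ZMod 2)).card = popcount w := by
  rw [← card_fin]
  congr 1
  ext i
  rw [coe_cd hw, mem_support₂, word_apply, mem_fin]
  split_ifs with h1 <;> simp [h1]

theorem b0_comm {m : ℕ} (hm : isCode m = true) (h : pimg P2 m = m) :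
    CoOneType.InvMain.b0 * signCo0 (cd m) = signCo0 (cd m) * CoOneType.InvMain.b0 := by
  show signCo0 (cd CoOneType.InvMain.b0m) * permCo0 (el P2) * signCo0 (cd m) =
    signCo0 (cd m) * (signCo0 (cd CoOneType.InvMain.b0m) * permCo0 (el P2))
  rw [mul_assoc, perm_mul_sign, wordPerm_cd ok_P2 hm, h, ← mul_assoc, ← mul_assoc,
    ← signCo0_add, ← signCo0_add, add_comm]

theorem root_conj {g t v : Co0} (hv : v * v = neg) (h : v * (g * t * g⁻¹) = g * t * g⁻¹ * v) :
    ∃ v : Co0, v * v = neg ∧ v * t = t * v := by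
  refine ⟨g⁻¹ * v * g, ?_, ?_⟩
  · rw [show g⁻¹ * v * g * (g⁻¹ * v * g) = g⁻¹ * (v * v) * g by group, hv]
    have := conj_neg g⁻¹
    rwa [inv_inv] at this
  · rw [show g⁻¹ * v * g * t = g⁻¹ * (v * (g * t * g⁻¹)) * g by group, h]
    group

/-- Every element of `Co0` of square 1 commutes with a root. -/
theorem exists_root (t : Co0) (ht : t * t = 1) : ∃ v : Co0, v * v = neg ∧ v * t = t * v := by
  have h8 : support₂ ((cd 11538486 : golayCode) : GolayPt → ZMod 2) ∈ octads :=
    ⟨sup_mem _, (card_support_cd isCode_m8).trans popcount_m8⟩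
  have h12 : support₂ ((cd 13553934 : golayCode) : GolayPt → ZMod 2) ∈ dodecads :=
    ⟨sup_mem _, (card_support_cd isCode_m12).trans popcount_m12⟩
  rcases CoOneType.InvMain.sq_one_cases t ht _ _ h8 h12 with rfl | rfl | ⟨g, h | h | h⟩
  · exact ⟨_, CoOneType.InvMain.b0_mul_self, by rw [mul_one, one_mul]⟩
  · exact ⟨_, CoOneType.InvMain.b0_mul_self, neg_comm _⟩
  · apply root_conj CoOneType.InvMain.b0_mul_self (g := g)
    rw [h]
    exact b0_comm isCode_m8 pimg_m8
  · apply root_conj CoOneType.InvMain.b0_mul_self (g := g)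
    rw [h, signCo0_add, ← mul_assoc, b0_comm isCode_m8 pimg_m8, mul_assoc, neg_comm, mul_assoc]
  · apply root_conj CoOneType.InvMain.b0_mul_self (g := g)
    rw [h]
    exact b0_comm isCode_m12 pimg_m12

/-! ### Traces -/

theorem tr8_neg_mul (g : Co0) : tr8 (neg * g) = -tr8 g := by
  unfold tr8
  rw [← Finset.sum_neg_distrib]
  refine Finset.sum_congr rfl fun i _ => ?_
  rw [mul_smul, allOne_smul]
  rfl

theorem tr8_octad {o : golayCode} (ho : wt o = 8) : tr8 (signCo0 o) = 64 := by
  obtain ⟨m, hm, rfl⟩ := exists_cd o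
  rw [← mo_idP, tr8_mo hm ok_idP, trN, fixm_idP, all_and (isCode_lt hm), popcount_of_wt hm ho,
    show popcount 16777215 = 24 by decide +kernel]
  norm_num

/-! ### `Co1` -/

open Cfsg.Agent.CoOneType.ClosingFacts (mk mk_mul mk_inv exists_mk mk_eq_one mk_eq)

/-- Roots of `Co1`. -/
def Root (k : Spor.Co1) : Prop := ∃ v : Co0, v * v = neg ∧ mk v = k

theorem mk_neg : mk neg = 1 := (mk_eq_one _).2 (Or.inr rfl)

theorem mk_neg_mul (g : Co0) : mk (neg * g) = mk g := by
  rw [mk_mul, mk_neg, one_mul]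

/-- Every element of `Co1` of square 1 commutes with a root. -/
theorem exists_root_co1 (k : Spor.Co1) (hk : k * k = 1) : ∃ r, Root r ∧ r * k = k * r := by
  obtain ⟨t, rfl⟩ := exists_mk k
  rw [← mk_mul, mk_eq_one] at hk
  rcases hk with hk | hk
  · obtain ⟨v, hv, h⟩ := exists_root t hk
    exact ⟨mk v, ⟨v, hv, rfl⟩, by rw [← mk_mul, h, mk_mul]⟩
  · exact ⟨mk t, ⟨t, hk, rfl⟩, rfl⟩

theorem root_conj_co1 {k g : Spor.Co1} (hk : Root k) : Root (g * k * g⁻¹) := by
  obtain ⟨v, hv, rfl⟩ := hk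
  obtain ⟨h, rfl⟩ := exists_mk g
  refine ⟨h * v * h⁻¹, ?_, by rw [mk_mul, mk_mul, mk_inv]⟩
  rw [show h * v * h⁻¹ * (h * v * h⁻¹) = h * (v * v) * h⁻¹ by group, hv, conj_neg]

theorem tr8_of_isConj {s t : Co0} (h : IsConj (mk s) (mk t)) : tr8 s = tr8 t ∨ tr8 s = -tr8 t := by
  obtain ⟨c, hc⟩ := isConj_iff.1 h
  obtain ⟨g, rfl⟩ := exists_mk c
  rw [← mk_inv, ← mk_mul, ← mk_mul, mk_eq] at hc
  rcases hc with hc | hc
  · left
    rw [← tr8_conj g s, hc]
  · right
    rw [← tr8_conj g s, hc, neg_comm, tr8_neg_mul]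

/-- A lift of an element commuting with the octad involution commutes with the sign change. -/
theorem comm_lift {o : golayCode} (ho : wt o = 8) {t : Co0}
    (h : mk t * mk (signCo0 o) = mk (signCo0 o) * mk t) : t * signCo0 o = signCo0 o * t := by
  rw [← mk_mul, ← mk_mul, mk_eq] at h
  rcases h with h | h
  · exact h
  · exfalso
    have h1 : t * signCo0 o * t⁻¹ = neg * signCo0 o := by
      rw [h, neg_comm]
      group
    have h2 := tr8_conj t (signCo0 o)
    rw [h1, tr8_neg_mul, tr8_octad ho] at h2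
    norm_num at h2

theorem comm_mk {a b : Co0} (h : a * b = b * a ∨ a * b = neg * (b * a)) :
    mk a * mk b = mk b * mk a := by
  rcases h with h | h
  · rw [← mk_mul, h, mk_mul]
  · rw [← mk_mul, h, mk_neg_mul, mk_mul]

/-- The main statement in `Co1`. -/
theorem co1 {o : golayCode} (ho : wt o = 8) {y : Spor.Co1}
    (hyz : y * mk (signCo0 o) = mk (signCo0 o) * y) (h1 : IsConj y (mk (signCo0 o)))
    (h2 : IsConj (y * mk (signCo0 o)) (mk (signCo0 o))) :
    (∃ g : Co0, mk g = y ∧ FixSup o g) ∨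
      ∃ k, Root k ∧ k * mk (signCo0 o) = mk (signCo0 o) * k ∧ k * y = y * k := by
  obtain ⟨t, rfl⟩ := exists_mk y
  have h3 := comm_lift ho hyz
  have ht : t * t = 1 := by
    have h4 := h1.symm
    exact CoOneType.ClosingFacts.sq_of_isConj_sign h4
  have h5 := tr8_of_isConj h1
  have h6 := tr8_of_isConj (s := t * signCo0 o) h2
  rw [tr8_octad ho] at h5 h6
  rcases main ho ht h3 with h | h | h | h | ⟨v, hv, hvo, hvy⟩
  · omega
  · omega
  · exact Or.inl ⟨t, rfl, h⟩
  · exact Or.inl ⟨neg * t, mk_neg_mul t, h⟩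
  · exact Or.inr ⟨mk v, ⟨v, hv, rfl⟩, comm_mk (Or.inl hvo), comm_mk hvy⟩

end Cfsg.Agent.StdG24.CloInv
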