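import Cfsg.Agent.StdG24.ExMain

/-!
Basic properties of the extraspecial group `Q` of `Spor.Co1` and its centralizer.
-/

set_option autoImplicit false

namespace Cfsg.Agent.StdG24.ExCent

open Cfsg Cfsg.Agent.SporadicA Cfsg.Agent.SporadicA.GolayBase Cfsg.Agent.SporadicA.Co0Mono
  Cfsg.Agent.SporadicA.Co1Simple Cfsg.Agent.CoOneType.CoEval Cfsg.Agent.CoOneType.SignFacts
  Cfsg.Agent.Co2Type.Mono
  Cfsg.Agent.StdG24.ExLetters Cfsg.Agent.StdG24.ExAlg Cfsg.Agent.StdG24.ExOrb Cfsg.Agent.StdG24.ExInst
  Cfsg.Agent.StdG24.ExNorm Cfsg.Agent.StdG24.ExMain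
open Cfsg.Agent.SporadicStructure.Co0Base (e8 e8_coe eight_mul_co0)

/-! ### basic properties -/

theorem z_mem : z ∈ Q := z_mem_Q

theorem sq {q : Spor.Co1} (hq : q ∈ Q) : q * q = 1 ∨ q * q = z := by
  obtain ⟨x, -, hx⟩ := exists_is hq
  rw [sq_eq es hx]
  cases qf x
  · exact Or.inl rfl
  · exact Or.inr rfl

theorem Q_comm_z {q : Spor.Co1} (hq : q ∈ Q) : q * z = z * q := by
  obtain ⟨x, -, hx⟩ := exists_is hq
  exact (comm_z es hx).eq.symm

theorem comm {p q : Spor.Co1} (hp : p ∈ Q) (hq : q ∈ Q) : p * q = q * p ∨ p * q = z * (q * p) := by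
  obtain ⟨x, hx, hxp⟩ := exists_is hp
  obtain ⟨y, hy, hyq⟩ := exists_is hq
  have h1 := hyq.mul es hxp
  have h2 := hxp.mul es hyq
  rw [Nat.xor_comm] at h1
  obtain ⟨b, hb⟩ := h1.eq_or es h2
  cases b
  · left; rw [hb]; simp [ExAlg.zz]
  · right
    rw [hb]
    show q * p * z = z * (q * p)
    exact Q_comm_z (mul_mem hq hp)

theorem ext {q : Spor.Co1} (hq : q ∈ Q) (h1 : q ≠ 1) (h2 : q ≠ z) : ∃ p ∈ Q, p * q ≠ q * p := by
  obtain ⟨x, hx, hxq⟩ := exists_is hq
  have h0 : x ≠ 0 := by
    rintro rfl
    rcases hxq with h | h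
    · exact h1 (by rw [h, ev_zero])
    · exact h2 (by rw [h, ev_zero, one_mul])
  by_contra hcon
  push Not at hcon
  apply h0
  apply eq_of_bf hx (by norm_num)
  intro k hk
  have h3 := hcon (qg k) (mem_of_is (x := 2 ^ k) (by interval_cases k <;> norm_num) (is_q k hk))
  rw [comm_iff es (is_q k hk) hxq, bf_comm] at h3
  rw [h3]
  have h4 : ∀ y, bf 0 y = false := by
    intro y
    unfold bf be; simp
  rw [h4]

/-! ### `z` is the sign change on the octad -/

theorem isCode_oM : isCode oM = true := by decide +kernel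

theorem allOne_eq : allOne = cd 16777215 := by
  apply Subtype.ext
  rw [coe_cd (by decide +kernel)]
  exact word_all.symm

theorem zM_eq : cd zM = cd oM + allOne := by
  rw [allOne_eq, ← cd_xor isCode_oM (by decide +kernel)]
  rfl

theorem z_eq : z = pr (signCo0 (cd oM)) := by
  show pr (e 8) = _
  rw [e8_eq, zM_eq, signCo0_add, ← neg_eq]
  have h1 : pr (signCo0 (cd oM) * Co0Basic.negCo0) = pr (signCo0 (cd oM)) * pr Co0Basic.negCo0 := rfl
  rw [h1, pr_neg, mul_one]

theorem sup_oM : sup (cd oM) = O := by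
  ext i
  rw [mem_sup, coe_cd isCode_oM, word_apply, O, mem_fin]
  cases oM.testBit (idx i) <;> simp

theorem wt_oM : wt (cd oM) = 8 := by
  unfold wt
  rw [sup_oM]
  exact O_mem.2

/-! ### the centralizer of `Q` -/

theorem combChk2 : (List.range 4096).all (fun i => !(Nat.beq (Nat.land (enc i) zM) 0) ||
    (Nat.beq (enc i) 0 || Nat.beq (enc i) oM)) = true := by
  decide +kernel

theorem notMem_of_zM {j : ℕ} (hj : zM.testBit j = true) : j < 24 ∧ pt j ∉ O := by
  have hj24 : j < 24 := by
    by_contra hlt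
    rw [Nat.testBit_lt_two_pow (lt_of_lt_of_le (show zM < 2 ^ 24 by decide +kernel)
      (Nat.pow_le_pow_right (by norm_num) (by omega)))] at hj
    exact absurd hj (by decide)
  refine ⟨hj24, fun h => ?_⟩
  have h1 := mem_fin.1 h
  rw [idx_pt hj24] at h1
  have h : ∀ j < 24, zM.testBit j = !(oM.testBit j) := by decide +kernel
  rw [h j hj24, h1] at hj
  exact absurd hj (by decide)

/-- A code word inside the octad. -/
theorem eq_of_sub {c : golayCode} (hc : ∀ i, i ∉ O → (c : GolayPt → ZMod 2) i = 0) :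
    c = 0 ∨ c = cd oM := by
  obtain ⟨m, hm, rfl⟩ := exists_cd c
  obtain ⟨i, hi, rfl⟩ := isCode_iff_exists.1 hm
  have h1 := List.all_eq_true.1 combChk2 i (List.mem_range.2 hi)
  have h2 : enc i &&& zM = 0 := by
    apply Nat.eq_of_testBit_eq
    intro j
    rw [Nat.testBit_and, Nat.zero_testBit]
    by_cases hj : zM.testBit j = true
    · obtain ⟨hj24, hjO⟩ := notMem_of_zM hj
      have h4 := hc _ hjO
      rw [coe_cd hm, word_apply, idx_pt hj24] at h4
      cases h5 : (enc i).testBit j
      · rfl
      · rw [h5] at h4; simp at h4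
    · rw [Bool.eq_false_iff.2 hj, Bool.and_false]
  have h3 : Nat.beq (Nat.land (enc i) zM) 0 = true := by
    show Nat.beq (enc i &&& zM) 0 = true
    rw [h2]; rfl
  rw [h3, Bool.not_true, Bool.false_or, Bool.or_eq_true] at h1
  rcases h1 with h1 | h1
  · left; rw [Nat.eq_of_beq_eq_true h1, cd_zero]
  · right; rw [Nat.eq_of_beq_eq_true h1]

/-- An element commuting with the sign change on an octad up to sign commutes with it. -/
theorem comm_of_wt {c : golayCode} (hc : wt c ≠ 12) {s : Co0}
    (h : pr s * pr (signCo0 c) = pr (signCo0 c) * pr s) : s * signCo0 c = signCo0 c * s := by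
  have h1 : pr (s * signCo0 c) = pr (signCo0 c * s) := h
  rcases (pr_eq_iff _ _).1 h1 with h2 | h2
  · exact h2
  · exfalso
    have h3 : s * signCo0 c = signCo0 (c + allOne) * s := by
      rw [h2, signCo0_add, mul_assoc, mul_assoc, sign_allOne_comm]
    have h4 := wt_eq_of_conj _ _ _ h3
    have h5 := wt_add_allOne c
    omega

theorem sign_neg_iff (c : golayCode) (v : leechLattice) :
    signCo0 c • v = -v ↔ ∀ i ∉ sup c, (v : GolayPt → ℤ) i = 0 := by
  constructor
  · intro h i hi
    have h1 : ((signCo0 c • v : leechLattice) : GolayPt → ℤ) i = -(v : GolayPt → ℤ) i :=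
      congrArg (fun u : leechLattice => (u : GolayPt → ℤ) i) h
    rw [signCo0_smul, signMap_apply, (notMem_sup c i).1 hi, sgn_zero] at h1
    omega
  · intro h
    apply Subtype.ext
    funext i
    show ((signCo0 c • v : leechLattice) : GolayPt → ℤ) i = -(v : GolayPt → ℤ) i
    rw [signCo0_smul, signMap_apply]
    by_cases hi : i ∈ sup c
    · rw [(mem_sup c i).1 hi, sgn_one]; ring
    · rw [h i hi, mul_zero, neg_zero]

theorem sign_e8 (c : golayCode) (i : GolayPt) : signCo0 c • e8 i = sgn ((c : GolayPt → ZMod 2) i) • e8 i := by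
  apply Subtype.ext
  funext j
  show ((signCo0 c • e8 i : leechLattice) : GolayPt → ℤ) j =
    (sgn ((c : GolayPt → ZMod 2) i) • ((e8 i : leechLattice) : GolayPt → ℤ)) j
  rw [signCo0_smul, signMap_apply, e8_coe, Pi.smul_apply, smul_eq_mul]
  by_cases hj : j = i
  · subst hj; rfl
  · rw [Pi.single_eq_of_ne hj, mul_zero, mul_zero]

/-- Points outside the octad are separated by the words `cM k`. -/
theorem sepChk : (List.range 24).all (fun i => oM.testBit i || (List.range 24).all fun j =>
    oM.testBit j || Nat.beq i j || (List.range 4).any fun k =>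
      xor ((cM k).testBit i) ((cM k).testBit j)) = true := by
  decide +kernel

theorem wt_cM (k : ℕ) : wt (cd (cM k)) = 8 := by
  have h1 : sup (cd (cM k)) = fin (cM k) := by
    ext i
    rw [mem_sup, coe_cd (isCode_cM k), word_apply, mem_fin]
    cases (cM k).testBit (idx i) <;> simp
  unfold wt
  rw [h1, card_fin]
  rcases k with _ | _ | _ | k
  · decide +kernel
  · decide +kernel
  · decide +kernel
  · show popcount 14919680 = 8
    decide +kernel

/-- If `t` commutes with the sign changes of `Q` it maps `8 e_i`, `i` outside the octad, to a multiple. -/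
theorem supp_of_comm {t : Co0} (h : ∀ q ∈ Q, pr t * q = q * pr t) {i : GolayPt} (hi : i ∉ O) {j : GolayPt}
    (hj : j ≠ i) : ((t • e8 i : leechLattice) : GolayPt → ℤ) j = 0 := by
  -- vanishing on the places where a word differs
  have key : ∀ c : golayCode, wt c ≠ 12 → pr (signCo0 c) ∈ Q →
      (c : GolayPt → ZMod 2) i ≠ (c : GolayPt → ZMod 2) j →
      ((t • e8 i : leechLattice) : GolayPt → ℤ) j = 0 := by
    intro c hc hcQ hij
    have h1 := comm_of_wt hc (h _ hcQ)
    rcases SporadicStructure.LeechBase.zmod2_cases ((c : GolayPt → ZMod 2) i) with h2 | h2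
    · have h3 : signCo0 c • e8 i = e8 i := by rw [sign_e8, h2, sgn_zero, one_smul]
      have h4 : signCo0 c • (t • e8 i) = t • e8 i := by rw [← mul_smul, ← h1, mul_smul, h3]
      rw [sign_fixed_iff] at h4
      apply h4
      rw [mem_sup]
      rcases SporadicStructure.LeechBase.zmod2_cases ((c : GolayPt → ZMod 2) j) with h5 | h5
      · exact absurd (h2.trans h5.symm) hij
      · exact h5
    · have h3 : signCo0 c • e8 i = -e8 i := by rw [sign_e8, h2, sgn_one, neg_smul, one_smul]
      have h4 : signCo0 c • (t • e8 i) = -(t • e8 i) := by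
        rw [← mul_smul, ← h1, mul_smul, h3, Co0Mono.smul_neg]
      rw [sign_neg_iff] at h4
      apply h4
      rw [notMem_sup]
      rcases SporadicStructure.LeechBase.zmod2_cases ((c : GolayPt → ZMod 2) j) with h5 | h5
      · exact h5
      · exact absurd (h2.trans h5.symm) hij
  have hzi : (cd zM : GolayPt → ZMod 2) i = 1 := by
    rw [← mem_sup, sup_zM, Finset.mem_compl]; exact hi
  by_cases hjO : j ∈ O
  · apply key (cd zM) (by rw [wt_zM]; norm_num) zM_mem_Q
    have hzj : (cd zM : GolayPt → ZMod 2) j = 0 := by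
      rw [← notMem_sup, sup_zM, Finset.mem_compl, not_not]; exact hjO
    rw [hzi, hzj]
    decide
  · have h1 := List.all_eq_true.1 sepChk (idx i) (List.mem_range.2 (idx_lt i))
    have oi : oM.testBit (idx i) = false := by
      rw [Bool.eq_false_iff]; exact fun h => hi (mem_fin.2 h)
    have oj : oM.testBit (idx j) = false := by
      rw [Bool.eq_false_iff]; exact fun h => hjO (mem_fin.2 h)
    rw [oi, Bool.false_or] at h1
    have h2 := List.all_eq_true.1 h1 (idx j) (List.mem_range.2 (idx_lt j))
    rw [oj, Bool.false_or, beq_false (fun h3 => hj (idx_injective h3).symm), Bool.false_or,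
      List.any_eq_true] at h2
    obtain ⟨k, hk, h3⟩ := h2
    have hk4 := List.mem_range.1 hk
    apply key (cd (cM k)) (by rw [wt_cM]; norm_num) (cM_mem_Q k hk4)
    rw [coe_cd (isCode_cM k), word_apply, word_apply]
    cases h4 : (cM k).testBit (idx i) <;> cases h5 : (cM k).testBit (idx j) <;> simp_all

/-- The centralizer of `Q`. -/
theorem CQ {k : Spor.Co1} (h : ∀ q ∈ Q, k * q = q * k) : k = 1 ∨ k = z := by
  obtain ⟨t, rfl⟩ := exists_pr k
  -- images of the `8 e_i` outside the octad
  have h1 : ∀ i, i ∉ O → t • e8 i = e8 i ∨ t • e8 i = -e8 i := by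
    intro i hi
    have h2 := fun j (hj : j ≠ i) => supp_of_comm h hi hj
    have h3 : sqNorm ((t • e8 i : leechLattice) : GolayPt → ℤ) = 64 := by
      rw [sqNorm_smul]; exact Co1Simple.sqNorm_e8 i
    have h4 : sqNorm ((t • e8 i : leechLattice) : GolayPt → ℤ) =
        ((t • e8 i : leechLattice) : GolayPt → ℤ) i ^ 2 := by
      unfold sqNorm
      rw [Finset.sum_eq_single i]
      · intro j _ hj; rw [h2 j hj]; norm_num
      · intro h; exact absurd (Finset.mem_univ i) h
    rw [h4] at h3
    have h5 : ((t • e8 i : leechLattice) : GolayPt → ℤ) i = 8 ∨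
        ((t • e8 i : leechLattice) : GolayPt → ℤ) i = -8 := by
      have h6 : (((t • e8 i : leechLattice) : GolayPt → ℤ) i - 8) *
        (((t • e8 i : leechLattice) : GolayPt → ℤ) i + 8) = 0 := by linear_combination h3
      rcases mul_eq_zero.1 h6 with h7 | h7
      · left; omega
      · right; omega
    rcases h5 with h5 | h5
    · left
      apply Subtype.ext
      funext j
      rw [e8_coe]
      by_cases hj : j = i
      · subst hj; rw [h5, Pi.single_eq_same]
      · rw [h2 j hj, Pi.single_eq_of_ne hj]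
    · right
      apply Subtype.ext
      funext j
      show _ = -((e8 i : leechLattice) : GolayPt → ℤ) j
      rw [e8_coe]
      by_cases hj : j = i
      · subst hj; rw [h5, Pi.single_eq_same]
      · rw [h2 j hj, Pi.single_eq_of_ne hj, neg_zero]
  -- `t` is monomial
  have h0O : pt 0 ∉ O := by
    intro h
    exact absurd (mem_fin.1 h) (by decide +kernel)
  have htN : t ∈ N := by
    apply mem_N_of_e8
    intro j
    obtain ⟨u, hu⟩ := e8_sub j (pt 0)
    rcases h1 (pt 0) h0O with h2 | h2
    · have h3 : t • e8 j = e8 (pt 0) + (2 : ℕ) • (t • u) := by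
        rw [hu, smul_add, h2, smul_nsmul]
      apply mem_crossSet_of_congr (t • e8 j) (t • u) (pt 0) _ h3
      rw [sqNorm_smul]
      exact Co1Simple.sqNorm_e8 j
    · have h3 : t • e8 j = e8 (pt 0) + (2 : ℕ) • (t • u - e8 (pt 0)) := by
        rw [hu, smul_add, h2, smul_nsmul, nsmul_sub, two_nsmul (e8 (pt 0))]
        abel
      apply mem_crossSet_of_congr (t • e8 j) (t • u - e8 (pt 0)) (pt 0) _ h3
      rw [sqNorm_smul]
      exact Co1Simple.sqNorm_e8 j
  obtain ⟨c, σ, hcσ⟩ := exists_sign_perm htN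
  have h2 : ∀ i, i ∉ O → (σ : Equiv.Perm GolayPt) i = i := by
    intro i hi
    have h3 : t • e8 i = signCo0 c • e8 ((σ : Equiv.Perm GolayPt) i) := by
      rw [hcσ, mul_smul, perm_smul_e8]
    by_contra hne
    have h4 : ((signCo0 c • e8 ((σ : Equiv.Perm GolayPt) i) : leechLattice) : GolayPt → ℤ)
        ((σ : Equiv.Perm GolayPt) i) = 0 := by
      rw [← h3]
      exact supp_of_comm h hi hne
    rw [signCo0_smul, signMap_apply, e8_coe, Pi.single_eq_same] at h4
    rcases SporadicStructure.LeechBase.zmod2_cases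
      ((c : GolayPt → ZMod 2) ((σ : Equiv.Perm GolayPt) i)) with h5 | h5
    · rw [h5, sgn_zero] at h4; norm_num at h4
    · rw [h5, sgn_one] at h4; norm_num at h4
  have hσ : σ = 1 := by
    apply Subtype.ext
    have ho : fin (cM 0) ∈ octads :=
      (fin_mem_octads_iff (isCode_lt (isCode_cM 0))).2 (by decide +kernel)
    apply Cfsg.Agent.SporadicStructure.M24Frame.eq_one_of_fix_frame σ.2 ho (s := fin (cM 0))
      (Finset.Subset.refl _) (by have := ho.2; omega) _ (p := pt 0) _ (h2 _ h0O)
    · intro i hi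
      apply h2
      intro hiO
      have h3 := mem_fin.1 hi
      have h4 := mem_fin.1 hiO
      have h5 : ∀ j < 24, ¬ ((cM 0).testBit j = true ∧ oM.testBit j = true) := by decide +kernel
      exact h5 _ (idx_lt i) ⟨h3, h4⟩
    · intro h
      exact absurd (mem_fin.1 h) (by decide +kernel)
  rw [hσ, map_one, mul_one] at hcσ
  subst hcσ
  -- the word is constant outside the octad
  have h3 : ∀ j, j ∉ O → (c : GolayPt → ZMod 2) j = (c : GolayPt → ZMod 2) (pt 0) := by
    intro j hj
    have h4 := List.all_eq_true.1 transChk (idx j) (List.mem_range.2 (idx_lt j))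
    have h5 : oM.testBit (idx j) = false := by
      rw [Bool.eq_false_iff]
      exact fun h => hj (mem_fin.2 h)
    rw [h5, Bool.false_or, List.any_eq_true] at h4
    obtain ⟨x, hx, hx2⟩ := h4
    have h6 : (((wd x).map e).prod : Co0) • e8 (pt 0) = e8 j := smul_of_movChk (i := pt 0) (j := j) (by
      rw [idx_pt (by norm_num)]; exact hx2)
    set u : Co0 := ((wd x).map e).prod with hu
    have huF : u ∈ FQ := word_mem_FQ (wd_lt x)
    have h7 : pr (signCo0 c * u) = pr (u * signCo0 c) := h _ (pr_mem_Q huF)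
    have hi : pt 1 ∈ O := mem_fin.2 (by decide +kernel)
    have h8 : signCo0 c * u = u * signCo0 c := by
      rcases (pr_eq_iff _ _).1 h7 with h8 | h8
      · exact h8
      · exfalso
        have h9 : (signCo0 c * u) • e8 (pt 1) = signCo0 c • e8 (pt 1) := by rw [mul_smul, huF _ hi]
        have h10 : (u * signCo0 c * signCo0 allOne) • e8 (pt 1) = -(signCo0 c • e8 (pt 1)) := by
          rw [mul_smul, allOne_smul, Co0Mono.smul_neg, mul_smul, sign_e8, Co0Mono.smul_zsmul, huF _ hi]
        rw [h8, h10, sign_e8] at h9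
        have h11 := congrArg (fun v : leechLattice => (v : GolayPt → ℤ) (pt 1)) h9
        have h12 : -(sgn ((c : GolayPt → ZMod 2) (pt 1)) * ((e8 (pt 1) : leechLattice) : GolayPt → ℤ) (pt 1)) =
          sgn ((c : GolayPt → ZMod 2) (pt 1)) * ((e8 (pt 1) : leechLattice) : GolayPt → ℤ) (pt 1) := h11
        rw [e8_coe, Pi.single_eq_same] at h12
        rcases SporadicStructure.LeechBase.zmod2_cases ((c : GolayPt → ZMod 2) (pt 1)) with h13 | h13
        · rw [h13, sgn_zero] at h12; norm_num at h12
        · rw [h13, sgn_one] at h12; norm_num at h12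
    have h9 : (signCo0 c * u) • e8 (pt 0) = sgn ((c : GolayPt → ZMod 2) j) • e8 j := by
      rw [mul_smul, h6, sign_e8]
    have h10 : (u * signCo0 c) • e8 (pt 0) = sgn ((c : GolayPt → ZMod 2) (pt 0)) • e8 j := by
      rw [mul_smul, sign_e8, Co0Mono.smul_zsmul, h6]
    rw [h8, h10] at h9
    have h11 := congrArg (fun v : leechLattice => (v : GolayPt → ℤ) j) h9
    have h12 : sgn ((c : GolayPt → ZMod 2) (pt 0)) * ((e8 j : leechLattice) : GolayPt → ℤ) j =
      sgn ((c : GolayPt → ZMod 2) j) * ((e8 j : leechLattice) : GolayPt → ℤ) j := h11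
    rw [e8_coe, Pi.single_eq_same] at h12
    rcases SporadicStructure.LeechBase.zmod2_cases ((c : GolayPt → ZMod 2) j) with h13 | h13 <;>
      rcases SporadicStructure.LeechBase.zmod2_cases ((c : GolayPt → ZMod 2) (pt 0)) with h14 | h14 <;>
      rw [h13, h14] at h12 ⊢ <;> simp [sgn] at h12
  rcases SporadicStructure.LeechBase.zmod2_cases ((c : GolayPt → ZMod 2) (pt 0)) with h4 | h4
  · rcases eq_of_sub (c := c) (fun i hi => by rw [h3 i hi, h4]) with rfl | rfl
    · left
      rw [signCo0_zero]
      rfl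
    · right
      exact z_eq.symm
  · have h5 : ∀ i, i ∉ O → ((c + cd zM : golayCode) : GolayPt → ZMod 2) i = 0 := by
      intro i hi
      rw [Submodule.coe_add, Pi.add_apply, h3 i hi, h4]
      have hzi : (cd zM : GolayPt → ZMod 2) i = 1 := by
        rw [← mem_sup, sup_zM, Finset.mem_compl]; exact hi
      rw [hzi]
      exact (by decide : (1 : ZMod 2) + 1 = 0)
    have h6 : pr (signCo0 c) * z = pr (signCo0 (c + cd zM)) := by
      rw [signCo0_add]
      show pr (signCo0 c) * pr (e 8) = _
      rw [e8_eq]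
      rfl
    rcases eq_of_sub h5 with h7 | h7
    · rw [h7, signCo0_zero] at h6
      right
      have h8 : pr (signCo0 c) * z = 1 := h6
      have h9 : pr (signCo0 c) * z * z = z := by rw [h8, one_mul]
      rwa [mul_assoc, z2, mul_one] at h9
    · rw [h7, ← z_eq] at h6
      left
      exact mul_eq_right.1 h6

end Cfsg.Agent.StdG24.ExCent
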