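import Cfsg.Agent.StdG24.J2Cent
import Cfsg.Agent.Lib.AltCarmichael
import Cfsg.Agent.S1619

/-!
# The configuration `A₄ × A₅`, `⟨a₀⟩ × A₅` in the Hall–Janko group
-/

set_option autoImplicit false

namespace Cfsg.Agent.StdG24

open Subgroup Cfsg.Agent.J2Type.Pres

/-- six generators of `J₂` and the centralizers of some elements -/
structure HJ {J : Type*} [Group J] (v x a z y l : J) : Prop where
  rels : Rels v x a z y l
  z1 : z ≠ 1
  v1 : v ≠ 1
  a1 : a ≠ 1
  a5 : (z * (l * y)) ^ 5 = 1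
  ane : z * (l * y) ≠ 1
  b5 : (v * x * a) ^ 5 = 1
  bne : v * x * a ≠ 1
  vv : v * (x * v * x⁻¹) = (x * v * x⁻¹) * v
  vpx : x * v * x⁻¹ ≠ v
  azl : a * (z * (l * y)) = (z * (l * y)) * a
  card : Nat.card J = 604800
  gen : closure {v, x, a, z, y, l} = (⊤ : Subgroup J)
  centA : Nat.card (centralizer ({z * (l * y)} : Set J)) ≤ 300
  centV : Nat.card (centralizer ({v, x * v * x⁻¹} : Set J)) ≤ 240
  centB : Nat.card (centralizer ({v * x * a} : Set J)) ≤ 50
  centZ : Nat.card (centralizer ({z, y, l} : Set J)) ≤ 12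
  isoA : Nonempty (closure ({z, y, l} : Set J) ≃* alternatingGroup (Fin 5))
  isoB : Nonempty (closure ({v, x, a} : Set J) ≃* alternatingGroup (Fin 5))
  cj1 : ∃ g : J, g * (z * (l * y)) ^ 2 * g⁻¹ = (z * (l * y)) * (v * x * a)
  cj2 : ∃ g : J, g * (v * x * a) * g⁻¹ = (z * (l * y)) * (v * x * a) ^ 2
  cj3 : ∃ g : J, g * (v * x * a) * g⁻¹ = (z * (l * y)) * (v * x * a) ^ 3
  cj4 : ∃ g : J, g * (z * (l * y)) ^ 2 * g⁻¹ = (z * (l * y)) * (v * x * a) ^ 4
  fus : ∃ g : J, g * v * g⁻¹ = v * z ∧ g * (x * v * x⁻¹) * g⁻¹ = (x * v * x⁻¹) * (y⁻¹ * z * y)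

namespace J2Inst

open Equiv Cfsg.Agent.SporadicA.PermTab Cfsg.Agent.SporadicA.J2Data Cfsg.Agent.SporadicA.J2Hundred
  Cfsg.Agent.J2.HundredGens Cfsg.Agent.StdG24.J2Cent

theorem card_centralizer (S : Set G) : Nat.card (centralizer S) = Nat.card (CG ((fun g : G => (g : Perm (Fin 100))) '' S)) := by
  refine Nat.card_congr ?_
  exact
    { toFun := fun g => ⟨g.1.1, mem_CG.2 ⟨g.1.2, by
        rintro _ ⟨s, hs, rfl⟩
        exact (congrArg Subtype.val (mem_centralizer_iff.1 g.2 s hs)).symm⟩⟩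
      invFun := fun g => ⟨⟨g.1, (mem_CG.1 g.2).1⟩, mem_centralizer_iff.2 fun s hs =>
        Subtype.ext ((mem_CG.1 g.2).2 _ ⟨s, hs, rfl⟩).symm⟩
      left_inv := fun g => rfl
      right_inv := fun g => rfl }

theorem gw_mul (L M : List ℕ) : gw L * gw M = gw (L ++ M) := Subtype.ext (pw_mul L M)
theorem gw_inv (L : List ℕ) : (gw L)⁻¹ = gw L.reverse := Subtype.ext (pw_inv L)
theorem gw_eq {L M : List ℕ} (h : chk L M = true) : gw L = gw M := Subtype.ext (pw_eq h)
theorem gw_nil : gw [] = 1 := Subtype.ext pw_nil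

theorem gw_ne {L M : List ℕ} {i : ℕ} (hi : i < 100) (h : nbeq (run L i) (run M i) = true) : gw L ≠ gw M := by
  intro h1
  rw [nbeq_iff] at h
  apply h
  have h2 : pw L = pw M := congrArg Subtype.val h1
  rw [← pw_val L ⟨i, hi⟩, ← pw_val M ⟨i, hi⟩, h2]

/-- the power of a word -/
def wpow (L : List ℕ) (k : ℕ) : List ℕ := Nat.rec [] (fun _ ih => ih ++ L) k

theorem gw_pow (L : List ℕ) (k : ℕ) : (gw L) ^ k = gw (wpow L k) := by
  induction k with
  | zero => rw [pow_zero]; exact gw_nil.symm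
  | succ k ih =>
    rw [pow_succ, ih, gw_mul]
    rfl

/-- closure of three elements satisfying the relations of `A₅` -/
theorem iso_of_words {J : Type*} [Group J] {v x a : J} (h1 : (v * x) ^ 3 = 1) (h2 : (a * v) ^ 3 = 1)
    (h3 : (v * x * x) ^ 3 = 1) (h4 : (v * x * (a * v)) ^ 2 = 1) (h5 : (v * x * (v * x * x)) ^ 2 = 1)
    (h6 : (a * v * (v * x * x)) ^ 2 = 1)
    (h4' : (a * v * (v * x)) ^ 2 = 1) (h5' : (v * x * x * (v * x)) ^ 2 = 1)
    (h6' : (v * x * x * (a * v)) ^ 2 = 1)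
    (hv : v = v * x * (v * x * x) * (v * x * x) * (v * x)) (hx : x = v * x * (v * x) * (v * x * x))
    (ha : a = v * x * (v * x) * (v * x * x) * (a * v) * (v * x)) (hne : v * x ≠ 1) :
    Nonempty (closure ({v, x, a} : Set J) ≃* alternatingGroup (Fin 5)) := by
  let f : ℕ → J := fun i => if i = 0 then v * x else if i = 1 then a * v else v * x * x
  have hf0 : f 0 = v * x := rfl
  have hf1 : f 1 = a * v := rfl
  have hf2 : f 2 = v * x * x := rfl
  have hrel : Cfsg.Agent.Lib.AltCarmichael.Rel 3 f := by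
    refine ⟨fun i hi => ?_, fun i hi j hj hij => ?_⟩
    · interval_cases i
      · exact h1
      · exact h2
      · exact h3
    · interval_cases i <;> interval_cases j
      · exact absurd rfl hij
      · exact h4
      · exact h5
      · exact h4'
      · exact absurd rfl hij
      · exact h6
      · exact h5'
      · exact h6'
      · exact absurd rfl hij
  obtain ⟨φ⟩ := Cfsg.Agent.Lib.AltCarmichael.nonempty_gen_equiv (le_refl 3) hrel ⟨0, by norm_num, hne⟩
  have hcl : closure ({v, x, a} : Set J) = Cfsg.Agent.Lib.AltCarmichael.gen 3 f := by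
    have m0 : v * x ∈ Cfsg.Agent.Lib.AltCarmichael.gen 3 f :=
      Cfsg.Agent.Lib.AltCarmichael.mem_gen (x := f) (by norm_num : 0 < 3)
    have m1 : a * v ∈ Cfsg.Agent.Lib.AltCarmichael.gen 3 f :=
      Cfsg.Agent.Lib.AltCarmichael.mem_gen (x := f) (by norm_num : 1 < 3)
    have m2 : v * x * x ∈ Cfsg.Agent.Lib.AltCarmichael.gen 3 f :=
      Cfsg.Agent.Lib.AltCarmichael.mem_gen (x := f) (by norm_num : 2 < 3)
    apply le_antisymm
    · rw [closure_le]
      rintro s (rfl | rfl | rfl)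
      · rw [hv]; exact mul_mem (mul_mem (mul_mem m0 m2) m2) m0
      · rw [hx]; exact mul_mem (mul_mem m0 m0) m2
      · rw [ha]; exact mul_mem (mul_mem (mul_mem (mul_mem m0 m0) m2) m1) m0
    · rw [Cfsg.Agent.Lib.AltCarmichael.gen_def, closure_le]
      have nv : v ∈ closure ({v, x, a} : Set J) := subset_closure (Or.inl rfl)
      have nx : x ∈ closure ({v, x, a} : Set J) := subset_closure (Or.inr (Or.inl rfl))
      have na : a ∈ closure ({v, x, a} : Set J) := subset_closure (Or.inr (Or.inr rfl))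
      rintro s ⟨i, hi, rfl⟩
      interval_cases i
      · exact mul_mem nv nx
      · exact mul_mem na nv
      · exact mul_mem (mul_mem nv nx) nx
  rw [hcl]
  exact ⟨φ⟩

/-- conjugating word -/
def g1 : List ℕ := [4, 3, 2, 3, 4, 3, 2, 3, 1, 2, 3, 4, 0, 1, 2, 3, 2]
/-- conjugating word -/
def g2 : List ℕ := [3, 2, 3, 4, 3, 2, 3, 1, 2, 3, 0, 1, 2, 3, 4, 3, 2, 3]
/-- conjugating word -/
def g3 : List ℕ := [4, 3, 2, 3, 4, 3, 2, 3, 1, 2, 3, 0, 1, 2, 3, 4, 3, 2, 3]
/-- conjugating word -/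
def g4 : List ℕ := [3, 2, 3, 4, 3, 2, 3, 1, 2, 3, 4, 0, 1, 2, 3, 2]
/-- conjugating word -/
def g5 : List ℕ := [3, 2, 3, 4, 3, 2, 3]

theorem eA0 : gw wZ * (gw wL * gw wY) = gw wA0 := by rw [gw_mul, gw_mul]; rfl
theorem eVp : gw wX * gw wV * (gw wX)⁻¹ = gw wVp := by rw [gw_inv, gw_mul, gw_mul]; rfl
theorem eB0 : gw wV * gw wX * gw wA = gw wB0 := by rw [gw_mul, gw_mul]; rfl
theorem eE : (gw wY)⁻¹ * gw wZ * gw wY = gw (wY.reverse ++ wZ ++ wY) := by rw [gw_inv, gw_mul, gw_mul]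

theorem hj : HJ (gw wV) (gw wX) (gw wA) (gw wZ) (gw wY) (gw wL) where
  rels := rels_G
  z1 := by rw [← gw_nil]; exact gw_ne (i := 10) (by norm_num) (by decide +kernel)
  v1 := by rw [← gw_nil]; exact gw_ne (i := 0) (by norm_num) (by decide +kernel)
  a1 := by rw [← gw_nil]; exact gw_ne (i := 0) (by norm_num) (by decide +kernel)
  a5 := by rw [eA0, gw_pow, ← gw_nil]; exact gw_eq (by decide +kernel)
  ane := by rw [eA0, ← gw_nil]; exact gw_ne (i := 0) (by norm_num) (by decide +kernel)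
  b5 := by rw [eB0, gw_pow, ← gw_nil]; exact gw_eq (by decide +kernel)
  bne := by rw [eB0, ← gw_nil]; exact gw_ne (i := 0) (by norm_num) (by decide +kernel)
  vv := by rw [eVp, gw_mul, gw_mul]; exact gw_eq (by decide +kernel)
  vpx := by rw [eVp]; exact gw_ne (i := 0) (by norm_num) (by decide +kernel)
  azl := by rw [eA0, gw_mul, gw_mul]; exact gw_eq (by decide +kernel)
  card := card_G
  gen := HG_top
  centA := by
    rw [eA0, card_centralizer, Set.image_singleton]
    exact card_CA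
  centV := by
    rw [eVp, card_centralizer, Set.image_pair]
    exact card_CV
  centB := by
    rw [eB0, card_centralizer, Set.image_singleton]
    exact card_CB
  centZ := by
    rw [card_centralizer, Set.image_insert_eq, Set.image_pair]
    exact card_CZ
  isoA := by
    refine iso_of_words ?_ ?_ ?_ ?_ ?_ ?_ ?_ ?_ ?_ ?_ ?_ ?_ ?_
    · rw [gw_mul, gw_pow, ← gw_nil]; exact gw_eq (by decide +kernel)
    · rw [gw_mul, gw_pow, ← gw_nil]; exact gw_eq (by decide +kernel)
    · rw [gw_mul, gw_mul, gw_pow, ← gw_nil]; exact gw_eq (by decide +kernel)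
    · simp only [gw_mul, gw_pow, ← gw_nil]; exact gw_eq (by decide +kernel)
    · simp only [gw_mul, gw_pow, ← gw_nil]; exact gw_eq (by decide +kernel)
    · simp only [gw_mul, gw_pow, ← gw_nil]; exact gw_eq (by decide +kernel)
    · simp only [gw_mul, gw_pow, ← gw_nil]; exact gw_eq (by decide +kernel)
    · simp only [gw_mul, gw_pow, ← gw_nil]; exact gw_eq (by decide +kernel)
    · simp only [gw_mul, gw_pow, ← gw_nil]; exact gw_eq (by decide +kernel)
    · simp only [gw_mul]; exact gw_eq (by decide +kernel)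
    · simp only [gw_mul]; exact gw_eq (by decide +kernel)
    · simp only [gw_mul]; exact gw_eq (by decide +kernel)
    · rw [gw_mul, ← gw_nil]; exact gw_ne (i := 10) (by norm_num) (by decide +kernel)
  isoB := by
    refine iso_of_words ?_ ?_ ?_ ?_ ?_ ?_ ?_ ?_ ?_ ?_ ?_ ?_ ?_
    · rw [gw_mul, gw_pow, ← gw_nil]; exact gw_eq (by decide +kernel)
    · rw [gw_mul, gw_pow, ← gw_nil]; exact gw_eq (by decide +kernel)
    · rw [gw_mul, gw_mul, gw_pow, ← gw_nil]; exact gw_eq (by decide +kernel)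
    · simp only [gw_mul, gw_pow, ← gw_nil]; exact gw_eq (by decide +kernel)
    · simp only [gw_mul, gw_pow, ← gw_nil]; exact gw_eq (by decide +kernel)
    · simp only [gw_mul, gw_pow, ← gw_nil]; exact gw_eq (by decide +kernel)
    · simp only [gw_mul, gw_pow, ← gw_nil]; exact gw_eq (by decide +kernel)
    · simp only [gw_mul, gw_pow, ← gw_nil]; exact gw_eq (by decide +kernel)
    · simp only [gw_mul, gw_pow, ← gw_nil]; exact gw_eq (by decide +kernel)
    · simp only [gw_mul]; exact gw_eq (by decide +kernel)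
    · simp only [gw_mul]; exact gw_eq (by decide +kernel)
    · simp only [gw_mul]; exact gw_eq (by decide +kernel)
    · rw [gw_mul, ← gw_nil]; exact gw_ne (i := 0) (by norm_num) (by decide +kernel)
  cj1 := ⟨gw g1, by
    rw [eA0, eB0, gw_pow, gw_inv, gw_mul, gw_mul, gw_mul]; exact gw_eq (by decide +kernel)⟩
  cj2 := ⟨gw g2, by
    rw [eA0, eB0, gw_pow, gw_inv, gw_mul, gw_mul, gw_mul]; exact gw_eq (by decide +kernel)⟩
  cj3 := ⟨gw g3, by
    rw [eA0, eB0, gw_pow, gw_inv, gw_mul, gw_mul, gw_mul]; exact gw_eq (by decide +kernel)⟩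
  cj4 := ⟨gw g4, by
    rw [eA0, eB0, gw_pow, gw_pow, gw_inv, gw_mul, gw_mul, gw_mul]; exact gw_eq (by decide +kernel)⟩
  fus := ⟨gw g5, by
    rw [gw_inv, gw_mul, gw_mul, gw_mul]; exact gw_eq (by decide +kernel), by
    rw [eVp, eE, gw_inv, gw_mul, gw_mul, gw_mul]; exact gw_eq (by decide +kernel)⟩

end J2Inst

/-- every group isomorphic to `J₂` has generators as in `HJ`, up to isomorphism with the group on 100 points -/
theorem exists_equiv_hundred {J : Type*} [Group J] (h : Cfsg.Spor.IsoJ2 J) :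
    Nonempty (J ≃* Cfsg.Agent.SporadicA.J2Hundred.G) := by
  obtain ⟨φ⟩ := h
  obtain ⟨ψ⟩ := Cfsg.Agent.J2.HundredGens.J2_iso Cfsg.Agent.S1619.result.2.2.2
  exact ⟨φ.trans ψ⟩

end Cfsg.Agent.StdG24
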