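import Cfsg.Agent.StdG24.Inv6

/-!
# Every involution of the six-dimensional `G₂(4)` is conjugate into `As` or `Al`
-/

set_option autoImplicit false
set_option linter.constructorNameAsVariable false
set_option linter.unusedVariables false

namespace Cfsg.Agent.StdG24.Cls6

open Cfsg.Agent.SporRec
open Cfsg.Agent.SporRec.GF4
open Cfsg.Agent.SporRec.G24Code (app)
open Cfsg.Agent.SporRec.G24Orb (allb allb_spec)
open Cfsg.Agent.StdG24.Mod6
open Cfsg.Agent.StdG24.Ord6
open Cfsg.Agent.StdG24.Al6
open Cfsg.Agent.StdG24.Cent6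
open Cfsg.Agent.StdG24.Inv6

theorem add_self' (x : Vec) : x + x = 0 := by
  have h : ∀ a : F4, a + a = 0 := by decide
  funext i; exact h _

theorem F4_add_self (a : F4) : a + a = 0 := by revert a; decide

theorem F4_exists_inv {a : F4} (h : a ≠ 0) : ∃ b : F4, b * a = 1 := by revert a; decide

theorem F4_eq_of_add {a b : F4} (h : a + b = 0) : a = b := by revert a b; decide

theorem F4_sq_one {a : F4} (h : a * a = 1) : a = 1 := by revert a; decide

theorem exists_form_one {x : Vec} (hx : x ≠ 0) : ∃ y, form x y = 1 := by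
  by_contra h
  push Not at h
  apply hx
  apply eq_zero_of_form
  intro y
  by_contra hy
  obtain ⟨b, hb⟩ := F4_exists_inv hy
  exact h (b • y) (by rw [form_smul_right, hb])

/-- four linear conditions have a nonzero solution -/
theorem exists_orth (a b c d : Vec) : ∃ r : Vec, r ≠ 0 ∧ form r a = 0 ∧ form r b = 0 ∧ form r c = 0 ∧
    form r d = 0 := by
  let f : Vec → F4 × F4 × F4 × F4 := fun r => (form r a, form r b, form r c, form r d)
  have hcard : Fintype.card (F4 × F4 × F4 × F4) < Fintype.card Vec := by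
    rw [card_Vec, Fintype.card_prod, Fintype.card_prod, Fintype.card_prod, F4.card_F4]
    norm_num
  obtain ⟨x, y, hxy, h⟩ := Fintype.exists_ne_map_eq_of_card_lt f hcard
  refine ⟨x + y, ?_, ?_⟩
  · intro h0
    apply hxy
    funext i
    exact F4_eq_of_add (congrFun h0 i)
  · simp only [f, Prod.mk.injEq] at h
    obtain ⟨h1, h2, h3, h4⟩ := h
    rw [form_add_left, form_add_left, form_add_left, form_add_left, h1, h2, h3, h4]
    exact ⟨F4_add_self _, F4_add_self _, F4_add_self _, F4_add_self _⟩

/-- A vector orthogonal to six vectors with nonsingular Gram matrix is zero. -/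
theorem eq_zero_of_six {p p' x y r s : Vec} (hpp : form p p' = 0) (hpx : form p x = 0)
    (hpy : form p y = 1) (hp'x : form p' x = 1) (hp'y : form p' y = 0)
    (hrp : form r p = 0) (hrp' : form r p' = 0) (hrx : form r x = 0) (hry : form r y = 0)
    (hsp : form s p = 0) (hsp' : form s p' = 0) (hsx : form s x = 0) (hsy : form s y = 0)
    (hrs : form r s = 1) {z : Vec} (h1 : form z p = 0) (h2 : form z p' = 0) (h3 : form z x = 0)
    (h4 : form z y = 0) (h5 : form z r = 0) (h6 : form z s = 0) : z = 0 := by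
  let Φ : (Fin 6 → F4) → Vec := fun c =>
    c 0 • p + (c 1 • p' + (c 2 • x + (c 3 • y + (c 4 • r + c 5 • s))))
  have hF : ∀ (c : Fin 6 → F4) (t : Vec), form (Φ c) t = c 0 * form p t + (c 1 * form p' t + (c 2 * form x t +
      (c 3 * form y t + (c 4 * form r t + c 5 * form s t)))) := by
    intro c t
    simp only [Φ, form_add_left, form_smul_left]
  have hinj : Function.Injective Φ := by
    intro c d h
    have hf : ∀ t, form (Φ c) t = form (Φ d) t := fun t => by rw [h]
    have e3 := hf p
    have e2 := hf p'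
    have e5 := hf r
    have e4 := hf s
    have e1 := hf x
    have e0 := hf y
    rw [hF, hF] at e0 e1 e2 e3 e4 e5
    rw [form_self, form_comm p' p, hpp, form_comm x p, hpx, form_comm y p, hpy, hrp, hsp] at e3
    rw [form_self, hpp, form_comm x p', hp'x, form_comm y p', hp'y, hrp', hsp'] at e2
    rw [form_self, form_comm p r, hrp, form_comm p' r, hrp', form_comm x r, hrx, form_comm y r, hry,
      form_comm s r, hrs] at e5
    rw [form_self, form_comm p s, hsp, form_comm p' s, hsp', form_comm x s, hsx, form_comm y s, hsy,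
      hrs] at e4
    rw [form_self, hpx, hp'x, hrx, hsx] at e1
    rw [form_self, hpy, hp'y, hry, hsy] at e0
    have c3 : c 3 = d 3 := by simpa using e3
    have c2 : c 2 = d 2 := by simpa using e2
    have c5 : c 5 = d 5 := by simpa using e5
    have c4 : c 4 = d 4 := by simpa using e4
    rw [c3] at e1
    rw [c2] at e0
    have c1 : c 1 = d 1 := by simpa using e1
    have c0 : c 0 = d 0 := by simpa using e0
    funext i
    fin_cases i
    · exact c0
    · exact c1
    · exact c2
    · exact c3
    · exact c4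
    · exact c5
  have hsurj : Function.Surjective Φ := Finite.surjective_of_injective hinj
  apply eq_zero_of_form
  intro t
  obtain ⟨c, rfl⟩ := hsurj t
  rw [form_comm, hF, form_comm p z, h1, form_comm p' z, h2, form_comm x z, h3, form_comm y z, h4,
    form_comm r z, h5, form_comm s z, h6]
  ring

/-- An involution with `(x, t x) = 0` for all `x` fixes a hyperbolic pair. -/
theorem exists_pair {t : GL6} (ht : t ∈ L) (htt : t * t = 1) (ht1 : t ≠ 1)
    (hq : ∀ x, form x (act t x) = 0) : ∃ r s : Vec, act t r = r ∧ act t s = s ∧ form r s = 1 := by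
  have tt : ∀ x, act t (act t x) = x := fun x => by rw [← act_mul, htt, act_one]
  have adj : ∀ x y, form (act t x) y = form x (act t y) := fun x y => by
    rw [← form_act ht x (act t y), tt]
  obtain ⟨x, hx⟩ : ∃ x, act t x ≠ x := by
    by_contra h
    push Not at h
    exact ht1 (act_ext fun x => by rw [h x, act_one])
  set p := x + act t x with hp
  have hp0 : p ≠ 0 := by
    intro h
    apply hx
    funext i
    exact (F4_eq_of_add (congrFun h i)).symm
  obtain ⟨y, hpy⟩ := exists_form_one hp0
  set p' := y + act t y with hp'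
  have tp : act t p = p := by rw [hp, act_add, tt, add_comm]
  have tp' : act t p' = p' := by rw [hp', act_add, tt, add_comm]
  have hpx : form p x = 0 := by
    rw [hp, form_add_left, form_self, adj, hq, add_zero]
  have hp'y : form p' y = 0 := by
    rw [hp', form_add_left, form_self, adj, hq, add_zero]
  have hpp : form p p' = 0 := by
    rw [hp', form_add_right, ← adj, tp, F4_add_self]
  have hp'x : form p' x = 1 := by
    rw [form_comm, hp', form_add_right, ← adj, ← form_add_left, hpy]
  have tx : act t x = x + p := by rw [hp, ← add_assoc, add_self', zero_add]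
  have ty : act t y = y + p' := by rw [hp', ← add_assoc, add_self', zero_add]
  obtain ⟨r, hr0, hrp, hrp', hrx, hry⟩ := exists_orth p p' x y
  obtain ⟨s₀, hs₀⟩ := exists_form_one hr0
  -- projection of `s₀`
  set e := form x y with he
  set dl := form s₀ p with hdl
  set ga := form s₀ p' with hga
  set be := form s₀ x + dl * e with hbe
  set al := form s₀ y + ga * e with hal
  obtain ⟨s, hs⟩ : ∃ s, s = s₀ + (al • p + (be • p' + (ga • x + dl • y))) := ⟨_, rfl⟩
  have hF : ∀ t, form s t = form s₀ t + (al * form p t + (be * form p' t + (ga * form x t + dl * form y t))) := by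
    intro t
    rw [hs]
    simp only [form_add_left, form_smul_left]
  have hsp : form s p = 0 := by
    rw [hF, form_self, form_comm p' p, hpp, form_comm x p, hpx, form_comm y p, hpy, ← hdl]
    have h : dl + (al * 0 + (be * 0 + (ga * 0 + dl * 1))) = dl + dl := by ring
    rw [h, F4_add_self]
  have hsp' : form s p' = 0 := by
    rw [hF, form_self, hpp, form_comm x p', hp'x, form_comm y p', hp'y, ← hga]
    have h : ga + (al * 0 + (be * 0 + (ga * 1 + dl * 0))) = ga + ga := by ring
    rw [h, F4_add_self]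
  have hsx : form s x = 0 := by
    rw [hF, form_self, hpx, hp'x, form_comm y x, ← he, hbe]
    have h : form s₀ x + (al * 0 + ((form s₀ x + dl * e) * 1 + (ga * 0 + dl * e))) =
        (form s₀ x + form s₀ x) + (dl * e + dl * e) := by ring
    rw [h, F4_add_self, F4_add_self, add_zero]
  have hsy : form s y = 0 := by
    rw [hF, form_self, hpy, hp'y, ← he, hal]
    have h : form s₀ y + ((form s₀ y + ga * e) * 1 + (be * 0 + (ga * e + dl * 0))) =
        (form s₀ y + form s₀ y) + (ga * e + ga * e) := by ring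
    rw [h, F4_add_self, F4_add_self, add_zero]
  have hrs : form r s = 1 := by
    rw [form_comm, hF, form_comm s₀ r, hs₀, form_comm p r, hrp, form_comm p' r, hrp', form_comm x r, hrx,
      form_comm y r, hry]
    ring
  have key : ∀ {z : Vec}, form z p = 0 → form z p' = 0 → form z x = 0 → form z y = 0 →
      form z r = 0 → form z s = 0 → z = 0 := fun h1 h2 h3 h4 h5 h6 =>
    eq_zero_of_six hpp hpx hpy hp'x hp'y hrp hrp' hrx hry hsp hsp' hsx hsy hrs h1 h2 h3 h4 h5 h6
  -- `r` and `s` are eigenvectors
  have tr : act t r = form (act t r) s • r := by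
    have h : act t r + form (act t r) s • r = 0 := by
      apply key
      · rw [form_add_left, form_smul_left, hrp, adj, tp, hrp]; ring
      · rw [form_add_left, form_smul_left, hrp', adj, tp', hrp']; ring
      · rw [form_add_left, form_smul_left, hrx, adj, tx, form_add_right, hrp, hrx]; ring
      · rw [form_add_left, form_smul_left, hry, adj, ty, form_add_right, hrp', hry]; ring
      · rw [form_add_left, form_smul_left, form_self, form_comm, hq]; ring
      · rw [form_add_left, form_smul_left, hrs, mul_one, F4_add_self]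
    funext i
    exact F4_eq_of_add (congrFun h i)
  have ts : act t s = form (act t s) r • s := by
    have h : act t s + form (act t s) r • s = 0 := by
      apply key
      · rw [form_add_left, form_smul_left, hsp, adj, tp, hsp]; ring
      · rw [form_add_left, form_smul_left, hsp', adj, tp', hsp']; ring
      · rw [form_add_left, form_smul_left, hsx, adj, tx, form_add_right, hsp, hsx]; ring
      · rw [form_add_left, form_smul_left, hsy, adj, ty, form_add_right, hsp', hsy]; ring
      · rw [form_add_left, form_smul_left, form_comm s r, hrs, mul_one, F4_add_self]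
      · rw [form_add_left, form_smul_left, form_self, form_comm, hq]; ring
    funext i
    exact F4_eq_of_add (congrFun h i)
  have one_of : ∀ {c : F4} {z : Vec}, z ≠ 0 → act t z = c • z → c = 1 := by
    intro c z hz h
    have h1 := tt z
    rw [h, act_smul, h, smul_smul] at h1
    apply F4_sq_one
    by_contra hc
    apply hz
    funext i
    have h2 := congrFun h1 i
    rw [Pi.smul_apply, smul_eq_mul] at h2
    have h3 : ∀ a b : F4, a ≠ 1 → a * b = b → b = 0 := by decide
    exact h3 _ _ hc h2
  have hs0 : s ≠ 0 := by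
    rintro rfl
    rw [form_zero_right] at hrs
    exact absurd hrs (by decide)
  refine ⟨r, s, ?_, ?_, hrs⟩
  · have h := one_of hr0 tr
    rw [h, one_smul] at tr
    exact tr
  · have h := one_of hs0 ts
    rw [h, one_smul] at ts
    exact ts

/-- an involution with `(x, t x) = 0` for all `x` is conjugate into `Al` -/
theorem conj_Al {t : GL6} (ht : t ∈ L) (htt : t * t = 1) (hq : ∀ x, form x (act t x) = 0) :
    ∃ g ∈ L, g * t * g⁻¹ ∈ Al := by
  by_cases ht1 : t = 1
  · exact ⟨1, L.one_mem, by rw [ht1]; simp⟩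
  obtain ⟨r, s, hr, hs, hrs⟩ := exists_pair ht htt ht1 hq
  obtain ⟨g, hg, h0, h1⟩ := trans_pair hrs
  refine ⟨g⁻¹, L.inv_mem hg, ?_⟩
  rw [inv_inv]
  refine mem_Al_iff.2 ⟨⟨L.mul_mem (L.mul_mem (L.inv_mem hg) ht) hg, ?_⟩, ?_⟩
  · rw [act_mul, act_mul, h0, hr, ← h0, act_inv_act]
  · rw [act_mul, act_mul, h1, hs, ← h1, act_inv_act]

theorem q_add {t : GL6} (ht : t ∈ L) (htt : t * t = 1) (x y : Vec) :
    form (x + y) (act t (x + y)) = form x (act t x) + form y (act t y) := by
  have adj : form y (act t x) = form x (act t y) := by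
    rw [form_comm, ← form_act ht (act t x) y, ← act_mul, htt, act_one]
  rw [act_add, form_add_left, form_add_right, form_add_right, adj]
  have h : form x (act t x) + form x (act t y) + (form x (act t y) + form y (act t y)) =
      form x (act t x) + form y (act t y) + (form x (act t y) + form x (act t y)) := by ring
  rw [h, F4_add_self, add_zero]

/-- it is enough to know the quadratic form on a basis -/
theorem q_of_basis {t : GL6} (ht : t ∈ L) (htt : t * t = 1)
    (h : ∀ i < 6, form (dec (4 ^ i)) (act t (dec (4 ^ i))) = 0) (x : Vec) :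
    form x (act t x) = 0 := by
  have hs : ∀ (c : F4) (y : Vec), form y (act t y) = 0 → form (c • y) (act t (c • y)) = 0 := by
    intro c y hy
    rw [act_smul, form_smul_left, form_smul_right, hy]; ring
  have hx : x = ∑ i : Fin 6, x i • dec (4 ^ (i : ℕ)) := by
    have hd : ∀ i : Fin 6, dec (4 ^ (i : ℕ)) = Pi.single i 1 := by
      intro i
      have e : (4 : ℕ) ^ (i : ℕ) = 2 ^ (2 * (i : ℕ)) := by
        rw [pow_mul]; norm_num
      rw [e, dec_even]
    funext j
    rw [Finset.sum_apply, Finset.sum_eq_single j]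
    · rw [hd, Pi.smul_apply, Pi.single_eq_same, smul_eq_mul, mul_one]
    · intro i _ hi
      rw [hd, Pi.smul_apply, Pi.single_eq_of_ne (Ne.symm hi), smul_zero]
    · intro h; exact absurd (Finset.mem_univ _) h
  rw [hx]
  have key : ∀ S : Finset (Fin 6), form (∑ i ∈ S, x i • dec (4 ^ (i : ℕ)))
      (act t (∑ i ∈ S, x i • dec (4 ^ (i : ℕ)))) = 0 := by
    intro S
    induction S using Finset.induction_on with
    | empty => rw [Finset.sum_empty, form_zero_left]
    | insert i S hi ih =>
      rw [Finset.sum_insert hi, q_add ht htt, ih, hs _ _ (h i i.isLt), add_zero]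
  exact key _

/-! ### The second class -/

/-- the involution of `As` exchanging `e0` and `e1` -/
def sE : GL6 := ev [(2, 0), (9, 0), (2, 0)]

theorem sE_mem : sE ∈ As := ev_mem_As (by decide)

theorem s_check : app (cw [(2, 0), (9, 0), (2, 0)]) 1 = 1024 ∧ app (cw [(2, 0), (9, 0), (2, 0)]) 1024 = 1 := by
  decide +kernel

theorem act_s0 : act sE e0 = e1 := ((isCode_ev _).app_eq_iff (by norm_num) (by norm_num)).2 s_check.1
theorem act_s1 : act sE e1 = e0 := ((isCode_ev _).app_eq_iff (by norm_num) (by norm_num)).2 s_check.2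

/-- involutions of `L` are conjugate into `Al` or to an element `s a` -/
theorem dichotomy {t : GL6} (ht : t ∈ L) (htt : t * t = 1) :
    (∃ g ∈ L, g * t * g⁻¹ ∈ Al) ∨ ∃ g ∈ L, ∃ a ∈ Al, g * t * g⁻¹ = sE * a := by
  by_cases hq : ∀ x, form x (act t x) = 0
  · exact Or.inl (conj_Al ht htt hq)
  right
  push Not at hq
  obtain ⟨x₀, hx₀⟩ := hq
  obtain ⟨x, hx⟩ : ∃ x, form x (act t x) = 1 := by
    have h : ∀ a : F4, a ≠ 0 → ∃ c : F4, c * (c * a) = 1 := by decide
    obtain ⟨c, hc⟩ := h _ hx₀
    exact ⟨c • x₀, by rw [act_smul, form_smul_left, form_smul_right, hc]⟩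
  obtain ⟨g, hg, h0, h1⟩ := trans_pair hx
  refine ⟨g⁻¹, L.inv_mem hg, sE⁻¹ * (g⁻¹ * t * g), ?_, ?_⟩
  · refine mem_Al_iff.2 ⟨⟨L.mul_mem (L.inv_mem (As_le sE_mem))
      (L.mul_mem (L.mul_mem (L.inv_mem hg) ht) hg), ?_⟩, ?_⟩
    · rw [act_mul, act_mul, act_mul, h0, ← h1, act_inv_act, ← act_s0, act_inv_act]
    · rw [act_mul, act_mul, act_mul, h1, ← act_mul t t, htt, act_one, ← h0, act_inv_act, ← act_s1, act_inv_act]
  · rw [inv_inv, mul_inv_cancel_left]

/-! ### Involutions in the two `A₅` -/

def invOk (T : List (List ℕ × List ℕ)) (W : List ℕ) : Bool :=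
  T.all fun y => eqC y.1 idC || !(eqC (mulC y.1 y.1) idC) ||
    (T.any fun q => eqC (mulC q.1 (mulC y.1 q.2)) W)

theorem invOk_Al : invOk ALT (xc 6 0) = true := by decide +kernel
theorem invOk_As : invOk AST (xc 9 0) = true := by decide +kernel

theorem inv_aux (H : Subgroup GL6) (T : List (List ℕ × List ℕ)) (z : GL6) (W : List ℕ)
    (hW : IsCode (z : Mat) W) (hcod : ∀ g ∈ H, ∃ e ∈ T, Cod g e) (helt : ∀ e ∈ T, ∃ g ∈ H, Cod g e)
    (h1 : invOk T W = true) {a : GL6} (ha : a ∈ H) (haa : a * a = 1) (ha1 : a ≠ 1) :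
    ∃ c ∈ H, c * a * c⁻¹ = z := by
  obtain ⟨e, he, hae⟩ := hcod a ha
  have c := List.all_eq_true.1 h1 e he
  rw [Bool.or_eq_true, Bool.or_eq_true, eqC_iff, Bool.not_eq_true'] at c
  rcases c with (c | c) | c
  · exact absurd ((eq_one_iff hae.1).2 c) ha1
  · exfalso
    have h4 := (eq_one_iff (isCode_mul' hae.1 hae.1)).1 haa
    rw [h4] at c
    exact absurd c (by decide)
  · obtain ⟨q, hq, c⟩ := List.any_eq_true.1 c
    obtain ⟨g, hg, hgq⟩ := helt q hq
    refine ⟨g, hg, ?_⟩
    rw [eqC_iff] at c
    have hcode : IsCode ((g * (a * g⁻¹) : GL6) : Mat) W := by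
      rw [← c]
      exact isCode_mul' hgq.1 (isCode_mul' hae.1 hgq.2)
    rw [mul_assoc]
    exact Units.ext (hcode.mat_eq hW)

theorem inv_conj_Al {a : GL6} (ha : a ∈ Al) (haa : a * a = 1) (ha1 : a ≠ 1) :
    ∃ c ∈ Al, c * a * c⁻¹ = zE :=
  inv_aux Al ALT zE (xc 6 0) (isCode_gx 6 0) (fun _ h => exists_cod_Al h)
    (fun _ h => exists_elt_Al h) invOk_Al ha haa ha1

theorem inv_conj_As {a : GL6} (ha : a ∈ As) (haa : a * a = 1) (ha1 : a ≠ 1) :
    ∃ c ∈ As, c * a * c⁻¹ = vE :=
  inv_aux As AST vE (xc 9 0) (isCode_gx 9 0) (fun _ h => exists_cod_As h)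
    (fun _ h => exists_elt_As h) invOk_As ha haa ha1

theorem sE_sq : sE * sE = 1 := by
  rw [sE, ← ev_append]
  exact ev_eq_one_of (by decide +kernel)

theorem sz_check : cw ([(8, 0), (4, 0)] ++ [(2, 0), (9, 0), (2, 0), (6, 0)] ++ [(4, 0), (8, 0)]) =
    cw [(2, 0), (9, 0), (2, 0)] := by decide +kernel

theorem sz_conj : ∃ g ∈ L, g * (sE * zE) * g⁻¹ = sE := by
  refine ⟨ev [(8, 0), (4, 0)], ev_mem _, ?_⟩
  have h := ev_eq_of sz_check
  rw [ev_append, ev_append] at h
  have h1 : (ev [(8, 0), (4, 0)])⁻¹ = ev [(4, 0), (8, 0)] := (ev_reverse [(8, 0), (4, 0)]).symm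
  have h2 : sE * zE = ev [(2, 0), (9, 0), (2, 0), (6, 0)] := by
    have h3 : zE = ev [(6, 0)] := (ev_singleton (6, 0)).symm
    rw [h3, sE, ← ev_append]; rfl
  rw [h1, h2]
  exact h

/-- (F4) every involution of `L` is conjugate to `z` or to `v` -/
theorem conj_z_or_v {t : GL6} (ht : t ∈ L) (htt : t * t = 1) (ht1 : t ≠ 1) :
    (∃ g ∈ L, g * t * g⁻¹ = zE) ∨ ∃ g ∈ L, g * t * g⁻¹ = vE := by
  rcases dichotomy ht htt with ⟨g, hg, h⟩ | ⟨g, hg, a, ha, h⟩
  · left
    obtain ⟨c, hc, hcz⟩ := inv_conj_Al h (by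
      have : g * t * g⁻¹ * (g * t * g⁻¹) = g * (t * t) * g⁻¹ := by group
      rw [this, htt]; group) (fun h => ht1 (by
        have h2 : t = g⁻¹ * (g * t * g⁻¹) * g := by group
        rw [h2, h]; group))
    exact ⟨c * g, L.mul_mem (Al_le hc) hg, by rw [← hcz]; group⟩
  · right
    have hcomm : a * sE = sE * a := comm_Al_As ha sE_mem
    have haa : a * a = 1 := by
      have h1 : g * t * g⁻¹ * (g * t * g⁻¹) = g * (t * t) * g⁻¹ := by group
      rw [htt, h] at h1
      have h2 : sE * a * (sE * a) = (sE * sE) * (a * a) := by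
        rw [mul_assoc, ← mul_assoc a, hcomm]; group
      rw [h2, sE_sq, one_mul] at h1
      rw [h1]; group
    -- conjugate to `sE`
    obtain ⟨k, hk, hks⟩ : ∃ k ∈ L, k * (sE * a) * k⁻¹ = sE := by
      by_cases ha1 : a = 1
      · exact ⟨1, L.one_mem, by rw [ha1]; group⟩
      · obtain ⟨c, hc, hcz⟩ := inv_conj_Al ha haa ha1
        obtain ⟨d, hd, hdz⟩ := sz_conj
        refine ⟨d * c, L.mul_mem hd (Al_le hc), ?_⟩
        have h1 : c * sE = sE * c := comm_Al_As hc sE_mem
        have h2 : c * (sE * a) * c⁻¹ = sE * zE := by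
          rw [← hcz, ← mul_assoc c, h1]; group
        calc d * c * (sE * a) * (d * c)⁻¹ = d * (c * (sE * a) * c⁻¹) * d⁻¹ := by group
          _ = sE := by rw [h2, hdz]
    obtain ⟨c, hc, hcv⟩ := inv_conj_As sE_mem sE_sq (fun h => by
      have := act_s0
      rw [h, act_one] at this
      exact absurd this (by decide +kernel))
    refine ⟨c * k * g, L.mul_mem (L.mul_mem (As_le hc) hk) hg, ?_⟩
    calc c * k * g * t * (c * k * g)⁻¹ = c * (k * (g * t * g⁻¹) * k⁻¹) * c⁻¹ := by group
      _ = vE := by rw [h, hks, hcv]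

end Cfsg.Agent.StdG24.Cls6
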