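import Cfsg.Agent.StdG24.GenJ

/-!
# The subgroups `N`, `Q`, `X₉` of the group on 416 points
-/

set_option autoImplicit false

namespace Cfsg.Agent.StdG24.QDef

open Cfsg.Agent.StdG24.Words Cfsg.Agent.StdG24.GenJ

/-- `N = ⟨X₁₀, X₁₁⟩ = 2⁴ = O₂(C(v)'s part)` -/
noncomputable def NB : Subgroup L0 := Subgroup.closure {X 10 0, X 10 1, X 11 0, X 11 1}

/-- `Q = ⟨X₇, X₈, X₉, X₁₀, X₁₁⟩` of order `4⁵` -/
noncomputable def QB : Subgroup L0 :=
  Subgroup.closure {X 7 0, X 7 1, X 8 0, X 8 1, X 9 0, X 9 1, X 10 0, X 10 1, X 11 0, X 11 1}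

/-- the root group of the involution `v = X 9 0` -/
noncomputable def XB : Subgroup L0 := Subgroup.closure {X 9 0, X 9 1}

end Cfsg.Agent.StdG24.QDef
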