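import Mathlib
import Cfsg.Agent.StdG24.Basic

/-!
# Steps 3, 4, 5 (helper823, R14 #4198)
-/

set_option autoImplicit false

namespace Cfsg.Agent.StdG24

open Subgroup
open scoped commutatorElement

variable {L : Type*} [Group L] {G : Type*} [Group G] {D : Data L} {e : L →* G}

theorem exists_of_comm_w (F : Facts D) (h : Emb e) {m : G} (hm : m ∈ MM e)
    (hc : m * e D.w = e D.w * m) : ∃ k ∈ KK e, ∃ i : ℕ, ∃ c ∈ D.As, m = k * e (D.w ^ i * c) := by
  obtain ⟨α, hα⟩ := h.exists_aut hm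
  have h1 : α D.w = D.w := h.inj (by rw [hα, hc]; group)
  obtain ⟨i, c, hcA, h2⟩ := F.aut_w α h1
  refine ⟨_, Emb.mem_of_aut (m := m) (t := D.w ^ i * c) fun x => ?_, i, c, hcA, by group⟩
  rw [← hα, h2]

theorem exists_of_comm_u (F : Facts D) (h : Emb e) {m : G} (hm : m ∈ MM e)
    (hc : m * e D.u = e D.u * m) : ∃ k ∈ KK e, ∃ i : ℕ, ∃ c ∈ D.Al, m = k * e (D.u ^ i * c) := by
  obtain ⟨α, hα⟩ := h.exists_aut hm
  have h1 : α D.u = D.u := h.inj (by rw [hα, hc]; group)
  obtain ⟨i, c, hcA, h2⟩ := F.aut_u α h1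
  refine ⟨_, Emb.mem_of_aut (m := m) (t := D.u ^ i * c) fun x => ?_, i, c, hcA, by group⟩
  rw [← hα, h2]

theorem eq_one_of_mul_sq {k : G} {x : L} (h : Emb e) (hk : k ∈ KK e) {n : ℕ}
    (h1 : (k * e x) ^ n = 1) : k ^ n = 1 ∧ x ^ n = 1 := by
  have hcomm : Commute k (e x) := mem_KK.1 hk x
  rw [hcomm.mul_pow] at h1
  have h2 : x ^ n = 1 := by
    apply h.disj
    rw [map_pow, ← inv_eq_of_mul_eq_one_right h1]
    exact inv_mem (pow_mem hk n)
  refine ⟨?_, h2⟩
  rw [← map_pow, h2, map_one, mul_one] at h1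
  exact h1

/-- elements of order 5 of `M` lie in `K × A` -/
theorem exists_of_five (F : Facts D) (h : Emb e) {m : G} (hm : m ∈ MM e) (h5 : m ^ 5 = 1) :
    ∃ k ∈ KK e, ∃ d : L, m = k * e d ∧ d ^ 5 = 1 ∧ k ^ 5 = 1 := by
  obtain ⟨α, hα⟩ := h.exists_aut (pow_mem hm 3)
  obtain ⟨c, hc⟩ := F.sq α
  have h6 : m = m ^ 3 * m ^ 3 := by
    rw [← pow_add, show 3 + 3 = 5 + 1 from rfl, pow_add, h5, one_mul, pow_one]
  have h1 : ∀ x, m * e x * m⁻¹ = e (c * x * c⁻¹) := by
    intro x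
    rw [← hc, hα, hα]
    calc m * e x * m⁻¹ = (m ^ 3 * m ^ 3) * e x * (m ^ 3 * m ^ 3)⁻¹ := by rw [← h6]
      _ = m ^ 3 * (m ^ 3 * e x * (m ^ 3)⁻¹) * (m ^ 3)⁻¹ := by group
  have h2 := Emb.mem_of_aut h1
  have h3 : m = m * (e c)⁻¹ * e c := by group
  have h4 : (m * (e c)⁻¹ * e c) ^ 5 = 1 := by rw [← h3, h5]
  obtain ⟨h5', h6'⟩ := eq_one_of_mul_sq h h2 h4
  exact ⟨_, h2, c, h3, h6', h5'⟩

theorem comm_uAl (F : Facts D) {a : L} (ha : a ∈ D.Al) : D.u * a = a * D.u := F.comm _ F.uAs _ ha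

theorem comm_wAs (F : Facts D) {a : L} (ha : a ∈ D.As) : D.w * a = a * D.w :=
  (F.comm _ ha _ F.wAl).symm

/-- hypothesis (n) for `u` -/
def NU (D : Data L) (e : L →* G) : Prop :=
  ∀ g, g * e D.u = e D.u * g → ∀ a ∈ D.Al, ∃ b ∈ D.Al, g * e a * g⁻¹ = e b

theorem NU.cjh (h : NU D e) (p : G) : NU D (cjh p e) := by
  intro g hg a ha
  simp only [cjh_apply] at hg ⊢
  obtain ⟨b, hb, h1⟩ := h (p⁻¹ * g * p) (by
    calc p⁻¹ * g * p * e D.u = p⁻¹ * (g * (p * e D.u * p⁻¹)) * p := by group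
      _ = p⁻¹ * (p * e D.u * p⁻¹ * g) * p := by rw [hg]
      _ = e D.u * (p⁻¹ * g * p) := by group) a ha
  refine ⟨b, hb, ?_⟩
  rw [← h1]; group

/-- Step 4 for `y ∈ Al`. -/
theorem a0_aux (F : Facts D) (h : Emb e) (hn : NU D e) {v : G} (hv : v ∈ KK e) (v1 : v ≠ 1)
    (v2 : v * v = 1) {y : L} (hy : y ∈ D.Al) (y1 : y ≠ 1) (y2 : y * y = 1) (p : G)
    (hp : v * e y ∈ KK (cjh p e)) : False := by
  have h' := h.cjh p
  set e' : L →* G := cjh p e with he'
  have hvy : v * e y = e y * v := mem_KK.1 hv y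
  have hx1 : v * e y ≠ 1 := by
    intro hx
    apply y1
    apply h.disj
    rw [← inv_eq_of_mul_eq_one_right hx]
    exact inv_mem hv
  have hx2 : v * e y * (v * e y) = 1 := by
    calc v * e y * (v * e y) = v * (e y * v) * e y := by group
      _ = (v * v) * e (y * y) := by rw [← hvy, map_mul]; group
      _ = 1 := by rw [v2, y2, map_one, mul_one]
  have huy : D.u * y = y * D.u := comm_uAl F hy
  have hux : e D.u * (v * e y) = v * e y * e D.u := by
    calc e D.u * (v * e y) = (e D.u * v) * e y := by group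
      _ = v * e (D.u * y) := by rw [← mem_KK.1 hv D.u, map_mul]; group
      _ = v * e y * e D.u := by rw [huy, map_mul]; group
  have huM : e D.u ∈ MM e' := h'.nrm hp hx1 hx2 hux
  obtain ⟨k', hk', d, hud, hd5, -⟩ := exists_of_five F h' huM (by rw [← map_pow, F.u5, map_one])
  obtain ⟨B, hBd, hBp, hB1, hBg⟩ := F.exB d hd5
  -- the image of `B` commutes with `e u`, `x`
  have hBu : ∀ b ∈ B, e' b * e D.u = e D.u * e' b := by
    intro b hb
    rw [hud]
    calc e' b * (k' * e' d) = (e' b * k') * e' d := by group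
      _ = k' * e' (b * d) := by rw [← mem_KK.1 hk' b, map_mul]; group
      _ = k' * e' d * e' b := by rw [hBd b hb, map_mul]; group
  have hBx : ∀ b ∈ B, e' b * (v * e y) = v * e y * e' b := fun b _ => (mem_KK.1 hp b).symm
  have hBy : ∀ b ∈ B, e' b * e y = e y * e' b := by
    intro b hb
    have hg1 : e' b * e D.u = e D.u * e' b := hBu b hb
    have hg2 : (e' b)⁻¹ * e D.u = e D.u * (e' b)⁻¹ := by
      calc (e' b)⁻¹ * e D.u = (e' b)⁻¹ * (e D.u * e' b) * (e' b)⁻¹ := by group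
        _ = (e' b)⁻¹ * (e' b * e D.u) * (e' b)⁻¹ := by rw [hg1]
        _ = e D.u * (e' b)⁻¹ := by group
    obtain ⟨y', hy', hyy⟩ := hn _ hg1 y hy
    have h1 : y'⁻¹ * y = 1 := by
      apply F.centAl _ (mul_mem (inv_mem hy') hy)
      intro a ha
      obtain ⟨a', ha', haa⟩ := hn _ hg2 a ha
      rw [inv_inv] at haa
      have h2 : e' b * e a' * (e' b)⁻¹ = e a := by rw [← haa]; group
      have h3 : e (y * a * y⁻¹) = e (y' * a * y'⁻¹) := by
        have h4 : e (y * a * y⁻¹) = v * e y * e a * (v * e y)⁻¹ := by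
          rw [map_mul, map_mul, map_inv]
          calc e y * e a * (e y)⁻¹ = e (y * a * y⁻¹) := by rw [map_mul, map_mul, map_inv]
            _ = v * e (y * a * y⁻¹) * v⁻¹ := by rw [mem_KK.1 hv]; group
            _ = v * e y * e a * (v * e y)⁻¹ := by rw [map_mul, map_mul, map_inv]; group
        have h4' : e (y * a' * y⁻¹) = v * e y * e a' * (v * e y)⁻¹ := by
          rw [map_mul, map_mul, map_inv]
          calc e y * e a' * (e y)⁻¹ = e (y * a' * y⁻¹) := by rw [map_mul, map_mul, map_inv]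
            _ = v * e (y * a' * y⁻¹) * v⁻¹ := by rw [mem_KK.1 hv]; group
            _ = v * e y * e a' * (v * e y)⁻¹ := by rw [map_mul, map_mul, map_inv]; group
        have hcx := hBx b hb
        calc e (y * a * y⁻¹) = v * e y * (e' b * e a' * (e' b)⁻¹) * (v * e y)⁻¹ := by rw [h4, h2]
          _ = (v * e y * e' b) * e a' * (v * e y * e' b)⁻¹ := by group
          _ = e' b * (v * e y * e a' * (v * e y)⁻¹) * (e' b)⁻¹ := by rw [← hcx]; group
          _ = e' b * e (y * a' * y⁻¹) * (e' b)⁻¹ := by rw [h4']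
          _ = (e' b * e y * (e' b)⁻¹) * (e' b * e a' * (e' b)⁻¹) * (e' b * e y * (e' b)⁻¹)⁻¹ := by
              rw [map_mul, map_mul, map_inv]; group
          _ = e (y' * a * y'⁻¹) := by rw [hyy, h2, map_mul, map_mul, map_inv]
      have h5 := h.inj h3
      calc y'⁻¹ * y * a = y'⁻¹ * (y * a * y⁻¹) * y := by group
        _ = y'⁻¹ * (y' * a * y'⁻¹) * y := by rw [h5]
        _ = a * (y'⁻¹ * y) := by group
    have h2 : y' = y := by
      calc y' = y' * (y'⁻¹ * y) := by rw [h1, mul_one]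
        _ = y := by group
    rw [h2] at hyy
    calc e' b * e y = (e' b * e y * (e' b)⁻¹) * e' b := by group
      _ = e y * e' b := by rw [hyy]
  have hBv : ∀ b ∈ B, e' b * v = v * e' b := by
    intro b hb
    have h1 := hBx b hb
    have h2 := hBy b hb
    calc e' b * v = e' b * (v * e y) * (e y)⁻¹ := by group
      _ = v * (e y * e' b) * (e y)⁻¹ := by rw [h1]; group
      _ = v * e' b := by rw [← h2]; group
  have hBM : ∀ b ∈ B, e' b ∈ MM e := fun b hb => h.nrm hv v1 v2 (hBv b hb)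
  -- `e' B ≤ K`
  have hBK : ∀ b ∈ B, e' b ∈ KK e := by
    have hform : ∀ b ∈ B, ∃ k ∈ KK e, ∃ i : ℕ, ∃ c ∈ D.Al, c * y = y * c ∧
        e' b = k * e (D.u ^ i * c) := by
      intro b hb
      obtain ⟨k, hk, i, c, hc, hbk⟩ := exists_of_comm_u F h (hBM b hb) (hBu b hb)
      refine ⟨k, hk, i, c, hc, ?_, hbk⟩
      have h1 := hBy b hb
      rw [hbk] at h1
      have h2 : e (D.u ^ i * c * y) = e (y * (D.u ^ i * c)) := by
        rw [map_mul, map_mul e y]
        calc e (D.u ^ i * c) * e y = k⁻¹ * (k * e (D.u ^ i * c) * e y) := by group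
          _ = k⁻¹ * (e y * (k * e (D.u ^ i * c))) := by rw [h1]
          _ = k⁻¹ * (e y * k) * e (D.u ^ i * c) := by group
          _ = k⁻¹ * (k * e y) * e (D.u ^ i * c) := by rw [mem_KK.1 hk]
          _ = e y * e (D.u ^ i * c) := by group
      have h3 := h.inj h2
      have h4 : D.u ^ i * y = y * D.u ^ i := (Commute.pow_left (a := D.u) (b := y) huy i)
      have h5 : D.u ^ i * (c * y) = D.u ^ i * (y * c) := by
        calc D.u ^ i * (c * y) = D.u ^ i * c * y := by group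
          _ = y * (D.u ^ i * c) := h3
          _ = (y * D.u ^ i) * c := by group
          _ = D.u ^ i * (y * c) := by rw [← h4]; group
      exact mul_left_cancel h5
    have hle : ⁅B, B⁆ ≤ (KK e).comap e' := by
      rw [commutator_le]
      intro b1 hb1 b2 hb2
      obtain ⟨k1, hk1, i, c1, hc1, hcy1, h1⟩ := hform b1 hb1
      obtain ⟨k2, hk2, j, c2, hc2, hcy2, h2⟩ := hform b2 hb2
      have hcc : c1 * c2 = c2 * c1 := F.abelAl y hy y1 y2 c1 hc1 c2 hc2 hcy1 hcy2
      have hcomm : Commute (D.u ^ i * c1) (D.u ^ j * c2) := by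
        have hu1 : Commute (D.u ^ i) (D.u ^ j) := (Commute.refl D.u).pow_pow i j
        have hu2 : Commute (D.u ^ i) c2 := Commute.pow_left (comm_uAl F hc2) i
        have hu3 : Commute c1 (D.u ^ j) := (Commute.pow_left (comm_uAl F hc1) j).symm
        have hu4 : Commute c1 c2 := hcc
        exact (hu1.mul_right hu2).mul_left (hu3.mul_right hu4)
      rw [mem_comap, map_commutatorElement, h1, h2]
      have hc3 : Commute (e (D.u ^ i * c1)) (e (D.u ^ j * c2)) := hcomm.map e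
      have hk1' : ∀ x, Commute k1 (e x) := mem_KK.1 hk1
      have hk2' : ∀ x, Commute k2 (e x) := mem_KK.1 hk2
      have h6 : ⁅k1 * e (D.u ^ i * c1), k2 * e (D.u ^ j * c2)⁆ = ⁅k1, k2⁆ := by
        set t1 := e (D.u ^ i * c1)
        set t2 := e (D.u ^ j * c2)
        have a1 : Commute k1 t1 := hk1' _
        have a2 : Commute k1 t2 := hk1' _
        have a3 : Commute k2 t1 := hk2' _
        have a4 : Commute k2 t2 := hk2' _
        rw [commutatorElement_def, commutatorElement_def]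
        calc k1 * t1 * (k2 * t2) * (k1 * t1)⁻¹ * (k2 * t2)⁻¹
            = k1 * (t1 * k2) * t2 * t1⁻¹ * k1⁻¹ * t2⁻¹ * k2⁻¹ := by group
          _ = k1 * k2 * (t1 * t2) * t1⁻¹ * k1⁻¹ * t2⁻¹ * k2⁻¹ := by rw [← a3.eq]; group
          _ = k1 * k2 * t2 * k1⁻¹ * t2⁻¹ * k2⁻¹ := by rw [hc3.eq]; group
          _ = k1 * k2 * (t2 * k1⁻¹) * t2⁻¹ * k2⁻¹ := by group
          _ = k1 * k2 * k1⁻¹ * k2⁻¹ := by rw [← (a2.inv_left).eq]; group
      rw [h6]
      exact (KK e).mul_mem ((KK e).mul_mem ((KK e).mul_mem hk1 hk2) (inv_mem hk1)) (inv_mem hk2)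
    intro b hb
    exact hle (hBp hb)
  -- `e' L ≤ M`
  have hLM : ∀ x : L, e' x ∈ MM e := by
    have h1 : closure {x : L | ∃ a ∈ B, a ≠ 1 ∧ a * a = 1 ∧ x * a = a * x} ≤ (MM e).comap e' := by
      rw [closure_le]
      rintro x ⟨a, ha, ha1, ha2, hxa⟩
      change e' x ∈ MM e
      refine h.nrm (hBK a ha) ?_ ?_ ?_ (k := e' a)
      · intro h2
        exact ha1 (h'.inj (by rw [h2, map_one]))
      · rw [← map_mul, ha2, map_one]
      · rw [← map_mul, ← map_mul, hxa]
    rw [hBg] at h1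
    intro x
    exact h1 (mem_top x)
  have hnorm : ((KK e).comap e').Normal := by
    refine ⟨fun x hx g => ?_⟩
    rw [mem_comap] at hx ⊢
    rw [map_mul, map_mul, map_inv]
    exact Emb.conj_KK (hLM g) hx
  rcases F.simple _ hnorm with h1 | h1
  · apply hB1
    rw [eq_bot_iff, ← h1]
    intro b hb
    exact hBK b hb
  · apply h.ncomm p
    intro x z
    have h2 : e' z ∈ KK e := by
      have : z ∈ (KK e).comap e' := by rw [h1]; trivial
      exact this
    exact (mem_KK.1 h2 x).symm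

/-- **Step 4**: if (n) holds for `u`, then `v e(y)`, `v` an involution of `K`, `y` an involution of `L` conjugate
into `Al`, is in no conjugate of `K`. -/
theorem a0 (F : Facts D) (h : Emb e) (hn : NU D e) {v : G} (hv : v ∈ KK e) (v1 : v ≠ 1)
    (v2 : v * v = 1) {y : L} (hy : ∃ l, l * y * l⁻¹ ∈ D.Al) (y1 : y ≠ 1) (y2 : y * y = 1) (p : G)
    (hp : v * e y ∈ KK (cjh p e)) : False := by
  obtain ⟨l, hl⟩ := hy
  refine a0_aux F h hn hv v1 v2 hl ?_ ?_ (e l * p) ?_
  · intro h1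
    apply y1
    rw [show y = l⁻¹ * (l * y * l⁻¹) * l by group, h1]; group
  · rw [show l * y * l⁻¹ * (l * y * l⁻¹) = l * (y * y) * l⁻¹ by group, y2]; group
  · rw [mem_KK_cjh] at hp ⊢
    have h1 : (e l * p)⁻¹ * (v * e (l * y * l⁻¹)) * (e l * p) = p⁻¹ * (v * e y) * p := by
      rw [map_mul, map_mul, map_inv]
      calc (e l * p)⁻¹ * (v * (e l * e y * (e l)⁻¹)) * (e l * p)
          = p⁻¹ * ((e l)⁻¹ * (v * e l)) * e y * p := by group
        _ = p⁻¹ * (v * e y) * p := by rw [mem_KK.1 hv]; group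
    rw [h1]
    exact hp

end Cfsg.Agent.StdG24
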