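import Mathlib
import Cfsg.Agent.StdG24.Local
import Cfsg.Agent.Involutions.KleinFourSylow

/-!
# Standard `G₂(4)`, step 7: (n) for `u` and (J) for `w` is impossible

`X` is a short root group `≤ As`, `W₀ = Wof w v = N ⋊ Al`, `N = O₂(W₀)`, `Q = C_L(N)`.
-/

set_option autoImplicit false

namespace Cfsg.Agent.StdG24.StepSevenN

open Subgroup

section General

variable {H : Type*} [Group H]

/-- Burnside fusion modulo a normal subgroup `N` with `S / N` abelian. -/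
theorem burnside_mod [Finite H] (S : Sylow 2 H) (N : Subgroup H) [N.Normal] (hN : N ≤ (S : Subgroup H))
    (hab : ∀ a ∈ S, ∀ b ∈ S, a * b * a⁻¹ * b⁻¹ ∈ N) {a b c : H} (ha : a ∈ S) (hb : b ∈ S)
    (hc : c * a * c⁻¹ = b) : ∃ n, (∀ s ∈ S, n * s * n⁻¹ ∈ S) ∧ ∃ y ∈ N, n * a * n⁻¹ = b * y := by
  have : Fact (Nat.Prime 2) := ⟨Nat.prime_two⟩
  set π : H →* H ⧸ N := QuotientGroup.mk' N with hπ
  have hs : Function.Surjective π := QuotientGroup.mk'_surjective N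
  have hπ1 : ∀ y, π y = 1 ↔ y ∈ N := fun y => by
    rw [hπ, QuotientGroup.mk'_apply, QuotientGroup.eq_one_iff]
  set P : Sylow 2 (H ⧸ N) := S.mapSurjective hs with hP
  have memP : ∀ x, x ∈ P ↔ ∃ s ∈ S, π s = x := by
    intro x
    show x ∈ (P : Subgroup (H ⧸ N)) ↔ _
    rw [hP, Sylow.coe_mapSurjective]
    exact Iff.rfl
  have hlift : ∀ x, π x ∈ P → x ∈ S := by
    intro x hx
    obtain ⟨s, hs, h1⟩ := (memP _).1 hx
    have h2 : s⁻¹ * x ∈ N := by rw [← hπ1, map_mul, map_inv, h1, inv_mul_cancel]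
    have h3 : x = s * (s⁻¹ * x) := by group
    rw [h3]
    exact mul_mem hs (hN h2)
  obtain ⟨n, hn, hn2⟩ := Involutions.KleinFourSylow.exists_normalizer_conj 2 P (a := π a) (b := π b)
    (by
      intro x hx y hy
      obtain ⟨s, hs, rfl⟩ := (memP _).1 hx
      obtain ⟨t, ht, rfl⟩ := (memP _).1 hy
      have h1 := (hπ1 _).2 (hab s hs t ht)
      rw [map_mul, map_mul, map_mul, map_inv, map_inv] at h1
      calc π s * π t = (π s * π t * (π s)⁻¹ * (π t)⁻¹) * (π t * π s) := by group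
        _ = π t * π s := by rw [h1, one_mul])
    ((memP _).2 ⟨a, ha, rfl⟩) ((memP _).2 ⟨b, hb, rfl⟩)
    (isConj_iff.2 ⟨π c, by rw [← map_mul, ← map_inv, ← map_mul, hc]⟩)
  obtain ⟨m, rfl⟩ := hs n
  refine ⟨m, fun s hs => hlift _ ?_, b⁻¹ * (m * a * m⁻¹), ?_, by group⟩
  · rw [map_mul, map_mul, map_inv]
    exact (mem_normalizer_iff.1 hn _).1 ((memP _).2 ⟨s, hs, rfl⟩)
  · rw [← hπ1, map_mul, map_mul, map_mul, map_inv, map_inv, hn2, inv_mul_cancel]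

end General

variable {L : Type*} [Group L] {G : Type*} [Group G] {D : Data L} {e : L →* G}

/-- The facts on `L` used in step 7 -/
structure FactsN (D : Data L) (N Q X : Subgroup L) : Prop where
  vX : D.v ∈ X
  XQ : X ≤ Q
  XN : ∀ x ∈ X, x ∈ N → x = 1
  cX : ∀ y ∈ Wof D.w D.v, ∀ x ∈ X, y * x = x * y
  NW : N ≤ Wof D.w D.v
  nW : ∀ y ∈ Wof D.w D.v, ∀ p ∈ N, y * p * y⁻¹ ∈ N
  N2 : ∀ y ∈ N, y * y = 1
  NAl : ∀ y ∈ N, ∃ l, l * y * l⁻¹ ∈ D.Al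
  NO2 : ∀ P : Subgroup L, P ≤ Wof D.w D.v → IsPGroup 2 P →
    (∀ y ∈ Wof D.w D.v, ∀ p ∈ P, y * p * y⁻¹ ∈ P) → P ≤ N
  QN : ∀ x ∈ Q, ∀ y ∈ N, x * y = y * x
  cent2 : ∀ x, (∀ y ∈ N, x * y = y * x) → ∀ k : ℕ, x ^ 2 ^ k = 1 → x ∈ Q
  Q2 : IsPGroup 2 Q
  ZQ : ∀ x ∈ Q, (∀ y ∈ Q, x * y = y * x) → x ∈ N
  QQ : ∀ x ∈ Q, ∀ y ∈ Q, x * y * x⁻¹ * y⁻¹ ∈ N
  inner : ∀ α : L ≃* L, (∀ y ∈ N, α y = y) → ∃ c, ∀ x, α x = c * x * c⁻¹

variable {N Q X : Subgroup L}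

/-- elements of a subgroup of exponent 2 commute -/
theorem comm_of_sq {A : Type*} [Group A] {P : Subgroup A} (hP : ∀ x ∈ P, x * x = 1) {x y : A} (hx : x ∈ P)
    (hy : y ∈ P) : x * y = y * x := by
  have h1 := hP _ (mul_mem hx hy)
  have h2 := hP _ hx
  have h3 := hP _ hy
  calc x * y = (x * y)⁻¹ := eq_inv_of_mul_eq_one_left h1
    _ = y⁻¹ * x⁻¹ := mul_inv_rev x y
    _ = y * x := by rw [inv_eq_of_mul_eq_one_left h2, inv_eq_of_mul_eq_one_left h3]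

theorem FactsN.NQ (FN : FactsN D N Q X) : N ≤ Q := by
  intro x hx
  exact FN.cent2 x (fun y hy => comm_of_sq FN.N2 hx hy) 1 (by rw [pow_one, pow_two]; exact FN.N2 x hx)

/-- `W₀ ≤ W₀^g` elementwise -/
theorem W_le [Finite G] (F : Facts D) (FN : FactsN D N Q X) (h : Emb e) {V : Subgroup G}
    (hVK : V ≤ KK e) (hV2 : ∀ v ∈ V, v * v = 1) {g : G} (hgw : g * e D.w = e D.w * g)
    (hV : ∀ v ∈ V, ∃ v' ∈ V, ∃ x ∈ X, g * v * g⁻¹ = v' * e x)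
    (hX : ∀ x ∈ X, ∃ v' ∈ V, ∃ x' ∈ X, g * e x * g⁻¹ = v' * e x') {v₀ : G} (hv₀ : v₀ ∈ V)
    (hv₀1 : v₀ ≠ 1) : ∀ y ∈ Wof D.w D.v, ∃ y' ∈ Wof D.w D.v, e y = g * e y' * g⁻¹ := by
  have h' := h.cjh g
  -- `W₀` centralises `V X`
  have hWE : ∀ y ∈ Wof D.w D.v, ∀ v' ∈ V, ∀ x ∈ X, e y * (v' * e x) = v' * e x * e y := by
    intro y hy v' hv' x hx
    have h1 := mem_KK.1 (hVK hv') y
    calc e y * (v' * e x) = e y * v' * e x := by group
      _ = v' * e (y * x) := by rw [← h1, map_mul]; group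
      _ = v' * e x * e y := by rw [FN.cX y hy x hx, map_mul]; group
  have hWV : ∀ y ∈ Wof D.w D.v, ∀ v ∈ V, e y * (g * v * g⁻¹) = g * v * g⁻¹ * e y := by
    intro y hy v hv
    obtain ⟨v', hv', x, hx, h1⟩ := hV v hv
    rw [h1]
    exact hWE y hy v' hv' x hx
  have hWX : ∀ y ∈ Wof D.w D.v, ∀ x ∈ X, e y * (g * e x * g⁻¹) = g * e x * g⁻¹ * e y := by
    intro y hy x hx
    obtain ⟨v', hv', x', hx', h1⟩ := hX x hx
    rw [h1]
    exact hWE y hy v' hv' x' hx'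
  -- `W₀ ≤ M^g`
  have hWM : ∀ y ∈ Wof D.w D.v, e y ∈ MM (cjh g e) := by
    intro y hy
    have hk : g * v₀ * g⁻¹ ∈ KK (cjh g e) := by
      rw [mem_KK_cjh, show g⁻¹ * (g * v₀ * g⁻¹) * g = v₀ by group]
      exact hVK hv₀
    refine h'.nrm hk ?_ ?_ (hWV y hy v₀ hv₀)
    · intro h1
      apply hv₀1
      rw [show v₀ = g⁻¹ * (g * v₀ * g⁻¹) * g by group, h1]; group
    · rw [show g * v₀ * g⁻¹ * (g * v₀ * g⁻¹) = g * (v₀ * v₀) * g⁻¹ by group, hV2 v₀ hv₀]; group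
  have hwg : e D.w = cjh g e D.w := by
    rw [cjh_apply, hgw]; group
  -- `W₀ ≤ L^g`
  have hWL : Wof D.w D.v ≤ (cjh g e).range.comap e := by
    refine F.gen_v.trans ?_
    rw [closure_le]
    rintro _ ⟨y, hy, rfl⟩
    obtain ⟨y', hy'⟩ := (mem_MM.1 (hWM y hy)).1 D.w
    refine ⟨y', ?_⟩
    rw [← hy', map_mul, map_mul, map_inv, hwg]
  -- `W₀ ≤ W₀^g`
  have hWW : Wof D.w D.v ≤ ((Wof D.w D.v).map (cjh g e)).comap e := by
    refine F.gen_v.trans ?_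
    rw [closure_le]
    rintro _ ⟨y, hy, rfl⟩
    obtain ⟨y', hy'⟩ := hWL hy
    have h1 : y' * D.v = D.v * y' := by
      have h2 := hWX y hy D.v FN.vX
      have h3 : cjh g e (y' * D.v) = cjh g e (D.v * y') := by
        rw [map_mul, map_mul, hy', cjh_apply, h2]
      exact h'.inj h3
    rw [SetLike.mem_coe, mem_comap]
    refine ⟨y' * D.w * y'⁻¹, subset_closure ⟨y', h1, rfl⟩, ?_⟩
    rw [map_mul, map_mul, map_inv, hy', map_mul, map_mul, map_inv, hwg]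
  intro y hy
  obtain ⟨y', hy', h1⟩ := hWW hy
  exact ⟨y', hy', by rw [← h1, cjh_apply]⟩

/-- `g` normalises `W₀`, so `N` -/
theorem conj_N [Finite G] (F : Facts D) (FN : FactsN D N Q X) (h : Emb e) {V : Subgroup G}
    (hVK : V ≤ KK e) (hV2 : ∀ v ∈ V, v * v = 1) {g : G} (hgw : g * e D.w = e D.w * g)
    (hV : ∀ v ∈ V, ∃ v' ∈ V, ∃ x ∈ X, g * v * g⁻¹ = v' * e x)
    (hX : ∀ x ∈ X, ∃ v' ∈ V, ∃ x' ∈ X, g * e x * g⁻¹ = v' * e x') {v₀ : G} (hv₀ : v₀ ∈ V)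
    (hv₀1 : v₀ ≠ 1) : (∀ y ∈ N, ∃ y' ∈ N, g * e y * g⁻¹ = e y') ∧
      (∀ y ∈ N, ∃ y' ∈ N, g⁻¹ * e y * g = e y') := by
  have hW := W_le F FN h hVK hV2 hgw hV hX hv₀ hv₀1
  have : Finite L := Finite.of_injective e h.inj
  -- the map `W₀ → W₀` is bijective
  choose! f hf1 hf2 using hW
  have hfin : ∀ y' ∈ Wof D.w D.v, ∃ y ∈ Wof D.w D.v, e y = g * e y' * g⁻¹ := by
    let f' : Wof D.w D.v → Wof D.w D.v := fun y => ⟨f y, hf1 y y.2⟩
    have hinj : Function.Injective f' := by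
      intro y₁ y₂ h1
      have h2 : f y₁ = f y₂ := congrArg Subtype.val h1
      apply Subtype.ext
      apply h.inj
      rw [hf2 y₁ y₁.2, hf2 y₂ y₂.2, h2]
    intro y' hy'
    obtain ⟨y, hy⟩ := (Finite.injective_iff_surjective.1 hinj) ⟨y', hy'⟩
    have h2 : f y = y' := congrArg Subtype.val hy
    exact ⟨y, y.2, by rw [hf2 y y.2, h2]⟩
  -- `P = N^g` as a subgroup of `L`
  set P : Subgroup L := (N.map (cjh g e)).comap e with hP
  have memP : ∀ p, p ∈ P ↔ ∃ y ∈ N, g * e y * g⁻¹ = e p := by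
    intro p
    rw [hP, mem_comap, mem_map]
    rfl
  have hPN : P ≤ N := by
    apply FN.NO2
    · intro p hp
      obtain ⟨y, hy, h1⟩ := (memP p).1 hp
      obtain ⟨y', hy', h2⟩ := hfin y (FN.NW hy)
      rw [h1] at h2
      rw [← h.inj h2]
      exact hy'
    · rintro ⟨p, hp⟩
      refine ⟨1, Subtype.ext ?_⟩
      obtain ⟨y, hy, h1⟩ := (memP p).1 hp
      show p ^ 2 ^ 1 = 1
      apply h.inj
      rw [pow_one, pow_two, map_mul, ← h1, map_one,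
        show g * e y * g⁻¹ * (g * e y * g⁻¹) = g * (e y * e y) * g⁻¹ by group, ← map_mul, FN.N2 y hy,
        map_one]
      group
    · intro y hy p hp
      obtain ⟨p', hp', h1⟩ := (memP p).1 hp
      rw [memP]
      refine ⟨f y * p' * (f y)⁻¹, FN.nW _ (hf1 y hy) _ hp', ?_⟩
      rw [map_mul, map_mul, map_mul, map_mul, map_inv, map_inv, ← h1, hf2 y hy]
      group
  have h1 : ∀ y ∈ N, ∃ y' ∈ N, g * e y * g⁻¹ = e y' := by
    intro y hy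
    obtain ⟨y', hy', h2⟩ := hfin y (FN.NW hy)
    exact ⟨y', hPN ((memP y').2 ⟨y, hy, h2.symm⟩), h2.symm⟩
  refine ⟨h1, ?_⟩
  choose! k hk1 hk2 using h1
  let k' : N → N := fun y => ⟨k y, hk1 y y.2⟩
  have hinj : Function.Injective k' := by
    intro y₁ y₂ h1
    have h2 : k y₁ = k y₂ := congrArg Subtype.val h1
    have h3 := hk2 y₁ y₁.2
    have h4 := hk2 y₂ y₂.2
    rw [h2, ← h4] at h3
    exact Subtype.ext (h.inj (mul_left_cancel (mul_right_cancel h3)))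
  intro y hy
  obtain ⟨y', hy'⟩ := (Finite.injective_iff_surjective.1 hinj) ⟨y, hy⟩
  have h2 : k y' = y := congrArg Subtype.val hy'
  refine ⟨y', y'.2, ?_⟩
  rw [← h2, ← hk2 y' y'.2]; group

/-- elements of `C_M(N)` -/
theorem mem_cent (FN : FactsN D N Q X) (h : Emb e) {m : G} (hm : m ∈ MM e)
    (hc : ∀ y ∈ N, m * e y = e y * m) : ∃ k ∈ KK e, ∃ q, (∀ y ∈ N, q * y = y * q) ∧ m = k * e q := by
  obtain ⟨α, hα⟩ := h.exists_aut hm
  obtain ⟨s, hs⟩ := FN.inner α (fun y hy => h.inj (by rw [hα, hc y hy]; group))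
  refine ⟨m * (e s)⁻¹, Emb.mem_of_aut (fun x => by rw [← hα, hs]), s, ?_, by group⟩
  intro y hy
  have h1 : e (s * y * s⁻¹) = e y := by rw [← hs, hα, hc y hy]; group
  have h2 := h.inj h1
  calc s * y = s * y * s⁻¹ * s := by group
    _ = y * s := by rw [h2]

/-- an element normalising `N` and `T₀ = V Q` normalises `V` -/
theorem conj_V (F : Facts D) (FN : FactsN D N Q X) (h : Emb e) (hn : NU D e) {V : Subgroup G}
    (hVK : V ≤ KK e) (hV2 : ∀ v ∈ V, v * v = 1) {n : G}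
    (hT : ∀ v ∈ V, ∀ q ∈ Q, ∃ v' ∈ V, ∃ q' ∈ Q, n * (v * e q) * n⁻¹ = v' * e q')
    (hT' : ∀ v ∈ V, ∀ q ∈ Q, ∃ v' ∈ V, ∃ q' ∈ Q, n⁻¹ * (v * e q) * n = v' * e q')
    (hN : ∀ y ∈ N, ∃ y' ∈ N, n⁻¹ * e y * n = e y') {v : G} (hv : v ∈ V) : n * v * n⁻¹ ∈ V := by
  by_cases hv1 : v = 1
  · rw [hv1, mul_one, mul_inv_cancel]
    exact V.one_mem
  obtain ⟨v', hv', y, hy, h1⟩ := hT v hv 1 Q.one_mem
  rw [map_one, mul_one] at h1
  -- `y` is central in `Q`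
  have hyN : y ∈ N := by
    apply FN.ZQ y hy
    intro q hq
    obtain ⟨v₂, hv₂, q₂, hq₂, h2⟩ := hT' 1 V.one_mem q hq
    rw [one_mul] at h2
    have h3 : v * (v₂ * e q₂) = v₂ * e q₂ * v := by
      have h4 := comm_of_sq hV2 hv hv₂
      have h5 := mem_KK.1 (hVK hv) q₂
      calc v * (v₂ * e q₂) = (v * v₂) * e q₂ := by group
        _ = v₂ * (v * e q₂) := by rw [h4]; group
        _ = v₂ * e q₂ * v := by rw [h5]; group
    rw [← h2] at h3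
    have h6 : n * v * n⁻¹ * e q = e q * (n * v * n⁻¹) := by
      calc n * v * n⁻¹ * e q = n * (v * (n⁻¹ * e q * n)) * n⁻¹ := by group
        _ = n * (n⁻¹ * e q * n * v) * n⁻¹ := by rw [h3]
        _ = e q * (n * v * n⁻¹) := by group
    rw [h1] at h6
    have h7 := mem_KK.1 (hVK hv') q
    apply h.inj
    rw [map_mul, map_mul]
    calc e y * e q = v'⁻¹ * (v' * e y * e q) := by group
      _ = v'⁻¹ * (e q * (v' * e y)) := by rw [h6]
      _ = v'⁻¹ * (e q * v') * e y := by group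
      _ = e q * e y := by rw [← h7]; group
  have hv'1 : v' ≠ 1 := by
    intro h2
    rw [h2, one_mul] at h1
    obtain ⟨y', hy', h3⟩ := hN y hyN
    apply hv1
    have h4 : v = e y' := by rw [← h3, ← h1]; group
    have h5 : y' = 1 := h.disj y' (by rw [← h4]; exact hVK hv)
    rw [h4, h5, map_one]
  by_cases hy1 : y = 1
  · rw [h1, hy1, map_one, mul_one]
    exact hv'
  · exfalso
    refine a0 F h hn (hVK hv') hv'1 (hV2 v' hv') (FN.NAl y hyN) hy1 (FN.N2 y hyN) n ?_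
    rw [← h1, mem_KK_cjh, show n⁻¹ * (n * v * n⁻¹) * n = v by group]
    exact hVK hv

/-- `T₀ = V Q` -/
def TT (V : Subgroup G) (e : L →* G) (Q : Subgroup L) (hVK : V ≤ KK e) : Subgroup G where
  carrier := {t | ∃ v ∈ V, ∃ q ∈ Q, t = v * e q}
  one_mem' := ⟨1, V.one_mem, 1, Q.one_mem, by rw [map_one, mul_one]⟩
  mul_mem' := by
    rintro _ _ ⟨v, hv, q, hq, rfl⟩ ⟨v', hv', q', hq', rfl⟩
    refine ⟨v * v', V.mul_mem hv hv', q * q', Q.mul_mem hq hq', ?_⟩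
    have h1 := mem_KK.1 (hVK hv') q
    calc v * e q * (v' * e q') = v * (e q * v') * e q' := by group
      _ = v * v' * e (q * q') := by rw [← h1, map_mul]; group
  inv_mem' := by
    rintro _ ⟨v, hv, q, hq, rfl⟩
    refine ⟨v⁻¹, V.inv_mem hv, q⁻¹, Q.inv_mem hq, ?_⟩
    have h1 := mem_KK.1 (hVK hv) q
    rw [h1, mul_inv_rev, map_inv]

theorem mem_TT {V : Subgroup G} {hVK : V ≤ KK e} {t : G} :
    t ∈ TT V e Q hVK ↔ ∃ v ∈ V, ∃ q ∈ Q, t = v * e q := Iff.rfl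

theorem TT_two {V : Subgroup G} (hVK : V ≤ KK e) (hV2 : ∀ v ∈ V, v * v = 1) (hQ : IsPGroup 2 Q) :
    IsPGroup 2 (TT V e Q hVK) := by
  rintro ⟨t, v, hv, q, hq, rfl⟩
  obtain ⟨k, hk⟩ := hQ ⟨q, hq⟩
  have hk' : q ^ 2 ^ k = 1 := congrArg Subtype.val hk
  refine ⟨k + 1, Subtype.ext ?_⟩
  show (v * e q) ^ 2 ^ (k + 1) = 1
  have h1 : Commute v (e q) := mem_KK.1 (hVK hv) q
  rw [h1.mul_pow, ← map_pow, pow_succ, pow_mul q, hk', one_pow, map_one, mul_one, mul_comm, pow_mul, pow_two,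
    hV2 v hv, one_pow]

/-- `T₀` is a Sylow 2-subgroup of `C_G(N)` -/
theorem sylow_TT [Finite G] (F : Facts D) (FN : FactsN D N Q X) (h : Emb e) (hn : NU D e) {V : Subgroup G}
    (hVK : V ≤ KK e) (hV2 : ∀ v ∈ V, v * v = 1)
    (hVmax : ∀ P : Subgroup G, P ≤ KK e → IsPGroup 2 P → V ≤ P → P = V) {v₀ : G} (hv₀ : v₀ ∈ V)
    (hv₀1 : v₀ ≠ 1) : ∃ S : Sylow 2 (centralizer (N.map e : Set G)),
      ∀ x, x ∈ S ↔ (x : G) ∈ TT V e Q hVK := by
  have : Fact (Nat.Prime 2) := ⟨Nat.prime_two⟩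
  set C : Subgroup G := centralizer (N.map e : Set G) with hC
  have memC : ∀ x, x ∈ C ↔ ∀ y ∈ N, x * e y = e y * x := by
    intro x
    rw [hC, mem_centralizer_iff]
    constructor
    · intro h1 y hy
      exact (h1 _ ⟨y, hy, rfl⟩).symm
    · rintro h1 _ ⟨y, hy, rfl⟩
      exact (h1 y hy).symm
  set T : Subgroup G := TT V e Q hVK with hT
  have hTC : T ≤ C := by
    rintro _ ⟨v, hv, q, hq, rfl⟩
    rw [memC]
    intro y hy
    have h1 := mem_KK.1 (hVK hv) y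
    calc v * e q * e y = v * e (q * y) := by rw [map_mul]; group
      _ = v * e y * e q := by rw [FN.QN q hq y hy, map_mul]; group
      _ = e y * (v * e q) := by rw [h1]; group
  have hT2 : IsPGroup 2 (T.subgroupOf C) := (TT_two hVK hV2 FN.Q2).of_injective
    (subgroupOfEquivOfLe hTC).toMonoidHom (subgroupOfEquivOfLe hTC).injective
  obtain ⟨S, hS⟩ := hT2.exists_le_sylow
  refine ⟨S, fun x => ⟨fun hx => ?_, fun hx => hS (mem_subgroupOf.2 hx)⟩⟩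
  by_contra hxT
  -- normaliser growth
  have hlt : (T.subgroupOf C).subgroupOf (S : Subgroup C) < ⊤ := by
    rw [lt_top_iff_ne_top]
    intro h1
    rw [subgroupOf_eq_top] at h1
    exact hxT (mem_subgroupOf.1 (h1 hx))
  have : Group.IsNilpotent (S : Subgroup C) := S.isPGroup'.isNilpotent
  have h1 := Group.normalizerCondition_of_isNilpotent (G := (S : Subgroup C)) _ hlt
  obtain ⟨⟨n, hnS⟩, hn1, hn2⟩ := SetLike.exists_of_lt h1
  rw [mem_subgroupOf, mem_subgroupOf] at hn2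
  have key : ∀ t ∈ T, (n : G) * t * (n : G)⁻¹ ∈ T ∧ (n : G)⁻¹ * t * n ∈ T := by
    intro t ht
    have h2 : (⟨t, hTC ht⟩ : C) ∈ (S : Subgroup C) := hS (mem_subgroupOf.2 ht)
    constructor
    · exact (mem_normalizer_iff.1 hn1 ⟨⟨t, hTC ht⟩, h2⟩).1 ht
    · exact (mem_normalizer_iff.1 hn1 (⟨n, hnS⟩⁻¹ * ⟨⟨t, hTC ht⟩, h2⟩ * ⟨n, hnS⟩)).2 (by
        show (n : G) * ((n : G)⁻¹ * t * n) * (n : G)⁻¹ ∈ T
        rw [show (n : G) * ((n : G)⁻¹ * t * n) * (n : G)⁻¹ = t by group]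
        exact ht)
  have hnN := (memC _).1 n.2
  have hnV : ∀ v ∈ V, (n : G) * v * (n : G)⁻¹ ∈ V := fun v hv =>
    conj_V F FN h hn hVK hV2 (fun v hv q hq => (key _ ⟨v, hv, q, hq, rfl⟩).1)
      (fun v hv q hq => (key _ ⟨v, hv, q, hq, rfl⟩).2)
      (fun y hy => ⟨y, hy, by rw [mul_assoc, ← hnN y hy]; group⟩) hv
  have hnM : (n : G) ∈ MM e := h.key v₀ n (hVK hv₀) hv₀1 (hV2 v₀ hv₀) (hVK (hnV v₀ hv₀))
  obtain ⟨k, hk, q, hqN, hkq⟩ := mem_cent FN h hnM hnN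
  have hq : q ∈ Q := by
    obtain ⟨j, hj⟩ := S.isPGroup' ⟨n, hnS⟩
    have hj' : (n : G) ^ 2 ^ j = 1 := congrArg (fun z : (S : Subgroup C) => ((z : C) : G)) hj
    have hc : Commute k (e q) := mem_KK.1 hk q
    rw [hkq, hc.mul_pow, ← map_pow] at hj'
    refine FN.cent2 q hqN j (h.disj _ ?_)
    rw [← inv_eq_of_mul_eq_one_right hj']
    exact inv_mem (pow_mem hk _)
  apply hn2
  have hkV : k ∈ V := by
    have h2 : KK e ⊓ (S : Subgroup C).map C.subtype = V := by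
      apply hVmax _ inf_le_left
      · exact (S.isPGroup'.map C.subtype).to_le inf_le_right
      · intro v hv
        have hvT : v ∈ T := ⟨v, hv, 1, Q.one_mem, by rw [map_one, mul_one]⟩
        exact ⟨hVK hv, ⟨v, hTC hvT⟩, hS (mem_subgroupOf.2 hvT), rfl⟩
    rw [← h2]
    have hqT : e q ∈ T := ⟨1, V.one_mem, q, hq, (one_mul _).symm⟩
    have hqS : (⟨e q, hTC hqT⟩ : C) ∈ (S : Subgroup C) := hS (mem_subgroupOf.2 hqT)
    refine ⟨hk, n * (⟨e q, hTC hqT⟩ : C)⁻¹, mul_mem hnS (inv_mem hqS), ?_⟩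
    show (n : G) * (e q)⁻¹ = k
    rw [hkq]; group
  exact ⟨k, hkV, q, hq, hkq⟩

/-- **Step 7** -/
theorem step_seven [Finite G] (F : Facts D) (FN : FactsN D N Q X) (h : Emb e) (hn : NU D e)
    (V : Subgroup G) (hVK : V ≤ KK e) (hV2 : ∀ v ∈ V, v * v = 1)
    (hVmax : ∀ P : Subgroup G, P ≤ KK e → IsPGroup 2 P → V ≤ P → P = V) (g : G)
    (hgw : g * e D.w = e D.w * g)
    (hV : ∀ v ∈ V, ∃ v' ∈ V, ∃ x ∈ X, g * v * g⁻¹ = v' * e x)
    (hX : ∀ x ∈ X, ∃ v' ∈ V, ∃ x' ∈ X, g * e x * g⁻¹ = v' * e x')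
    (hne : ∃ v ∈ V, g * v * g⁻¹ ∉ V) : False := by
  have : Fact (Nat.Prime 2) := ⟨Nat.prime_two⟩
  obtain ⟨v₀, hv₀, hgv₀⟩ := hne
  have hv₀1 : v₀ ≠ 1 := by
    rintro rfl
    apply hgv₀
    rw [mul_one, mul_inv_cancel]
    exact V.one_mem
  obtain ⟨hN1, hN2⟩ := conj_N F FN h hVK hV2 hgw hV hX hv₀ hv₀1
  set C : Subgroup G := centralizer (N.map e : Set G) with hC
  obtain ⟨S, hS⟩ : ∃ S : Sylow 2 C, ∀ x, x ∈ S ↔ (x : G) ∈ TT V e Q hVK :=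
    sylow_TT F FN h hn hVK hV2 hVmax hv₀ hv₀1
  have memC : ∀ x, x ∈ C ↔ ∀ y ∈ N, x * e y = e y * x := by
    intro x
    rw [hC, mem_centralizer_iff]
    constructor
    · intro h1 y hy
      exact (h1 _ ⟨y, hy, rfl⟩).symm
    · rintro h1 _ ⟨y, hy, rfl⟩
      exact (h1 y hy).symm
  have hTC : TT V e Q hVK ≤ C := by
    rintro _ ⟨v, hv, q, hq, rfl⟩
    rw [memC]
    intro y hy
    have h1 := mem_KK.1 (hVK hv) y
    calc v * e q * e y = v * e (q * y) := by rw [map_mul]; group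
      _ = v * e y * e q := by rw [FN.QN q hq y hy, map_mul]; group
      _ = e y * (v * e q) := by rw [h1]; group
  -- `g` acts on `C`
  have hgC : ∀ x, x ∈ C → g * x * g⁻¹ ∈ C := by
    intro x hx
    rw [memC] at hx ⊢
    intro y hy
    obtain ⟨y', hy', h1⟩ := hN2 y hy
    have h2 := hx y' hy'
    rw [← h1] at h2
    calc g * x * g⁻¹ * e y = g * (x * (g⁻¹ * e y * g)) * g⁻¹ := by group
      _ = g * (g⁻¹ * e y * g * x) * g⁻¹ := by rw [h2]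
      _ = e y * (g * x * g⁻¹) := by group
  have hgC' : ∀ x, x ∈ C → g⁻¹ * x * g ∈ C := by
    intro x hx
    rw [memC] at hx ⊢
    intro y hy
    obtain ⟨y', hy', h1⟩ := hN1 y hy
    have h2 := hx y' hy'
    rw [← h1] at h2
    calc g⁻¹ * x * g * e y = g⁻¹ * (x * (g * e y * g⁻¹)) * g := by group
      _ = g⁻¹ * (g * e y * g⁻¹ * x) * g := by rw [h2]
      _ = e y * (g⁻¹ * x * g) := by group
  let γ : C ≃* C :=
    { toFun := fun x => ⟨g * x * g⁻¹, hgC x x.2⟩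
      invFun := fun x => ⟨g⁻¹ * x * g, hgC' x x.2⟩
      left_inv := fun x => Subtype.ext (by
        show g⁻¹ * (g * (x : G) * g⁻¹) * g = x
        group)
      right_inv := fun x => Subtype.ext (by
        show g * (g⁻¹ * (x : G) * g) * g⁻¹ = x
        group)
      map_mul' := fun x y => Subtype.ext (by
        show g * ((x : G) * y) * g⁻¹ = g * x * g⁻¹ * (g * y * g⁻¹)
        group) }
  have hγ : ∀ x : C, ((γ x : C) : G) = g * x * g⁻¹ := fun x => rfl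
  have hγs : Function.Surjective γ.toMonoidHom := γ.surjective
  set S' : Sylow 2 C := S.mapSurjective hγs with hS'
  have memS' : ∀ x, x ∈ S' ↔ ∃ s ∈ S, γ s = x := by
    intro x
    show x ∈ (S' : Subgroup C) ↔ _
    rw [hS', Sylow.coe_mapSurjective]
    exact Iff.rfl
  obtain ⟨c, hc⟩ := MulAction.exists_smul_eq C S' S
  have hcS : ∀ x, x ∈ S → c * γ x * c⁻¹ ∈ S := by
    intro x hx
    rw [← hc]
    exact ⟨γ x, (memS' _).2 ⟨x, hx, rfl⟩, rfl⟩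
  -- `n = c g` normalises `T₀` and `N`
  set n : G := c * g with hnn
  have hcN := (memC _).1 c.2
  have hT1 : ∀ t ∈ TT V e Q hVK, n * t * n⁻¹ ∈ TT V e Q hVK := by
    intro t ht
    have h1 := hcS ⟨t, hTC ht⟩ ((hS _).2 ht)
    rw [hS] at h1
    have h2 : (c : G) * (g * t * g⁻¹) * (c : G)⁻¹ ∈ TT V e Q hVK := h1
    rw [hnn, mul_inv_rev, show (c : G) * g * t * (g⁻¹ * (c : G)⁻¹) = c * (g * t * g⁻¹) * (c : G)⁻¹ by group]
    exact h2
  have hT2 : ∀ t ∈ TT V e Q hVK, n⁻¹ * t * n ∈ TT V e Q hVK := by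
    let f : TT V e Q hVK → TT V e Q hVK := fun t => ⟨n * t * n⁻¹, hT1 t t.2⟩
    have hinj : Function.Injective f := by
      intro t₁ t₂ h1
      have h2 : n * t₁ * n⁻¹ = n * t₂ * n⁻¹ := congrArg Subtype.val h1
      exact Subtype.ext (mul_left_cancel (mul_right_cancel h2))
    intro t ht
    obtain ⟨t', ht'⟩ := (Finite.injective_iff_surjective.1 hinj) ⟨t, ht⟩
    have h2 : n * t' * n⁻¹ = t := congrArg Subtype.val ht'
    rw [← h2, show n⁻¹ * (n * t' * n⁻¹) * n = t' by group]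
    exact t'.2
  have hnN : ∀ y ∈ N, ∃ y' ∈ N, n⁻¹ * e y * n = e y' := by
    intro y hy
    obtain ⟨y', hy', h1⟩ := hN2 y hy
    refine ⟨y', hy', ?_⟩
    rw [← h1, hnn]
    have h2 := hcN y hy
    calc ((c : G) * g)⁻¹ * e y * (c * g) = g⁻¹ * ((c : G)⁻¹ * (e y * c)) * g := by group
      _ = g⁻¹ * e y * g := by rw [← h2]; group
  have hnV : n * v₀ * n⁻¹ ∈ V :=
    conj_V F FN h hn hVK hV2 (fun v hv q hq => hT1 _ ⟨v, hv, q, hq, rfl⟩)
      (fun v hv q hq => hT2 _ ⟨v, hv, q, hq, rfl⟩) hnN hv₀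
  obtain ⟨v', hv', x, hx, hgv⟩ := hV v₀ hv₀
  have hx1 : x ≠ 1 := by
    rintro rfl
    apply hgv₀
    rw [hgv, map_one, mul_one]
    exact hv'
  -- Burnside modulo `N`
  have hNC : N.map e ≤ C := by
    rintro _ ⟨y, hy, rfl⟩
    rw [memC]
    intro y' hy'
    rw [← map_mul, ← map_mul, comm_of_sq FN.N2 hy hy']
  set NN : Subgroup C := (N.map e).subgroupOf C with hNN
  have memNN : ∀ y : C, y ∈ NN ↔ ∃ y' ∈ N, (y : G) = e y' := by
    intro y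
    rw [hNN, mem_subgroupOf]
    constructor
    · rintro ⟨z, hz, h1⟩
      exact ⟨z, hz, h1.symm⟩
    · rintro ⟨z, hz, h1⟩
      exact ⟨z, hz, h1.symm⟩
  have hnorm : NN.Normal := by
    refine ⟨fun y hy z => ?_⟩
    obtain ⟨y', hy', h1⟩ := (memNN y).1 hy
    rw [memNN]
    refine ⟨y', hy', ?_⟩
    show (z : G) * y * (z : G)⁻¹ = e y'
    rw [h1, (memC _).1 z.2 y' hy']; group
  have hNS : NN ≤ (S : Subgroup C) := by
    intro y hy
    obtain ⟨y', hy', h1⟩ := (memNN y).1 hy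
    exact (hS y).2 ⟨1, V.one_mem, y', FN.NQ hy', by rw [h1, one_mul]⟩
  have hab : ∀ s ∈ S, ∀ t ∈ S, s * t * s⁻¹ * t⁻¹ ∈ NN := by
    intro s hs t ht
    obtain ⟨v₁, hv₁, q₁, hq₁, h1⟩ := (hS s).1 hs
    obtain ⟨v₂, hv₂, q₂, hq₂, h2⟩ := (hS t).1 ht
    rw [memNN]
    refine ⟨q₁ * q₂ * q₁⁻¹ * q₂⁻¹, FN.QQ q₁ hq₁ q₂ hq₂, ?_⟩
    show (s : G) * t * (s : G)⁻¹ * (t : G)⁻¹ = _
    rw [h1, h2, map_mul, map_mul, map_mul, map_inv, map_inv]
    have c12 : Commute v₁ v₂ := comm_of_sq hV2 hv₁ hv₂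
    have a1 : ∀ z, Commute v₁ (e z) := mem_KK.1 (hVK hv₁)
    have a2 : ∀ z, Commute v₂ (e z) := mem_KK.1 (hVK hv₂)
    calc v₁ * e q₁ * (v₂ * e q₂) * (v₁ * e q₁)⁻¹ * (v₂ * e q₂)⁻¹
        = v₁ * (e q₁ * v₂) * e q₂ * (e q₁)⁻¹ * v₁⁻¹ * (e q₂)⁻¹ * v₂⁻¹ := by group
      _ = v₁ * v₂ * (e q₁ * e q₂ * (e q₁)⁻¹ * v₁⁻¹) * (e q₂)⁻¹ * v₂⁻¹ := by
          rw [← (a2 q₁).eq]; group
      _ = v₁ * v₂ * (v₁⁻¹ * (e q₁ * e q₂ * (e q₁)⁻¹)) * (e q₂)⁻¹ * v₂⁻¹ := by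
          have h3 : Commute v₁⁻¹ (e (q₁ * q₂ * q₁⁻¹)) := (a1 _).inv_left
          rw [map_mul, map_mul, map_inv] at h3
          rw [h3.eq]
      _ = (v₁ * v₂) * v₁⁻¹ * (e q₁ * e q₂ * (e q₁)⁻¹ * (e q₂)⁻¹ * v₂⁻¹) := by group
      _ = (v₁ * v₂) * v₁⁻¹ * (v₂⁻¹ * (e q₁ * e q₂ * (e q₁)⁻¹ * (e q₂)⁻¹)) := by
          have h3 : Commute v₂⁻¹ (e (q₁ * q₂ * q₁⁻¹ * q₂⁻¹)) := (a2 _).inv_left
          rw [map_mul, map_mul, map_mul, map_inv, map_inv] at h3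
          rw [h3.eq]
      _ = e q₁ * e q₂ * (e q₁)⁻¹ * (e q₂)⁻¹ := by rw [c12.eq]; group
  have hxQ : x ∈ Q := FN.XQ hx
  have ht1 : v' * e x ∈ TT V e Q hVK := ⟨v', hv', x, hxQ, rfl⟩
  have ht2 : n * v₀ * n⁻¹ ∈ TT V e Q hVK := ⟨_, hnV, 1, Q.one_mem, by rw [map_one, mul_one]⟩
  obtain ⟨m, hm1, y, hyN, hm2⟩ := burnside_mod S NN hNS hab (a := ⟨v' * e x, hTC ht1⟩)
    (b := ⟨n * v₀ * n⁻¹, hTC ht2⟩) (c := c) ((hS _).2 ht1) ((hS _).2 ht2) (Subtype.ext (by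
      show (c : G) * (v' * e x) * (c : G)⁻¹ = n * v₀ * n⁻¹
      rw [← hgv, hnn]; group))
  obtain ⟨y', hy', hyy⟩ := (memNN y).1 hyN
  have hm3 : (m : G) * (v' * e x) * (m : G)⁻¹ = n * v₀ * n⁻¹ * e y' := by
    rw [← hyy]
    exact congrArg Subtype.val hm2
  -- `m = k q`
  have hmN := (memC _).1 m.2
  have hmT1 : ∀ t ∈ TT V e Q hVK, (m : G) * t * (m : G)⁻¹ ∈ TT V e Q hVK := by
    intro t ht
    exact (hS _).1 (hm1 ⟨t, hTC ht⟩ ((hS _).2 ht))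
  have hmT2 : ∀ t ∈ TT V e Q hVK, (m : G)⁻¹ * t * m ∈ TT V e Q hVK := by
    let f : TT V e Q hVK → TT V e Q hVK := fun t => ⟨m * t * (m : G)⁻¹, hmT1 t t.2⟩
    have hinj : Function.Injective f := by
      intro t₁ t₂ h1
      have h2 : (m : G) * t₁ * (m : G)⁻¹ = m * t₂ * (m : G)⁻¹ := congrArg Subtype.val h1
      exact Subtype.ext (mul_left_cancel (mul_right_cancel h2))
    intro t ht
    obtain ⟨t', ht'⟩ := (Finite.injective_iff_surjective.1 hinj) ⟨t, ht⟩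
    have h2 : (m : G) * t' * (m : G)⁻¹ = t := congrArg Subtype.val ht'
    rw [← h2, show (m : G)⁻¹ * (m * t' * (m : G)⁻¹) * m = t' by group]
    exact t'.2
  have hmV : ∀ v ∈ V, (m : G) * v * (m : G)⁻¹ ∈ V := fun v hv =>
    conj_V F FN h hn hVK hV2 (fun v hv q hq => hmT1 _ ⟨v, hv, q, hq, rfl⟩)
      (fun v hv q hq => hmT2 _ ⟨v, hv, q, hq, rfl⟩)
      (fun y hy => ⟨y, hy, by rw [mul_assoc, ← hmN y hy]; group⟩) hv
  have hmM : (m : G) ∈ MM e := h.key v₀ m (hVK hv₀) hv₀1 (hV2 v₀ hv₀) (hVK (hmV v₀ hv₀))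
  obtain ⟨k, hk, q, hq, hkq⟩ := mem_cent FN h hmM hmN
  -- `x ∈ N`
  have h6 : e (y' * (q * x * q⁻¹)⁻¹) ∈ KK e := by
    have h7 : e (y' * (q * x * q⁻¹)⁻¹) = (n * v₀ * n⁻¹)⁻¹ * (k * v' * k⁻¹) := by
      have a1 := mem_KK.1 (hVK hv') q
      have a2 := mem_KK.1 (inv_mem hk) (q * x * q⁻¹)
      rw [map_mul, map_mul, map_inv] at a2
      have h8 : (m : G) * (v' * e x) * (m : G)⁻¹ = k * v' * k⁻¹ * e (q * x * q⁻¹) := by
        rw [hkq, map_mul, map_mul, map_inv]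
        calc k * e q * (v' * e x) * (k * e q)⁻¹ = k * (e q * v') * e x * (e q)⁻¹ * k⁻¹ := by group
          _ = k * v' * (e q * e x * (e q)⁻¹ * k⁻¹) := by rw [← a1]; group
          _ = k * v' * k⁻¹ * (e q * e x * (e q)⁻¹) := by rw [← a2]; group
      have h9 : n * v₀ * n⁻¹ * e y' = k * v' * k⁻¹ * e (q * x * q⁻¹) := by rw [← hm3, h8]
      rw [map_mul, map_inv]
      calc e y' * (e (q * x * q⁻¹))⁻¹
          = (n * v₀ * n⁻¹)⁻¹ * (n * v₀ * n⁻¹ * e y') * (e (q * x * q⁻¹))⁻¹ := by group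
        _ = (n * v₀ * n⁻¹)⁻¹ * (k * v' * k⁻¹) := by rw [h9]; group
    rw [h7]
    exact mul_mem (inv_mem (hVK hnV)) (mul_mem (mul_mem hk (hVK hv')) (inv_mem hk))
  have h7 := h.disj _ h6
  have h8 : q * x * q⁻¹ = y' := (mul_inv_eq_one.1 h7).symm
  have h9 : x = y' := by
    have h10 := hq y' hy'
    calc x = q⁻¹ * (q * x * q⁻¹) * q := by group
      _ = q⁻¹ * (y' * q) := by rw [h8]; group
      _ = y' := by rw [← h10]; group
  exact hx1 (FN.XN x hx (by rw [h9]; exact hy'))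

end Cfsg.Agent.StdG24.StepSevenN
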