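import Cfsg.Agent.StdG24.FactsL0
import Cfsg.Agent.StdG24.QDef
import Cfsg.Agent.StdG24.StepSevenN

/-!
# The facts of step 7 on `W₀ = Wof w v = N ⋊ Al`, `N = X₁₀ X₁₁`
-/

set_option autoImplicit false
set_option linter.constructorNameAsVariable false
set_option linter.unusedVariables false
set_option maxRecDepth 20000

namespace Cfsg.Agent.StdG24.FactsNW

open Cfsg.Agent.SporRec
open Cfsg.Agent.SporRec.GF4
open Cfsg.Agent.SporRec.G24Code (app ofBits)
open Cfsg.Agent.StdG24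
open Cfsg.Agent.StdG24.Mod6
open Cfsg.Agent.StdG24.Ord6
open Cfsg.Agent.StdG24.Al6
open Cfsg.Agent.StdG24.Inv6
open Cfsg.Agent.StdG24.Cls6
open Cfsg.Agent.StdG24.Ax6
open Cfsg.Agent.StdG24.Cv6
open Cfsg.Agent.StdG24.FactsTr

/-- `N = X₁₀ X₁₁` -/
def N6 : Subgroup GL6 := Subgroup.closure {g | ∃ t, g = gx 10 t ∨ g = gx 11 t}

/-- `X₉` -/
def X6 : Subgroup GL6 := Subgroup.closure {g | ∃ t, g = gx 9 t}

theorem N6_le : N6 ≤ L := by
  refine (Subgroup.closure_le _).2 ?_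
  rintro _ ⟨t, rfl | rfl⟩ <;> exact gx_mem _ _

theorem X6_le_As : X6 ≤ As := by
  refine (Subgroup.closure_le _).2 ?_
  rintro _ ⟨t, rfl⟩
  exact gx9_mem t

theorem gx10_mem (t : Fin 3) : gx 10 t ∈ N6 := Subgroup.subset_closure ⟨t, Or.inl rfl⟩
theorem gx11_mem (t : Fin 3) : gx 11 t ∈ N6 := Subgroup.subset_closure ⟨t, Or.inr rfl⟩

theorem rw2_N6 (s t : ℕ) : ev (rw2 s t) ∈ N6 := rw2_mem gx10_mem gx11_mem s t

/-! ### `N` is elementary abelian -/

theorem N_comm_check : ∀ s t : Fin 3, cw [(10, s), (10, t)] = cw [(10, t), (10, s)] ∧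
    cw [(10, s), (11, t)] = cw [(11, t), (10, s)] ∧ cw [(11, s), (11, t)] = cw [(11, t), (11, s)] := by
  decide +kernel

theorem N6_comm {a b : GL6} (ha : a ∈ N6) (hb : b ∈ N6) : a * b = b * a := by
  have h1 : ∀ s : Fin 3, ∀ b ∈ N6, gx 10 s * b = b * gx 10 s := by
    intro s b hb
    have : N6 ≤ Subgroup.centralizer ({gx 10 s} : Set GL6) := by
      refine (Subgroup.closure_le _).2 ?_
      rintro _ ⟨t, rfl | rfl⟩
      · exact Subgroup.mem_centralizer_singleton_iff.2 (gx_comm _ _ _ _ (N_comm_check t s).1)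
      · exact Subgroup.mem_centralizer_singleton_iff.2 (gx_comm _ _ _ _ (N_comm_check s t).2.1.symm)
    exact (Subgroup.mem_centralizer_singleton_iff.1 (this hb)).symm
  have h2 : ∀ s : Fin 3, ∀ b ∈ N6, gx 11 s * b = b * gx 11 s := by
    intro s b hb
    have : N6 ≤ Subgroup.centralizer ({gx 11 s} : Set GL6) := by
      refine (Subgroup.closure_le _).2 ?_
      rintro _ ⟨t, rfl | rfl⟩
      · exact Subgroup.mem_centralizer_singleton_iff.2 (gx_comm _ _ _ _ (N_comm_check t s).2.1)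
      · exact Subgroup.mem_centralizer_singleton_iff.2 (gx_comm _ _ _ _ (N_comm_check t s).2.2)
    exact (Subgroup.mem_centralizer_singleton_iff.1 (this hb)).symm
  have h3 : N6 ≤ Subgroup.centralizer ({b} : Set GL6) := by
    refine (Subgroup.closure_le _).2 ?_
    rintro _ ⟨t, rfl | rfl⟩
    · exact Subgroup.mem_centralizer_singleton_iff.2 (h1 t b hb)
    · exact Subgroup.mem_centralizer_singleton_iff.2 (h2 t b hb)
  exact Subgroup.mem_centralizer_singleton_iff.1 (h3 ha)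

theorem N6_sq {a : GL6} (ha : a ∈ N6) : a * a = 1 := by
  induction ha using Subgroup.closure_induction with
  | mem y hy =>
    obtain ⟨t, rfl | rfl⟩ := hy <;> exact gx_sq _ _
  | one => rw [mul_one]
  | mul x y hx hy h1 h2 =>
    have h3 : y * x = x * y := N6_comm hy hx
    calc x * y * (x * y) = x * (y * x) * y := by group
      _ = (x * x) * (y * y) := by rw [h3]; group
      _ = 1 := by rw [h1, h2, one_mul]
  | inv x hx h1 =>
    rw [← mul_inv_rev, h1, inv_one]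

/-! ### `Al` normalises `N` -/

theorem Al_N_check : ∀ s t : Fin 3, (∃ a < 4, ∃ b < 4, cw [(5, s), (10, t), (5, s)] = cw (rw2 a b)) ∧
    (∃ a < 4, ∃ b < 4, cw [(5, s), (11, t), (5, s)] = cw (rw2 a b)) ∧
    (∃ a < 4, ∃ b < 4, cw [(6, s), (10, t), (6, s)] = cw (rw2 a b)) ∧
    (∃ a < 4, ∃ b < 4, cw [(6, s), (11, t), (6, s)] = cw (rw2 a b)) := by
  decide +kernel

theorem norm_of_gens {g : GL6} (hg : g⁻¹ = g) (h : ∀ t : Fin 3, g * gx 10 t * g⁻¹ ∈ N6 ∧
    g * gx 11 t * g⁻¹ ∈ N6) : g ∈ Subgroup.normalizer (N6 : Set GL6) := by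
  have h1 : N6 ≤ N6.comap (MulAut.conj g).toMonoidHom := by
    refine (Subgroup.closure_le _).2 ?_
    rintro _ ⟨t, rfl | rfl⟩
    · exact (h t).1
    · exact (h t).2
  rw [Subgroup.mem_normalizer_iff]
  intro x
  constructor
  · exact fun hx => h1 hx
  · intro hx
    have h2 : g * (g * x * g⁻¹) * g⁻¹ ∈ N6 := h1 hx
    have e : g * (g * x * g⁻¹) * g⁻¹ = x := by
      have e1 : g * g = 1 := by
        nth_rewrite 1 [← hg]; exact inv_mul_cancel g
      calc g * (g * x * g⁻¹) * g⁻¹ = (g * g) * x * (g * g)⁻¹ := by group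
        _ = x := by rw [e1]; group
    rwa [e] at h2

theorem conj_ev (r : Fin 12) (s : Fin 3) (r' : Fin 12) (t : Fin 3) {w : Wd}
    (h : cw [(r, s), (r', t), (r, s)] = cw w) : gx r s * gx r' t * (gx r s)⁻¹ = ev w := by
  rw [gx_inv]
  have h1 := ev_eq_of h
  have h2 : ([(r, s), (r', t), (r, s)] : Wd) = [(r, s)] ++ [(r', t)] ++ [(r, s)] := rfl
  rw [h2, ev_append, ev_append, ev_singleton, ev_singleton] at h1
  exact h1

theorem Al_le_norm : Al ≤ Subgroup.normalizer (N6 : Set GL6) := by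
  refine (Subgroup.closure_le _).2 ?_
  rintro _ ⟨s, rfl | rfl⟩
  · refine norm_of_gens (gx_inv _ _) fun t => ?_
    obtain ⟨⟨a, ha, b, hb, h⟩, ⟨c, hc, d, hd, h'⟩, -, -⟩ := Al_N_check s t
    rw [conj_ev _ _ _ _ h, conj_ev _ _ _ _ h']
    exact ⟨rw2_N6 _ _, rw2_N6 _ _⟩
  · refine norm_of_gens (gx_inv _ _) fun t => ?_
    obtain ⟨-, -, ⟨a, ha, b, hb, h⟩, ⟨c, hc, d, hd, h'⟩⟩ := Al_N_check s t
    rw [conj_ev _ _ _ _ h, conj_ev _ _ _ _ h']
    exact ⟨rw2_N6 _ _, rw2_N6 _ _⟩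

theorem Al_conj_N {a p : GL6} (ha : a ∈ Al) (hp : p ∈ N6) : a * p * a⁻¹ ∈ N6 :=
  (Subgroup.mem_normalizer_iff.1 (Al_le_norm ha) p).1 hp

/-! ### The subgroups of `L` -/

def lN : Subgroup L := N6.subgroupOf L
def lX : Subgroup L := X6.subgroupOf L

theorem mem_lN {x : L} : x ∈ lN ↔ (x : GL6) ∈ N6 := Iff.rfl
theorem mem_lX {x : L} : x ∈ lX ↔ (x : GL6) ∈ X6 := Iff.rfl

theorem Wof_split {y : L} (hy : y ∈ Wof lw lv) : ∃ p ∈ lN, ∃ b ∈ lAl, y = p * b := by
  obtain ⟨s, hs, t, ht, b, hb, h⟩ := Wv_split (Wof_le hy)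
  exact ⟨⟨ev (rw2 s t), ev_mem _⟩, rw2_N6 s t, ⟨b, Al_le hb⟩, hb, Subtype.ext h⟩

theorem Wof_ge : lAl ≤ Wof lw lv ∧ lN ≤ Wof lw lv := by
  set K₁ : Subgroup GL6 := (Wof lw lv).map L.subtype with hK₁
  have m1 : ∀ x : L, (x : GL6) ∈ Cv → (x : GL6) * wE * (x : GL6)⁻¹ ∈ K₁ := by
    intro x hx
    exact ⟨x * lw * x⁻¹, Subgroup.subset_closure ⟨x, Subtype.ext hx.2, rfl⟩, rfl⟩
  obtain ⟨a1, r1, -⟩ := conj_mem (K := K₁) (fun a ha => m1 ⟨a, Al_le ha⟩ (Al_le_Cv ha))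
    (fun s hs t ht => m1 ⟨_, ev_mem _⟩ (rw2_Cv s t))
  have back : ∀ x : L, (x : GL6) ∈ K₁ → x ∈ Wof lw lv := by
    rintro x ⟨y, hy, h⟩
    have : y = x := Subtype.ext h
    rwa [← this]
  constructor
  · exact fun x hx => back x (a1 hx)
  · intro x hx
    apply back
    have h1 : N6 ≤ K₁ := by
      refine (Subgroup.closure_le _).2 ?_
      rintro _ ⟨t, rfl | rfl⟩
      · have := r1 ((t : ℕ) + 1) 0
        have e : ev (rw2 ((t : ℕ) + 1) 0) = gx 10 t := by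
          have e1 : rw2 ((t : ℕ) + 1) 0 = [(10, t)] := by
            fin_cases t <;> rfl
          rw [e1, ev_singleton]
        rwa [e] at this
      · have := r1 0 ((t : ℕ) + 1)
        have e : ev (rw2 0 ((t : ℕ) + 1)) = gx 11 t := by
          have e1 : rw2 0 ((t : ℕ) + 1) = [(11, t)] := by
            fin_cases t <;> rfl
          rw [e1, ev_singleton]
        rwa [e] at this
    exact h1 hx

theorem conj_lN {y p : L} (hy : y ∈ Wof lw lv) (hp : p ∈ lN) : y * p * y⁻¹ ∈ lN := by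
  obtain ⟨q, hq, b, hb, rfl⟩ := Wof_split hy
  have h1 : b * p * b⁻¹ ∈ lN := Al_conj_N hb hp
  have e : q * b * p * (q * b)⁻¹ = q * (b * p * b⁻¹) * q⁻¹ := by group
  rw [e]
  exact lN.mul_mem (lN.mul_mem hq h1) (lN.inv_mem hq)

theorem comm_X {x : L} (hx : x ∈ lX) {y : L} (hy : y ∈ Wof lw lv) : y * x = x * y := by
  obtain ⟨s, hs, t, ht, b, hb, h⟩ := Wv_split (Wof_le hy)
  have h1 : X6 ≤ Subgroup.centralizer ({(y : GL6)} : Set GL6) := by
    refine (Subgroup.closure_le _).2 ?_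
    rintro _ ⟨c, rfl⟩
    refine Subgroup.mem_centralizer_singleton_iff.2 ?_
    have k1 : b * gx 9 c = gx 9 c * b := comm_Al_As hb (gx9_mem c)
    have k2 := rw2_comm9 s t c
    rw [h]
    calc gx 9 c * (ev (rw2 s t) * b) = (gx 9 c * ev (rw2 s t)) * b := by group
      _ = ev (rw2 s t) * (gx 9 c * b) := by rw [← k2]; group
      _ = ev (rw2 s t) * b * gx 9 c := by rw [← k1]; group
  exact Subtype.ext (Subgroup.mem_centralizer_singleton_iff.1 (h1 hx)).symm

/-- normal 2-subgroups of `W₀` -/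
theorem le_lN {P : Subgroup L} (hP : P ≤ Wof lw lv) (h2 : IsPGroup 2 P)
    (hn : ∀ y ∈ Wof lw lv, ∀ p ∈ P, y * p * y⁻¹ ∈ P) : P ≤ lN := by
  obtain ⟨e⟩ := eAl
  have hs : IsSimpleGroup lAl := by
    have : IsSimpleGroup (alternatingGroup (Fin 5)) := alternatingGroup.isSimpleGroup (by simp)
    exact e.isSimpleGroup
  -- the projection
  let B : Subgroup lAl :=
    { carrier := {b | ∃ q ∈ lN, q * (b : L) ∈ P}
      one_mem' := ⟨1, lN.one_mem, by rw [one_mul]; exact P.one_mem⟩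
      mul_mem' := by
        rintro a b ⟨q, hq, h⟩ ⟨r, hr, h'⟩
        refine ⟨q * ((a : L) * r * (a : L)⁻¹), lN.mul_mem hq (Al_conj_N a.2 hr), ?_⟩
        have : q * ((a : L) * r * (a : L)⁻¹) * ((a * b : lAl) : L) = q * a * (r * b) := by
          rw [Subgroup.coe_mul]; group
        rw [this]
        exact P.mul_mem h h'
      inv_mem' := by
        rintro a ⟨q, hq, h⟩
        refine ⟨(a : L)⁻¹ * q⁻¹ * (a : L)⁻¹⁻¹, Al_conj_N (lAl.inv_mem a.2) (lN.inv_mem hq), ?_⟩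
        have : (a : L)⁻¹ * q⁻¹ * (a : L)⁻¹⁻¹ * ((a⁻¹ : lAl) : L) = (q * a)⁻¹ := by
          rw [Subgroup.coe_inv]; group
        rw [this]
        exact P.inv_mem h }
  have hB : B.Normal := by
    constructor
    rintro b ⟨q, hq, h⟩ a
    refine ⟨(a : L) * q * (a : L)⁻¹, Al_conj_N a.2 hq, ?_⟩
    have : (a : L) * q * (a : L)⁻¹ * ((a * b * a⁻¹ : lAl) : L) = a * (q * b) * (a : L)⁻¹ := by
      rw [Subgroup.coe_mul, Subgroup.coe_mul, Subgroup.coe_inv]; group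
    rw [this]
    exact hn _ (Wof_ge.1 a.2) _ h
  rcases hB.eq_bot_or_eq_top with h | h
  · intro x hx
    obtain ⟨q, hq, b, hb, rfl⟩ := Wof_split (hP hx)
    have h1 : (⟨b, hb⟩ : lAl) ∈ B := ⟨q, hq, hx⟩
    rw [h, Subgroup.mem_bot] at h1
    have h2 : b = 1 := congrArg Subtype.val h1
    rw [h2, mul_one]
    exact hq
  · exfalso
    have h1 : (⟨lw, lw_mem⟩ : lAl) ∈ B := by rw [h]; trivial
    obtain ⟨q, hq, h3⟩ := h1
    have h3' : q * lw ∈ P := h3
    -- powers of `q w`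
    have key : ∀ n : ℕ, ∃ r ∈ lN, (q * lw) ^ n = r * lw ^ n := by
      intro n
      induction n with
      | zero => exact ⟨1, lN.one_mem, by rw [pow_zero, pow_zero, one_mul]⟩
      | succ n ih =>
        obtain ⟨r, hr, h4⟩ := ih
        refine ⟨r * (lw ^ n * q * (lw ^ n)⁻¹), lN.mul_mem hr (Al_conj_N (lAl.pow_mem lw_mem n) hq), ?_⟩
        rw [pow_succ, h4, pow_succ lw]
        group
    obtain ⟨k, hk⟩ := h2 ⟨q * lw, h3'⟩
    have hk' : (q * lw) ^ 2 ^ k = 1 := congrArg Subtype.val hk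
    obtain ⟨r, hr, h4⟩ := key (2 ^ k)
    rw [hk'] at h4
    have h5 : lw ^ 2 ^ k = r⁻¹ := by
      rw [eq_inv_iff_mul_eq_one]
      have h6 : r * lw ^ 2 ^ k = 1 := h4.symm
      exact mul_eq_one_comm.1 h6
    have h6 : lw ^ 2 ^ (k + 1) = 1 := by
      have h7 : (r⁻¹ * r⁻¹ : L) = 1 := Subtype.ext (N6_sq (lN.inv_mem hr))
      rw [pow_succ, pow_mul, h5, sq, h7]
    have h7 : orderOf lw ∣ 2 ^ (k + 1) := orderOf_dvd_of_pow_eq_one h6
    have h8 : orderOf lw ∣ 5 := orderOf_dvd_of_pow_eq_one lw5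
    have h9 : Nat.Coprime (2 ^ (k + 1)) 5 := Nat.Coprime.pow_left _ (by norm_num)
    have h10 : orderOf lw = 1 := Nat.eq_one_of_dvd_coprimes h9 h7 h8
    exact lw1 (orderOf_eq_one_iff.1 h10)

/-! ### Automorphisms trivial on `N` -/

def cg : Wd := [(2, 0), (7, 0), (4, 0)]

theorem cg_check : ∃ s t : Fin 3, s ≠ t ∧ cw (cg ++ [(10, 0)] ++ cg.reverse) = cw [(6, s)] ∧
    cw (cg ++ [(10, 1)] ++ cg.reverse) = cw [(6, t)] := by decide +kernel

theorem z6_comm : ∀ s t : Fin 3, cw [(6, s), (6, t)] = cw [(6, t), (6, s)] ∧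
    (s ≠ t → xc 6 s ≠ xc 6 t) := by decide +kernel

theorem inner_N (α : L ≃* L) (hα : ∀ y ∈ lN, α y = y) : ∃ c, ∀ x, α x = c * x * c⁻¹ := by
  obtain ⟨s, t, hst, h1, h2⟩ := cg_check
  let g : L := ⟨ev cg, ev_mem _⟩
  let z₁ : L := ⟨gx 6 s, gx_mem _ _⟩
  let z₂ : L := ⟨gx 6 t, gx_mem _ _⟩
  let y₁ : L := ⟨gx 10 0, gx_mem _ _⟩
  let y₂ : L := ⟨gx 10 1, gx_mem _ _⟩
  have e1 : g * y₁ * g⁻¹ = z₁ := by
    apply Subtype.ext
    have h := ev_eq_of h1
    rw [ev_append, ev_append, ev_reverse, ev_singleton, ev_singleton] at h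
    exact h
  have e2 : g * y₂ * g⁻¹ = z₂ := by
    apply Subtype.ext
    have h := ev_eq_of h2
    rw [ev_append, ev_append, ev_reverse, ev_singleton, ev_singleton] at h
    exact h
  let β : MulAut L := MulAut.conj g * (α : MulAut L) * (MulAut.conj g)⁻¹
  have hβ : ∀ x, β x = g * α (g⁻¹ * x * g) * g⁻¹ := by
    intro x
    change g * α ((MulAut.conj g)⁻¹ x) * g⁻¹ = _
    rw [← map_inv, MulAut.conj_apply, inv_inv]
  have b1 : β z₁ = z₁ := by
    rw [hβ, ← e1]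
    have : g⁻¹ * (g * y₁ * g⁻¹) * g = y₁ := by group
    rw [this, hα y₁ (gx10_mem 0)]
  have b2 : β z₂ = z₂ := by
    rw [hβ, ← e2]
    have : g⁻¹ * (g * y₂ * g⁻¹) * g = y₂ := by group
    rw [this, hα y₂ (gx10_mem 1)]
  have hne : z₁ ≠ z₂ := by
    intro h
    have h3 : gx 6 s = gx 6 t := congrArg Subtype.val h
    have h4 : IsCode (gx 6 s : Mat) (xc 6 t) := by rw [h3]; exact isCode_gx _ _
    exact (z6_comm s t).2 hst ((isCode_gx 6 s).unique h4)
  obtain ⟨c, hc⟩ := ax6.inner_of_four β (z₁ := z₁) (z₂ := z₂) (gx6_mem s) (gx6_mem t)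
    (fun h => gx_ne _ _ (congrArg Subtype.val h)) (fun h => gx_ne _ _ (congrArg Subtype.val h))
    (Subtype.ext (gx_sq _ _)) (Subtype.ext (gx_sq _ _)) hne
    (Subtype.ext (gx_comm _ _ _ _ (z6_comm s t).1)) b1 b2
  refine ⟨g⁻¹ * c * g, fun x => ?_⟩
  have h3 := hc (g * x * g⁻¹)
  rw [hβ] at h3
  have e3 : g⁻¹ * (g * x * g⁻¹) * g = x := by group
  rw [e3] at h3
  calc α x = g⁻¹ * (g * α x * g⁻¹) * g := by group
    _ = g⁻¹ * (c * (g * x * g⁻¹) * c⁻¹) * g := by rw [h3]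
    _ = _ := by group

/-! ### The structure -/

/-- The part of `FactsN` on `W₀` -/
structure FNW {L : Type*} [Group L] (D : Data L) (N X : Subgroup L) : Prop where
  cX : ∀ y ∈ Wof D.w D.v, ∀ x ∈ X, y * x = x * y
  NW : N ≤ Wof D.w D.v
  nW : ∀ y ∈ Wof D.w D.v, ∀ p ∈ N, y * p * y⁻¹ ∈ N
  N2 : ∀ y ∈ N, y * y = 1
  NAl : ∀ y ∈ N, ∃ l, l * y * l⁻¹ ∈ D.Al
  NO2 : ∀ P : Subgroup L, P ≤ Wof D.w D.v → IsPGroup 2 P →
    (∀ y ∈ Wof D.w D.v, ∀ p ∈ P, y * p * y⁻¹ ∈ P) → P ≤ N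
  inner : ∀ α : L ≃* L, (∀ y ∈ N, α y = y) → ∃ c, ∀ x, α x = c * x * c⁻¹

theorem fnw6 : FNW Facts6.D6 lN lX where
  cX y hy x hx := comm_X hx hy
  NW := Wof_ge.2
  nW y hy p hp := conj_lN hy hp
  N2 y hy := Subtype.ext (N6_sq hy)
  NAl y hy := by
    obtain ⟨l, hl, h⟩ := Wv_inv (Wof_le (Wof_ge.2 hy)) (N6_sq hy)
    exact ⟨⟨l, hl⟩, h⟩
  NO2 P h1 h2 h3 := le_lN h1 h2 h3
  inner := inner_N

section Transport

variable {L M : Type*} [Group L] [Group M]

theorem fnw_map (e : L ≃* M) {D : Data L} {N X : Subgroup L} (F : FNW D N X) :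
    FNW (dmap e D) (N.map e.toMonoidHom) (X.map e.toMonoidHom) where
  cX := by
    rintro y0 hy0 _ ⟨x, hx, rfl⟩
    obtain ⟨y, hy, rfl⟩ := exists_of_mem e (w := D.w) (a := D.v) hy0
    change e y * e x = e x * e y
    rw [← map_mul, F.cX y hy x hx, map_mul]
  NW := by
    have h := Subgroup.map_mono (f := e.toMonoidHom) F.NW
    rwa [map_Wof] at h
  nW := by
    rintro y0 hy0 _ ⟨p, hp, rfl⟩
    obtain ⟨y, hy, rfl⟩ := exists_of_mem e (w := D.w) (a := D.v) hy0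
    refine ⟨y * p * y⁻¹, F.nW y hy p hp, ?_⟩
    change e (y * p * y⁻¹) = e y * e p * (e y)⁻¹
    rw [map_mul, map_mul, map_inv]
  N2 := by
    rintro _ ⟨y, hy, rfl⟩
    change e y * e y = 1
    rw [← map_mul, F.N2 y hy, map_one]
  NAl := by
    rintro _ ⟨y, hy, rfl⟩
    obtain ⟨l, hl⟩ := F.NAl y hy
    refine ⟨e l, l * y * l⁻¹, hl, ?_⟩
    change e (l * y * l⁻¹) = e l * e y * (e l)⁻¹
    rw [map_mul, map_mul, map_inv]
  NO2 := by
    intro P h1 h2 h3
    have h4 : P.comap e.toMonoidHom ≤ N := by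
      refine F.NO2 _ ?_ ?_ ?_
      · intro x hx
        obtain ⟨y, hy, h⟩ := exists_of_mem e (w := D.w) (a := D.v) (h1 hx)
        have : y = x := e.injective h.symm
        exact this ▸ hy
      · exact h2.comap_of_injective _ e.injective
      · intro y hy p hp
        have := h3 (e y) (mem_map' e hy) (e p) hp
        change e (y * p * y⁻¹) ∈ P
        rw [map_mul, map_mul, map_inv]
        exact this
    intro x hx
    refine ⟨e.symm x, h4 ?_, e.apply_symm_apply x⟩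
    change e (e.symm x) ∈ P
    rw [e.apply_symm_apply]; exact hx
  inner := by
    intro α hα
    obtain ⟨c, hc⟩ := F.inner (pull e α) (fun y hy => e.injective (by
      rw [pull_apply]
      exact hα _ ⟨y, hy, rfl⟩))
    exact ⟨e c, fun x => conj_of_pull e α hc x⟩

end Transport

/-! ### The group on 416 points -/

section L0

open Cfsg.Agent.StdG24.Words Cfsg.Agent.StdG24.GenJ Cfsg.Agent.StdG24.FactsL0

theorem sum_check : cw [(10, 2)] = cw [(10, 0), (10, 1)] ∧ cw [(11, 2)] = cw [(11, 0), (11, 1)] ∧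
    cw [(9, 2)] = cw [(9, 0), (9, 1)] := by decide +kernel

theorem gx_two (r : Fin 12) (h : cw [(r, 2)] = cw [(r, 0), (r, 1)]) : gx r 2 = gx r 0 * gx r 1 := by
  have h1 := ev_eq_of h
  rwa [ev_singleton, ev_pair] at h1

theorem N6_eq : N6 = Subgroup.closure {gx 10 0, gx 10 1, gx 11 0, gx 11 1} := by
  apply le_antisymm
  · refine (Subgroup.closure_le _).2 ?_
    have m : ∀ g ∈ ({gx 10 0, gx 10 1, gx 11 0, gx 11 1} : Set GL6),
        g ∈ Subgroup.closure ({gx 10 0, gx 10 1, gx 11 0, gx 11 1} : Set GL6) :=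
      fun g hg => Subgroup.subset_closure hg
    rintro _ ⟨t, rfl | rfl⟩
    · fin_cases t
      · exact m _ (by simp)
      · exact m _ (by simp)
      · change gx 10 2 ∈ _
        rw [gx_two 10 sum_check.1]
        exact Subgroup.mul_mem _ (m _ (by simp)) (m _ (by simp))
    · fin_cases t
      · exact m _ (by simp)
      · exact m _ (by simp)
      · change gx 11 2 ∈ _
        rw [gx_two 11 sum_check.2.1]
        exact Subgroup.mul_mem _ (m _ (by simp)) (m _ (by simp))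
  · refine (Subgroup.closure_le _).2 ?_
    rintro g (rfl | rfl | rfl | rfl)
    · exact gx10_mem 0
    · exact gx10_mem 1
    · exact gx11_mem 0
    · exact gx11_mem 1

theorem X6_eq : X6 = Subgroup.closure {gx 9 0, gx 9 1} := by
  apply le_antisymm
  · refine (Subgroup.closure_le _).2 ?_
    have m : ∀ g ∈ ({gx 9 0, gx 9 1} : Set GL6),
        g ∈ Subgroup.closure ({gx 9 0, gx 9 1} : Set GL6) :=
      fun g hg => Subgroup.subset_closure hg
    rintro _ ⟨t, rfl⟩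
    fin_cases t
    · exact m _ (by simp)
    · exact m _ (by simp)
    · change gx 9 2 ∈ _
      rw [gx_two 9 sum_check.2.2]
      exact Subgroup.mul_mem _ (m _ (by simp)) (m _ (by simp))
  · refine (Subgroup.closure_le _).2 ?_
    rintro g (rfl | rfl)
    · exact Subgroup.subset_closure ⟨0, rfl⟩
    · exact Subgroup.subset_closure ⟨1, rfl⟩

variable {φ : L0 ≃* Mod6.L} (hφ : ∀ (r : Fin 12) (t : Fin 3),
  ((φ (X r.val t.val) : Mod6.L) : Mod6.GL6) = Mod6.gx r t)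

include hφ

omit hφ in
/-- transport of a subgroup generated by root elements -/
theorem map_closure_eq (S : Set L0) (T : Set GL6) (K : Subgroup GL6) (hK : K = Subgroup.closure T)
    (hST : (fun x => ((φ x : Mod6.L) : GL6)) '' S = T) :
    (K.subgroupOf Mod6.L).map φ.symm.toMonoidHom = Subgroup.closure S := by
  have h1 : ((Subgroup.closure S).map φ.toMonoidHom).map Mod6.L.subtype = K := by
    rw [Subgroup.map_map, MonoidHom.map_closure, hK]
    congr 1
  have h0 : K.subgroupOf Mod6.L = (Subgroup.closure S).map φ.toMonoidHom := by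
    ext x
    rw [Subgroup.mem_subgroupOf, ← h1]
    constructor
    · rintro ⟨y, hy, h⟩
      have : y = x := Subtype.ext h
      exact this ▸ hy
    · intro h
      exact ⟨x, h, rfl⟩
  rw [h0, Subgroup.map_map]
  have h2 : φ.symm.toMonoidHom.comp φ.toMonoidHom = MonoidHom.id L0 :=
    MonoidHom.ext fun x => φ.symm_apply_apply x
  rw [h2, Subgroup.map_id]

theorem map_N : lN.map φ.symm.toMonoidHom = QDef.NB := by
  have a1 : ((φ (X 10 0) : Mod6.L) : GL6) = gx 10 0 := hφ 10 0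
  have a2 : ((φ (X 10 1) : Mod6.L) : GL6) = gx 10 1 := hφ 10 1
  have a3 : ((φ (X 11 0) : Mod6.L) : GL6) = gx 11 0 := hφ 11 0
  have a4 : ((φ (X 11 1) : Mod6.L) : GL6) = gx 11 1 := hφ 11 1
  refine map_closure_eq _ _ N6 N6_eq ?_
  rw [Set.image_insert_eq, Set.image_insert_eq, Set.image_insert_eq, Set.image_singleton, a1, a2, a3, a4]

theorem map_X : lX.map φ.symm.toMonoidHom = QDef.XB := by
  have a1 : ((φ (X 9 0) : Mod6.L) : GL6) = gx 9 0 := hφ 9 0
  have a2 : ((φ (X 9 1) : Mod6.L) : GL6) = gx 9 1 := hφ 9 1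
  refine map_closure_eq _ _ X6 X6_eq ?_
  rw [Set.image_insert_eq, Set.image_singleton, a1, a2]

omit hφ

/-- **the part of `FactsN` on `W₀` for the group on 416 points** -/
theorem fnw0 : FNW D0 QDef.NB QDef.XB := by
  obtain ⟨φ, hφ⟩ := Iso416.exists_iso6
  have h := fnw_map φ.symm fnw6
  rw [dmap_eq hφ, map_N hφ, map_X hφ] at h
  exact h

end L0

end Cfsg.Agent.StdG24.FactsNW
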