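import Cfsg.Agent.SporRec.G24Orb
import Cfsg.Agent.SporRec.G24Rel

/-!
# A six-dimensional model of `G₂(4)`: codes

Vectors of `F4 ^ 6` are coded by numbers below 4096 (two bits per coordinate), matrices by the
list of the codes of the images of the twelve vectors `2 ^ j`.  The root elements `gx r t`
(numbering of the roots as in `Def_ChevG2`, coordinates are the short roots `9, 8, 7, 4, 3, 2`).
-/

set_option autoImplicit false
set_option linter.constructorNameAsVariable false
set_option linter.unusedVariables false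

namespace Cfsg.Agent.StdG24.Mod6

open Cfsg.Agent.SporRec.GF4
open Cfsg.Agent.SporRec.G24Code (ofBits app app_lt split_xor ofBits_xor)
open Cfsg.Agent.SporRec.G24Mat (appL ofBits_inj)

/-- vectors -/
abbrev Vec : Type := Fin 6 → F4
/-- matrices -/
abbrev Mat : Type := Matrix (Fin 6) (Fin 6) F4
/-- invertible matrices -/
abbrev GL6 : Type := GL (Fin 6) F4

/-- the vector with a given code -/
def dec (n : ℕ) : Vec := fun i => ofBits (n.testBit (2 * i)) (n.testBit (2 * i + 1))

theorem dec_xor (m n : ℕ) : dec (m ^^^ n) = dec m + dec n := by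
  funext i
  simp only [dec, Nat.testBit_xor, Pi.add_apply]
  exact ofBits_xor _ _ _ _

theorem dec_zero : dec 0 = 0 := by
  funext i
  simp only [dec, Nat.zero_testBit, Pi.zero_apply]
  rfl

theorem exists_pos : ∀ j < 12, ∃ col : Fin 6, j = 2 * (col : ℕ) ∨ j = 2 * (col : ℕ) + 1 := by
  decide

theorem dec_even : ∀ col : Fin 6, dec (2 ^ (2 * (col : ℕ))) = Pi.single col 1 := by
  decide

theorem dec_odd : ∀ col : Fin 6, dec (2 ^ (2 * (col : ℕ) + 1)) = Pi.single col F4.w := by
  decide

theorem dec_inj {m n : ℕ} (hm : m < 4096) (hn : n < 4096) (h : dec m = dec n) : m = n := by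
  apply Nat.eq_of_testBit_eq
  intro j
  by_cases hj : j < 12
  · obtain ⟨col, rfl | rfl⟩ := exists_pos j hj
    · exact (ofBits_inj (congrFun h col)).1
    · exact (ofBits_inj (congrFun h col)).2
  · have h1 : 2 ^ 12 ≤ 2 ^ j := Nat.pow_le_pow_right (by norm_num) (by omega)
    rw [Nat.testBit_lt_two_pow (lt_of_lt_of_le (by omega) h1),
      Nat.testBit_lt_two_pow (lt_of_lt_of_le (by omega) h1)]

theorem card_Vec : Fintype.card Vec = 4096 := by
  rw [Fintype.card_fun, F4.card_F4, Fintype.card_fin]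
  norm_num

/-- every vector has a code -/
theorem exists_dec (x : Vec) : ∃ n < 4096, dec n = x := by
  have hinj : Function.Injective (fun n : Fin 4096 => dec n) := fun a b h =>
    Fin.ext (dec_inj a.isLt b.isLt h)
  have hb : Function.Bijective (fun n : Fin 4096 => dec n) :=
    (Fintype.bijective_iff_injective_and_card _).2 ⟨hinj, by rw [Fintype.card_fin, card_Vec]⟩
  obtain ⟨n, hn⟩ := hb.2 x
  exact ⟨n, n.isLt, hn⟩

/-! ### Codes of matrices -/

/-- `C` is the code of the matrix `A` -/
structure IsCode (A : Mat) (C : List ℕ) : Prop where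
  len : C.length = 12
  lt : ∀ c ∈ C, c < 4096
  spec : ∀ v < 4096, dec (app C v) = A.mulVec (dec v)

theorem IsCode.app_lt {A : Mat} {C : List ℕ} (h : IsCode A C) (v : ℕ) : app C v < 4096 :=
  Cfsg.Agent.SporRec.G24Code.app_lt C 12 h.lt v

theorem app_spec_aux (A : Mat) (cs : List ℕ) (k : ℕ)
    (h : ∀ j < cs.length, dec (cs.getD j 0) = A.mulVec (dec (2 ^ (k + j)))) :
    ∀ v < 2 ^ cs.length, dec (app cs v) = A.mulVec (dec (v * 2 ^ k)) := by
  induction cs generalizing k with
  | nil =>
    intro v hv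
    have : v = 0 := by simpa using hv
    subst this
    rw [app, Nat.zero_mul, dec_zero, Matrix.mulVec_zero]
  | cons c cs ih =>
    intro v hv
    rw [app, dec_xor, ih (k + 1) _ (v / 2) _]
    · have key : v * 2 ^ k = ((v % 2) * 2 ^ k) ^^^ ((v / 2) * 2 ^ (k + 1)) := split_xor v k
      rw [key, dec_xor, Matrix.mulVec_add]
      congr 1
      have h1 : v % 2 = 0 ∨ v % 2 = 1 := by omega
      rcases h1 with h1 | h1
      · rw [h1, Nat.zero_mul, Nat.zero_mul, dec_zero, Matrix.mulVec_zero]
      · rw [h1, Nat.one_mul, Nat.one_mul]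
        have := h 0 (by simp)
        simpa using this
    · intro j hj
      have := h (j + 1) (by simpa using hj)
      rw [List.getD_cons_succ] at this
      rw [this, Nat.add_assoc, Nat.add_comm 1 j]
    · rw [List.length_cons, pow_succ] at hv
      omega

theorem isCode_of_cols {A : Mat} {C : List ℕ} (hlen : C.length = 12)
    (hlt : ∀ c ∈ C, c < 4096)
    (h : ∀ j < 12, dec (C.getD j 0) = A.mulVec (dec (2 ^ j))) : IsCode A C := by
  refine ⟨hlen, hlt, fun v hv => ?_⟩
  have := app_spec_aux A C 0 (fun j hj => by rw [Nat.zero_add]; exact h j (hlen ▸ hj)) v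
    (by rw [hlen]; exact hv)
  simpa using this

/-- the matrix with a given code -/
def matOf (C : List ℕ) : Mat := fun i j => dec (C.getD (2 * (j : ℕ)) 0) i

/-- codes of linear maps -/
def okC (C : List ℕ) : Bool :=
  Nat.beq C.length 12 && (C.all (fun c => Nat.blt c 4096) &&
    (List.range 6).all fun j => (List.range 6).all fun i =>
      decide (ofBits ((C.getD (2 * j + 1) 0).testBit (2 * i)) ((C.getD (2 * j + 1) 0).testBit (2 * i + 1)) =
        ofBits ((C.getD (2 * j) 0).testBit (2 * i)) ((C.getD (2 * j) 0).testBit (2 * i + 1)) * F4.w))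

theorem isCode_matOf {C : List ℕ} (h : okC C = true) : IsCode (matOf C) C := by
  simp only [okC, Bool.and_eq_true] at h
  obtain ⟨h1, h2, h3⟩ := h
  refine isCode_of_cols (Nat.eq_of_beq_eq_true h1) (fun c hc => ?_) (fun j hj => ?_)
  · exact Nat.blt_eq.mp (List.all_eq_true.1 h2 c hc)
  · obtain ⟨col, rfl | rfl⟩ := exists_pos j hj
    · rw [dec_even, Matrix.mulVec_single_one]
      rfl
    · rw [dec_odd, Matrix.mulVec_single]
      funext i
      have h4 := List.all_eq_true.1 (List.all_eq_true.1 h3 (col : ℕ) (List.mem_range.2 col.isLt))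
        (i : ℕ) (List.mem_range.2 i.isLt)
      exact of_decide_eq_true h4

theorem mat_ext {A B : Mat} (h : ∀ p < 6, A.mulVec (dec (4 ^ p)) = B.mulVec (dec (4 ^ p))) :
    A = B := by
  ext i col
  have h1 := h (col : ℕ) col.isLt
  have e : (4 : ℕ) ^ (col : ℕ) = 2 ^ (2 * (col : ℕ)) := by
    rw [pow_mul]; norm_num
  rw [e, dec_even, Matrix.mulVec_single_one, Matrix.mulVec_single_one] at h1
  exact congrFun h1 i

theorem getD_eq_app {C : List ℕ} (hlen : C.length = 12) : ∀ j < 12, app C (2 ^ j) = C.getD j 0 := by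
  match C, hlen with
  | [c0, c1, c2, c3, c4, c5, c6, c7, c8, c9, c10, c11], _ =>
    intro j hj
    interval_cases j <;> simp [app]

/-- product of codes -/
def mulC (C D : List ℕ) : List ℕ := D.map (app C)

theorem isCode_mul {A B : Mat} {C D : List ℕ} (hA : IsCode A C) (hB : IsCode B D) :
    IsCode (A * B) (mulC C D) := by
  refine isCode_of_cols (by rw [mulC, List.length_map, hB.len]) ?_ ?_
  · intro c hc
    obtain ⟨d, -, rfl⟩ := List.mem_map.1 hc
    exact hA.app_lt d
  · intro j hj
    have h1 : (mulC C D).getD j 0 = app C (D.getD j 0) := by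
      rw [mulC]
      have hj' : j < D.length := by rw [hB.len]; exact hj
      rw [List.getD_eq_getElem _ _ (by rw [List.length_map]; exact hj'), List.getElem_map,
        List.getD_eq_getElem _ _ hj']
    rw [h1, ← getD_eq_app hB.len j hj, hA.spec _ (hB.app_lt _), hB.spec _ _, Matrix.mulVec_mulVec]
    calc (2 : ℕ) ^ j < 2 ^ 12 := Nat.pow_lt_pow_right (by norm_num) hj
      _ = 4096 := by norm_num

/-- the identity code -/
def idC : List ℕ := [1, 2, 4, 8, 16, 32, 64, 128, 256, 512, 1024, 2048]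

theorem isCode_one : IsCode (1 : Mat) idC := by
  refine isCode_of_cols rfl (by decide) (fun j hj => ?_)
  rw [Matrix.one_mulVec]
  congr 1
  revert j
  decide

theorem IsCode.unique {A : Mat} {C D : List ℕ} (hC : IsCode A C) (hD : IsCode A D) : C = D := by
  apply List.ext_getElem (by rw [hC.len, hD.len])
  intro j h1 h2
  have hj : j < 12 := by rw [← hC.len]; exact h1
  have e1 := getD_eq_app hC.len j hj
  have e2 := getD_eq_app hD.len j hj
  rw [List.getD_eq_getElem _ _ h1] at e1
  rw [List.getD_eq_getElem _ _ h2] at e2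
  rw [← e1, ← e2]
  have hj2 : (2 : ℕ) ^ j < 4096 := by
    calc (2 : ℕ) ^ j < 2 ^ 12 := Nat.pow_lt_pow_right (by norm_num) hj
      _ = 4096 := by norm_num
  exact dec_inj (hC.app_lt _) (hD.app_lt _) (by rw [hC.spec _ hj2, hD.spec _ hj2])

theorem IsCode.mat_eq {A B : Mat} {C : List ℕ} (hA : IsCode A C) (hB : IsCode B C) : A = B := by
  apply mat_ext
  intro p hp
  have hp' : (4 : ℕ) ^ p < 4096 := by
    calc (4 : ℕ) ^ p < 4 ^ 6 := Nat.pow_lt_pow_right (by norm_num) hp
      _ = 4096 := by norm_num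
  rw [← hA.spec _ hp', ← hB.spec _ hp']

theorem IsCode.eq_iff {A B : Mat} {C D : List ℕ} (hA : IsCode A C) (hB : IsCode B D) :
    A = B ↔ C = D := by
  constructor
  · rintro rfl
    exact hA.unique hB
  · rintro rfl
    exact hA.mat_eq hB

/-- the action on codes -/
theorem IsCode.app_eq_iff {A : Mat} {C : List ℕ} (h : IsCode A C) {n m : ℕ} (hn : n < 4096)
    (hm : m < 4096) : A.mulVec (dec n) = dec m ↔ app C n = m := by
  rw [← h.spec n hn]
  exact ⟨fun e => dec_inj (h.app_lt n) hm e, fun e => by rw [e]⟩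

/-! ### Root elements -/

/-- codes of the root elements `x_r(t)`, index `3 r + t` -/
def XC : List (List ℕ) := [
  [257, 514, 1028, 2056, 16, 32, 64, 128, 256, 512, 1024, 2048],
  [513, 770, 2052, 3080, 16, 32, 64, 128, 256, 512, 1024, 2048],
  [769, 258, 3076, 1032, 16, 32, 64, 128, 256, 512, 1024, 2048],
  [65, 130, 4, 8, 1040, 2080, 64, 128, 256, 512, 1024, 2048],
  [129, 194, 4, 8, 2064, 3104, 64, 128, 256, 512, 1024, 2048],
  [193, 66, 4, 8, 3088, 1056, 64, 128, 256, 512, 1024, 2048],
  [1025, 2050, 68, 136, 272, 544, 64, 128, 256, 512, 1024, 2048],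
  [3073, 1026, 132, 200, 528, 800, 64, 128, 256, 512, 1024, 2048],
  [2049, 3074, 196, 72, 784, 288, 64, 128, 256, 512, 1024, 2048],
  [17, 34, 260, 520, 16, 32, 1088, 2176, 256, 512, 1024, 2048],
  [33, 50, 772, 264, 16, 32, 2112, 3200, 256, 512, 1024, 2048],
  [49, 18, 516, 776, 16, 32, 3136, 1152, 256, 512, 1024, 2048],
  [5, 10, 4, 8, 80, 160, 64, 128, 1280, 2560, 1024, 2048],
  [9, 14, 4, 8, 208, 96, 64, 128, 2304, 3584, 1024, 2048],
  [13, 6, 4, 8, 144, 224, 64, 128, 3328, 1536, 1024, 2048],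
  [1, 2, 20, 40, 16, 32, 320, 640, 256, 512, 1024, 2048],
  [1, 2, 36, 56, 16, 32, 576, 896, 256, 512, 1024, 2048],
  [1, 2, 52, 24, 16, 32, 832, 384, 256, 512, 1024, 2048],
  [1, 2, 4, 8, 20, 40, 64, 128, 320, 640, 1024, 2048],
  [1, 2, 4, 8, 24, 44, 64, 128, 384, 704, 1024, 2048],
  [1, 2, 4, 8, 28, 36, 64, 128, 448, 576, 1024, 2048],
  [1, 2, 5, 10, 16, 32, 80, 160, 256, 512, 1280, 2560],
  [1, 2, 6, 11, 16, 32, 112, 144, 256, 512, 1536, 2816],
  [1, 2, 7, 9, 16, 32, 96, 176, 256, 512, 1792, 2304],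
  [1, 2, 4, 8, 17, 34, 64, 128, 260, 520, 1088, 2176],
  [1, 2, 4, 8, 18, 35, 64, 128, 268, 516, 1152, 2240],
  [1, 2, 4, 8, 19, 33, 64, 128, 264, 524, 1216, 2112],
  [1, 2, 4, 8, 16, 32, 68, 136, 272, 544, 1025, 2050],
  [1, 2, 4, 8, 16, 32, 72, 140, 288, 560, 1027, 2049],
  [1, 2, 4, 8, 16, 32, 76, 132, 304, 528, 1026, 2051],
  [1, 2, 4, 8, 16, 32, 65, 130, 256, 512, 1040, 2080],
  [1, 2, 4, 8, 16, 32, 66, 131, 256, 512, 1056, 2096],
  [1, 2, 4, 8, 16, 32, 67, 129, 256, 512, 1072, 2064],
  [1, 2, 4, 8, 16, 32, 64, 128, 257, 514, 1028, 2056],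
  [1, 2, 4, 8, 16, 32, 64, 128, 258, 515, 1032, 2060],
  [1, 2, 4, 8, 16, 32, 64, 128, 259, 513, 1036, 2052]]

/-- the code of a root element -/
def xc (r : Fin 12) (t : Fin 3) : List ℕ := XC.getD (3 * r.val + t.val) []

theorem xc_ok : ∀ (r : Fin 12) (t : Fin 3), okC (xc r t) = true := by decide +kernel

theorem xc_sq : ∀ (r : Fin 12) (t : Fin 3), mulC (xc r t) (xc r t) = idC := by decide +kernel

theorem xm_sq (r : Fin 12) (t : Fin 3) : matOf (xc r t) * matOf (xc r t) = 1 := by
  have h := isCode_mul (isCode_matOf (xc_ok r t)) (isCode_matOf (xc_ok r t))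
  rw [xc_sq] at h
  exact h.mat_eq isCode_one

/-- the root element `x_r(t)`; `t = 0, 1, 2` stands for `1, w, v` -/
def gx (r : Fin 12) (t : Fin 3) : GL6 :=
  ⟨matOf (xc r t), matOf (xc r t), xm_sq r t, xm_sq r t⟩

theorem isCode_gx (r : Fin 12) (t : Fin 3) : IsCode (gx r t : Mat) (xc r t) :=
  isCode_matOf (xc_ok r t)

theorem gx_sq (r : Fin 12) (t : Fin 3) : gx r t * gx r t = 1 := Units.ext (xm_sq r t)

theorem gx_inv (r : Fin 12) (t : Fin 3) : (gx r t)⁻¹ = gx r t :=
  inv_eq_of_mul_eq_one_left (gx_sq r t)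

/-- words in the root elements -/
abbrev Wd : Type := List (Fin 12 × Fin 3)

/-- the element given by a word -/
def ev (w : Wd) : GL6 := (w.map fun p => gx p.1 p.2).prod

/-- the code of the element given by a word -/
def cw (w : Wd) : List ℕ := w.foldr (fun p C => mulC (xc p.1 p.2) C) idC

theorem isCode_ev (w : Wd) : IsCode (ev w : Mat) (cw w) := by
  induction w with
  | nil => exact isCode_one
  | cons p w ih =>
    have h := isCode_mul (isCode_gx p.1 p.2) ih
    rw [← Units.val_mul] at h
    exact h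

theorem ev_nil : ev [] = 1 := rfl

theorem ev_append (v w : Wd) : ev (v ++ w) = ev v * ev w := by
  rw [ev, List.map_append, List.prod_append]; rfl

theorem ev_singleton (p : Fin 12 × Fin 3) : ev [p] = gx p.1 p.2 := by
  rw [ev, List.map_singleton, List.prod_singleton]

theorem ev_reverse (w : Wd) : ev w.reverse = (ev w)⁻¹ := by
  induction w with
  | nil => exact inv_one.symm
  | cons p w ih =>
    have h : ev (p :: w) = gx p.1 p.2 * ev w := rfl
    rw [List.reverse_cons, ev_append, ih, ev_singleton, h, mul_inv_rev, gx_inv]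

/-- equality of elements by evaluation -/
theorem ev_eq_of {v w : Wd} (h : cw v = cw w) : ev v = ev w :=
  Units.ext (((isCode_ev v).eq_iff (isCode_ev w)).2 h)

theorem ev_eq_iff {v w : Wd} : ev v = ev w ↔ cw v = cw w :=
  ⟨fun h => ((isCode_ev v).eq_iff (isCode_ev w)).1 (congrArg Units.val h), ev_eq_of⟩

theorem ev_eq_one_of {v : Wd} (h : cw v = idC) : ev v = 1 := ev_eq_of (w := []) h

/-- the group `G₂(4)` in dimension six -/
def L : Subgroup GL6 := Subgroup.closure {g | ∃ r t, g = gx r t}

theorem gx_mem (r : Fin 12) (t : Fin 3) : gx r t ∈ L := Subgroup.subset_closure ⟨r, t, rfl⟩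

theorem ev_mem (w : Wd) : ev w ∈ L := by
  refine Subgroup.list_prod_mem _ ?_
  intro x hx
  obtain ⟨p, -, rfl⟩ := List.mem_map.1 hx
  exact gx_mem _ _

theorem exists_ev {g : GL6} (hg : g ∈ L) : ∃ w, g = ev w := by
  induction hg using Subgroup.closure_induction with
  | mem x hx => obtain ⟨r, t, rfl⟩ := hx; exact ⟨[(r, t)], (ev_singleton (r, t)).symm⟩
  | one => exact ⟨[], rfl⟩
  | mul x y _ _ hx hy =>
    obtain ⟨v, rfl⟩ := hx
    obtain ⟨w, rfl⟩ := hy
    exact ⟨v ++ w, (ev_append v w).symm⟩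
  | inv x _ hx =>
    obtain ⟨v, rfl⟩ := hx
    exact ⟨v.reverse, (ev_reverse v).symm⟩

/-! ### The action and the symplectic form -/

/-- the action on vectors -/
def act (g : GL6) (x : Vec) : Vec := (g : Mat).mulVec x

theorem act_one (x : Vec) : act 1 x = x := Matrix.one_mulVec x

theorem act_mul (g h : GL6) (x : Vec) : act (g * h) x = act g (act h x) := by
  rw [act, act, act, Matrix.mulVec_mulVec, Units.val_mul]

theorem act_inv_act (g : GL6) (x : Vec) : act g⁻¹ (act g x) = x := by
  rw [← act_mul, inv_mul_cancel, act_one]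

theorem act_act_inv (g : GL6) (x : Vec) : act g (act g⁻¹ x) = x := by
  rw [← act_mul, mul_inv_cancel, act_one]

theorem act_add (g : GL6) (x y : Vec) : act g (x + y) = act g x + act g y := Matrix.mulVec_add _ _ _

theorem act_smul (g : GL6) (c : F4) (x : Vec) : act g (c • x) = c • act g x :=
  Matrix.mulVec_smul _ _ _

theorem act_zero (g : GL6) : act g 0 = 0 := Matrix.mulVec_zero _

theorem act_injective (g : GL6) : Function.Injective (act g) := fun x y h => by
  rw [← act_inv_act g x, h, act_inv_act]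

theorem act_eq_iff {g : GL6} {x y : Vec} : act g x = y ↔ x = act g⁻¹ y := by
  constructor
  · rintro rfl; exact (act_inv_act g x).symm
  · rintro rfl; exact act_act_inv g y

/-- an element is determined by its action -/
theorem act_ext {g h : GL6} (H : ∀ x, act g x = act h x) : g = h :=
  Units.ext (mat_ext fun p _ => H _)

/-- the symplectic form -/
def form (x y : Vec) : F4 := ∑ i, x i * y (Fin.rev i)

/-- the form on codes -/
def formC (m n : ℕ) : F4 := form (dec m) (dec n)

theorem form_add_left (x y z : Vec) : form (x + y) z = form x z + form y z := by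
  simp only [form, Pi.add_apply, add_mul, Finset.sum_add_distrib]

theorem form_add_right (x y z : Vec) : form x (y + z) = form x y + form x z := by
  simp only [form, Pi.add_apply, mul_add, Finset.sum_add_distrib]

theorem form_smul_left (c : F4) (x y : Vec) : form (c • x) y = c * form x y := by
  simp only [form, Pi.smul_apply, smul_eq_mul, Finset.mul_sum, mul_assoc]

theorem form_smul_right (c : F4) (x y : Vec) : form x (c • y) = c * form x y := by
  simp only [form, Pi.smul_apply, smul_eq_mul, Finset.mul_sum, mul_left_comm]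

theorem form_comm (x y : Vec) : form x y = form y x := by
  rw [form, form, ← Equiv.sum_comp Fin.revPerm]
  apply Finset.sum_congr rfl
  intro i _
  rw [Fin.revPerm_apply, Fin.rev_rev, mul_comm]

theorem form_self (x : Vec) : form x x = 0 := by
  have h : ∀ a b : F4, a * b + b * a = 0 := by decide
  have h2 : form x x = (x 0 * x 5 + x 5 * x 0) + ((x 1 * x 4 + x 4 * x 1) +
      (x 2 * x 3 + x 3 * x 2)) := by
    rw [form, Fin.sum_univ_six]
    change x 0 * x 5 + x 1 * x 4 + x 2 * x 3 + x 3 * x 2 + x 4 * x 1 + x 5 * x 0 = _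
    ring
  rw [h2, h, h, h]
  rfl

theorem form_zero_left (x : Vec) : form 0 x = 0 := by simp [form]

theorem form_zero_right (x : Vec) : form x 0 = 0 := by simp [form]

/-- nondegeneracy -/
theorem eq_zero_of_form {x : Vec} (h : ∀ y, form x y = 0) : x = 0 := by
  funext i
  have h1 := h (Pi.single (Fin.rev i) 1)
  rw [form, Finset.sum_eq_single i] at h1
  · rw [Pi.single_eq_same, mul_one] at h1
    exact h1
  · intro j _ hj
    rw [Pi.single_eq_of_ne (fun e => hj (Fin.rev_injective e)), mul_zero]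
  · intro h2; exact absurd (Finset.mem_univ i) h2

/-- the matrix of the form -/
def Jm : Mat := fun i j => if j = Fin.rev i then 1 else 0

theorem form_eq (x y : Vec) : form x y = x ⬝ᵥ (Jm.mulVec y) := by
  rw [form, dotProduct]
  apply Finset.sum_congr rfl
  intro i _
  congr 1
  rw [Matrix.mulVec, dotProduct, Finset.sum_eq_single (Fin.rev i)]
  · rw [Jm, if_pos rfl, one_mul]
  · intro j _ hj
    rw [Jm, if_neg hj, zero_mul]
  · intro h; exact absurd (Finset.mem_univ _) h

theorem xm_form : ∀ (r : Fin 12) (t : Fin 3),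
    (matOf (xc r t)).transpose * Jm * matOf (xc r t) = Jm := by decide +kernel

theorem form_gx (r : Fin 12) (t : Fin 3) (x y : Vec) :
    form (act (gx r t) x) (act (gx r t) y) = form x y := by
  rw [form_eq, form_eq]
  change (matOf (xc r t)).mulVec x ⬝ᵥ (Jm.mulVec ((matOf (xc r t)).mulVec y)) = x ⬝ᵥ (Jm.mulVec y)
  rw [Matrix.mulVec_mulVec, Matrix.dotProduct_mulVec, ← Matrix.vecMul_transpose,
    Matrix.vecMul_vecMul, ← mul_assoc, xm_form, ← Matrix.dotProduct_mulVec]

theorem form_act {g : GL6} (hg : g ∈ L) (x y : Vec) : form (act g x) (act g y) = form x y := by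
  obtain ⟨w, rfl⟩ := exists_ev hg
  clear hg
  induction w generalizing x y with
  | nil => rw [ev_nil, act_one, act_one]
  | cons p w ih =>
    have h : ev (p :: w) = gx p.1 p.2 * ev w := rfl
    rw [h, act_mul, act_mul, form_gx, ih]

end Cfsg.Agent.StdG24.Mod6
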