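import Cfsg.Agent.StdAlt.First
import Cfsg.Agent.TwoFusion.ClosedCommutator
import Cfsg.Agent.Lib.Cores

/-!
# The commutator half of S1171 supplies the hypothesis `CommHalf`
-/

set_option autoImplicit false
set_option maxHeartbeats 400000

namespace Cfsg.Agent.StdG24.Comm

open Subgroup Cfsg Cfsg.Agent.StdAlt.First

theorem commHalf_of_bot {G : Type*} [Group G] [Finite G] (hO : Cfsg.oddCore G = ⊥) : CommHalf G := by
  intro P S₁ S₂ _ hd h1 h2
  rw [eq_bot_iff, ← hO]
  exact TwoFusion.ClosedCommutator.commutator_le P S₁ S₂ hd h1 h2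

theorem commHalf_quot {G : Type*} [Group G] [Finite G] : CommHalf (G ⧸ Cfsg.oddCore G) :=
  commHalf_of_bot (Lib.Cores.pPrimeCore_quotient_pPrimeCore 2)

end Cfsg.Agent.StdG24.Comm
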