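import Cfsg.Agent.StdG24.QB
import Cfsg.Agent.StdG24.FactsNW
import Cfsg.Agent.StdG24.StepSevenN

/-!
# The facts of step 7 for the group on 416 points
-/

set_option autoImplicit false

namespace Cfsg.Agent.StdG24.FactsNL0

open Cfsg.Agent.StdG24 Cfsg.Agent.StdG24.FactsL0 Cfsg.Agent.StdG24.FactsNW

theorem factsN0 : StepSevenN.FactsN D0 QDef.NB QDef.QB QDef.XB where
  vX := QB.vX
  XQ := QB.XQ
  XN := QB.XN
  cX := fnw0.cX
  NW := fnw0.NW
  nW := fnw0.nW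
  N2 := fnw0.N2
  NAl := fnw0.NAl
  NO2 := fnw0.NO2
  QN := QB.QN
  cent2 := QB.cent2
  Q2 := QB.Q2
  ZQ := QB.ZQ
  QQ := QB.QQ
  inner := fnw0.inner

end Cfsg.Agent.StdG24.FactsNL0
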