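import Cfsg.Agent.StdG24.Facts
import Cfsg.Agent.StdG24.AutL

/-!
# Transport of `Facts` and `AutL.Ax` along isomorphisms
-/

set_option autoImplicit false

namespace Cfsg.Agent.StdG24.FactsTr

open Subgroup Cfsg.Agent.StdG24

variable {L M : Type*} [Group L] [Group M]

/-- transport of the data -/
def dmap (e : L ≃* M) (D : Data L) : Data M where
  u := e D.u
  w := e D.w
  As := D.As.map e.toMonoidHom
  Al := D.Al.map e.toMonoidHom
  z := e D.z
  v := e D.v

theorem map_Wof (e : L ≃* M) (w a : L) : (Wof w a).map e.toMonoidHom = Wof (e w) (e a) := by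
  unfold Wof
  rw [MonoidHom.map_closure]
  congr 1
  ext y
  constructor
  · rintro ⟨_, ⟨x, hx, rfl⟩, rfl⟩
    refine ⟨e x, by rw [← map_mul, hx, map_mul], ?_⟩
    change e (x * w * x⁻¹) = _
    rw [map_mul, map_mul, map_inv]
  · rintro ⟨x, hx, rfl⟩
    refine ⟨e.symm x * w * (e.symm x)⁻¹, ⟨e.symm x, ?_, rfl⟩, ?_⟩
    · apply e.injective
      rw [map_mul, map_mul, e.apply_symm_apply, hx]
    · change e _ = _
      rw [map_mul, map_mul, map_inv, e.apply_symm_apply]

theorem exists_of_mem (e : L ≃* M) {w a : L} {y : M} (hy : y ∈ Wof (e w) (e a)) :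
    ∃ x ∈ Wof w a, y = e x := by
  rw [← map_Wof] at hy
  obtain ⟨x, hx, rfl⟩ := hy
  exact ⟨x, hx, rfl⟩

theorem mem_map' (e : L ≃* M) {w a y : L} (hy : y ∈ Wof w a) : e y ∈ Wof (e w) (e a) := by
  rw [← map_Wof]
  exact ⟨y, hy, rfl⟩

/-- pull back of an automorphism -/
def pull (e : L ≃* M) (α : M ≃* M) : L ≃* L := (e.trans α).trans e.symm

theorem pull_apply (e : L ≃* M) (α : M ≃* M) (x : L) : e (pull e α x) = α (e x) := by
  change e (e.symm (α (e x))) = α (e x)
  rw [e.apply_symm_apply]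

theorem conj_of_pull (e : L ≃* M) (α : M ≃* M) {c : L} (h : ∀ x, pull e α x = c * x * c⁻¹) (y : M) :
    α y = e c * y * (e c)⁻¹ := by
  have h1 := congrArg e (h (e.symm y))
  rw [pull_apply, e.apply_symm_apply, map_mul, map_mul, map_inv, e.apply_symm_apply] at h1
  exact h1

theorem eq_one_iff (e : L ≃* M) {x : L} : e x = 1 ↔ x = 1 :=
  ⟨fun h => e.injective (by rw [h, map_one]), fun h => by rw [h, map_one]⟩

theorem closure_transport (e : L ≃* M) {s : Set L} {t : Set M} (h : ∀ x ∈ s, e x ∈ t)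
    (hs : closure s = ⊤) : closure t = ⊤ := by
  have h1 : (closure s).map e.toMonoidHom ≤ closure t := by
    rw [Subgroup.map_le_iff_le_comap]
    exact (closure_le _).2 fun x hx => subset_closure (h x hx)
  rw [hs, Subgroup.map_top_of_surjective _ e.surjective] at h1
  exact eq_top_iff.2 h1

theorem facts_map (e : L ≃* M) {D : Data L} (F : Facts D) : Facts (dmap e D) where
  simple := by
    intro N hN
    have h1 : (N.comap e.toMonoidHom).Normal := hN.comap _
    rcases F.simple _ h1 with h | h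
    · left
      rw [eq_bot_iff]
      intro y hy
      have : e.symm y ∈ N.comap e.toMonoidHom := by
        rw [mem_comap]
        change e (e.symm y) ∈ N
        rw [e.apply_symm_apply]; exact hy
      rw [h, mem_bot] at this
      rw [mem_bot, ← e.apply_symm_apply y, this, map_one]
    · right
      rw [eq_top_iff]
      intro y _
      have h2 : e.symm y ∈ N.comap e.toMonoidHom := by rw [h]; trivial
      rw [mem_comap] at h2
      have h3 : e (e.symm y) ∈ N := h2
      rwa [e.apply_symm_apply] at h3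
  perf := by
    have h := congrArg (Subgroup.map e.toMonoidHom) F.perf
    rw [commutator_def, Subgroup.map_commutator, Subgroup.map_top_of_surjective _ e.surjective] at h
    rw [commutator_def]
    exact h
  nontriv := by
    obtain ⟨x, hx⟩ := F.nontriv
    exact ⟨e x, fun h => hx ((eq_one_iff e).1 h)⟩
  u5 := by change e D.u ^ 5 = 1; rw [← map_pow, F.u5, map_one]
  u1 := fun h => F.u1 ((eq_one_iff e).1 h)
  w5 := by change e D.w ^ 5 = 1; rw [← map_pow, F.w5, map_one]
  w1 := fun h => F.w1 ((eq_one_iff e).1 h)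
  uAs := ⟨D.u, F.uAs, rfl⟩
  wAl := ⟨D.w, F.wAl, rfl⟩
  comm := by
    rintro _ ⟨a, ha, rfl⟩ _ ⟨b, hb, rfl⟩
    change e a * e b = e b * e a
    rw [← map_mul, F.comm a ha b hb, map_mul]
  centAs := by
    rintro _ ⟨a, ha, rfl⟩ h
    refine (eq_one_iff e).2 (F.centAs a ha fun b hb => e.injective ?_)
    rw [map_mul, map_mul]
    exact h _ ⟨b, hb, rfl⟩
  centAl := by
    rintro _ ⟨a, ha, rfl⟩ h
    refine (eq_one_iff e).2 (F.centAl a ha fun b hb => e.injective ?_)
    rw [map_mul, map_mul]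
    exact h _ ⟨b, hb, rfl⟩
  aut_w := by
    intro α h
    obtain ⟨i, c, hc, h1⟩ := F.aut_w (pull e α) (e.injective (by rw [pull_apply]; exact h))
    refine ⟨i, e c, ⟨c, hc, rfl⟩, fun x => ?_⟩
    change α x = e D.w ^ i * e c * x * (e D.w ^ i * e c)⁻¹
    rw [conj_of_pull e α h1 x, map_mul, map_pow]
  aut_u := by
    intro α h
    obtain ⟨i, c, hc, h1⟩ := F.aut_u (pull e α) (e.injective (by rw [pull_apply]; exact h))
    refine ⟨i, e c, ⟨c, hc, rfl⟩, fun x => ?_⟩
    change α x = e D.u ^ i * e c * x * (e D.u ^ i * e c)⁻¹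
    rw [conj_of_pull e α h1 x, map_mul, map_pow]
  sq := by
    intro α
    obtain ⟨c, hc⟩ := F.sq (pull e α)
    refine ⟨e c, fun y => ?_⟩
    have h1 := congrArg e (hc (e.symm y))
    rw [pull_apply, pull_apply, e.apply_symm_apply, map_mul, map_mul, map_inv, e.apply_symm_apply] at h1
    exact h1
  zAl := ⟨D.z, F.zAl, rfl⟩
  z1 := fun h => F.z1 ((eq_one_iff e).1 h)
  z2 := by change e D.z * e D.z = 1; rw [← map_mul, F.z2, map_one]
  zW := mem_map' e F.zW
  abelAl := by
    rintro _ ⟨y, hy, rfl⟩ hy1 hyy _ ⟨c, hc, rfl⟩ _ ⟨c', hc', rfl⟩ h h'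
    change e c * e c' = e c' * e c
    rw [← map_mul, F.abelAl y hy (fun h => hy1 ((eq_one_iff e).2 h))
      (e.injective (by rw [map_mul, map_one]; exact hyy)) c hc c' hc'
      (e.injective (by rw [map_mul, map_mul]; exact h))
      (e.injective (by rw [map_mul, map_mul]; exact h')), map_mul]
  exB := by
    intro d hd
    obtain ⟨B, h1, h2, h3, h4⟩ := F.exB (e.symm d) (by rw [← map_pow, hd, map_one])
    refine ⟨B.map e.toMonoidHom, ?_, ?_, ?_, ?_⟩
    · rintro _ ⟨b, hb, rfl⟩
      change e b * d = d * e b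
      have h5 := congrArg e (h1 b hb)
      rwa [map_mul, map_mul, e.apply_symm_apply] at h5
    · rw [← Subgroup.map_commutator]
      exact Subgroup.map_mono h2
    · intro h
      apply h3
      rw [Subgroup.map_eq_bot_iff_of_injective _ e.injective] at h
      exact h
    · refine closure_transport e ?_ h4
      rintro x ⟨a, ha, ha1, haa, hxa⟩
      refine ⟨e a, ⟨a, ha, rfl⟩, fun h => ha1 ((eq_one_iff e).1 h), ?_, ?_⟩
      · rw [← map_mul, haa, map_one]
      · rw [← map_mul, hxa, map_mul]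
  inv2A := by
    rintro _ ⟨a, ha, rfl⟩ ha1 haa y hy hy1 hyy
    obtain ⟨x, hx, rfl⟩ := exists_of_mem e (w := D.w) (a := a) hy
    obtain ⟨l, hl⟩ := F.inv2A a ha (fun h => ha1 ((eq_one_iff e).2 h))
      (e.injective (by rw [map_mul, map_one]; exact haa)) x hx (fun h => hy1 ((eq_one_iff e).2 h))
      (e.injective (by rw [map_mul, map_one]; exact hyy))
    refine ⟨e l, l * x * l⁻¹, hl, ?_⟩
    change e _ = _
    rw [map_mul, map_mul, map_inv]
  vAs := ⟨D.v, F.vAs, rfl⟩
  v1 := fun h => F.v1 ((eq_one_iff e).1 h)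
  v2 := by change e D.v * e D.v = 1; rw [← map_mul, F.v2, map_one]
  gen_v := by
    have h := Subgroup.map_mono (f := e.toMonoidHom) F.gen_v
    rw [map_Wof] at h
    refine h.trans ?_
    rw [Subgroup.map_le_iff_le_comap]
    refine (closure_le _).2 ?_
    rintro _ ⟨x, hx, rfl⟩
    refine subset_closure ⟨e x, mem_map' e hx, ?_⟩
    change e _ = _
    rw [map_mul, map_mul, map_inv]
    rfl
  fus_v := by
    obtain ⟨y, hy, hy1, hyy, p, hp⟩ := F.fus_v
    refine ⟨e y, mem_map' e hy, fun h => hy1 ((eq_one_iff e).1 h), by rw [← map_mul, hyy, map_one], e p, ?_⟩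
    have h1 := congrArg e hp
    rw [map_mul, map_mul, map_inv, map_mul] at h1
    exact h1

/-! ### `AutL.Ax` -/

/-- transport of the data of `AutL` -/
def emap (e : L ≃* M) (E : AutL.El L) : AutL.El M where
  u := e E.u
  w := e E.w
  i₁ := e E.i₁
  i₂ := e E.i₂
  n := e E.n
  As := E.As.map e.toMonoidHom
  Al := E.Al.map e.toMonoidHom

theorem ax_map (e : L ≃* M) {E : AutL.El L} (A : AutL.Ax E) : AutL.Ax (emap e E) where
  eAs := by
    obtain ⟨f⟩ := A.eAs
    exact ⟨(E.As.equivMapOfInjective _ e.injective).symm.trans f⟩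
  eAl := by
    obtain ⟨f⟩ := A.eAl
    exact ⟨(E.Al.equivMapOfInjective _ e.injective).symm.trans f⟩
  comm := by
    rintro _ ⟨a, ha, rfl⟩ _ ⟨b, hb, rfl⟩
    change e a * e b = e b * e a
    rw [← map_mul, A.comm a ha b hb, map_mul]
  uAs := ⟨_, A.uAs, rfl⟩
  u1 := fun h => A.u1 ((eq_one_iff e).1 h)
  u5 := by change e E.u ^ 5 = 1; rw [← map_pow, A.u5, map_one]
  wAl := ⟨_, A.wAl, rfl⟩
  w1 := fun h => A.w1 ((eq_one_iff e).1 h)
  w5 := by change e E.w ^ 5 = 1; rw [← map_pow, A.w5, map_one]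
  i₁As := ⟨_, A.i₁As, rfl⟩
  i₁1 := fun h => A.i₁1 ((eq_one_iff e).1 h)
  i₁i₁ := by change e E.i₁ * e E.i₁ = 1; rw [← map_mul, A.i₁i₁, map_one]
  i₁u := by
    change e E.i₁ * e E.u * e E.i₁ = (e E.u)⁻¹
    rw [← map_mul, ← map_mul, A.i₁u, map_inv]
  i₂Al := ⟨_, A.i₂Al, rfl⟩
  i₂1 := fun h => A.i₂1 ((eq_one_iff e).1 h)
  i₂i₂ := by change e E.i₂ * e E.i₂ = 1; rw [← map_mul, A.i₂i₂, map_one]
  i₂w := by
    change e E.i₂ * e E.w * e E.i₂ = (e E.w)⁻¹
    rw [← map_mul, ← map_mul, A.i₂w, map_inv]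
  cw := by
    intro y hy
    obtain ⟨i, c, hc, h⟩ := A.cw (e.symm y) (e.injective (by
      rw [map_mul, map_mul, e.apply_symm_apply]; exact hy))
    refine ⟨i, e c, ⟨c, hc, rfl⟩, ?_⟩
    change y = e E.w ^ i * e c
    rw [← map_pow, ← map_mul, ← h, e.apply_symm_apply]
  cu := by
    intro y hy
    obtain ⟨i, c, hc, h⟩ := A.cu (e.symm y) (e.injective (by
      rw [map_mul, map_mul, e.apply_symm_apply]; exact hy))
    refine ⟨i, e c, ⟨c, hc, rfl⟩, ?_⟩
    change y = e E.u ^ i * e c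
    rw [← map_pow, ← map_mul, ← h, e.apply_symm_apply]
  ni := by
    change e E.n * (e E.i₁ * e E.i₂) = e E.i₁ * e E.i₂ * e E.n
    rw [← map_mul, ← map_mul, ← map_mul, A.ni]
  nw := by
    change e E.n * e E.w * (e E.n)⁻¹ = e E.w ^ 2 * e E.u ^ 2
    rw [← map_mul, ← map_inv, ← map_mul, A.nw, map_mul, map_pow, map_pow]
  nu := by
    change e E.n * e E.u * (e E.n)⁻¹ = e E.w ^ 4 * e E.u ^ 2
    rw [← map_mul, ← map_inv, ← map_mul, A.nu, map_mul, map_pow, map_pow]
  gen := by
    refine closure_transport e ?_ A.gen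
    rintro x ((hx | hx) | hx)
    · exact Or.inl (Or.inl ⟨x, hx, rfl⟩)
    · exact Or.inl (Or.inr ⟨x, hx, rfl⟩)
    · right
      rw [Set.mem_singleton_iff] at hx
      rw [hx]
      rfl
  sep := by
    intro α g k h
    apply A.sep (pull e α) (e.symm g) k
    apply e.injective
    rw [pull_apply, map_mul, map_mul, map_inv, e.apply_symm_apply, map_pow]
    exact h
  five := by
    intro y hy
    obtain ⟨g, k, h⟩ := A.five (e.symm y) (by rw [← map_pow, hy, map_one])
    refine ⟨e g, k, ?_⟩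
    rcases h with h | h
    · left
      have h1 := congrArg e h
      rw [map_mul, map_mul, map_inv, e.apply_symm_apply, map_pow] at h1
      exact h1
    · right
      have h1 := congrArg e h
      rw [map_mul, map_mul, map_inv, e.apply_symm_apply, map_pow] at h1
      exact h1
  card := by rw [← Nat.card_congr e.toEquiv]; exact A.card

end Cfsg.Agent.StdG24.FactsTr
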