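import Cfsg.Agent.StdG24.PWords

/-!
# From an automorphism-like element `e` to the presentation `P957`

`e` commutes with `s, t, x, y, q` and inverts `v`; then `f = v e`, `g = r v e`, `h = q⁻¹ g`.
-/

set_option autoImplicit false

namespace Cfsg.Agent.StdG24.P957Of

open Cfsg.Agent.StdG24.Words Cfsg.Agent.StdG24.PWords Cfsg.Agent.CoOneType

variable {G : Type*} [Group G] (j : L0 →* G)

theorem presM : PresM (j s) (j t) (j x) (j y) where
  s2 := by rw [← map_mul, s2', map_one]
  t2 := by rw [← map_mul, t2', map_one]
  st4 := by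
    rw [← map_mul, ← map_pow]
    have : (s * t) ^ 4 = 1 := by simpa only [pow_succ, pow_zero, one_mul, mul_assoc] using st4'
    rw [this, map_one]
  x3 := by rw [← map_pow, pow_succ, pow_two, x3', map_one]
  y3 := by rw [← map_pow, pow_succ, pow_two, y3', map_one]
  zx := by
    have : x⁻¹ * (s * t) ^ 2 * x = s := by simpa only [pow_succ, pow_zero, one_mul, mul_assoc] using zx'
    simpa only [map_mul, map_inv, map_pow] using congrArg j this
  sx := by
    have : x⁻¹ * s * x = (s * t) ^ 2 * s := by simpa only [pow_succ, pow_zero, one_mul, mul_assoc] using sx'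
    simpa only [map_mul, map_inv, map_pow] using congrArg j this
  zy := by
    have : y⁻¹ * (s * t) ^ 2 * y = t := by simpa only [pow_succ, pow_zero, one_mul, mul_assoc] using zy'
    simpa only [map_mul, map_inv, map_pow] using congrArg j this
  ty := by
    have : y⁻¹ * t * y = (s * t) ^ 2 * t := by simpa only [pow_succ, pow_zero, one_mul, mul_assoc] using ty'
    simpa only [map_mul, map_inv, map_pow] using congrArg j this
  xi := by
    have : (s * t) ^ 2 * t * x * ((s * t) ^ 2 * t) = x⁻¹ := by
      simpa only [pow_succ, pow_zero, one_mul, mul_assoc] using xi'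
    simpa only [map_mul, map_inv, map_pow] using congrArg j this
  yi := by
    have : (s * t) ^ 2 * s * y * ((s * t) ^ 2 * s) = y⁻¹ := by
      simpa only [pow_succ, pow_zero, one_mul, mul_assoc] using yi'
    simpa only [map_mul, map_inv, map_pow] using congrArg j this
  xY := by
    have : (x * y⁻¹) ^ 7 = 1 := by simpa only [pow_succ, pow_zero, one_mul, mul_assoc] using xY'
    simpa only [map_mul, map_inv, map_pow, map_one] using congrArg j this
  xy := by
    have : (x * y) ^ 4 = 1 := by simpa only [pow_succ, pow_zero, one_mul, mul_assoc] using xy'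
    simpa only [map_mul, map_inv, map_pow, map_one] using congrArg j this

variable {w₀ d e : G}

/-- `e` acts on the words in `s t x y q v` by exchanging `v` and `v⁻¹` -/
theorem conj_word (e2 : e * e = 1) (es : Commute e (j s)) (et : Commute e (j t)) (ex : Commute e (j x))
    (ey : Commute e (j y)) (eq : Commute e (j q)) (ev : e * j v * e = (j v)⁻¹) :
    e * j r * e = j r * (j v)⁻¹ := by
  have ei : e⁻¹ = e := inv_eq_of_mul_eq_one_left e2
  have hc : ∀ a, Commute e a → MulAut.conj e a = a := by
    intro a ha
    rw [MulAut.conj_apply, ha.eq, mul_inv_cancel_right]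
  have hv : MulAut.conj e (j v) = j v⁻¹ := by rw [MulAut.conj_apply, ei, ev, map_inv]
  have h1 : ∀ c : ℕ, c < 10 → MulAut.conj e (j (pl c)) =
      j (pl (if c = 8 then 9 else if c = 9 then 8 else c)) := by
    intro c hc'
    interval_cases c
    · exact hc _ es
    · exact hc _ et
    · exact hc _ ex
    · show MulAut.conj e (j x⁻¹) = j x⁻¹
      rw [map_inv]; exact hc _ ex.inv_right
    · exact hc _ ey
    · show MulAut.conj e (j y⁻¹) = j y⁻¹
      rw [map_inv]; exact hc _ ey.inv_right
    · exact hc _ eq
    · show MulAut.conj e (j q⁻¹) = j q⁻¹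
      rw [map_inv]; exact hc _ eq.inv_right
    · exact hv
    · show MulAut.conj e (j v⁻¹) = j v
      rw [map_inv, map_inv, hv, map_inv, inv_inv]
  have h2 : ∀ w : List ℕ, (∀ c ∈ w, c < 10) → MulAut.conj e (j (pp w)) =
      j (pp (w.map fun c => if c = 8 then 9 else if c = 9 then 8 else c)) := by
    intro w
    induction w with
    | nil => intro _; simp [pp]
    | cons c w ih =>
      intro hw
      have h3 : pp (c :: w) = pl c * pp w := by unfold pp; rw [List.map_cons, List.prod_cons]
      have h4 : ∀ (c' : ℕ) (w' : List ℕ), pp (c' :: w') = pl c' * pp w' := by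
        intro c' w'; unfold pp; rw [List.map_cons, List.prod_cons]
      rw [h3, List.map_cons, h4, map_mul, map_mul, map_mul, h1 c (hw c List.mem_cons_self),
        ih fun c' hc' => hw c' (List.mem_cons_of_mem _ hc')]
  have h5 := h2 Rw (by decide)
  have h6 : (Rw.map fun c => if c = 8 then 9 else if c = 9 then 8 else c) = Rw' := by decide
  rw [h6, r_eq, r_eq', MulAut.conj_apply, ei, map_mul, map_inv] at h5
  exact h5

/-- the presentation `P957` from the action of `e` on the image of `G₂(4)` -/
theorem p957 (e2 : e * e = 1) (es : Commute e (j s)) (et : Commute e (j t)) (ex : Commute e (j x))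
    (ey : Commute e (j y)) (eq : Commute e (j q)) (ev : e * j v * e = (j v)⁻¹)
    (w2 : w₀ * w₀ = 1) (d2 : d * d = 1) (wd : (w₀ * d) ^ 3 = 1) (de : (d * e) ^ 3 = 1)
    (wl : ∀ l : L0, Commute w₀ (j l)) (we : Commute w₀ e)
    (ds : Commute d (j s)) (dt : Commute d (j t)) (dx : Commute d (j x)) (dy : Commute d (j y))
    (dq : Commute d (j q)) (dr : Commute d (j r)) (df : Commute d (j v * e)) :
    P957 (j s) (j t) (j x) (j y) w₀ d e (j v * e) (j r * (j v * e)) ((j q)⁻¹ * (j r * (j v * e))) := by
  have ei : e⁻¹ = e := inv_eq_of_mul_eq_one_left e2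
  have her := conj_word j e2 es et ex ey eq ev
  -- `e (j v) = (j v)⁻¹ e`
  have ev' : e * j v = (j v)⁻¹ * e := by rw [← ev, mul_assoc, e2, mul_one]
  have er' : e * j r = j r * (j v)⁻¹ * e := by rw [← her, mul_assoc, e2, mul_one]
  have v3 : j v * j v * j v = 1 := by rw [← map_mul, ← map_mul, v3', map_one]
  have vi : (j v)⁻¹ = j v * j v := inv_eq_of_mul_eq_one_left v3
  -- `e` commutes with `rv`
  have erv : Commute e (j r * j v) := by
    show e * (j r * j v) = j r * j v * e
    rw [← mul_assoc, er', mul_assoc, ev', ← mul_assoc, mul_assoc (j r), ← mul_inv_rev,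
      mul_inv_rev, vi]
    have : j v * j v * (j v * j v) = j v := by
      rw [← mul_assoc, v3, one_mul]
    rw [this]
  have hrv2 : j r * j v * (j r * j v) = 1 := by
    have := congrArg j (by simpa only [mul_assoc] using rv2' : r * v * (r * v) = 1)
    simpa only [map_mul, map_one] using this
  have hf2 : j v * e * (j v * e) = 1 := by
    rw [mul_assoc, ← mul_assoc e, ev', mul_assoc, e2, mul_one, mul_inv_cancel]
  have hg : j r * (j v * e) = j r * j v * e := by rw [mul_assoc]
  have hg2 : j r * (j v * e) * (j r * (j v * e)) = 1 := by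
    rw [hg, mul_assoc (j r * j v), ← mul_assoc e, erv.eq, mul_assoc (j r * j v) e e, e2, mul_one, hrv2]
  -- commutation of `rv`
  have c2 : ∀ {a b : L0}, a * b = b * a → Commute (j a) (j b) := by
    intro a b h
    show j a * j b = j b * j a
    rw [← map_mul, h, map_mul]
  have crs : Commute (j r * j v) (j s) := by
    rw [← map_mul]; exact c2 (by simpa only [mul_assoc] using rvs')
  have crt : Commute (j r * j v) (j t) := by
    rw [← map_mul]; exact c2 (by simpa only [mul_assoc] using rvt')
  have crx : Commute (j r * j v) (j x) := by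
    rw [← map_mul]; exact c2 (by simpa only [mul_assoc] using rvx')
  have chs : Commute ((j q)⁻¹ * (j r * j v)) (j s) := by
    rw [← map_mul, ← map_inv, ← map_mul]; exact c2 (by simpa only [mul_assoc] using hhs')
  have cht : Commute ((j q)⁻¹ * (j r * j v)) (j t) := by
    rw [← map_mul, ← map_inv, ← map_mul]; exact c2 (by simpa only [mul_assoc] using hht')
  have chy : Commute ((j q)⁻¹ * (j r * j v)) (j y) := by
    rw [← map_mul, ← map_inv, ← map_mul]; exact c2 (by simpa only [mul_assoc] using hhy')
  have hh : (j q)⁻¹ * (j r * (j v * e)) = (j q)⁻¹ * (j r * j v) * e := by rw [hg, mul_assoc, mul_assoc, mul_assoc]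
  -- `g` inverts `q`
  have grq : j r * (j v * e) * j q = (j q)⁻¹ * (j r * (j v * e)) := by
    have h1 : j r * j v * j q = (j q)⁻¹ * (j r * j v) := by
      have := congrArg j (by simpa only [mul_assoc] using rvq' : r * v * q = q⁻¹ * (r * v))
      simpa only [map_mul, map_inv] using this
    rw [hg, mul_assoc, eq.eq, ← mul_assoc, h1, mul_assoc]
  have hgh : j r * (j v * e) * ((j q)⁻¹ * (j r * (j v * e))) = j q := by
    rw [← grq, ← mul_assoc, hg2, one_mul]
  have hh2 : (j q)⁻¹ * (j r * (j v * e)) * ((j q)⁻¹ * (j r * (j v * e))) = 1 := by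
    rw [mul_assoc, hgh, inv_mul_cancel]
  have efv : e * (j v * e) = (j v)⁻¹ := by rw [← mul_assoc, ev', mul_assoc, e2, mul_one]
  -- `f g = v r v`
  have hfg : j v * e * (j r * (j v * e)) = j v * (j r * j v) := by
    rw [hg, mul_assoc, ← mul_assoc e, erv.eq, mul_assoc (j r * j v), e2, mul_one]
  have hfh : j v * e * ((j q)⁻¹ * (j r * (j v * e))) = j v * ((j q)⁻¹ * (j r * j v)) := by
    have h1 : Commute e (j q)⁻¹ := eq.inv_right
    rw [hh, mul_assoc, ← mul_assoc e, (h1.mul_right erv).eq, mul_assoc ((j q)⁻¹ * (j r * j v)), e2, mul_one]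
  refine { presM j with
    w2 := w2
    d2 := d2
    e2 := e2
    f2 := hf2
    g2 := hg2
    h2 := hh2
    wd := wd
    de := de
    ef := ?_
    fg := ?_
    fh := ?_
    we := we
    wf := (wl v).mul_right we
    wg := (wl r).mul_right ((wl v).mul_right we)
    wh := ((wl q).inv_right).mul_right ((wl r).mul_right ((wl v).mul_right we))
    df := df
    dg := dr.mul_right df
    dh := (dq.inv_right).mul_right (dr.mul_right df)
    eg := by rw [hg]; exact erv.mul_right (Commute.refl e)
    eh := by rw [hh]; exact ((eq.inv_right).mul_right erv).mul_right (Commute.refl e)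
    ws := wl s
    wt := wl t
    wx := wl x
    wy := wl y
    ds := ds
    dt := dt
    dx := dx
    dy := dy
    es := es
    et := et
    ex := ex
    ey := ey
    fs := (c2 vs').mul_left es
    ft := (c2 vt').mul_left et
    fx := (c2 vx').mul_left ex
    fy := (c2 vy').mul_left ey
    gs := by rw [hg]; exact crs.mul_left es
    gt := by rw [hg]; exact crt.mul_left et
    gx := by rw [hg]; exact crx.mul_left ex
    hs := by rw [hh]; exact chs.mul_left es
    ht := by rw [hh]; exact cht.mul_left et
    hy := by rw [hh]; exact chy.mul_left ey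
    q2 := ?_
    qx3 := ?_
    qx := ?_
    qy3 := ?_
    qy := ?_
    r5 := ?_ }
  · rw [efv, inv_pow, pow_succ, pow_two, v3, inv_one]
  · rw [hfg]
    have := congrArg j (by simpa only [pow_succ, pow_zero, one_mul, mul_assoc] using vrv3' :
      (v * (r * v)) ^ 3 = 1)
    simpa only [map_mul, map_pow, map_one] using this
  · rw [hfh]
    have := congrArg j (by simpa only [pow_succ, pow_zero, one_mul, mul_assoc] using vh3' :
      (v * (q⁻¹ * (r * v))) ^ 3 = 1)
    simpa only [map_mul, map_pow, map_one, map_inv] using this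
  · rw [hgh]
    have := congrArg j (by simpa only [pow_succ, pow_zero, one_mul, mul_assoc] using q2' :
      q ^ 2 = (s * t) ^ 2)
    simpa only [map_mul, map_pow, map_one, map_inv] using this
  · rw [hgh]
    have := congrArg j (by simpa only [mul_assoc] using qx3' :
      q * (x⁻¹ * q * x) * (x * q * x⁻¹) = 1)
    simpa only [map_mul, map_pow, map_one, map_inv] using this
  · rw [hgh]
    have := c2 (by simpa only [mul_assoc] using qx' : q * (x⁻¹ * q * x) = x⁻¹ * q * x * q)
    simpa only [map_mul, map_inv] using this
  · rw [hgh]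
    have := congrArg j (by simpa only [mul_assoc] using qy3' :
      q * (y⁻¹ * q * y) * (y * q * y⁻¹) = 1)
    simpa only [map_mul, map_pow, map_one, map_inv] using this
  · rw [hgh]
    have := c2 (by simpa only [mul_assoc] using qy' : q * (y⁻¹ * q * y) = y⁻¹ * q * y * q)
    simpa only [map_mul, map_inv] using this
  · have h1 : j x * j y * (j v * e) * (j r * (j v * e)) = j x * j y * (j v * (j r * j v)) := by
      rw [mul_assoc, mul_assoc, hfg, mul_assoc]
    rw [h1]
    have := congrArg j (by simpa only [pow_succ, pow_zero, one_mul, mul_assoc] using r5' :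
      (x * y * (v * (r * v))) ^ 7 = 1)
    simpa only [map_mul, map_pow, map_one, map_inv] using this

end Cfsg.Agent.StdG24.P957Of
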