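import Cfsg.Agent.StdG24.GenJ
import Cfsg.Agent.StdG24.Iso6
import Cfsg.Agent.StdG24.P957Of

/-!
# The group on 416 points, the six-dimensional model and the Chevalley group
-/

set_option autoImplicit false

namespace Cfsg.Agent.StdG24.Iso416

open Cfsg.Agent.SporRec Cfsg.Agent.StdG24.Perm416 Cfsg.Agent.StdG24.Sift Cfsg.Agent.StdG24.Words
  Cfsg.Agent.StdG24.GenJ

/-- Six elements satisfying the relators and generating a group of order at least `251596800`:
an isomorphism respecting the letters. -/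
theorem exists_equiv {G : Type*} [Group G] (x : Fin 6 → G)
    (hx : ∀ w ∈ G24Rel.R6, (w.map x).prod = 1) (K : Subgroup G)
    (hK : Subgroup.closure (Set.range x) = K) (cK : 251596800 ≤ Nat.card K) :
    ∃ φ : L0 ≃* K, ∀ i, ((φ ⟨perm i, perm_mem i⟩ : K) : G) = x i := by
  classical
  obtain ⟨hfin, hcard⟩ := G24Upper.card_closure_le (fun i => (perm i, x i)) (fun w hw => by
    rw [Cfsg.Agent.S1679.prod_pair, Perm416.rels w hw, hx w hw]; rfl)
  set D := Subgroup.closure (Set.range fun i => (perm i, x i)) with hD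
  have e1 : D.map (MonoidHom.fst _ G) = LL := by
    rw [hD, MonoidHom.map_closure, ← Set.range_comp]; rfl
  have e2 : D.map (MonoidHom.snd _ G) = K := by
    rw [hD, MonoidHom.map_closure, ← hK, ← Set.range_comp]; rfl
  let f1 : D →* LL := ((MonoidHom.fst _ G).comp D.subtype).codRestrict LL
    (fun d => by rw [← e1]; exact ⟨d, d.2, rfl⟩)
  let f2 : D →* K := ((MonoidHom.snd _ G).comp D.subtype).codRestrict K
    (fun d => by rw [← e2]; exact ⟨d, d.2, rfl⟩)
  have s1 : Function.Surjective f1 := by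
    rintro ⟨g, hg⟩
    rw [← e1] at hg
    obtain ⟨d, hd, rfl⟩ := hg
    exact ⟨⟨d, hd⟩, rfl⟩
  have s2 : Function.Surjective f2 := by
    rintro ⟨g, hg⟩
    rw [← e2] at hg
    obtain ⟨d, hd, rfl⟩ := hg
    exact ⟨⟨d, hd⟩, rfl⟩
  have fK : Finite K := Finite.of_surjective f2 s2
  have b1 : Function.Bijective f1 := by
    refine (Nat.bijective_iff_surjective_and_card f1).2 ⟨s1, le_antisymm ?_ ?_⟩
    · rw [card_LL]; exact hcard
    · exact Nat.card_le_card_of_surjective f1 s1
  have b2 : Function.Bijective f2 := by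
    refine (Nat.bijective_iff_surjective_and_card f2).2 ⟨s2, le_antisymm ?_ ?_⟩
    · exact hcard.trans cK
    · exact Nat.card_le_card_of_surjective f2 s2
  refine ⟨(MulEquiv.ofBijective f1 b1).symm.trans (MulEquiv.ofBijective f2 b2), fun i => ?_⟩
  set d : D := ⟨(perm i, x i), Subgroup.subset_closure ⟨i, rfl⟩⟩ with hd
  have h1 : (MulEquiv.ofBijective f1 b1) d = ⟨perm i, perm_mem i⟩ := rfl
  have h2 : (MulEquiv.ofBijective f1 b1).symm ⟨perm i, perm_mem i⟩ = d := by
    rw [← h1, MulEquiv.symm_apply_apply]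
  rw [MulEquiv.trans_apply, h2]
  rfl

theorem wx_pk : ∀ (r : Fin 12) (t : Fin 3), pk (xr r.val t.val) = (G24Match.wx r t).map Fin.val := by
  decide +kernel

/-- the root elements as words in the letters -/
theorem X_eq (r : Fin 12) (t : Fin 3) :
    X r.val t.val = ((G24Match.wx r t).map fun i => (⟨perm i, perm_mem i⟩ : L0)).prod := by
  apply Subtype.ext
  have h1 : ((((G24Match.wx r t).map fun i => (⟨perm i, perm_mem i⟩ : L0)).prod : L0) :
      Equiv.Perm (Fin 416)) = ((G24Match.wx r t).map perm).prod := by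
    generalize G24Match.wx r t = w
    induction w with
    | nil => rfl
    | cons i w ih => rw [List.map_cons, List.prod_cons, List.map_cons, List.prod_cons, ← ih]; rfl
  rw [h1]
  show (([(⟨el (xr r.val t.val), el_mem _⟩ : L0)].prod : L0) : Equiv.Perm (Fin 416)) = _
  rw [List.prod_singleton]
  show el (xr r.val t.val) = _
  unfold el
  rw [wx_pk r t, List.map_map]
  congr 1
  apply List.map_congr_left
  intro i _
  show lt i.val = perm i
  unfold lt
  rw [dif_pos i.isLt]

/-- the isomorphism with helper222's six-dimensional model -/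
theorem exists_iso6 : ∃ φ : L0 ≃* Mod6.L, ∀ (r : Fin 12) (t : Fin 3),
    ((φ (X r.val t.val) : Mod6.L) : Mod6.GL6) = Mod6.gx r t := by
  obtain ⟨φ, hφ⟩ := exists_equiv Ord6.B Ord6.B_rel Mod6.L Ord6.closure_B Ord6.card_L.ge
  refine ⟨φ, fun r t => ?_⟩
  rw [X_eq, Ord6.gx_eq]
  generalize G24Match.wx r t = w
  induction w with
  | nil => simp
  | cons i w ih =>
    rw [List.map_cons, List.prod_cons, List.map_cons, List.prod_cons, ← ih, map_mul, ← hφ i]; rfl

/-- `G₂(4)` over any field with four elements -/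
theorem equiv_chev (F : Type*) [Field F] [Fintype F] (hF : Fintype.card F = 4) :
    Nonempty (L0 ≃* Cfsg.Lie.chevG2.group F) := by
  obtain ⟨φ, _⟩ := exists_iso6
  obtain ⟨e⟩ := Iso6.equiv_chev F hF
  exact ⟨φ.trans e⟩

end Cfsg.Agent.StdG24.Iso416
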