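import Cfsg.Agent.StdG24.Facts6
import Cfsg.Agent.StdG24.FactsTr
import Cfsg.Agent.StdG24.Iso416

/-!
# The facts for the group on 416 points
-/

set_option autoImplicit false
set_option maxRecDepth 20000

namespace Cfsg.Agent.StdG24.FactsL0

open Cfsg.Agent.StdG24 Cfsg.Agent.StdG24.Words Cfsg.Agent.StdG24.GenJ Cfsg.Agent.StdG24.FactsTr
open Cfsg.Agent.StdG24.Mod6 (gx GL6 Wd ev ev_append ev_singleton)

/-- the data in `L0` -/
noncomputable def D0 : Data L0 where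
  u := X 2 0 * X 9 1
  w := X 5 0 * X 6 1
  As := GenJ.As
  Al := GenJ.Al
  z := X 6 0
  v := X 9 0

/-- the data of `AutL` in `L0` -/
noncomputable def E0 : AutL.El L0 where
  u := X 2 0 * X 9 1
  w := X 5 0 * X 6 1
  i₁ := X 2 0
  i₂ := X 5 0
  n := X 5 0 * GenJ.n
  As := GenJ.As
  Al := GenJ.Al

variable {φ : L0 ≃* Mod6.L} (hφ : ∀ (r : Fin 12) (t : Fin 3),
  ((φ (X r.val t.val) : Mod6.L) : Mod6.GL6) = Mod6.gx r t)

include hφ

theorem symm_X (r : Fin 12) (t : Fin 3) {x : Mod6.L} (h : (x : GL6) = gx r t) :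
    φ.symm x = X r.val t.val := by
  apply φ.injective
  rw [φ.apply_symm_apply]
  apply Subtype.ext
  rw [h, hφ]

theorem map_As : Ax6.lAs.map φ.symm.toMonoidHom = GenJ.As := by
  have h0 : Ax6.lAs = GenJ.As.map φ.toMonoidHom := by
    have h1 : (GenJ.As.map φ.toMonoidHom).map Mod6.L.subtype = Al6.As := by
      unfold GenJ.As Al6.As
      rw [Subgroup.map_map, MonoidHom.map_closure]
      congr 1
      ext g
      constructor
      · rintro ⟨x, hx, rfl⟩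
        rcases hx with rfl | rfl | rfl | rfl | rfl | rfl
        · exact ⟨0, Or.inl (hφ 2 0)⟩
        · exact ⟨1, Or.inl (hφ 2 1)⟩
        · exact ⟨2, Or.inl (hφ 2 2)⟩
        · exact ⟨0, Or.inr (hφ 9 0)⟩
        · exact ⟨1, Or.inr (hφ 9 1)⟩
        · exact ⟨2, Or.inr (hφ 9 2)⟩
      · rintro ⟨t, h⟩
        fin_cases t <;> rcases h with rfl | rfl
        · exact ⟨X 2 0, by simp, hφ 2 0⟩
        · exact ⟨X 9 0, by simp, hφ 9 0⟩
        · exact ⟨X 2 1, by simp, hφ 2 1⟩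
        · exact ⟨X 9 1, by simp, hφ 9 1⟩
        · exact ⟨X 2 2, by simp, hφ 2 2⟩
        · exact ⟨X 9 2, by simp, hφ 9 2⟩
    ext x
    rw [Ax6.mem_lAs, ← h1]
    constructor
    · rintro ⟨y, hy, h⟩
      have : y = x := Subtype.ext h
      exact this ▸ hy
    · intro h
      exact ⟨x, h, rfl⟩
  rw [h0, Subgroup.map_map]
  have h2 : φ.symm.toMonoidHom.comp φ.toMonoidHom = MonoidHom.id L0 :=
    MonoidHom.ext fun x => φ.symm_apply_apply x
  rw [h2, Subgroup.map_id]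

theorem map_Al : Ax6.lAl.map φ.symm.toMonoidHom = GenJ.Al := by
  have h0 : Ax6.lAl = GenJ.Al.map φ.toMonoidHom := by
    have h1 : (GenJ.Al.map φ.toMonoidHom).map Mod6.L.subtype = Al6.Al := by
      unfold GenJ.Al Al6.Al
      rw [Subgroup.map_map, MonoidHom.map_closure]
      congr 1
      ext g
      constructor
      · rintro ⟨x, hx, rfl⟩
        rcases hx with rfl | rfl | rfl | rfl | rfl | rfl
        · exact ⟨0, Or.inl (hφ 5 0)⟩
        · exact ⟨1, Or.inl (hφ 5 1)⟩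
        · exact ⟨2, Or.inl (hφ 5 2)⟩
        · exact ⟨0, Or.inr (hφ 6 0)⟩
        · exact ⟨1, Or.inr (hφ 6 1)⟩
        · exact ⟨2, Or.inr (hφ 6 2)⟩
      · rintro ⟨t, h⟩
        fin_cases t <;> rcases h with rfl | rfl
        · exact ⟨X 5 0, by simp, hφ 5 0⟩
        · exact ⟨X 6 0, by simp, hφ 6 0⟩
        · exact ⟨X 5 1, by simp, hφ 5 1⟩
        · exact ⟨X 6 1, by simp, hφ 6 1⟩
        · exact ⟨X 5 2, by simp, hφ 5 2⟩
        · exact ⟨X 6 2, by simp, hφ 6 2⟩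
    ext x
    rw [Ax6.mem_lAl, ← h1]
    constructor
    · rintro ⟨y, hy, h⟩
      have : y = x := Subtype.ext h
      exact this ▸ hy
    · intro h
      exact ⟨x, h, rfl⟩
  rw [h0, Subgroup.map_map]
  have h2 : φ.symm.toMonoidHom.comp φ.toMonoidHom = MonoidHom.id L0 :=
    MonoidHom.ext fun x => φ.symm_apply_apply x
  rw [h2, Subgroup.map_id]

theorem symm_u : φ.symm Ax6.lu = X 2 0 * X 9 1 := by
  have h : Ax6.lu = φ (X 2 0 * X 9 1) := by
    apply Subtype.ext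
    rw [map_mul]
    have h1 : ((φ (X 2 0) * φ (X 9 1) : Mod6.L) : GL6) = gx 2 0 * gx 9 1 := by
      rw [Subgroup.coe_mul]
      exact congrArg₂ _ (hφ 2 0) (hφ 9 1)
    rw [h1]
    exact Al6.ev_pair 2 9 0 1
  rw [h, φ.symm_apply_apply]

theorem symm_w : φ.symm Ax6.lw = X 5 0 * X 6 1 := by
  have h : Ax6.lw = φ (X 5 0 * X 6 1) := by
    apply Subtype.ext
    rw [map_mul]
    have h1 : ((φ (X 5 0) * φ (X 6 1) : Mod6.L) : GL6) = gx 5 0 * gx 6 1 := by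
      rw [Subgroup.coe_mul]
      exact congrArg₂ _ (hφ 5 0) (hφ 6 1)
    rw [h1]
    exact Al6.ev_pair 5 6 0 1
  rw [h, φ.symm_apply_apply]

theorem symm_n : φ.symm Ax6.ln = X 5 0 * GenJ.n := by
  have h : Ax6.ln = φ (X 5 0 * GenJ.n) := by
    apply Subtype.ext
    rw [n_eq]
    simp only [map_mul, Subgroup.coe_mul]
    have e4 : ((φ (X 4 0) : Mod6.L) : GL6) = gx 4 0 := hφ 4 0
    have e2 : ((φ (X 2 0) : Mod6.L) : GL6) = gx 2 0 := hφ 2 0
    have e5 : ((φ (X 5 2) : Mod6.L) : GL6) = gx 5 2 := hφ 5 2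
    have e50 : ((φ (X 5 0) : Mod6.L) : GL6) = gx 5 0 := hφ 5 0
    have e10 : ((φ (X 10 0) : Mod6.L) : GL6) = gx 10 0 := hφ 10 0
    rw [e4, e2, e5, e50, e10]
    change ev ((5, 0) :: [(4, 0), (2, 0), (5, 2), (10, 0), (2, 0), (4, 0)]) = _
    change gx 5 0 * (gx 4 0 * (gx 2 0 * (gx 5 2 * (gx 10 0 * (gx 2 0 * (gx 4 0 * 1)))))) = _
    simp only [mul_assoc, mul_one]
  rw [h, φ.symm_apply_apply]

theorem dmap_eq : dmap φ.symm Facts6.D6 = D0 := by
  have e1 := symm_u hφ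
  have e2 := symm_w hφ
  have e3 := map_As hφ
  have e4 := map_Al hφ
  have e5 : φ.symm Inv6.lz = X 6 0 := symm_X hφ 6 0 rfl
  have e6 : φ.symm Inv6.lv = X 9 0 := symm_X hφ 9 0 rfl
  have h : dmap φ.symm Facts6.D6 = ⟨φ.symm Ax6.lu, φ.symm Ax6.lw, Ax6.lAs.map φ.symm.toMonoidHom,
    Ax6.lAl.map φ.symm.toMonoidHom, φ.symm Inv6.lz, φ.symm Inv6.lv⟩ := rfl
  rw [h, e1, e2, e3, e4, e5, e6]
  rfl

theorem emap_eq : emap φ.symm Ax6.El6 = E0 := by
  have e1 := symm_u hφ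
  have e2 := symm_w hφ
  have e3 := map_As hφ
  have e4 := map_Al hφ
  have e5 : φ.symm Ax6.li₁ = X 2 0 := symm_X hφ 2 0 rfl
  have e6 : φ.symm Ax6.li₂ = X 5 0 := symm_X hφ 5 0 rfl
  have e7 := symm_n hφ
  have h : emap φ.symm Ax6.El6 = ⟨φ.symm Ax6.lu, φ.symm Ax6.lw, φ.symm Ax6.li₁, φ.symm Ax6.li₂,
    φ.symm Ax6.ln, Ax6.lAs.map φ.symm.toMonoidHom, Ax6.lAl.map φ.symm.toMonoidHom⟩ := rfl
  rw [h, e1, e2, e3, e4, e5, e6, e7]
  rfl

omit hφ

/-- the facts for the group on 416 points -/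
theorem facts0 : Facts D0 := by
  obtain ⟨φ, hφ⟩ := Iso416.exists_iso6
  rw [← dmap_eq hφ]
  exact facts_map _ Facts6.facts6

/-- the axioms of `AutL` for the group on 416 points -/
theorem ax0 : AutL.Ax E0 := by
  obtain ⟨φ, hφ⟩ := Iso416.exists_iso6
  rw [← emap_eq hφ]
  exact ax_map _ Ax6.ax6

/-- the two classes of involutions are not fused by automorphisms -/
theorem not_map_z_v (β : L0 ≃* L0) : β (X 6 0) ≠ X 9 0 := by
  obtain ⟨φ, hφ⟩ := Iso416.exists_iso6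
  intro h
  have e5 : φ.symm Inv6.lz = X 6 0 := symm_X hφ 6 0 rfl
  have e6 : φ.symm Inv6.lv = X 9 0 := symm_X hφ 9 0 rfl
  apply Inv6.not_map_z_v ((φ.symm.trans β).trans φ)
  change φ (β (φ.symm Inv6.lz)) = Inv6.lv
  rw [e5, h, ← e6, φ.apply_symm_apply]

/-- every involution is conjugate to `z` or to `v` -/
theorem conj_z_or_v {t : L0} (htt : t * t = 1) (ht1 : t ≠ 1) :
    (∃ g, g * t * g⁻¹ = X 6 0) ∨ ∃ g, g * t * g⁻¹ = X 9 0 := by
  obtain ⟨φ, hφ⟩ := Iso416.exists_iso6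
  have e5 : φ.symm Inv6.lz = X 6 0 := symm_X hφ 6 0 rfl
  have e6 : φ.symm Inv6.lv = X 9 0 := symm_X hφ 9 0 rfl
  have key : ∀ (y : L0) (k : Mod6.L), φ.symm k = y → (∃ g ∈ Mod6.L, g * (φ t : GL6) * g⁻¹ = k) →
      ∃ g, g * t * g⁻¹ = y := by
    rintro y k hk ⟨g, hg, h⟩
    refine ⟨φ.symm ⟨g, hg⟩, ?_⟩
    apply φ.injective
    rw [map_mul, map_mul, map_inv, φ.apply_symm_apply, ← hk, φ.apply_symm_apply]
    exact Subtype.ext h
  rcases Cls6.conj_z_or_v (t := (φ t : GL6)) (φ t).2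
    (congrArg Subtype.val (show φ t * φ t = 1 by rw [← map_mul, htt, map_one]))
    (fun h => ht1 (φ.injective (by rw [map_one]; exact Subtype.ext h))) with h | h
  · exact Or.inl (key _ _ e5 h)
  · exact Or.inr (key _ _ e6 h)

end Cfsg.Agent.StdG24.FactsL0
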