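import Mathlib
import Cfsg.Agent.StdG24.FiveL
import Cfsg.Agent.StdAlt.First

/-!
# Step 6: if `As ⊲ C_G(w)` and `Al ⊲ C_G(u)` then `A ≅ G₂(4)` is normal

`ι : L →* G` embeds `L = G₂(4)` in the finite group `G` with standard image.
-/

set_option autoImplicit false

namespace Cfsg.Agent.StdG24.NormalCase

open Subgroup Cfsg.Agent.StdG24.AutA5 Cfsg.Agent.StdG24.AutL Cfsg.Agent.StdG24.FiveL
open Cfsg.Agent.StdAlt.Conj Cfsg.Agent.StdAlt.Pairs Cfsg.Agent.StdAlt.First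

variable {L G : Type*} [Group L] [Group G]

/-- `ι` embeds `L` in `G` with standard image, `As ⊲ C_G(w)`, `Al ⊲ C_G(u)` -/
structure NC (E : El L) (ι : L →* G) : Prop where
  inj : Function.Injective ι
  te : TE ι.range
  nocomm : ∀ g : G, ∃ a b : L, ι a * (g * ι b * g⁻¹) ≠ (g * ι b * g⁻¹) * ι a
  inv : ∃ t ∈ C ι.range, t ≠ 1 ∧ t * t = 1
  nw : ∀ x : G, x * ι E.w = ι E.w * x → ∀ c ∈ E.As, ∃ c' ∈ E.As, x * ι c * x⁻¹ = ι c'
  nu : ∀ x : G, x * ι E.u = ι E.u * x → ∀ c ∈ E.Al, ∃ c' ∈ E.Al, x * ι c * x⁻¹ = ι c'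

theorem mem_C_range {ι : L →* G} {k : G} : k ∈ C ι.range ↔ ∀ l, k * ι l = ι l * k := by
  rw [mem_C]
  constructor
  · intro h l
    exact h _ ⟨l, rfl⟩
  · rintro h _ ⟨l, rfl⟩
    exact h l

theorem mem_N_range {ι : L →* G} [Finite G] {k : G} :
    k ∈ N ι.range ↔ ∀ l, ∃ l', k * ι l * k⁻¹ = ι l' := by
  constructor
  · intro h l
    obtain ⟨l', hl'⟩ := conj_mem h (show ι l ∈ ι.range from ⟨l, rfl⟩)
    exact ⟨l', hl'.symm⟩
  · intro h
    refine mem_N_of ?_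
    rintro _ ⟨l, rfl⟩
    obtain ⟨l', hl'⟩ := h l
    exact ⟨l', hl'.symm⟩

/-- conjugation of an embedding -/
def cjι (g : G) (ι : L →* G) : L →* G := (MulAut.conj g).toMonoidHom.comp ι

theorem cjι_apply (g : G) (ι : L →* G) (l : L) : cjι g ι l = g * ι l * g⁻¹ := rfl

theorem range_cjι (g : G) (ι : L →* G) : (cjι g ι).range = cj g ι.range := MonoidHom.range_comp _ _

theorem NC.cj {E : El L} {ι : L →* G} (h : NC E ι) (g : G) : NC E (cjι g ι) := by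
  have hconj : ∀ x l : G, x * (g * l * g⁻¹) = (g * l * g⁻¹) * x → (g⁻¹ * x * g) * l = l * (g⁻¹ * x * g) := by
    intro x l hx
    calc g⁻¹ * x * g * l = g⁻¹ * (x * (g * l * g⁻¹)) * g := by group
      _ = _ := by rw [hx]; group
  refine ⟨?_, ?_, ?_, ?_, ?_, ?_⟩
  · intro a b hab
    rw [cjι_apply, cjι_apply] at hab
    exact h.inj (mul_left_cancel (mul_right_cancel hab))
  · rw [range_cjι]
    exact h.te.cj g
  · intro x
    obtain ⟨a, b, hab⟩ := h.nocomm (g⁻¹ * x * g)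
    refine ⟨a, b, fun he => hab ?_⟩
    rw [cjι_apply, cjι_apply] at he
    calc ι a * (g⁻¹ * x * g * ι b * (g⁻¹ * x * g)⁻¹)
        = g⁻¹ * (g * ι a * g⁻¹ * (x * (g * ι b * g⁻¹) * x⁻¹)) * g := by group
      _ = _ := by rw [he]; group
  · obtain ⟨t, ht, ht1, htt⟩ := h.inv
    refine ⟨g * t * g⁻¹, ?_, ?_, ?_⟩
    · rw [range_cjι, mem_C_cj, show g⁻¹ * (g * t * g⁻¹) * g = t by group]
      exact ht
    · intro e
      apply ht1
      rw [show t = g⁻¹ * (g * t * g⁻¹) * g by group, e]; group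
    · rw [show g * t * g⁻¹ * (g * t * g⁻¹) = g * (t * t) * g⁻¹ by group, htt]; group
  · intro x hx c hc
    obtain ⟨c', hc', he⟩ := h.nw (g⁻¹ * x * g) (hconj _ _ hx) c hc
    refine ⟨c', hc', ?_⟩
    rw [cjι_apply, cjι_apply, ← he]; group
  · intro x hx c hc
    obtain ⟨c', hc', he⟩ := h.nu (g⁻¹ * x * g) (hconj _ _ hx) c hc
    refine ⟨c', hc', ?_⟩
    rw [cjι_apply, cjι_apply, ← he]; group

/-- the automorphism induced by an element of the normalizer -/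
theorem exists_aut [Finite G] {ι : L →* G} (hι : Function.Injective ι) {x : G} (hx : x ∈ N ι.range) :
    ∃ α : MulAut L, ∀ l, ι (α l) = x * ι l * x⁻¹ := by
  set e : L ≃* ι.range := MonoidHom.ofInjective hι
  set α : MulAut L := (e.trans (res (MulAut.conj x) ι.range (fun y => (mem_N.1 hx y)))).trans e.symm
  refine ⟨α, fun l => ?_⟩
  have h1 : ∀ y : ι.range, ι (e.symm y) = y := by
    intro y
    have : ((e (e.symm y) : ι.range) : G) = ι (e.symm y) := rfl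
    rw [← this, MulEquiv.apply_symm_apply]
  have h2 : ι (α l) = ((res (MulAut.conj x) ι.range (fun y => (mem_N.1 hx y))) (e l) : G) := h1 _
  rw [h2]
  rfl

/-- an element centralizing `v` and normalizing `B ≅ A₅` acts on `B` as a power of `v` -/
theorem conj_fix_G {B : Subgroup L} {v : L} (e : B ≃* alternatingGroup (Fin 5)) (hv : v ∈ B)
    (hv1 : v ≠ 1) (hv5 : v ^ 5 = 1) {ι : L →* G} (hι : Function.Injective ι) {x : G}
    (hx : x * ι v = ι v * x) (hn : ∀ c ∈ B, ∃ c' ∈ B, x * ι c * x⁻¹ = ι c') [Finite G] :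
    ∃ k : ℕ, ∀ c ∈ B, x * ι c * x⁻¹ = ι (v ^ k * c * (v ^ k)⁻¹) := by
  set ιB : B →* G := ι.comp B.subtype with hιB
  have hi : Function.Injective ιB := hι.comp B.subtype_injective
  have hxN : x ∈ N ιB.range := by
    rw [mem_N_range]
    rintro ⟨c, hc⟩
    obtain ⟨c', hc', h⟩ := hn c hc
    exact ⟨⟨c', hc'⟩, h⟩
  obtain ⟨α, hα⟩ := exists_aut hi hxN
  obtain ⟨k, hk⟩ := conj_of_fix e α (u := ⟨v, hv⟩) (fun h => hv1 (congrArg Subtype.val h))
    (Subtype.ext hv5) (hi (by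
      rw [hα]
      show x * ι v * x⁻¹ = ι v
      rw [hx, mul_inv_cancel_right]))
  refine ⟨k, fun c hc => ?_⟩
  have h1 := hα ⟨c, hc⟩
  rw [hk] at h1
  exact h1.symm

section one

variable [Finite G] {E : El L} (A : Ax E) [IsSimpleGroup L] {ι : L →* G} (h : NC E ι)
include A h

/-- involutions centralizing `u` and `w` centralize `As` and `Al` -/
theorem inv_comm {t : G} (htt : t * t = 1) (hw : t * ι E.w = ι E.w * t) (hu : t * ι E.u = ι E.u * t) :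
    ∀ c, c ∈ E.As ∨ c ∈ E.Al → t * ι c = ι c * t := by
  obtain ⟨es⟩ := A.eAs
  obtain ⟨el⟩ := A.eAl
  obtain ⟨k, hk⟩ := conj_fix_G es A.uAs A.u1 A.u5 h.inj hu (h.nw t hw)
  obtain ⟨i, hi⟩ := conj_fix_G el A.wAl A.w1 A.w5 h.inj hw (h.nu t hu)
  set q := E.w ^ i * E.u ^ k with hq
  have hc : ∀ c, c ∈ E.As ∨ c ∈ E.Al → t * ι c * t⁻¹ = ι (q * c * q⁻¹) := by
    rintro c (hc | hc)
    · rw [hk c hc]
      congr 1
      have h1 : Commute (E.w ^ i) c := (show Commute E.w c from (A.comm c hc _ A.wAl).symm).pow_left i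
      have h2 : E.w ^ i * c * (E.w ^ i)⁻¹ = c := by rw [h1.eq]; group
      rw [hq, (A.commuw.pow_pow k i).symm.eq]
      calc E.u ^ k * c * (E.u ^ k)⁻¹ = E.u ^ k * (E.w ^ i * c * (E.w ^ i)⁻¹) * (E.u ^ k)⁻¹ := by rw [h2]
        _ = _ := by group
    · rw [hi c hc]
      congr 1
      have h1 : Commute (E.u ^ k) c := (show Commute E.u c from A.comm _ A.uAs c hc).pow_left k
      have h2 : E.u ^ k * c * (E.u ^ k)⁻¹ = c := by rw [h1.eq]; group
      rw [hq]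
      calc E.w ^ i * c * (E.w ^ i)⁻¹ = E.w ^ i * (E.u ^ k * c * (E.u ^ k)⁻¹) * (E.w ^ i)⁻¹ := by rw [h2]
        _ = _ := by group
  have htq : t * ι q = ι q * t := by
    have h1 : Commute t (ι E.w ^ i) := (show Commute t (ι E.w) from hw).pow_right i
    have h2 : Commute t (ι E.u ^ k) := (show Commute t (ι E.u) from hu).pow_right k
    rw [hq, map_mul, map_pow, map_pow]
    exact (h1.mul_right h2).eq
  have hti : t⁻¹ = t := inv_eq_of_mul_eq_one_left htt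
  have hqq : ∀ c, c ∈ E.As ∨ c ∈ E.Al → (q * q) * c = c * (q * q) := by
    intro c hcc
    have h1 : ι c = ι (q * q * c * (q * q)⁻¹) := by
      calc ι c = t * (t * ι c * t⁻¹) * t⁻¹ := by
            rw [hti]
            calc ι c = (t * t) * ι c * (t * t) := by rw [htt]; group
              _ = _ := by group
        _ = t * ι (q * c * q⁻¹) * t⁻¹ := by rw [hc c hcc]
        _ = (t * ι q) * ι c * (t * ι q)⁻¹ := by
            rw [map_mul, map_mul, map_inv]; group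
        _ = ι q * (t * ι c * t⁻¹) * (ι q)⁻¹ := by rw [htq]; group
        _ = ι (q * q * c * (q * q)⁻¹) := by
            rw [hc c hcc, ← map_inv, ← map_mul, ← map_mul]; group
    have h2 := h.inj h1
    calc q * q * c = (q * q * c * (q * q)⁻¹) * (q * q) := by group
      _ = _ := by rw [← h2]
  have hq2 : q * q = E.w ^ (i + i) * E.u ^ (k + k) := by rw [hq, A.qmul]
  have hq1 : q = 1 := by
    apply eq_one_of_sq (q5 A i k)
    rw [← hq, hq2]
    apply q_eq_one A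
    rw [← hq2]
    have h1 := hqq E.i₁ (Or.inl A.i₁As)
    have h2 := hqq E.i₂ (Or.inr A.i₂Al)
    exact (Commute.mul_right (show Commute (q * q) E.i₁ from h1) h2).eq
  intro c hcc
  have h1 := hc c hcc
  rw [hq1, one_mul, inv_one, mul_one] at h1
  exact mul_inv_eq_iff_eq_mul.1 h1

/-- involutions centralizing `u` and `w` centralize `L` -/
theorem inv_mem_C {t : G} (htt : t * t = 1) (hw : t * ι E.w = ι E.w * t)
    (hu : t * ι E.u = ι E.u * t) : t ∈ C ι.range := by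
  set X : Subgroup L :=
    { carrier := {x | ∀ t : G, t * t = 1 → t * ι E.w = ι E.w * t → t * ι E.u = ι E.u * t →
        t * ι x = ι x * t}
      one_mem' := by intro t _ _ _; rw [map_one, mul_one, one_mul]
      mul_mem' := by
        intro a b ha hb t h1 h2 h3
        have := (show Commute t (ι a) from ha t h1 h2 h3).mul_right (hb t h1 h2 h3)
        rw [map_mul]; exact this.eq
      inv_mem' := by
        intro a ha t h1 h2 h3
        have := (show Commute t (ι a) from ha t h1 h2 h3).inv_right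
        rw [map_inv]; exact this.eq } with hX
  have htop : X = ⊤ := by
    apply top_of A
    · intro c hc t h1 h2 h3
      exact inv_comm A h h1 h2 h3 c (Or.inl hc)
    · intro c hc t h1 h2 h3
      exact inv_comm A h h1 h2 h3 c (Or.inr hc)
    · intro x hx t h1 h2 h3
      have hq : ∀ p : ℕ × ℕ, t * ι (E.n * (E.w ^ p.1 * E.u ^ p.2) * E.n⁻¹)
          = ι (E.n * (E.w ^ p.1 * E.u ^ p.2) * E.n⁻¹) * t := by
        intro p
        rw [A.nq, map_mul, map_pow, map_pow]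
        exact (((show Commute t (ι E.w) from h2).pow_right _).mul_right
          ((show Commute t (ι E.u) from h3).pow_right _)).eq
      have hcc : ∀ y : L, t * ι (E.n * y * E.n⁻¹) = ι (E.n * y * E.n⁻¹) * t ↔
          ((ι E.n)⁻¹ * t * ι E.n) * ι y = ι y * ((ι E.n)⁻¹ * t * ι E.n) := by
        intro y
        rw [map_mul, map_mul, map_inv]
        constructor
        · intro e
          calc (ι E.n)⁻¹ * t * ι E.n * ι y
              = (ι E.n)⁻¹ * (t * (ι E.n * ι y * (ι E.n)⁻¹)) * ι E.n := by group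
            _ = _ := by rw [e]; group
        · intro e
          calc t * (ι E.n * ι y * (ι E.n)⁻¹)
              = ι E.n * ((ι E.n)⁻¹ * t * ι E.n * ι y) * (ι E.n)⁻¹ := by group
            _ = _ := by rw [e]; group
      rw [hcc]
      apply hx
      · rw [show (ι E.n)⁻¹ * t * ι E.n * ((ι E.n)⁻¹ * t * ι E.n) = (ι E.n)⁻¹ * (t * t) * ι E.n by group,
          h1]; group
      · rw [← hcc]
        have := hq (1, 0)
        simpa using this
      · rw [← hcc]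
        have := hq (0, 1)
        simpa using this
  rw [mem_C_range]
  intro l
  have hl : l ∈ X := by rw [htop]; trivial
  exact hl t htt hw hu

theorem cent_w_le {x : G} (hx : x * ι E.w = ι E.w * x) : x ∈ N ι.range := by
  obtain ⟨es⟩ := A.eAs
  obtain ⟨u', hu', hxu⟩ := h.nw x hx _ A.uAs
  have hu5 : u' ^ 5 = 1 := h.inj (by rw [map_pow, ← hxu, conj_pow, ← map_pow, A.u5, map_one]; group)
  have hu1 : u' ≠ 1 := by
    rintro rfl
    rw [map_one] at hxu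
    apply A.u1
    apply h.inj
    rw [map_one, show ι E.u = x⁻¹ * (x * ι E.u * x⁻¹) * x by group, hxu]; group
  obtain ⟨k, c, hc⟩ := conj_five es (u := ⟨E.u, A.uAs⟩) (fun h => A.u1 (congrArg Subtype.val h))
    (Subtype.ext A.u5) (x := ⟨u', hu'⟩) (fun h => hu1 (congrArg Subtype.val h)) (Subtype.ext hu5)
  have hc' : (c : L) * u' * (c : L)⁻¹ = E.u ^ k := congrArg Subtype.val hc
  have hk1 : E.u ^ k ≠ 1 := by
    rw [← hc']
    intro e
    apply hu1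
    rw [show u' = (c : L)⁻¹ * (c * u' * (c : L)⁻¹) * c by group, e]; group
  obtain ⟨m, hm⟩ := pow_inv A.u5 hk1
  set y := ι (c : L) * x with hy
  have hyw : y * ι E.w * y⁻¹ = ι E.w := by
    rw [hy, show ι (c : L) * x * ι E.w * (ι (c : L) * x)⁻¹
      = ι (c : L) * (x * ι E.w) * x⁻¹ * (ι (c : L))⁻¹ by group, hx,
      show ι (c : L) * (ι E.w * x) * x⁻¹ * (ι (c : L))⁻¹ = ι ((c : L) * E.w * (c : L)⁻¹) by
        rw [map_mul, map_mul, map_inv]; group, A.comm _ c.2 _ A.wAl, mul_inv_cancel_right]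
  have hyu : y * ι E.u * y⁻¹ = ι (E.u ^ k) := by
    rw [← hc', map_mul, map_mul, map_inv, ← hxu, hy]; group
  obtain ⟨t, ht, ht1, htt⟩ := h.inv
  have hyt : y * t * y⁻¹ ∈ C ι.range := by
    apply inv_mem_C A h
    · rw [show y * t * y⁻¹ * (y * t * y⁻¹) = y * (t * t) * y⁻¹ by group, htt]; group
    · calc y * t * y⁻¹ * ι E.w = y * t * y⁻¹ * (y * ι E.w * y⁻¹) := by rw [hyw]
        _ = y * (t * ι E.w) * y⁻¹ := by group
        _ = y * (ι E.w * t) * y⁻¹ := by rw [mem_C_range.1 ht]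
        _ = (y * ι E.w * y⁻¹) * (y * t * y⁻¹) := by group
        _ = ι E.w * (y * t * y⁻¹) := by rw [hyw]
    · have h1 : Commute (y * t * y⁻¹) (ι (E.u ^ k)) := by
        rw [← hyu]
        show y * t * y⁻¹ * (y * ι E.u * y⁻¹) = y * ι E.u * y⁻¹ * (y * t * y⁻¹)
        rw [show y * t * y⁻¹ * (y * ι E.u * y⁻¹) = y * (t * ι E.u) * y⁻¹ by group, (mem_C_range.1 ht)]
        group
      have h2 := h1.pow_right m
      rw [← map_pow, hm] at h2
      exact h2.eq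
  have h3 := h.te.key t y ht ht1 htt hyt
  have h4 : x = (ι (c : L))⁻¹ * y := by rw [hy]; group
  rw [h4]
  exact mul_mem (inv_mem (le_N ⟨c, rfl⟩)) h3

theorem cent_u_le {x : G} (hx : x * ι E.u = ι E.u * x) : x ∈ N ι.range := by
  obtain ⟨el⟩ := A.eAl
  obtain ⟨u', hu', hxu⟩ := h.nu x hx _ A.wAl
  have hu5 : u' ^ 5 = 1 := h.inj (by rw [map_pow, ← hxu, conj_pow, ← map_pow, A.w5, map_one]; group)
  have hu1 : u' ≠ 1 := by
    rintro rfl
    rw [map_one] at hxu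
    apply A.w1
    apply h.inj
    rw [map_one, show ι E.w = x⁻¹ * (x * ι E.w * x⁻¹) * x by group, hxu]; group
  obtain ⟨k, c, hc⟩ := conj_five el (u := ⟨E.w, A.wAl⟩) (fun h => A.w1 (congrArg Subtype.val h))
    (Subtype.ext A.w5) (x := ⟨u', hu'⟩) (fun h => hu1 (congrArg Subtype.val h)) (Subtype.ext hu5)
  have hc' : (c : L) * u' * (c : L)⁻¹ = E.w ^ k := congrArg Subtype.val hc
  have hk1 : E.w ^ k ≠ 1 := by
    rw [← hc']
    intro e
    apply hu1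
    rw [show u' = (c : L)⁻¹ * (c * u' * (c : L)⁻¹) * c by group, e]; group
  obtain ⟨m, hm⟩ := pow_inv A.w5 hk1
  set y := ι (c : L) * x with hy
  have hyw : y * ι E.u * y⁻¹ = ι E.u := by
    rw [hy, show ι (c : L) * x * ι E.u * (ι (c : L) * x)⁻¹
      = ι (c : L) * (x * ι E.u) * x⁻¹ * (ι (c : L))⁻¹ by group, hx,
      show ι (c : L) * (ι E.u * x) * x⁻¹ * (ι (c : L))⁻¹ = ι ((c : L) * E.u * (c : L)⁻¹) by
        rw [map_mul, map_mul, map_inv]; group, ← A.comm _ A.uAs _ c.2, mul_inv_cancel_right]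
  have hyu : y * ι E.w * y⁻¹ = ι (E.w ^ k) := by
    rw [← hc', map_mul, map_mul, map_inv, ← hxu, hy]; group
  obtain ⟨t, ht, ht1, htt⟩ := h.inv
  have hyt : y * t * y⁻¹ ∈ C ι.range := by
    apply inv_mem_C A h
    · rw [show y * t * y⁻¹ * (y * t * y⁻¹) = y * (t * t) * y⁻¹ by group, htt]; group
    · have h1 : Commute (y * t * y⁻¹) (ι (E.w ^ k)) := by
        rw [← hyu]
        show y * t * y⁻¹ * (y * ι E.w * y⁻¹) = y * ι E.w * y⁻¹ * (y * t * y⁻¹)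
        rw [show y * t * y⁻¹ * (y * ι E.w * y⁻¹) = y * (t * ι E.w) * y⁻¹ by group, (mem_C_range.1 ht)]
        group
      have h2 := h1.pow_right m
      rw [← map_pow, hm] at h2
      exact h2.eq
    · calc y * t * y⁻¹ * ι E.u = y * t * y⁻¹ * (y * ι E.u * y⁻¹) := by rw [hyw]
        _ = y * (t * ι E.u) * y⁻¹ := by group
        _ = y * (ι E.u * t) * y⁻¹ := by rw [mem_C_range.1 ht]
        _ = (y * ι E.u * y⁻¹) * (y * t * y⁻¹) := by group
        _ = ι E.u * (y * t * y⁻¹) := by rw [hyw]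
  have h3 := h.te.key t y ht ht1 htt hyt
  have h4 : x = (ι (c : L))⁻¹ * y := by rw [hy]; group
  rw [h4]
  exact mul_mem (inv_mem (le_N ⟨c, rfl⟩)) h3

/-- the centralizer of an element of order 5 of `L` normalizes `L` -/
theorem cent_le {d : L} (hd : d ≠ 1) (hd5 : d ^ 5 = 1) {x : G} (hx : x * ι d = ι d * x) :
    x ∈ N ι.range := by
  have key : ∀ (v g : L) (k : ℕ), v ^ 5 = 1 → g * d * g⁻¹ = v ^ k →
      (ι g * x * (ι g)⁻¹) * ι v = ι v * (ι g * x * (ι g)⁻¹) := by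
    intro v g k hv5 hg
    have hk1 : v ^ k ≠ 1 := by
      rw [← hg]
      intro e
      apply hd
      rw [show d = g⁻¹ * (g * d * g⁻¹) * g by group, e]; group
    obtain ⟨m, hm⟩ := pow_inv hv5 hk1
    have h1 : Commute (ι g * x * (ι g)⁻¹) (ι (v ^ k)) := by
      rw [← hg, map_mul, map_mul, map_inv]
      show ι g * x * (ι g)⁻¹ * (ι g * ι d * (ι g)⁻¹) = ι g * ι d * (ι g)⁻¹ * (ι g * x * (ι g)⁻¹)
      rw [show ι g * x * (ι g)⁻¹ * (ι g * ι d * (ι g)⁻¹) = ι g * (x * ι d) * (ι g)⁻¹ by group, hx]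
      group
    have h2 := h1.pow_right m
    rw [← map_pow, hm] at h2
    exact h2.eq
  have fin : ∀ g : L, ι g * x * (ι g)⁻¹ ∈ N ι.range → x ∈ N ι.range := by
    intro g h1
    have hg : ι g ∈ N ι.range := le_N ⟨g, rfl⟩
    rw [show x = (ι g)⁻¹ * (ι g * x * (ι g)⁻¹) * ι g by group]
    exact mul_mem (mul_mem (inv_mem hg) h1) hg
  obtain ⟨g, k, hg | hg⟩ := A.five d hd5
  · exact fin g (cent_u_le A h (key _ _ _ A.u5 hg))
  · exact fin g (cent_w_le A h (key _ _ _ A.w5 hg))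

end one

/-- elements normalizing `L` and inducing an inner automorphism -/
theorem dec_of_inner {ι : L →* G} {x : G} {q : L} (hq : ∀ l, x * ι l * x⁻¹ = ι (q * l * q⁻¹)) :
    ∃ k ∈ C ι.range, x = k * ι q := by
  refine ⟨x * (ι q)⁻¹, ?_, by group⟩
  rw [mem_C_range]
  intro l
  calc x * (ι q)⁻¹ * ι l = (x * ι (q⁻¹ * l * q) * x⁻¹) * x * (ι q)⁻¹ := by
        rw [map_mul, map_mul, map_inv]; group
    _ = ι (q * (q⁻¹ * l * q) * q⁻¹) * x * (ι q)⁻¹ := by rw [hq]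
    _ = ι l * (x * (ι q)⁻¹) := by
        rw [show q * (q⁻¹ * l * q) * q⁻¹ = l by group]; group

/-- elements of the normalizer commuting with an element `d` of order 5 -/
theorem dec [Finite G] {ι : L →* G} (hι : Function.Injective ι) {d : L} {D : Subgroup L} (hD : FC d D)
    {x : G} (hx : x ∈ N ι.range) (hxd : x * ι d = ι d * x) :
    ∃ k ∈ C ι.range, ∃ q : L, q * d = d * q ∧ x = k * ι q := by
  obtain ⟨α, hα⟩ := exists_aut hι hx
  obtain ⟨i, c, hc, h1⟩ := hD.aut α (hι (by rw [hα, hxd]; group))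
  obtain ⟨k, hk, h2⟩ := dec_of_inner (ι := ι) (x := x) (q := d ^ i * c) (fun l => by rw [← hα, h1])
  refine ⟨k, hk, _, ?_, h2⟩
  have c1 : Commute (d ^ i) d := (Commute.refl d).pow_left i
  have c2 : Commute c d := hD.comm c hc
  exact (c1.mul_left c2).eq

/-- `ι₂` is conjugate to `ι₁` -/
def Rl (ι₁ ι₂ : L →* G) : Prop := ∃ g : G, ∀ l, ι₂ l = g * ι₁ l * g⁻¹

theorem Rl.symm {ι₁ ι₂ : L →* G} (r : Rl ι₁ ι₂) : Rl ι₂ ι₁ := by
  obtain ⟨g, hg⟩ := r
  exact ⟨g⁻¹, fun l => by rw [hg]; group⟩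

theorem Rl.cj {ι₁ ι₂ : L →* G} (r : Rl ι₁ ι₂) : Cj ι₁.range ι₂.range := by
  obtain ⟨g, hg⟩ := r
  have : ι₂ = cjι g ι₁ := MonoidHom.ext hg
  rw [this, range_cjι]
  exact Cj.cj _ _

theorem Rl.no_comm {E : El L} {ι₁ ι₂ : L →* G} (r : Rl ι₁ ι₂) (h₁ : NC E ι₁) :
    ∃ a b : L, ι₁ a * ι₂ b ≠ ι₂ b * ι₁ a := by
  obtain ⟨g, hg⟩ := r
  obtain ⟨a, b, h⟩ := h₁.nocomm g
  exact ⟨a, b, by rw [hg]; exact h⟩

theorem not_central [IsSimpleGroup L] {E : El L} (A : Ax E) {d : L} (hd : d ≠ 1) :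
    ∃ x, x * d ≠ d * x := by
  by_contra hcon
  push Not at hcon
  have h1 : d ∈ center L := mem_center_iff.2 hcon
  rcases (inferInstance : (center L).Normal).eq_bot_or_eq_top with h | h
  · rw [h, mem_bot] at h1
    exact hd h1
  · have h2 : E.u ∈ center L := by rw [h]; trivial
    have h3 := mem_center_iff.1 h2 E.i₁
    have h4 := A.i₁u
    rw [h3, mul_assoc, A.i₁i₁, mul_one] at h4
    exact A.u1 (eq_one_of_sq A.u5 (by nth_rewrite 2 [h4]; exact mul_inv_cancel _))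

section pair

variable [Finite G] {E : El L} (A : Ax E) [IsSimpleGroup L] {ι₁ ι₂ : L →* G} (h₁ : NC E ι₁)
  (h₂ : NC E ι₂) (r : Rl ι₁ ι₂)

include A h₁ r in
/-- an element of order 5 of `L₁` does not centralize `L₂` -/
theorem no_cent {d : L} (hd : d ≠ 1) (hd5 : d ^ 5 = 1) : ι₁ d ∉ C ι₂.range := by
  intro hc
  have := A.finite
  have hcomm : ∀ y, ι₂ y * ι₁ d = ι₁ d * ι₂ y := fun y => (mem_C_range.1 hc y).symm
  have hle : ∀ y, ι₂ y ∈ N ι₁.range := fun y => cent_le A h₁ hd hd5 (hcomm y)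
  obtain ⟨D, hD⟩ := exists_FC A hd hd5
  have hex : ∀ y, ∃ q : L, q * d = d * q ∧ ∃ k ∈ C ι₁.range, ι₂ y = k * ι₁ q := by
    intro y
    obtain ⟨k, hk, q, hq, h⟩ := dec h₁.inj hD (hle y) (hcomm y)
    exact ⟨q, hq, k, hk, h⟩
  choose f hf hf' using hex
  have hX : ((C ι₁.range).comap ι₂).Normal := by
    constructor
    intro y hy z
    rw [mem_comap] at hy ⊢
    rw [map_mul, map_mul, map_inv]
    exact conj_mem_C (hle z) hy
  rcases hX.eq_bot_or_eq_top with h | h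
  · have hinj : Function.Injective f := by
      intro y z hyz
      obtain ⟨k, hk, e1⟩ := hf' y
      obtain ⟨k', hk', e2⟩ := hf' z
      have h3 : y * z⁻¹ ∈ (C ι₁.range).comap ι₂ := by
        rw [mem_comap, map_mul, map_inv, e1, e2, hyz,
          show k * ι₁ (f z) * (k' * ι₁ (f z))⁻¹ = k * k'⁻¹ by group]
        exact mul_mem hk (inv_mem hk')
      rw [h, mem_bot] at h3
      exact mul_inv_eq_one.1 h3
    have hsurj := Finite.surjective_of_injective hinj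
    obtain ⟨x, hx⟩ := not_central A hd
    obtain ⟨y, rfl⟩ := hsurj x
    exact hx (hf y)
  · obtain ⟨a, b, hab⟩ := r.no_comm h₁
    have hb : b ∈ (C ι₁.range).comap ι₂ := by rw [h]; trivial
    exact hab (mem_C_range.1 hb a).symm

/-- elements commuting with `d` and `D` are in `C(L) × ⟨d⟩` -/
theorem dec_cent {ι : L →* G} (hι : Function.Injective ι) {d : L} {D : Subgroup L} (hD : FC d D)
    {x : G} (hx : x ∈ N ι.range) (hxd : x * ι d = ι d * x) (hxD : ∀ c ∈ D, x * ι c = ι c * x) :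
    ∃ k ∈ C ι.range, ∃ i : ℕ, x = k * ι (d ^ i) := by
  obtain ⟨k, hk, q, hq, hxk⟩ := dec hι hD hx hxd
  obtain ⟨i, c, hc, rfl⟩ := hD.cent q hq
  obtain ⟨e⟩ := hD.iso
  have hc1 : c = 1 := by
    have h1 := eq_one_of_comm e (c := ⟨c, hc⟩) (fun y => Subtype.ext (by
      show c * y = y * c
      have h1 : Commute x (ι y) := hxD y y.2
      have h2 : Commute k (ι y) := mem_C_range.1 hk y
      have h3 : Commute (ι (d ^ i * c)) (ι y) := by
        have : ι (d ^ i * c) = k⁻¹ * x := by rw [hxk]; group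
        rw [this]
        exact h2.inv_left.mul_left h1
      have h4 : d ^ i * c * y = y * (d ^ i * c) := hι (by rw [map_mul, h3.eq, ← map_mul])
      have h5 : Commute (d ^ i) (y : L) := (show Commute d (y : L) from (hD.comm y y.2).symm).pow_left i
      have h6 : Commute ((d ^ i)⁻¹ * (d ^ i * c)) (y : L) := h5.inv_left.mul_left h4
      rw [inv_mul_cancel_left] at h6
      exact h6.eq))
    exact congrArg Subtype.val h1
  rw [hc1, mul_one] at hxk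
  exact ⟨k, hk, i, hxk⟩

/-- `C_G(d)` normalizes `D` -/
theorem norm_D {ι : L →* G} (hι : Function.Injective ι) {d : L} {D : Subgroup L} (hD : FC d D)
    {x : G} (hx : x ∈ N ι.range) (hxd : x * ι d = ι d * x) {c : L} (hc : c ∈ D) :
    ∃ c' ∈ D, x * ι c * x⁻¹ = ι c' := by
  obtain ⟨k, hk, q, hq, hxk⟩ := dec hι hD hx hxd
  refine ⟨q * c * q⁻¹, ?_, ?_⟩
  · have h1 := hD.comm_mem hq (hD.comm c hc)
    rw [show q * c * q⁻¹ = q * c * q⁻¹ * c⁻¹ * c by group]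
    exact mul_mem h1 hc
  · rw [hxk]
    calc k * ι q * ι c * (k * ι q)⁻¹ = k * ι (q * c * q⁻¹) * k⁻¹ := by
          rw [map_mul, map_mul, map_inv]; group
      _ = _ := by rw [mem_C_range.1 hk]; group

include A h₁ h₂ r in
/-- two different conjugates have no element of order 5 in common -/
theorem no_inter (hne : ι₁.range ≠ ι₂.range) {d₁ d₂ : L} (hd : d₁ ≠ 1) (hd5 : d₁ ^ 5 = 1)
    (he : ι₁ d₁ = ι₂ d₂) : False := by
  have := A.finite
  have hd2 : d₂ ≠ 1 := by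
    rintro rfl
    rw [map_one] at he
    exact hd (h₁.inj (by rw [he, map_one]))
  have hd25 : d₂ ^ 5 = 1 := h₂.inj (by rw [map_pow, ← he, ← map_pow, hd5, map_one, map_one])
  obtain ⟨D₁, hD₁⟩ := exists_FC A hd hd5
  obtain ⟨D₂, hD₂⟩ := exists_FC A hd2 hd25
  obtain ⟨e₁⟩ := hD₁.iso
  obtain ⟨e₂⟩ := hD₂.iso
  have hs : IsSimpleGroup (alternatingGroup (Fin 5)) := alternatingGroup.isSimpleGroup (by simp)
  have hs₁ : IsSimpleGroup D₁ := e₁.isSimpleGroup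
  -- elements of `D₁`, `D₂` commute with `x = ι₁ d₁ = ι₂ d₂`
  have c11 : ∀ c ∈ D₁, ι₁ c * ι₁ d₁ = ι₁ d₁ * ι₁ c := fun c hc => by
    rw [← map_mul, hD₁.comm c hc, map_mul]
  have c12 : ∀ c ∈ D₁, ι₁ c * ι₂ d₂ = ι₂ d₂ * ι₁ c := fun c hc => by rw [← he]; exact c11 c hc
  have c22 : ∀ c ∈ D₂, ι₂ c * ι₂ d₂ = ι₂ d₂ * ι₂ c := fun c hc => by
    rw [← map_mul, hD₂.comm c hc, map_mul]
  have c21 : ∀ c ∈ D₂, ι₂ c * ι₁ d₁ = ι₁ d₁ * ι₂ c := fun c hc => by rw [he]; exact c22 c hc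
  have n12 : ∀ c ∈ D₁, ι₁ c ∈ N ι₂.range := fun c hc => cent_le A h₂ hd2 hd25 (c12 c hc)
  have n21 : ∀ c ∈ D₂, ι₂ c ∈ N ι₁.range := fun c hc => cent_le A h₁ hd hd5 (c21 c hc)
  have hX : (((D₂.map ι₂).comap ι₁).subgroupOf D₁).Normal := by
    constructor
    rintro ⟨c, hc⟩ hcm ⟨y, hy⟩
    rw [mem_subgroupOf, mem_comap] at hcm ⊢
    obtain ⟨c₂, hc₂, h3⟩ := hcm
    obtain ⟨c₃, hc₃, h4⟩ := norm_D h₂.inj hD₂ (n12 y hy) (c12 y hy) hc₂
    refine ⟨c₃, hc₃, ?_⟩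
    rw [← h4, h3]
    show ι₁ y * ι₁ c * (ι₁ y)⁻¹ = ι₁ (y * c * y⁻¹)
    rw [map_mul, map_mul, map_inv]
  rcases hX.eq_bot_or_eq_top with h | h
  · -- `D₁`, `D₂` commute
    have hcomm : ∀ c₁ ∈ D₁, ∀ c₂ ∈ D₂, ι₂ c₂ * ι₁ c₁ = ι₁ c₁ * ι₂ c₂ := by
      intro c₁ hc₁ c₂ hc₂
      obtain ⟨c₃, hc₃, h3⟩ := norm_D h₂.inj hD₂ (n12 c₁ hc₁) (c12 c₁ hc₁) hc₂
      obtain ⟨c₄, hc₄, h4⟩ := norm_D h₁.inj hD₁ (n21 c₂ hc₂) (c21 c₂ hc₂) (inv_mem hc₁)
      have h5 : (⟨c₁ * c₄, mul_mem hc₁ hc₄⟩ : D₁) ∈ ((D₂.map ι₂).comap ι₁).subgroupOf D₁ := by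
        rw [mem_subgroupOf, mem_comap]
        refine ⟨c₃ * c₂⁻¹, mul_mem hc₃ (inv_mem hc₂), ?_⟩
        show ι₂ (c₃ * c₂⁻¹) = ι₁ (c₁ * c₄)
        rw [map_mul, map_mul, ← h3, ← h4, map_inv, map_inv]; group
      rw [h, mem_bot] at h5
      have h6 : c₁ * c₄ = 1 := congrArg Subtype.val h5
      have h7 : c₄ = c₁⁻¹ := eq_inv_of_mul_eq_one_right h6
      rw [h7, map_inv] at h4
      have h8 : Commute (ι₂ c₂) (ι₁ c₁)⁻¹ := mul_inv_eq_iff_eq_mul.1 h4
      have h9 := h8.inv_right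
      rw [inv_inv] at h9
      exact h9.eq
    obtain ⟨v, i, v1, v5, i1, ii, iv⟩ := exists_five e₂
    obtain ⟨k, hk, a, ha⟩ := dec_cent h₁.inj hD₁ (n21 _ v.2) (c21 _ v.2) (fun c hc => hcomm c hc _ v.2)
    obtain ⟨k', hk', a', ha'⟩ := dec_cent h₁.inj hD₁ (n21 _ i.2) (c21 _ i.2)
      (fun c hc => hcomm c hc _ i.2)
    have iv' : (i : L) * v * i = (v : L)⁻¹ := congrArg Subtype.val iv
    have ii' : (i : L) * i = 1 := congrArg Subtype.val ii
    have i3 : (i : L)⁻¹ = i := inv_eq_of_mul_eq_one_left ii'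
    have v5' : (v : L) ^ 5 = 1 := congrArg Subtype.val v5
    have hv : ι₂ v = (k' * k * k'⁻¹ * k⁻¹) ^ 2 := by
      have h3 : (v : L) = (i * v * (i : L)⁻¹ * (v : L)⁻¹) ^ 2 := by
        rw [i3, iv']
        calc (v : L) = (v : L) ^ 5 * ((v : L)⁻¹ * (v : L)⁻¹) ^ 2 := by group
          _ = _ := by rw [v5', one_mul]
      rw [h3, map_pow]
      congr 1
      rw [map_mul, map_mul, map_mul, map_inv, map_inv, ha, ha', mul_inv_rev, mul_inv_rev]
      have e1 : Commute (ι₁ (d₁ ^ a')) k := (mem_C_range.1 hk _).symm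
      have e2 : Commute (ι₁ (d₁ ^ a)) k' := (mem_C_range.1 hk' _).symm
      have e3 : Commute (ι₁ (d₁ ^ a')) (ι₁ (d₁ ^ a)) := by
        rw [map_pow, map_pow]
        exact (Commute.refl _).pow_pow _ _
      calc k' * ι₁ (d₁ ^ a') * (k * ι₁ (d₁ ^ a)) * ((ι₁ (d₁ ^ a'))⁻¹ * k'⁻¹) * ((ι₁ (d₁ ^ a))⁻¹ * k⁻¹)
          = k' * (ι₁ (d₁ ^ a') * k) * (ι₁ (d₁ ^ a) * (ι₁ (d₁ ^ a'))⁻¹) * k'⁻¹ * (ι₁ (d₁ ^ a))⁻¹ * k⁻¹ := by
            group
        _ = k' * (k * ι₁ (d₁ ^ a')) * ((ι₁ (d₁ ^ a'))⁻¹ * ι₁ (d₁ ^ a)) * k'⁻¹ * (ι₁ (d₁ ^ a))⁻¹ * k⁻¹ := by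
            rw [e1.eq, e3.inv_left.eq]
        _ = k' * k * (ι₁ (d₁ ^ a) * k'⁻¹) * (ι₁ (d₁ ^ a))⁻¹ * k⁻¹ := by group
        _ = k' * k * (k'⁻¹ * ι₁ (d₁ ^ a)) * (ι₁ (d₁ ^ a))⁻¹ * k⁻¹ := by rw [e2.inv_right.eq]
        _ = _ := by group
    have hvC : ι₂ v ∈ C ι₁.range := by
      rw [hv]
      exact pow_mem (mul_mem (mul_mem (mul_mem hk' hk) (inv_mem hk')) (inv_mem hk)) 2
    exact no_cent A h₂ r.symm (fun h => v1 (Subtype.ext h)) v5' hvC
  · have hle : D₁.map ι₁ ≤ D₂.map ι₂ := by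
      rintro _ ⟨c, hc, rfl⟩
      have : (⟨c, hc⟩ : D₁) ∈ ((D₂.map ι₂).comap ι₁).subgroupOf D₁ := by rw [h]; trivial
      exact this
    have hcard : ∀ (ι : L →* G) (hι : Function.Injective ι) (D : Subgroup L)
        (e : D ≃* alternatingGroup (Fin 5)), Nat.card (D.map ι) = Nat.card (alternatingGroup (Fin 5)) :=
      fun ι hι D e => Nat.card_congr ((D.equivMapOfInjective ι hι).symm.trans e).toEquiv
    have heq : D₁.map ι₁ = D₂.map ι₂ := eq_of_le_of_card_ge hle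
      (by rw [hcard ι₁ h₁.inj D₁ e₁, hcard ι₂ h₂.inj D₂ e₂])
    obtain ⟨t, ht, ht1, htt⟩ := h₁.inv
    have htd : t * ι₂ d₂ = ι₂ d₂ * t := by rw [← he]; exact mem_C_range.1 ht _
    obtain ⟨k, hk, i, hi⟩ := dec_cent h₂.inj hD₂ (cent_le A h₂ hd2 hd25 htd) htd (by
      intro c hc
      have : ι₂ c ∈ D₁.map ι₁ := by rw [heq]; exact ⟨c, hc, rfl⟩
      obtain ⟨c', -, h'⟩ := this
      rw [← h']
      exact mem_C_range.1 ht c')
    have hkc := mem_C_range.1 hk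
    have h3 : ι₂ (d₂ ^ i) * ι₂ (d₂ ^ i) = (k * k)⁻¹ := by
      rw [hi] at htt
      rw [eq_inv_iff_mul_eq_one]
      calc ι₂ (d₂ ^ i) * ι₂ (d₂ ^ i) * (k * k) = ι₂ (d₂ ^ i) * (ι₂ (d₂ ^ i) * k) * k := by group
        _ = ι₂ (d₂ ^ i) * (k * ι₂ (d₂ ^ i)) * k := by rw [hkc]
        _ = (ι₂ (d₂ ^ i) * k) * (ι₂ (d₂ ^ i) * k) := by group
        _ = (k * ι₂ (d₂ ^ i)) * (k * ι₂ (d₂ ^ i)) := by rw [hkc]
        _ = 1 := htt
    have h4 : ι₂ (d₂ ^ i * d₂ ^ i) = 1 := by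
      apply h₂.te.disj
      · exact ⟨_, rfl⟩
      · rw [map_mul, h3]
        exact inv_mem (mul_mem hk hk)
    have h5 : d₂ ^ i * d₂ ^ i = 1 := h₂.inj (by rw [h4, map_one])
    have h6 : d₂ ^ i = 1 := eq_one_of_sq (by rw [← pow_mul, mul_comm, pow_mul, hd25, one_pow]) h5
    rw [h6, map_one, mul_one] at hi
    exact hne (h₁.te.eq_of_mem r.cj ht1 htt ht (hi ▸ hk))

/-- elements of order 5 of `N(L)` lie in `C(L) L` -/
theorem dec_five {ι : L →* G} (hι : NC E ι) (A : Ax E) {x : G} (hx : x ∈ N ι.range) (hx5 : x ^ 5 = 1) :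
    ∃ k ∈ C ι.range, ∃ b : L, b ^ 5 = 1 ∧ x = k * ι b := by
  obtain ⟨α, hα⟩ := exists_aut hι.inj hx
  obtain ⟨c, hc⟩ := A.sq_inner α
  obtain ⟨k, hk, h1⟩ := dec_of_inner (ι := ι) (x := x * x) (q := c) (fun l => by
    rw [← hc, hα, hα]; group)
  have hkc : Commute k (ι c) := mem_C_range.1 hk c
  have h2 : x = k ^ 3 * ι (c ^ 3) := by
    calc x = x ^ 5 * x := by rw [hx5, one_mul]
      _ = (x * x) ^ 3 := by rw [← sq, ← pow_mul, ← pow_succ]
      _ = _ := by rw [h1, hkc.mul_pow, map_pow]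
  refine ⟨k ^ 3, pow_mem hk 3, c ^ 3, ?_, h2⟩
  have hkc' : Commute (k ^ 3) (ι (c ^ 3)) := mem_C_range.1 (pow_mem hk 3) _
  have h3 : (k ^ 3) ^ 5 * ι (c ^ 3) ^ 5 = 1 := by rw [← hkc'.mul_pow, ← h2, hx5]
  have h4 : ι ((c ^ 3) ^ 5) = 1 := by
    apply hι.te.disj _ ⟨_, rfl⟩
    rw [map_pow, eq_inv_of_mul_eq_one_right h3]
    exact inv_mem (pow_mem (pow_mem hk 3) 5)
  exact hι.inj (by rw [h4, map_one])

include A h₁ h₂ r in
/-- if `L₁` has an element of order 5 normalizing `L₂` then `L₂` normalizes `L₁` -/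
theorem five_aux (hne : ι₁.range ≠ ι₂.range) {d : L} (hd : d ≠ 1) (hd5 : d ^ 5 = 1)
    (hdN : ι₁ d ∈ N ι₂.range) (l : L) : ι₂ l ∈ N ι₁.range := by
  have := A.finite
  have : Fact (Nat.Prime 5) := ⟨by norm_num⟩
  obtain ⟨k₀, hk₀, b, hb5, hdb⟩ := dec_five h₂ A hdN (by rw [← map_pow, hd5, map_one])
  have hk₀c := mem_C_range.1 hk₀
  have hb : b ≠ 1 := by
    rintro rfl
    rw [map_one, mul_one] at hdb
    exact no_cent A h₁ r hd hd5 (hdb ▸ hk₀)
  obtain ⟨B, hB⟩ := exists_FC A hb hb5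
  obtain ⟨D, hD⟩ := exists_FC A hd hd5
  obtain ⟨eB⟩ := hB.iso
  obtain ⟨v, i, v1, v5, i1, ii, iv⟩ := exists_five eB
  -- elements of `B` commute with `d`
  have hBd : ∀ c ∈ B, ι₂ c * ι₁ d = ι₁ d * ι₂ c := by
    intro c hc
    rw [hdb]
    have e1 : Commute (ι₂ c) k₀ := (hk₀c c).symm
    have e2 : Commute (ι₂ c) (ι₂ b) := by
      show ι₂ c * ι₂ b = ι₂ b * ι₂ c
      rw [← map_mul, hB.comm c hc, map_mul]
    exact (e1.mul_right e2).eq
  have hBN : ∀ c ∈ B, ι₂ c ∈ N ι₁.range := fun c hc => cent_le A h₁ hd hd5 (hBd c hc)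
  obtain ⟨k₁, hk₁, q₁, hq₁, e₁⟩ := dec h₁.inj hD (hBN _ v.2) (hBd _ v.2)
  obtain ⟨k₂, hk₂, q₂, hq₂, e₂⟩ := dec h₁.inj hD (hBN _ i.2) (hBd _ i.2)
  have iv' : (i : L) * v * i = (v : L)⁻¹ := congrArg Subtype.val iv
  have ii' : (i : L) * i = 1 := congrArg Subtype.val ii
  have i3 : (i : L)⁻¹ = i := inv_eq_of_mul_eq_one_left ii'
  have v5' : (v : L) ^ 5 = 1 := congrArg Subtype.val v5
  have v1' : (v : L) ≠ 1 := fun h => v1 (Subtype.ext h)
  -- `ι₂ v = k * ι₁ a` with `a ∈ D`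
  set a := (q₂ * q₁ * q₂⁻¹ * q₁⁻¹) ^ 2 with ha
  set k := (k₂ * k₁ * k₂⁻¹ * k₁⁻¹) ^ 2 with hk
  have haD : a ∈ D := pow_mem (hD.comm_mem hq₂ hq₁) 2
  have hkC : k ∈ C ι₁.range :=
    pow_mem (mul_mem (mul_mem (mul_mem hk₂ hk₁) (inv_mem hk₂)) (inv_mem hk₁)) 2
  have hva : ι₂ v = k * ι₁ a := by
    have h3 : (v : L) = (i * v * (i : L)⁻¹ * (v : L)⁻¹) ^ 2 := by
      rw [i3, iv']
      calc (v : L) = (v : L) ^ 5 * ((v : L)⁻¹ * (v : L)⁻¹) ^ 2 := by group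
        _ = _ := by rw [v5', one_mul]
    have hcc : Commute (k₂ * k₁ * k₂⁻¹ * k₁⁻¹) (ι₁ (q₂ * q₁ * q₂⁻¹ * q₁⁻¹)) :=
      mem_C_range.1 (mul_mem (mul_mem (mul_mem hk₂ hk₁) (inv_mem hk₂)) (inv_mem hk₁)) _
    rw [h3, map_pow, hk, ha, map_pow, ← hcc.mul_pow]
    congr 1
    rw [map_mul, map_mul, map_mul, map_inv, map_inv, e₁, e₂, mul_inv_rev, mul_inv_rev, map_mul,
      map_mul, map_mul, map_inv, map_inv]
    have f11 : Commute k₁ (ι₁ q₁) := mem_C_range.1 hk₁ _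
    have f12 : Commute k₁ (ι₁ q₂) := mem_C_range.1 hk₁ _
    have f21 : Commute k₂ (ι₁ q₁) := mem_C_range.1 hk₂ _
    have f22 : Commute k₂ (ι₁ q₂) := mem_C_range.1 hk₂ _
    have g1 : Commute (ι₁ q₂ * ι₁ q₁ * (ι₁ q₂)⁻¹ * (ι₁ q₁)⁻¹) k₁ :=
      (((f12.symm.mul_left f11.symm).mul_left f12.symm.inv_left).mul_left f11.symm.inv_left)
    calc k₂ * ι₁ q₂ * (k₁ * ι₁ q₁) * ((ι₁ q₂)⁻¹ * k₂⁻¹) * ((ι₁ q₁)⁻¹ * k₁⁻¹)
        = k₂ * (ι₁ q₂ * k₁) * ι₁ q₁ * ((ι₁ q₂)⁻¹ * k₂⁻¹) * ((ι₁ q₁)⁻¹ * k₁⁻¹) := by group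
      _ = k₂ * (k₁ * ι₁ q₂) * ι₁ q₁ * (k₂⁻¹ * (ι₁ q₂)⁻¹) * ((ι₁ q₁)⁻¹ * k₁⁻¹) := by
          rw [f12.eq, f22.inv_inv.eq]
      _ = k₂ * k₁ * ι₁ q₂ * (ι₁ q₁ * k₂⁻¹) * (ι₁ q₂)⁻¹ * ((ι₁ q₁)⁻¹ * k₁⁻¹) := by group
      _ = k₂ * k₁ * ι₁ q₂ * (k₂⁻¹ * ι₁ q₁) * (ι₁ q₂)⁻¹ * ((ι₁ q₁)⁻¹ * k₁⁻¹) := by
          rw [f21.inv_left.eq]
      _ = k₂ * k₁ * (ι₁ q₂ * k₂⁻¹) * ι₁ q₁ * (ι₁ q₂)⁻¹ * ((ι₁ q₁)⁻¹ * k₁⁻¹) := by group
      _ = k₂ * k₁ * (k₂⁻¹ * ι₁ q₂) * ι₁ q₁ * (ι₁ q₂)⁻¹ * ((ι₁ q₁)⁻¹ * k₁⁻¹) := by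
          rw [f22.inv_left.eq]
      _ = k₂ * k₁ * k₂⁻¹ * ((ι₁ q₂ * ι₁ q₁ * (ι₁ q₂)⁻¹ * (ι₁ q₁)⁻¹) * k₁⁻¹) := by group
      _ = k₂ * k₁ * k₂⁻¹ * (k₁⁻¹ * (ι₁ q₂ * ι₁ q₁ * (ι₁ q₂)⁻¹ * (ι₁ q₁)⁻¹)) := by
          rw [g1.inv_right.eq]
      _ = _ := by group
  have hka : Commute k (ι₁ a) := mem_C_range.1 hkC a
  have ha5 : a ^ 5 = 1 := by
    have h3 : k ^ 5 * ι₁ a ^ 5 = 1 := by rw [← hka.mul_pow, ← hva, ← map_pow, v5', map_one]
    have h4 : ι₁ (a ^ 5) = 1 := by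
      apply h₁.te.disj _ ⟨_, rfl⟩
      rw [map_pow, eq_inv_of_mul_eq_one_right h3]
      exact inv_mem (pow_mem hkC 5)
    exact h₁.inj (by rw [h4, map_one])
  have ha1 : a ≠ 1 := by
    intro e
    rw [e, map_one, mul_one] at hva
    exact no_cent A h₂ r.symm v1' v5' (hva ▸ hkC)
  -- the centralizer of `a` normalizes `L₂`
  have hcaN : ∀ y : L, y * a = a * y → ι₁ y ∈ N ι₂.range := by
    intro y hy
    apply cent_le A h₂ v1' v5'
    rw [hva]
    have e1 : Commute (ι₁ y) k := (mem_C_range.1 hkC y).symm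
    have e2 : Commute (ι₁ y) (ι₁ a) := by
      show ι₁ y * ι₁ a = ι₁ a * ι₁ y
      rw [← map_mul, hy, map_mul]
    exact (e1.mul_right e2).eq
  have had : a * d = d * a := hD.comm a haD
  obtain ⟨k₃, hk₃, b₁, hb₁5, hab⟩ := dec_five h₂ A (hcaN a rfl) (by rw [← map_pow, ha5, map_one])
  have hk₃c := mem_C_range.1 hk₃
  -- products
  have hprod : ∀ i j : ℕ, ι₁ (d ^ i * a ^ j) = k₀ ^ i * k₃ ^ j * ι₂ (b ^ i * b₁ ^ j) := by
    intro i j
    have e1 : Commute k₀ (ι₂ b) := hk₀c b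
    have e2 : Commute k₃ (ι₂ b₁) := hk₃c b₁
    rw [map_mul, map_pow, map_pow, hdb, hab, e1.mul_pow, e2.mul_pow, map_mul, map_pow, map_pow]
    have e3 : Commute (k₃ ^ j) (ι₂ b ^ i) := (show Commute k₃ (ι₂ b) from hk₃c b).pow_pow j i
    calc k₀ ^ i * ι₂ b ^ i * (k₃ ^ j * ι₂ b₁ ^ j) = k₀ ^ i * (ι₂ b ^ i * k₃ ^ j) * ι₂ b₁ ^ j := by group
      _ = _ := by rw [← e3.eq]; group
  have hkk : ∀ i j : ℕ, k₀ ^ i * k₃ ^ j ∈ C ι₂.range := fun i j =>
    mul_mem (pow_mem hk₀ i) (pow_mem hk₃ j)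
  have hda5 : ∀ i j : ℕ, (d ^ i * a ^ j) ^ 5 = 1 := by
    intro i j
    have e1 : Commute (d ^ i) (a ^ j) := (show Commute d a from had.symm).pow_pow i j
    rw [e1.mul_pow, ← pow_mul, ← pow_mul, mul_comm i, mul_comm j, pow_mul, pow_mul, hd5, ha5, one_pow,
      one_pow, one_mul]
  have hbb : b * b₁ = b₁ * b := by
    have e1 : ι₁ (d * a) = k₀ * k₃ * ι₂ (b * b₁) := by simpa using hprod 1 1
    have e2 : ι₁ (a * d) = k₃ * k₀ * ι₂ (b₁ * b) := by
      rw [map_mul, hdb, hab, map_mul]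
      have e3 : Commute k₀ (ι₂ b₁) := hk₀c b₁
      calc k₃ * ι₂ b₁ * (k₀ * ι₂ b) = k₃ * (ι₂ b₁ * k₀) * ι₂ b := by group
        _ = _ := by rw [← e3.eq]; group
    rw [had, e1] at e2
    have e4 : ι₂ ((b * b₁) * (b₁ * b)⁻¹) = (k₀ * k₃)⁻¹ * (k₃ * k₀) := by
      rw [map_mul, map_inv]
      calc ι₂ (b * b₁) * (ι₂ (b₁ * b))⁻¹
          = (k₀ * k₃)⁻¹ * (k₀ * k₃ * ι₂ (b * b₁)) * (ι₂ (b₁ * b))⁻¹ := by group
        _ = _ := by rw [e2]; group
    have e5 : ι₂ ((b * b₁) * (b₁ * b)⁻¹) = 1 := by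
      apply h₂.te.disj _ ⟨_, rfl⟩
      rw [e4]
      exact mul_mem (inv_mem (mul_mem hk₀ hk₃)) (mul_mem hk₃ hk₀)
    have e6 : (b * b₁) * (b₁ * b)⁻¹ = 1 := h₂.inj (by rw [e5, map_one])
    exact mul_inv_eq_one.1 e6
  have hind : ∀ i j : ℕ, b ^ i * b₁ ^ j = 1 → i % 5 = 0 ∧ j % 5 = 0 := by
    intro i j hij
    have e1 := hprod i j
    rw [hij, map_one, mul_one] at e1
    have e2 : d ^ i * a ^ j = 1 := by
      by_contra hcon
      exact no_cent A h₁ r hcon (hda5 i j) (e1 ▸ hkk i j)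
    have e3 : a ^ j = d ^ (4 * i) := by
      rw [eq_inv_of_mul_eq_one_right e2, inv_eq_iff_mul_eq_one, ← pow_add,
        show i + 4 * i = 5 * i by ring, pow_mul, hd5, one_pow]
    have e4 : a ^ j = 1 := hD.inter (pow_mem haD j) e3
    have e5 : d ^ i = 1 := by rw [e4, mul_one] at e2; exact e2
    have od : orderOf d = 5 := orderOf_eq_prime hd5 hd
    have oa : orderOf a = 5 := orderOf_eq_prime ha5 ha1
    have h6 := orderOf_dvd_of_pow_eq_one e5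
    have h7 := orderOf_dvd_of_pow_eq_one e4
    rw [od] at h6
    rw [oa] at h7
    omega
  have htop := top_of_five A hb5 hb₁5 hbb hind ((N ι₁.range).comap ι₂) (by
    intro i j x hij hx
    rw [mem_comap]
    apply cent_le A h₁ (d := d ^ i * a ^ j)
    · intro e
      apply hij
      have e1 := hprod i j
      rw [e, map_one] at e1
      have e2 : ι₂ (b ^ i * b₁ ^ j) = 1 := by
        apply h₂.te.disj _ ⟨_, rfl⟩
        rw [eq_inv_of_mul_eq_one_right e1.symm]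
        exact inv_mem (hkk i j)
      exact h₂.inj (by rw [e2, map_one])
    · exact hda5 i j
    · rw [hprod]
      have e1 : Commute (ι₂ x) (k₀ ^ i * k₃ ^ j) := (mem_C_range.1 (hkk i j) x).symm
      have e2 : Commute (ι₂ x) (ι₂ (b ^ i * b₁ ^ j)) := by
        show ι₂ x * ι₂ (b ^ i * b₁ ^ j) = ι₂ (b ^ i * b₁ ^ j) * ι₂ x
        rw [← map_mul, hx, map_mul]
      exact (e1.mul_right e2).eq)
  have : l ∈ (N ι₁.range).comap ι₂ := by rw [htop]; trivial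
  exact this

include A h₁ h₂ r in
/-- `(*)`: no element of order 5 of `L₁` normalizes `L₂` -/
theorem five_prime (hne : ι₁.range ≠ ι₂.range) {d : L} (hd : d ≠ 1) (hd5 : d ^ 5 = 1) :
    ι₁ d ∉ N ι₂.range := by
  intro hdN
  have n21 : ∀ l, ι₂ l ∈ N ι₁.range := five_aux A h₁ h₂ r hne hd hd5 hdN
  have n12 : ∀ l, ι₁ l ∈ N ι₂.range := five_aux A h₂ h₁ r.symm hne.symm A.w1 A.w5 (n21 _)
  have hX : (ι₂.range.comap ι₁).Normal := by
    constructor
    intro y hy z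
    rw [mem_comap] at hy ⊢
    rw [map_mul, map_mul, map_inv]
    exact conj_mem (n12 z) hy
  rcases hX.eq_bot_or_eq_top with h | h
  · obtain ⟨a, b, hab⟩ := r.no_comm h₁
    apply hab
    obtain ⟨a', ha'⟩ := conj_mem (n21 b) (show ι₁ a ∈ ι₁.range from ⟨a, rfl⟩)
    obtain ⟨b', hb'⟩ := conj_mem (n12 a) (show ι₂ b ∈ ι₂.range from ⟨b, rfl⟩)
    have h1 : a * a'⁻¹ ∈ ι₂.range.comap ι₁ := by
      rw [mem_comap]
      refine ⟨b' * b⁻¹, ?_⟩
      rw [map_mul, map_mul, map_inv, map_inv, ha', hb']; group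
    rw [h, mem_bot] at h1
    have h2 : a' = a := (mul_inv_eq_one.1 h1).symm
    rw [h2] at ha'
    calc ι₁ a * ι₂ b = (ι₂ b * ι₁ a * (ι₂ b)⁻¹) * ι₂ b := by rw [← ha']
      _ = _ := by group
  · apply hne
    have hle : ι₁.range ≤ ι₂.range := by
      rintro _ ⟨l, rfl⟩
      have : l ∈ ι₂.range.comap ι₁ := by rw [h]; trivial
      exact this
    have hcard : Nat.card ι₂.range = Nat.card ι₁.range := by
      obtain ⟨g, hg⟩ := r.cj.exists_eq
      rw [hg, card_cj]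
    exact eq_of_le_of_card_ge hle hcard.le

include A h₁ h₂ r in
/-- there are no inner pairs -/
theorem no_inner (F4 : ∀ l : L, l * l = 1 → ∃ d : L, d ≠ 1 ∧ d ^ 5 = 1 ∧ d * l = l * d)
    (hne : ι₁.range ≠ ι₂.range) {x : G} (hx : x ∈ C ι₂.range) (hx1 : x ≠ 1) (hxx : x * x = 1) {k : G}
    (hk : k ∈ C ι₁.range) {l : L} (he : x = k * ι₁ l) : False := by
  have hkl : Commute k (ι₁ l) := mem_C_range.1 hk l
  have h3 : ι₁ (l * l) = (k * k)⁻¹ := by
    rw [eq_inv_iff_mul_eq_one, map_mul]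
    calc ι₁ l * ι₁ l * (k * k) = ι₁ l * (ι₁ l * k) * k := by group
      _ = ι₁ l * (k * ι₁ l) * k := by rw [hkl.eq]
      _ = (ι₁ l * k) * (ι₁ l * k) := by group
      _ = (k * ι₁ l) * (k * ι₁ l) := by rw [hkl.eq]
      _ = 1 := by rw [← he, hxx]
  have h4 : ι₁ (l * l) = 1 := by
    apply h₁.te.disj _ ⟨_, rfl⟩
    rw [h3]
    exact inv_mem (mul_mem hk hk)
  have hll : l * l = 1 := h₁.inj (by rw [h4, map_one])
  obtain ⟨d, hd, hd5, hdl⟩ := F4 l hll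
  apply five_prime A h₁ h₂ r hne hd hd5
  apply h₂.te.nrm hx hx1 hxx
  rw [he]
  have e1 : Commute (ι₁ d) k := (mem_C_range.1 hk d).symm
  have e2 : Commute (ι₁ d) (ι₁ l) := by
    show ι₁ d * ι₁ l = ι₁ l * ι₁ d
    rw [← map_mul, hdl, map_mul]
  exact (e1.mul_right e2).eq

end pair

section main

variable [Finite G] {E : El L} (A : Ax E) [IsSimpleGroup L] {ι : L →* G} (h : NC E ι)

/-- `x` induces an inner automorphism -/
def Inn (ι : L →* G) (x : G) : Prop := ∃ q : L, ∀ l, x * ι l * x⁻¹ = ι (q * l * q⁻¹)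

theorem Inn.mul {ι : L →* G} {x y : G} (hx : Inn ι x) (hy : Inn ι y) : Inn ι (x * y) := by
  obtain ⟨p, hp⟩ := hx
  obtain ⟨q, hq⟩ := hy
  refine ⟨p * q, fun l => ?_⟩
  calc x * y * ι l * (x * y)⁻¹ = x * (y * ι l * y⁻¹) * x⁻¹ := by group
    _ = _ := by rw [hq, hp]; group

theorem Inn.one {ι : L →* G} : Inn ι 1 := ⟨1, fun l => by simp⟩

theorem Inn.pow {ι : L →* G} {x : G} (hx : Inn ι x) (n : ℕ) : Inn ι (x ^ n) := by
  induction n with
  | zero => rw [pow_zero]; exact Inn.one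
  | succ n ih => rw [pow_succ]; exact ih.mul hx

include A in
/-- the product of two elements inducing non-inner automorphisms induces an inner one -/
theorem inn_mul {ι : L →* G} (hι : Function.Injective ι) {x y : G} (hx : x ∈ N ι.range)
    (hy : y ∈ N ι.range) (hx' : ¬ Inn ι x) (hy' : ¬ Inn ι y) : Inn ι (x * y) := by
  obtain ⟨α, hα⟩ := exists_aut hι hx
  obtain ⟨β, hβ⟩ := exists_aut hι hy
  obtain ⟨c, hc⟩ := A.mul_inner α β
    (fun ⟨c, hc⟩ => hx' ⟨c, fun l => by rw [← hα, hc]⟩)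
    (fun ⟨c, hc⟩ => hy' ⟨c, fun l => by rw [← hβ, hc]⟩)
  refine ⟨c, fun l => ?_⟩
  rw [← hc, hα, hβ]; group

include A h in
theorem not_good (F4 : ∀ l : L, l * l = 1 → ∃ d : L, d ≠ 1 ∧ d ^ 5 = 1 ∧ d * l = l * d) :
    ¬ Good ι.range := by
  rintro ⟨B, hB, hne, h4⟩
  obtain ⟨g, rfl⟩ := hB.exists_eq
  set ι₂ := cjι g ι with hι₂
  rw [← range_cjι] at hne h4
  have h₂ : NC E ι₂ := h.cj g
  have r : Rl ι ι₂ := ⟨g, fun l => rfl⟩
  obtain ⟨P, hP, -, hPle, hdvd⟩ := exists_two_subgroup (C ι.range ⊓ N ι₂.range) ⊥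
    (IsPGroup.of_bot) bot_le
  have h4P : 4 ∣ Nat.card P := hdvd 2 (by norm_num; exact h4)
  -- an element `x ≠ 1` of `P` inducing an inner automorphism on `L₂`
  obtain ⟨x, hxP, hx1, hxi⟩ : ∃ x ∈ P, x ≠ 1 ∧ Inn ι₂ x := by
    by_contra hcon
    push Not at hcon
    have hex : ∃ x ∈ P, x ≠ 1 := by
      by_contra h1
      push Not at h1
      have : P = ⊥ := by
        rw [eq_bot_iff]
        intro x hx
        exact mem_bot.2 (h1 x hx)
      rw [this, card_bot] at h4P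
      omega
    obtain ⟨x, hx, hx1⟩ := hex
    have hex2 : ∃ y ∈ P, y ≠ 1 ∧ y ≠ x⁻¹ := by
      by_contra h1
      push Not at h1
      have hsub : (P : Set G) ⊆ {1, x⁻¹} := by
        intro y hy
        by_cases h2 : y = 1
        · exact Or.inl h2
        · exact Or.inr (h1 y hy h2)
      have h3 : Nat.card P ≤ 2 := by
        have h4 := Set.ncard_le_ncard hsub (Set.toFinite _)
        have h5 : Nat.card P = (P : Set G).ncard := rfl
        rw [h5]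
        exact h4.trans ((Set.ncard_insert_le _ _).trans (by rw [Set.ncard_singleton]))
      have := Nat.le_of_dvd Nat.card_pos h4P
      omega
    obtain ⟨y, hy, hy1, hyx⟩ := hex2
    have h5 := inn_mul A h₂.inj (hPle hx).2 (hPle hy).2 (hcon x hx hx1) (hcon y hy hy1)
    exact hcon (x * y) (mul_mem hx hy) (fun e => hyx (eq_inv_of_mul_eq_one_right e)) h5
  -- an involution
  obtain ⟨n, hn⟩ : ∃ n, x ^ 2 ^ n ≠ 1 ∧ x ^ 2 ^ (n + 1) = 1 := by
    obtain ⟨m, hm⟩ := hP ⟨x, hxP⟩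
    have hm' : x ^ 2 ^ m = 1 := congrArg Subtype.val hm
    classical
    have hex : ∃ m, x ^ 2 ^ m = 1 := ⟨m, hm'⟩
    have h0 : Nat.find hex ≠ 0 := by
      intro h0
      have := Nat.find_spec hex
      rw [h0, pow_zero, pow_one] at this
      exact hx1 this
    obtain ⟨n, hn⟩ := Nat.exists_eq_succ_of_ne_zero h0
    refine ⟨n, Nat.find_min hex (by omega), ?_⟩
    have := Nat.find_spec hex
    rwa [hn] at this
  set z := x ^ 2 ^ n with hz
  have hzP : z ∈ P := pow_mem hxP _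
  have hzz : z * z = 1 := by rw [hz, ← pow_add, ← two_mul, ← pow_succ']; exact hn.2
  obtain ⟨q, hq⟩ := hxi.pow (2 ^ n)
  obtain ⟨k, hk, he⟩ := dec_of_inner hq
  exact no_inner A h₂ h r.symm F4 hne.symm (hPle hzP).1 hn.1 hzz hk he

include A h in
theorem outer : Outer ι.range := by
  intro y hy hy1 hyy hout
  have := A.finite
  have : Fact (Nat.Prime 2) := ⟨by norm_num⟩
  have hyi : y⁻¹ = y := inv_eq_of_mul_eq_one_left hyy
  have hyA : y ∉ ι.range := by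
    intro h1
    apply hout y h1
    rw [hyy]
    exact one_mem _
  have hy2 : IsPGroup 2 (zpowers y) := by
    apply IsPGroup.of_card (n := 1)
    rw [Nat.card_zpowers, pow_one]
    exact orderOf_eq_prime (by rw [sq]; exact hyy) hy1
  obtain ⟨P, hP, hyP, hPle, hdvd⟩ := exists_two_subgroup (ι.range ⊔ zpowers y) (zpowers y) hy2
    le_sup_right
  have hyP : y ∈ P := hyP (mem_zpowers y)
  -- `P` does not centralize `y`
  have hne : P ⊓ centralizer {y} ≠ P := by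
    intro hPc
    rw [inf_eq_left] at hPc
    -- the Sylow subgroup of `L`
    have h2 : IsPGroup 2 ((P ⊓ ι.range).comap ι) := by
      rintro ⟨x, hx⟩
      obtain ⟨m, hm⟩ := hP ⟨ι x, hx.1⟩
      refine ⟨m, Subtype.ext (h.inj ?_)⟩
      show ι (x ^ 2 ^ m) = ι 1
      rw [map_pow, map_one]
      exact congrArg Subtype.val hm
    obtain ⟨S, hS⟩ := h2.exists_le_sylow
    have hcP : Nat.card P = 2 * Nat.card ↥(P ⊓ ι.range) := by
      have h3 : P = (P ⊓ ι.range) ⊔ zpowers y := by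
        apply le_antisymm
        · intro x hx
          rcases (mem_sup_zpowers hy hyy).1 (hPle hx) with h4 | h4
          · exact (le_sup_left : (P ⊓ ι.range) ≤ _) ⟨hx, h4⟩
          · have : x = x * y * y := by rw [mul_assoc, hyy, mul_one]
            rw [this]
            exact mul_mem ((le_sup_left : (P ⊓ ι.range) ≤ _) ⟨mul_mem hx hyP, h4⟩)
              ((le_sup_right : zpowers y ≤ _) (mem_zpowers y))
        · apply sup_le inf_le_left
          rw [zpowers_le]; exact hyP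
      have hyN : y ∈ N (P ⊓ ι.range) :=
        mem_N_of fun a ha => ⟨P.mul_mem (P.mul_mem hyP ha.1) (P.inv_mem hyP), conj_mem hy ha.2⟩
      have h5 := card_sup_zpowers hyN hyy (fun h4 => hyA h4.2)
      rw [← h3] at h5
      exact h5
    have hcA : Nat.card ↥(ι.range ⊔ zpowers y) = 2 * Nat.card L := by
      rw [card_sup_zpowers hy hyy hyA, Nat.card_congr (MonoidHom.ofInjective h.inj).toEquiv.symm]
    obtain ⟨m, hm⟩ := IsPGroup.iff_card.1 S.2
    have hmL : 2 ^ m ∣ Nat.card L := by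
      have : Nat.card S ∣ Nat.card L := card_subgroup_dvd_card _
      rwa [hm] at this
    have hmP : 2 ^ (m + 1) ∣ Nat.card P := by
      apply hdvd
      rw [hcA, pow_succ']
      exact mul_dvd_mul_left 2 hmL
    have hmP' : 2 ^ m ∣ Nat.card ↥(P ⊓ ι.range) := by
      rw [hcP, pow_succ'] at hmP
      exact (mul_dvd_mul_iff_left (by norm_num)).1 hmP
    have hcc : Nat.card ((P ⊓ ι.range).comap ι) = Nat.card ↥(P ⊓ ι.range) := by
      have h3 : ((P ⊓ ι.range).comap ι).map ι = P ⊓ ι.range := by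
        rw [map_comap_eq, inf_eq_right]
        exact inf_le_right
      rw [← h3, comap_map_eq_self_of_injective h.inj]
      exact Nat.card_congr (((P ⊓ ι.range).comap ι).equivMapOfInjective ι h.inj).toEquiv
    have hSe : (P ⊓ ι.range).comap ι = S := by
      apply eq_of_le_of_card_ge hS
      rw [hcc]
      calc Nat.card S = 2 ^ m := hm
        _ ≤ _ := Nat.le_of_dvd Nat.card_pos hmP'
    obtain ⟨α, hα⟩ := exists_aut h.inj hy
    obtain ⟨c, hc⟩ := A.inner_of_sylow α S (by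
      intro x hx
      have h3 : x ∈ (P ⊓ ι.range).comap ι := by rw [hSe]; exact hx
      apply h.inj
      rw [hα]
      have h4 : ι x * y = y * ι x := mem_cent.1 (hPc h3.1)
      rw [← h4, mul_inv_cancel_right])
    obtain ⟨k, hk, he⟩ := dec_of_inner (ι := ι) (x := y) (q := c) (fun l => by rw [← hα, hc])
    apply hout (ι c)⁻¹ (inv_mem ⟨c, rfl⟩)
    rw [he, mem_C_range.1 hk, inv_mul_cancel_left]
    exact hk
  obtain ⟨c₀, hc₀P, hc₀D, hnorm⟩ := exists_normalizing P (P ⊓ centralizer {y}) hP inf_le_left hne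
  have hyD : y ∈ P ⊓ centralizer {y} := ⟨hyP, mem_cent.2 rfl⟩
  obtain ⟨c, hcA, hcP, hcD, hcn⟩ : ∃ c ∈ ι.range, c ∈ P ∧ c ∉ P ⊓ centralizer {y} ∧
      ∀ x ∈ P ⊓ centralizer {y}, c * x * c⁻¹ ∈ P ⊓ centralizer {y} := by
    rcases (mem_sup_zpowers hy hyy).1 (hPle hc₀P) with h1 | h1
    · exact ⟨c₀, h1, hc₀P, hc₀D, hnorm⟩
    · refine ⟨c₀ * y, h1, mul_mem hc₀P hyP, ?_, ?_⟩
      · intro h'
        apply hc₀D
        have := mul_mem h' (inv_mem hyD)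
        rwa [mul_inv_cancel_right] at this
      · intro x hx
        rw [show c₀ * y * x * (c₀ * y)⁻¹ = c₀ * (y * x * y⁻¹) * c₀⁻¹ by group]
        exact hnorm _ (mul_mem (mul_mem hyD hx) (inv_mem hyD))
  set s := c * y * c⁻¹ * y⁻¹ with hs
  have hsA : s ∈ ι.range := by
    rw [hs, show c * y * c⁻¹ * y⁻¹ = c * (y * c⁻¹ * y⁻¹) by group]
    exact mul_mem hcA (conj_mem hy (inv_mem hcA))
  have hsD : s ∈ P ⊓ centralizer {y} := mul_mem (hcn y hyD) (inv_mem hyD)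
  have hsy : s * y = y * s := mem_cent.1 hsD.2
  have hcy : c * y * c⁻¹ = s * y := by rw [hs]; group
  refine ⟨s, hsA, ?_, ?_, hsy, c, hcA, hcy⟩
  · intro e
    rw [e, one_mul] at hcy
    exact hcD ⟨hcP, mem_cent.2 (mul_inv_eq_iff_eq_mul.1 hcy)⟩
  · have e1 : (s * y) * (s * y) = 1 := by
      rw [← hcy, show c * y * c⁻¹ * (c * y * c⁻¹) = c * (y * y) * c⁻¹ by group, hyy]; group
    have e2 : (s * y) * (s * y) = s * s * (y * y) := by
      calc (s * y) * (s * y) = s * (y * s) * y := by group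
        _ = s * (s * y) * y := by rw [hsy]
        _ = _ := by group
    rw [e2, hyy, mul_one] at e1
    exact e1

include A h in
/-- **Step 6** -/
theorem normal (F4 : ∀ l : L, l * l = 1 → ∃ d : L, d ≠ 1 ∧ d ^ 5 = 1 ∧ d * l = l * d)
    (hcomm : CommHalf G) (h4 : 4 ∣ Nat.card (C ι.range)) : ι.range.Normal := by
  have hs : IsSimpleGroup ι.range := (MonoidHom.ofInjective h.inj).symm.isSimpleGroup
  have hi : ι E.i₁ ∈ ι.range := ⟨_, rfl⟩
  rcases normal_or_good h.te hs hcomm (outer A h) h4 hi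
    (fun e => A.i₁1 (h.inj (by rw [e, map_one]))) (by rw [← map_mul, A.i₁i₁, map_one]) with h1 | h1
  · exact h1
  · exact (not_good A h F4 h1).elim

end main

end Cfsg.Agent.StdG24.NormalCase
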