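import Mathlib
import Cfsg.Agent.StdG24.NormalCase
import Cfsg.Agent.TwoGenCore.Basic
import Cfsg.Agent.StdG24.FactsL0

/-!
# Step 6 for a standard subgroup
-/

set_option autoImplicit false

namespace Cfsg.Agent.StdG24.NormalStd

open Subgroup Cfsg.Agent.StdG24.AutL Cfsg.Agent.StdG24.NormalCase
open Cfsg.Agent.StdAlt.Conj Cfsg.Agent.StdAlt.Pairs Cfsg.Agent.StdAlt.First

variable {G : Type*} [Group G] [Finite G]

/-- a subgroup of 2-rank at least two has order divisible by four -/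
theorem four_dvd {X : Subgroup G} (h : ¬ Cfsg.PRankLE 2 1 X) : 4 ∣ Nat.card X := by
  obtain ⟨x, hx, y, hy, hx1, hy1, hxy, hxx, hyy, hc⟩ := TwoGenCore.not_pRankLE_one_iff.1 h
  rw [← card_four (htt := hxx) (hyy := hyy) (hty := hc) hx1 hy1 hxy]
  apply card_dvd_of_le
  rintro z (rfl | rfl | rfl | rfl)
  · exact one_mem _
  · exact hx
  · exact hy
  · exact mul_mem hx hy

/-- an embedding of `L` with standard image -/
theorem nc_of_standard {A₀ : Subgroup G} (hA : Cfsg.IsStandardSubgroup A₀) {L : Type*} [Group L]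
    [IsSimpleGroup L] {E : El L} (A : Ax E) (e : L ≃* A₀)
    (nw : ∀ x : G, x * e E.w = e E.w * x → ∀ c ∈ E.As, ∃ c' ∈ E.As, x * e c * x⁻¹ = e c')
    (nu : ∀ x : G, x * e E.u = e E.u * x → ∀ c ∈ E.Al, ∃ c' ∈ E.Al, x * e c * x⁻¹ = e c') :
    NC E (A₀.subtype.comp e.toMonoidHom) ∧ (A₀.subtype.comp e.toMonoidHom).range = A₀ := by
  have hs : IsSimpleGroup A₀ := e.symm.isSimpleGroup
  have hT := TE.of_standard hA hs
  have hr : (A₀.subtype.comp e.toMonoidHom).range = A₀ := by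
    rw [MonoidHom.range_comp, MonoidHom.range_eq_top_of_surjective _ e.surjective, ← MonoidHom.range_eq_map,
      range_subtype]
  refine ⟨⟨?_, ?_, ?_, ?_, nw, nu⟩, hr⟩
  · exact A₀.subtype_injective.comp e.injective
  · rw [hr]; exact hT
  · intro g
    by_contra hcon
    push Not at hcon
    have hcomm : ∀ a ∈ A₀, ∀ b ∈ A₀, a * (g * b * g⁻¹) = (g * b * g⁻¹) * a := by
      intro a ha b hb
      have h1 : (e (e.symm ⟨a, ha⟩) : G) * (g * (e (e.symm ⟨b, hb⟩) : G) * g⁻¹) =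
        (g * (e (e.symm ⟨b, hb⟩) : G) * g⁻¹) * (e (e.symm ⟨a, ha⟩) : G) :=
        hcon (e.symm ⟨a, ha⟩) (e.symm ⟨b, hb⟩)
      rwa [MulEquiv.apply_symm_apply, MulEquiv.apply_symm_apply] at h1
    have hne : A₀.map (MulAut.conj g).toMonoidHom = A₀ := by
      by_contra h1
      apply hA.2.2.1 g h1
      rw [commutator_eq_bot_iff_le_centralizer]
      intro a ha
      rw [mem_centralizer_iff]
      rintro _ ⟨b, hb, rfl⟩
      exact (hcomm a ha b hb).symm
    have h2 : (e E.u : G) ∈ C A₀ := by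
      rw [mem_C]
      intro a ha
      have h3 : a ∈ A₀.map (MulAut.conj g).toMonoidHom := by rw [hne]; exact ha
      obtain ⟨b, hb, rfl⟩ := h3
      exact hcomm _ (e E.u).2 b hb
    have h3 := hT.disj _ (e E.u).2 h2
    apply A.u1
    apply e.injective
    rw [map_one]
    exact Subtype.ext h3
  · rw [hr]
    have h2 : 2 ∣ Nat.card (C A₀) := even_iff_two_dvd.1 hA.2.1.1
    have : Fact (Nat.Prime 2) := ⟨by norm_num⟩
    obtain ⟨t, ht⟩ := exists_prime_orderOf_dvd_card' 2 h2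
    have ht' : orderOf (t : G) = 2 := by rw [orderOf_coe]; exact ht
    refine ⟨t, t.2, ?_, ?_⟩
    · intro e
      rw [e, orderOf_one] at ht'
      exact absurd ht' (by norm_num)
    · rw [← sq, ← ht']; exact pow_orderOf_eq_one _

/-- **Step 6**: if `As ⊲ C_G(w)` and `Al ⊲ C_G(u)` then the standard subgroup is normal -/
theorem normal_of_standard (hcomm : CommHalf G) {A₀ : Subgroup G} (hA : Cfsg.IsStandardSubgroup A₀) (hR : ¬ Cfsg.PRankLE 2 1 ↥(centralizer (A₀ : Set G)))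
    {L : Type*} [Group L] [IsSimpleGroup L] {E : El L} (A : Ax E)
    (F4 : ∀ l : L, l * l = 1 → ∃ d : L, d ≠ 1 ∧ d ^ 5 = 1 ∧ d * l = l * d) (e : L ≃* A₀)
    (nw : ∀ x : G, x * e E.w = e E.w * x → ∀ c ∈ E.As, ∃ c' ∈ E.As, x * e c * x⁻¹ = e c')
    (nu : ∀ x : G, x * e E.u = e E.u * x → ∀ c ∈ E.Al, ∃ c' ∈ E.Al, x * e c * x⁻¹ = e c') :
    A₀.Normal := by
  obtain ⟨h, hr⟩ := nc_of_standard hA A e nw nu
  have h4 := four_dvd hR
  have := normal A h F4 hcomm (by rw [hr]; exact h4)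
  rwa [hr] at this

/-- the same for the group on 416 points -/
theorem f4 (l : Words.L0) (hl : l * l = 1) : ∃ d : Words.L0, d ≠ 1 ∧ d ^ 5 = 1 ∧ d * l = l * d := by
  have A := FactsL0.ax0
  have hz : GenJ.X 6 0 ∈ FactsL0.E0.Al := by
    apply Subgroup.subset_closure
    simp
  have hv : GenJ.X 9 0 ∈ FactsL0.E0.As := by
    apply Subgroup.subset_closure
    simp
  have key : ∀ (d g : Words.L0), d ≠ 1 → d ^ 5 = 1 → d * (g * l * g⁻¹) = (g * l * g⁻¹) * d →
      ∃ d : Words.L0, d ≠ 1 ∧ d ^ 5 = 1 ∧ d * l = l * d := by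
    intro d g hd hd5 h
    refine ⟨g⁻¹ * d * g, ?_, ?_, ?_⟩
    · intro e
      apply hd
      rw [show d = g * (g⁻¹ * d * g) * g⁻¹ by group, e]; group
    · have := conj_pow (i := 5) (a := g⁻¹) (b := d)
      rw [inv_inv, hd5] at this
      rw [this]; group
    · calc g⁻¹ * d * g * l = g⁻¹ * (d * (g * l * g⁻¹)) * g := by group
        _ = _ := by rw [h]; group
  by_cases h1 : l = 1
  · exact ⟨FactsL0.E0.u, A.u1, A.u5, by rw [h1]; simp⟩
  rcases FactsL0.conj_z_or_v hl h1 with ⟨g, hg⟩ | ⟨g, hg⟩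
  · refine key FactsL0.E0.u g A.u1 A.u5 ?_
    rw [hg]
    exact A.comm _ A.uAs _ hz
  · refine key FactsL0.E0.w g A.w1 A.w5 ?_
    rw [hg]
    exact (A.comm _ hv _ A.wAl).symm

end Cfsg.Agent.StdG24.NormalStd
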