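import Cfsg.Agent.StdG24.CentQ
import Cfsg.Agent.StdG24.QDef

/-!
# Facts on `N = ⟨X₁₀, X₁₁⟩` and `Q = ⟨X₇, …, X₁₁⟩` in the group on 416 points
-/

set_option autoImplicit false
set_option maxRecDepth 20000

namespace Cfsg.Agent.StdG24.QB

open Cfsg.Agent.StdG24.Perm416 Cfsg.Agent.StdG24.Words Cfsg.Agent.StdG24.CentX Cfsg.Agent.StdG24.CentLe
  Cfsg.Agent.StdG24.CentBlk Cfsg.Agent.StdG24.Cents Cfsg.Agent.StdG24.CentQ Cfsg.Agent.StdG24.GenJ
  Cfsg.Agent.StdG24.QDef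

section General

variable {G : Type*} [Group G]

/-- commutators of a closure from the generators, modulo a central subgroup -/
theorem comm_mem {S : Set G} {N : Subgroup G} (hN : ∀ x ∈ Subgroup.closure S, ∀ y ∈ N, x * y = y * x)
    (h : ∀ a ∈ S, ∀ b ∈ S, a * b * a⁻¹ * b⁻¹ ∈ N) :
    ∀ x ∈ Subgroup.closure S, ∀ y ∈ Subgroup.closure S, x * y * x⁻¹ * y⁻¹ ∈ N := by
  -- one-sided version
  have key : ∀ b ∈ Subgroup.closure S, (∀ a ∈ S, a * b * a⁻¹ * b⁻¹ ∈ N) →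
      ∀ x ∈ Subgroup.closure S, x * b * x⁻¹ * b⁻¹ ∈ N := by
    intro b hb hS x hx
    induction hx using Subgroup.closure_induction with
    | mem a ha => exact hS a ha
    | one => simpa using N.one_mem
    | mul x y hx hy ihx ihy =>
      have e : x * y * b * (x * y)⁻¹ * b⁻¹ = (x * (y * b * y⁻¹ * b⁻¹)) * b * x⁻¹ * b⁻¹ := by group
      rw [e, hN x hx _ ihy]
      have e2 : y * b * y⁻¹ * b⁻¹ * x * b * x⁻¹ * b⁻¹ = (y * b * y⁻¹ * b⁻¹) * (x * b * x⁻¹ * b⁻¹) := by group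
      rw [e2]
      exact N.mul_mem ihy ihx
    | inv x hx ihx =>
      have e : x⁻¹ * b * x⁻¹⁻¹ * b⁻¹ = x⁻¹ * (x * b * x⁻¹ * b⁻¹)⁻¹ * x := by group
      rw [e, hN _ (inv_mem hx) _ (N.inv_mem ihx), mul_assoc, inv_mul_cancel, mul_one]
      exact N.inv_mem ihx
  intro x hx y hy
  have h1 : ∀ a ∈ S, ∀ y ∈ Subgroup.closure S, y * a * y⁻¹ * a⁻¹ ∈ N := fun a ha y hy =>
    key a (Subgroup.subset_closure ha) (fun a' ha' => h a' ha' a ha) y hy
  refine key y hy (fun a ha => ?_) x hx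
  have h2 := N.inv_mem (h1 a ha y hy)
  have e : a * y * a⁻¹ * y⁻¹ = (y * a * y⁻¹ * a⁻¹)⁻¹ := by group
  rw [e]
  exact h2

theorem sq_mem {S : Set G} {N : Subgroup G} (hN : ∀ x ∈ Subgroup.closure S, ∀ y ∈ N, x * y = y * x)
    (h : ∀ a ∈ S, ∀ b ∈ S, a * b * a⁻¹ * b⁻¹ ∈ N) (h2 : ∀ a ∈ S, a * a ∈ N) :
    ∀ x ∈ Subgroup.closure S, x * x ∈ N := by
  intro x hx
  induction hx using Subgroup.closure_induction with
  | mem a ha => exact h2 a ha
  | one => simpa using N.one_mem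
  | mul x y hx hy ihx ihy =>
    have e : x * y * (x * y) = (x * (y * x * y⁻¹ * x⁻¹)) * x * (y * y) := by group
    rw [e, hN x hx _ (comm_mem hN h y hy x hx)]
    have e2 : y * x * y⁻¹ * x⁻¹ * x * x * (y * y) = (y * x * y⁻¹ * x⁻¹) * ((x * x) * (y * y)) := by group
    rw [e2]
    exact N.mul_mem (comm_mem hN h y hy x hx) (N.mul_mem ihx ihy)
  | inv x hx ihx =>
    rw [← mul_inv_rev]
    exact N.inv_mem ihx

end General

/-- commutation of two closures -/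
theorem comm_gen {A B : List (List ℕ)}
    (h : (A.all fun a => B.all fun b => eqc (a ++ b) (b ++ a)) = true) :
    ∀ x ∈ gen A, ∀ y ∈ gen B, x * y = y * x := by
  intro x hx y hy
  have h1 : gen B ≤ Subgroup.centralizer {x} := by
    refine gen_le fun b hb => ?_
    rw [Subgroup.mem_centralizer_singleton_iff]
    exact (comm_of_chk h x hx b hb).symm
  exact (Subgroup.mem_centralizer_singleton_iff.1 (h1 hy)).symm

theorem sq_gen {A : List (List ℕ)}
    (h : (A.all fun a => A.all fun b => eqc (a ++ b) (b ++ a)) = true)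
    (h2 : (A.all fun a => eqc (a ++ a) []) = true) : ∀ x ∈ gen A, x * x = 1 := by
  intro x hx
  have h3 := comm_gen h
  unfold gen at hx
  induction hx using Subgroup.closure_induction with
  | mem a ha =>
    obtain ⟨g, hg, rfl⟩ := ha
    have h4 := E_eq (List.all_eq_true.1 h2 g hg)
    rwa [E_append] at h4
  | one => rw [one_mul]
  | mul x y hx hy ihx ihy =>
    calc x * y * (x * y) = x * (y * x) * y := by group
      _ = x * (x * y) * y := by rw [h3 y hy x hx]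
      _ = (x * x) * (y * y) := by group
      _ = 1 := by rw [ihx, ihy, one_mul]
  | inv x hx ihx => rw [← mul_inv_rev, ihx, inv_one]

def QG : List (List ℕ) := [[xr 7 0], [xr 7 1], [xr 8 0], [xr 8 1], [xr 9 0], [xr 9 1], [xr 10 0], [xr 10 1],
  [xr 11 0], [xr 11 1]]

def NG : List (List ℕ) := [[xr 10 0], [xr 10 1], [xr 11 0], [xr 11 1]]

def VG : List (List ℕ) := [[xr 9 0], [xr 9 1]]

theorem NB_eq : NB = gen NG := by
  unfold NB gen
  congr 1
  ext x
  simp only [NG, List.mem_cons, List.not_mem_nil, or_false, exists_eq_or_imp, exists_eq_left,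
    Set.mem_insert_iff, Set.mem_singleton_iff, Set.mem_ofPred_eq, X]

theorem QB_eq : QB = gen QG := by
  unfold QB gen
  congr 1
  ext x
  simp only [QG, List.mem_cons, List.not_mem_nil, or_false, exists_eq_or_imp, exists_eq_left,
    Set.mem_insert_iff, Set.mem_singleton_iff, Set.mem_ofPred_eq, X]

theorem XB_eq : XB = gen VG := by
  unfold XB gen
  congr 1
  ext x
  simp only [VG, List.mem_cons, List.not_mem_nil, or_false, exists_eq_or_imp, exists_eq_left,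
    Set.mem_insert_iff, Set.mem_singleton_iff, Set.mem_ofPred_eq, X]

theorem N2 : ∀ y ∈ NB, y * y = 1 := by
  rw [NB_eq]
  exact sq_gen (by decide +kernel) (by decide +kernel)

theorem QN : ∀ x ∈ QB, ∀ y ∈ NB, x * y = y * x := by
  rw [NB_eq, QB_eq]
  exact comm_gen (by decide +kernel)

theorem vX : X 9 0 ∈ XB := Subgroup.subset_closure (by simp)

theorem XQ : XB ≤ QB := by
  unfold XB
  rw [Subgroup.closure_le]
  rintro x (rfl | rfl)
  · exact Subgroup.subset_closure (by simp)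
  · exact Subgroup.subset_closure (by simp)

theorem XX {r t : ℕ} (h : eqc ([xr r t] ++ [xr r t]) [] = true) : X r t * X r t = 1 := by
  have h1 := E_eq h
  rwa [E_append] at h1

theorem XXX {r t r' t' : ℕ} (h : eqc ([xr r t] ++ [xr r' t']) ([xr r' t'] ++ [xr r t]) = true) :
    X r t * X r' t' = X r' t' * X r t := by
  have h1 := E_eq h
  rwa [E_append, E_append] at h1

theorem XXn {a b : List ℕ} (h : eqc (a ++ b) (b ++ a) = false) : E a * E b ≠ E b * E a := by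
  have h1 := E_ne h
  rwa [E_append, E_append] at h1

theorem XB_cases {x : L0} (hx : x ∈ XB) : x = 1 ∨ x = X 9 0 ∨ x = X 9 1 ∨ x = X 9 0 * X 9 1 := by
  have h0 : X 9 0 * X 9 0 = 1 := XX (by decide +kernel)
  have h1 : X 9 1 * X 9 1 = 1 := XX (by decide +kernel)
  have h2 : X 9 1 * X 9 0 = X 9 0 * X 9 1 := XXX (by decide +kernel)
  have h3 : ∀ a b c : L0, a * (b * c) = a * b * c := fun a b c => (mul_assoc a b c).symm
  unfold XB at hx
  induction hx using Subgroup.closure_induction with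
  | mem a ha =>
    rcases ha with rfl | rfl
    · exact Or.inr (Or.inl rfl)
    · exact Or.inr (Or.inr (Or.inl rfl))
  | one => exact Or.inl rfl
  | mul x y _ _ ihx ihy =>
    have e1 : X 9 0 * (X 9 0 * X 9 1) = X 9 1 := by rw [h3, h0, one_mul]
    have e2 : X 9 1 * (X 9 0 * X 9 1) = X 9 0 := by rw [h3, h2, mul_assoc, h1, mul_one]
    have e3 : X 9 0 * X 9 1 * X 9 0 = X 9 1 := by rw [← h2, mul_assoc, h0, mul_one]
    have e4 : X 9 0 * X 9 1 * X 9 1 = X 9 0 := by rw [mul_assoc, h1, mul_one]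
    have e5 : X 9 0 * X 9 1 * (X 9 0 * X 9 1) = 1 := by rw [h3, e3, h1]
    rcases ihx with rfl | rfl | rfl | rfl <;> rcases ihy with rfl | rfl | rfl | rfl <;>
      simp [h0, h1, h2, e1, e2, e3, e4, e5]
  | inv x _ ihx =>
    have e5 : X 9 0 * X 9 1 * (X 9 0 * X 9 1) = 1 := by
      rw [h3, ← h2, mul_assoc (X 9 1), h0, mul_one, h1]
    rcases ihx with rfl | rfl | rfl | rfl
    · simp
    · rw [inv_eq_of_mul_eq_one_left h0]; simp
    · rw [inv_eq_of_mul_eq_one_left h1]; simp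
    · rw [inv_eq_of_mul_eq_one_left e5]; simp

theorem XN : ∀ x ∈ XB, x ∈ NB → x = 1 := by
  intro x hx hN
  have h1 := QN (X 7 0) (Subgroup.subset_closure (by simp)) x hN
  rcases XB_cases hx with rfl | rfl | rfl | rfl
  · rfl
  · exact absurd h1 (XXn (a := [xr 7 0]) (b := [xr 9 0]) (by decide +kernel))
  · exact absurd h1 (XXn (a := [xr 7 0]) (b := [xr 9 1]) (by decide +kernel))
  · have h2 := XXn (a := [xr 7 0]) (b := [xr 9 0] ++ [xr 9 1]) (by decide +kernel)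
    rw [E_append [xr 9 0]] at h2
    exact absurd h1 h2

theorem ZQ : ∀ x ∈ QB, (∀ y ∈ QB, x * y = y * x) → x ∈ NB := by
  intro x _ h
  rw [NB_eq]
  refine cQ x fun w hw => ?_
  have hw' : w = [xr 7 0] ∨ w = [xr 8 0] ∨ w = [xr 9 1] := by
    simpa [cQ_w] using hw
  rcases hw' with rfl | rfl | rfl
  · exact h (X 7 0) (Subgroup.subset_closure (by simp))
  · exact h (X 8 0) (Subgroup.subset_closure (by simp))
  · exact h (X 9 1) (Subgroup.subset_closure (by simp))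

/-- commutators of the generators of `Q` as words in the generators of `N` -/
def ctab : List (List ℕ) := [[], [], [0, 2], [1, 2, 3], [0], [1], [], [], [], [], [], [], [0, 1, 3], [0, 2], [1],
  [0, 1], [], [], [], [], [0, 2], [0, 1, 3], [], [], [2], [3], [], [], [], [], [1, 2, 3], [0, 2], [], [], [3],
  [2, 3], [], [], [], [], [0], [1], [2], [3], [], [], [], [], [], [], [1], [0, 1], [3], [2, 3], [], [], [], [],
  [], [], [], [], [], [], [], [], [], [], [], [], [], [], [], [], [], [], [], [], [], [], [], [], [], [], [], [],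
  [], [], [], [], [], [], [], [], [], [], [], [], [], []]

theorem QG_inv : (QG.all fun a => eqc (a ++ a) []) = true := by decide +kernel

theorem QG_comm : ((List.range 10).all fun i => (List.range 10).all fun j =>
    eqc (QG.getD i [] ++ QG.getD j [] ++ QG.getD i [] ++ QG.getD j []) (gw NG (ctab.getD (10 * i + j) []))) = true := by
  decide +kernel

theorem idx_of_mem {l : List (List ℕ)} {a : List ℕ} (h : a ∈ l) : ∃ i < l.length, a = l.getD i [] := by
  obtain ⟨i, hi, rfl⟩ := List.mem_iff_getElem.1 h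
  exact ⟨i, hi, by rw [List.getD_eq_getElem _ _ hi]⟩

theorem sq_QG {a : List ℕ} (ha : a ∈ QG) : E a * E a = 1 := by
  have := E_eq (List.all_eq_true.1 QG_inv a ha)
  rwa [E_append] at this

theorem inv_QG {a : List ℕ} (ha : a ∈ QG) : (E a)⁻¹ = E a := inv_eq_of_mul_eq_one_left (sq_QG ha)

theorem comm_QG {a b : List ℕ} (ha : a ∈ QG) (hb : b ∈ QG) : E a * E b * (E a)⁻¹ * (E b)⁻¹ ∈ NB := by
  rw [inv_QG ha, inv_QG hb, NB_eq]
  obtain ⟨i, hi, rfl⟩ := idx_of_mem ha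
  obtain ⟨j, hj, rfl⟩ := idx_of_mem hb
  have h1 := List.all_eq_true.1 (List.all_eq_true.1 QG_comm i (List.mem_range.2 hi)) j (List.mem_range.2 hj)
  have h2 := mem_of_gw gen_mem h1
  rwa [E_append, E_append, E_append] at h2

theorem QQ : ∀ x ∈ QB, ∀ y ∈ QB, x * y * x⁻¹ * y⁻¹ ∈ NB := by
  have h0 := QN
  rw [QB_eq] at h0 ⊢
  refine comm_mem h0 ?_
  rintro _ ⟨a, ha, rfl⟩ _ ⟨b, hb, rfl⟩
  exact comm_QG ha hb

theorem QS : ∀ x ∈ QB, x * x ∈ NB := by
  have h0 := QN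
  rw [QB_eq] at h0 ⊢
  refine sq_mem h0 ?_ ?_
  · rintro _ ⟨a, ha, rfl⟩ _ ⟨b, hb, rfl⟩
    exact comm_QG ha hb
  · rintro _ ⟨a, ha, rfl⟩
    rw [sq_QG ha]
    exact NB.one_mem

theorem Q4 {x : L0} (hx : x ∈ QB) : x ^ 4 = 1 := by
  have h := N2 _ (QS x hx)
  rw [show (4 : ℕ) = 2 + 2 from rfl, pow_add, pow_two]
  exact h

theorem Q2 : IsPGroup 2 QB := by
  intro x
  refine ⟨2, Subtype.ext ?_⟩
  rw [Subgroup.coe_pow]
  exact Q4 x.2

/-- the element of order 3 of `As` normalising `X₉` -/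
noncomputable def ρ : L0 := E [xr 2 0, xr 9 2, xr 2 2]

theorem ρ_inv : ρ⁻¹ = E [xr 2 2, xr 9 2, xr 2 0] := by
  apply inv_eq_of_mul_eq_one_left
  have h := E_eq (a := [xr 2 2, xr 9 2, xr 2 0] ++ [xr 2 0, xr 9 2, xr 2 2]) (b := []) (by decide +kernel)
  rwa [E_append] at h

theorem ρ3 : ρ ^ 3 = 1 := by
  have h := E_eq (a := [xr 2 0, xr 9 2, xr 2 2] ++ [xr 2 0, xr 9 2, xr 2 2] ++ [xr 2 0, xr 9 2, xr 2 2]) (b := [])
    (by decide +kernel)
  rw [E_append, E_append] at h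
  rw [pow_succ, pow_two]
  exact h

def rtab : List (List ℕ) := [[0, 1, 6], [0, 7], [2, 3, 8], [2, 9], [5], [4, 5], [6], [7], [8], [9]]

theorem ρ_chk : ((List.range 10).all fun i => eqc ([xr 2 0, xr 9 2, xr 2 2] ++ QG.getD i [] ++
    [xr 2 2, xr 9 2, xr 2 0]) (gw QG (rtab.getD i []))) = true := by decide +kernel

theorem ρ_conj : ∀ x ∈ QB, ρ * x * ρ⁻¹ ∈ QB := by
  intro x hx
  have h1 : gen QG ≤ (gen QG).comap (MulAut.conj ρ).toMonoidHom := by
    refine gen_le fun a ha => ?_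
    obtain ⟨i, hi, rfl⟩ := idx_of_mem ha
    have h2 := mem_of_gw gen_mem (List.all_eq_true.1 ρ_chk i (List.mem_range.2 hi))
    rw [E_append, E_append, ← ρ_inv] at h2
    exact h2
  rw [QB_eq] at hx ⊢
  exact h1 hx

theorem ρ_norm : ρ ∈ Subgroup.normalizer (QB : Set L0) := by
  rw [Subgroup.mem_normalizer_iff]
  intro x
  refine ⟨ρ_conj x, fun h => ?_⟩
  have h2 := ρ_conj _ (ρ_conj _ h)
  have e : ρ * (ρ * (ρ * x * ρ⁻¹) * ρ⁻¹) * ρ⁻¹ = ρ ^ 3 * x * (ρ ^ 3)⁻¹ := by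
    rw [pow_succ, pow_two]; group
  rw [e, ρ3, one_mul, inv_one, mul_one] at h2
  exact h2

theorem zpow_conj (i : ℤ) {x : L0} (hx : x ∈ QB) : ρ ^ i * x * (ρ ^ i)⁻¹ ∈ QB :=
  (Subgroup.mem_normalizer_iff.1 (Subgroup.zpow_mem _ ρ_norm i) x).1 hx

/-- `Q⟨ρ⟩` -/
noncomputable def QR : Subgroup L0 where
  carrier := {x | ∃ q ∈ QB, ∃ i : ℤ, x = q * ρ ^ i}
  one_mem' := ⟨1, QB.one_mem, 0, by simp⟩
  mul_mem' := by
    rintro _ _ ⟨q, hq, i, rfl⟩ ⟨q', hq', j, rfl⟩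
    refine ⟨q * (ρ ^ i * q' * (ρ ^ i)⁻¹), QB.mul_mem hq (zpow_conj i hq'), i + j, ?_⟩
    rw [zpow_add]
    group
  inv_mem' := by
    rintro _ ⟨q, hq, i, rfl⟩
    refine ⟨ρ ^ (-i) * q⁻¹ * (ρ ^ (-i))⁻¹, zpow_conj _ (QB.inv_mem hq), -i, ?_⟩
    group

theorem QB_le_QR : QB ≤ QR := fun q hq => ⟨q, hq, 0, by simp⟩

theorem ρ_mem_QR : ρ ∈ QR := ⟨1, QB.one_mem, 1, by simp⟩

theorem gen_cN_le : gen cN_g ≤ QR := by
  refine gen_le fun a ha => ?_
  have h1 : a ∈ QG ∨ a = [xr 2 0, xr 9 2, xr 2 2] := by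
    have : cN_g = QG ++ [[xr 2 0, xr 9 2, xr 2 2]] := rfl
    rw [this, List.mem_append, List.mem_singleton] at ha
    exact ha
  rcases h1 with h1 | rfl
  · apply QB_le_QR
    rw [QB_eq]
    exact gen_mem a h1
  · exact ρ_mem_QR

theorem cent_N {x : L0} (h : ∀ y ∈ NB, x * y = y * x) : x ∈ QR := by
  apply gen_cN_le
  refine cN x fun w hw => ?_
  have hw' : w = [xr 11 0] ∨ w = [xr 10 0] ∨ w = [xr 10 1] := by
    simpa [cN_w] using hw
  rcases hw' with rfl | rfl | rfl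
  · exact h (X 11 0) (Subgroup.subset_closure (by simp))
  · exact h (X 10 0) (Subgroup.subset_closure (by simp))
  · exact h (X 10 1) (Subgroup.subset_closure (by simp))

theorem QR_pow {q : L0} (hq : q ∈ QB) (i : ℤ) (m : ℕ) : ∃ q' ∈ QB, (q * ρ ^ i) ^ m = q' * (ρ ^ i) ^ m := by
  induction m with
  | zero => exact ⟨1, QB.one_mem, by simp⟩
  | succ m ih =>
    obtain ⟨q', hq', h⟩ := ih
    refine ⟨q' * ((ρ ^ (i * m)) * q * (ρ ^ (i * m))⁻¹), QB.mul_mem hq' (zpow_conj _ hq), ?_⟩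
    rw [pow_succ, h, pow_succ, ← zpow_natCast (ρ ^ i), ← zpow_mul]
    group

theorem cent2 : ∀ x, (∀ y ∈ NB, x * y = y * x) → ∀ k : ℕ, x ^ 2 ^ k = 1 → x ∈ QB := by
  intro x hx k hk
  obtain ⟨q, hq, i, rfl⟩ := cent_N hx
  obtain ⟨q', hq', h⟩ := QR_pow hq i (2 ^ k)
  rw [hk] at h
  have h1 : (ρ ^ i) ^ (2 ^ k) ∈ QB := by
    rw [← inv_eq_of_mul_eq_one_right h.symm]
    exact QB.inv_mem hq'
  have h3 : (ρ ^ i) ^ 3 = 1 := by
    rw [← zpow_natCast, ← zpow_mul, mul_comm, zpow_mul, zpow_natCast, ρ3, one_zpow]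
  have h4 : (ρ ^ i) ^ (2 ^ k) = 1 := by
    have e1 := Q4 h1
    have e2 : ((ρ ^ i) ^ (2 ^ k)) ^ 3 = 1 := by rw [← pow_mul, mul_comm, pow_mul, h3, one_pow]
    rwa [pow_succ, e2, one_mul] at e1
  have h5 : ρ ^ i = 1 := by
    rw [← orderOf_eq_one_iff, ← Nat.dvd_one]
    have e3 : Nat.gcd (2 ^ k) 3 = 1 := Nat.Coprime.pow_left k (by norm_num)
    rw [← e3]
    exact Nat.dvd_gcd (orderOf_dvd_of_pow_eq_one h4) (orderOf_dvd_of_pow_eq_one h3)
  rw [h5, mul_one]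
  exact hq

end Cfsg.Agent.StdG24.QB
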