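import Mathlib
import Cfsg.Prelude.Def_Local
import Cfsg.Agent.SignalizersComponents.IntrinsicDiag

/-!
# Standard subgroups modulo a normal subgroup of odd order
-/

set_option autoImplicit false

namespace Cfsg.Agent.StdG24.StdQuot

open Subgroup
open scoped commutatorElement

variable {H : Type*} [Group H]

/-- an element `x` of a subgroup whose square lies in an odd subgroup can be corrected to an involution -/
theorem exists_involution_lift [Finite H] {O C : Subgroup H} (hO : Odd (Nat.card O)) {x : H} (hx : x ∈ C)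
    (hxO : x * x ∈ O) : ∃ y ∈ C, y * y = 1 ∧ x⁻¹ * y ∈ O := by
  have h1 : (x * x) ^ Nat.card O = 1 := by
    have := pow_card_eq_one' (x := (⟨x * x, hxO⟩ : O))
    exact congrArg Subtype.val this
  obtain ⟨m, hm⟩ := hO
  refine ⟨x ^ Nat.card O, pow_mem hx _, ?_, ?_⟩
  · rw [← pow_add, ← two_mul, pow_mul, pow_two]
    exact h1
  · rw [hm, pow_succ', ← mul_assoc, inv_mul_cancel, one_mul, pow_mul, pow_two]
    exact pow_mem hxO m

/-- two involutions congruent modulo a subgroup of odd order are conjugate under it -/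
theorem exists_conj_of_congr [Finite H] {O : Subgroup H} (hO : Odd (Nat.card O)) {x y : H}
    (hx : x * x = 1) (hy : y * y = 1) (hxy : x * y ∈ O) : ∃ s ∈ O, s * x * s⁻¹ = y := by
  have h1 : (x * y) ^ Nat.card O = 1 := by
    have := pow_card_eq_one' (x := (⟨x * y, hxy⟩ : O))
    exact congrArg Subtype.val this
  obtain ⟨m, hm⟩ := hO
  have hxi : x⁻¹ = x := inv_eq_of_mul_eq_one_right hx
  have hyi : y⁻¹ = y := inv_eq_of_mul_eq_one_right hy
  have hinv : x * (x * y) * x⁻¹ = (x * y)⁻¹ := by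
    rw [mul_inv_rev, hxi, hyi, ← mul_assoc, hx, one_mul]
  have hinv' : x * (x * y) ^ m * x⁻¹ = ((x * y) ^ m)⁻¹ := by
    rw [← conj_pow, hinv, inv_pow]
  refine ⟨(x * y) ^ m, pow_mem hxy m, ?_⟩
  rw [hm, pow_succ, two_mul, pow_add] at h1
  have h3 : (x * y) ^ m * (x * y) ^ m = (x * y)⁻¹ := eq_inv_of_mul_eq_one_left h1
  calc (x * y) ^ m * x * ((x * y) ^ m)⁻¹
      = (x * y) ^ m * (x * (x * y) ^ m * x⁻¹)⁻¹ * x := by group
    _ = (x * y) ^ m * (x * y) ^ m * x := by rw [hinv', inv_inv]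
    _ = (x * y)⁻¹ * x := by rw [h3]
    _ = y := by rw [mul_inv_rev, hxi, hyi, mul_assoc, hx, mul_one]

/-- A subgroup `A` and a normal subgroup `O` of odd order centralizing it. -/
structure Ctx (A O : Subgroup H) : Prop where
  simple : ∀ N : Subgroup H, N ≤ A → A ≤ normalizer (N : Set H) → N = ⊥ ∨ N = A
  nonab : ∃ a ∈ A, ∃ b ∈ A, a * b ≠ b * a
  inv : ∃ t ∈ A, t ≠ 1 ∧ t * t = 1
  normal : O.Normal
  odd : Odd (Nat.card O)
  cent : ∀ o ∈ O, ∀ a ∈ A, o * a = a * o

theorem centralizer_normalizer_le {H : Type*} [Group H] {A : Subgroup H} :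
    normalizer (A : Set H) ≤ normalizer (centralizer (A : Set H) : Set H) := by
  intro g hg
  rw [mem_normalizer_iff] at hg ⊢
  intro c
  rw [mem_centralizer_iff, mem_centralizer_iff]
  constructor
  · intro hc a ha
    have h1 : g⁻¹ * a * g ∈ (A : Set H) := by
      have := (hg (g⁻¹ * a * g)).2
      rw [show g * (g⁻¹ * a * g) * g⁻¹ = a by group] at this
      exact this ha
    have h2 := hc _ h1
    calc a * (g * c * g⁻¹) = g * (g⁻¹ * a * g * c) * g⁻¹ := by group
      _ = g * (c * (g⁻¹ * a * g)) * g⁻¹ := by rw [h2]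
      _ = g * c * g⁻¹ * a := by group
  · intro hc a ha
    have h2 := hc (g * a * g⁻¹) ((hg a).1 ha)
    calc a * c = g⁻¹ * (g * a * g⁻¹ * (g * c * g⁻¹)) * g := by group
      _ = g⁻¹ * (g * c * g⁻¹ * (g * a * g⁻¹)) * g := by rw [h2]
      _ = c * a := by group

namespace Ctx

variable {A O : Subgroup H}

theorem disj [Finite H] (h : Ctx A O) {x : H} (hA : x ∈ A) (hO : x ∈ O) : x = 1 := by
  have := h.normal
  have h1 : O ⊓ A = ⊥ ∨ O ⊓ A = A := by
    refine h.simple _ inf_le_right ?_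
    intro a ha
    refine mem_normalizer_fintype fun y hy => ?_
    exact ⟨h.normal.conj_mem y hy.1 a, A.mul_mem (A.mul_mem ha hy.2) (A.inv_mem ha)⟩
  rcases h1 with h1 | h1
  · have : x ∈ O ⊓ A := ⟨hO, hA⟩
    rwa [h1, mem_bot] at this
  · exfalso
    obtain ⟨a, ha, b, hb, hab⟩ := h.nonab
    have haO : a ∈ O := by
      have : a ∈ O ⊓ A := by rw [h1]; exact ha
      exact this.1
    exact hab (h.cent a haO b hb)

theorem eq_one_of_sq [Finite H] (h : Ctx A O) {o : H} (ho : o ∈ O) (h2 : o * o = 1) : o = 1 := by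
  have h1 : orderOf o ∣ Nat.card O := by
    have := orderOf_dvd_natCard (⟨o, ho⟩ : O)
    rwa [orderOf_mk] at this
  have h3 : orderOf o ∣ 2 := orderOf_dvd_of_pow_eq_one (by rw [pow_two]; exact h2)
  have h4 : Nat.Coprime (Nat.card O) 2 := Nat.coprime_two_right.2 h.odd
  exact orderOf_eq_one_iff.1 (Nat.eq_one_of_dvd_coprimes h4 h1 h3)

theorem card_odd_of_sq [Finite H] (h : Ctx A O) {x : H} (hx : x * x = 1) (hx' : x ∈ O) : x = 1 :=
  h.eq_one_of_sq hx' hx

/-- if `g` centralizes `A` modulo `O` then it centralizes `A` -/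
theorem cent_of_mod [Finite H] (h : Ctx A O) {g : H} (hg : ∀ a ∈ A, a⁻¹ * (g * a * g⁻¹) ∈ O) :
    ∀ a ∈ A, g * a = a * g := by
  have hd : ∀ a ∈ A, ∃ o ∈ O, g * a * g⁻¹ = a * o := fun a ha => ⟨_, hg a ha, by group⟩
  have h1 : A ⊓ centralizer ({g} : Set H) = ⊥ ∨ A ⊓ centralizer ({g} : Set H) = A := by
    refine h.simple _ inf_le_left ?_
    intro b hb
    refine mem_normalizer_fintype fun a ha' => ?_
    obtain ⟨ha, hag⟩ := ha'
    have hag : a * g = g * a := mem_centralizer_singleton_iff.1 hag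
    refine ⟨A.mul_mem (A.mul_mem hb ha) (A.inv_mem hb), mem_centralizer_singleton_iff.2 ?_⟩
    obtain ⟨o, ho, hbo⟩ := hd b hb
    have h2 : g * (b * a * b⁻¹) * g⁻¹ = b * a * b⁻¹ := by
      calc g * (b * a * b⁻¹) * g⁻¹ = (g * b * g⁻¹) * (g * a * g⁻¹) * (g * b * g⁻¹)⁻¹ := by group
        _ = b * o * a * (b * o)⁻¹ := by rw [hbo, ← hag]; group
        _ = b * (o * a) * o⁻¹ * b⁻¹ := by group
        _ = b * a * b⁻¹ := by rw [h.cent o ho a ha]; group
    calc b * a * b⁻¹ * g = g * (b * a * b⁻¹) * g⁻¹ * g := by rw [h2]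
      _ = g * (b * a * b⁻¹) := by group
  rcases h1 with h1 | h1
  · exfalso
    obtain ⟨t, htA, ht1, ht2⟩ := h.inv
    obtain ⟨o, ho, hto⟩ := hd t htA
    have h2 : t * o * (t * o) = 1 := by
      rw [← hto, show g * t * g⁻¹ * (g * t * g⁻¹) = g * (t * t) * g⁻¹ by group, ht2]; group
    have h3 : o * o = 1 := by
      calc o * o = t⁻¹ * (t * (t * o * (t * o))) * t⁻¹ * t⁻¹⁻¹ * (t * t)⁻¹ := by
            rw [show t * o * (t * o) = t * (o * t) * o by group, h.cent o ho t htA]
            rw [show t * (t * o) * o = (t * t) * (o * o) by group, ht2]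
            group
        _ = 1 := by rw [h2, ht2]; group
    have h4 : o = 1 := h.eq_one_of_sq ho h3
    rw [h4, mul_one] at hto
    apply ht1
    have : t ∈ A ⊓ centralizer ({g} : Set H) := by
      refine ⟨htA, mem_centralizer_singleton_iff.2 ?_⟩
      calc t * g = g * t * g⁻¹ * g := by rw [hto]
        _ = g * t := by group
    rwa [h1, mem_bot] at this
  · intro a ha
    have : a ∈ A ⊓ centralizer ({g} : Set H) := by rw [h1]; exact ha
    exact (mem_centralizer_singleton_iff.1 this.2).symm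

/-- if `g` normalizes `A` modulo `O` then it normalizes `A` -/
theorem norm_of_mod [Finite H] (h : Ctx A O) {g : H}
    (hg : ∀ a ∈ A, ∃ b ∈ A, ∃ o ∈ O, g * a * g⁻¹ = b * o) : g ∈ normalizer (A : Set H) := by
  have h1 : A ⊓ A.comap (MulAut.conj g).toMonoidHom = ⊥ ∨
      A ⊓ A.comap (MulAut.conj g).toMonoidHom = A := by
    refine h.simple _ inf_le_left ?_
    intro b hb
    refine mem_normalizer_fintype fun a ha' => ?_
    obtain ⟨ha, hag⟩ := ha'
    refine ⟨A.mul_mem (A.mul_mem hb ha) (A.inv_mem hb), ?_⟩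
    change g * (b * a * b⁻¹) * g⁻¹ ∈ A
    change g * a * g⁻¹ ∈ A at hag
    obtain ⟨b', hb', o, ho, hbo⟩ := hg b hb
    have h2 : g * (b * a * b⁻¹) * g⁻¹ = b' * (g * a * g⁻¹) * b'⁻¹ := by
      calc g * (b * a * b⁻¹) * g⁻¹ = (g * b * g⁻¹) * (g * a * g⁻¹) * (g * b * g⁻¹)⁻¹ := by group
        _ = b' * (o * (g * a * g⁻¹)) * o⁻¹ * b'⁻¹ := by rw [hbo]; group
        _ = b' * (g * a * g⁻¹) * b'⁻¹ := by rw [h.cent o ho _ hag]; group
    rw [h2]
    exact mul_mem (mul_mem hb' hag) (inv_mem hb')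
  rcases h1 with h1 | h1
  · exfalso
    obtain ⟨t, htA, ht1, ht2⟩ := h.inv
    obtain ⟨b, hb, o, ho, hto⟩ := hg t htA
    have hcomm : o * b = b * o := h.cent o ho b hb
    have h2 : b * o * (b * o) = 1 := by
      rw [← hto, show g * t * g⁻¹ * (g * t * g⁻¹) = g * (t * t) * g⁻¹ by group, ht2]; group
    have h3 : b * b * (o * o) = 1 := by
      calc b * b * (o * o) = b * (b * o) * o := by group
        _ = b * (o * b) * o := by rw [hcomm]
        _ = b * o * (b * o) := by group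
        _ = 1 := h2
    have h3' : o * o = 1 := by
      have h5 : o * o = (b * b)⁻¹ := (inv_eq_of_mul_eq_one_right h3).symm
      exact h.disj (by rw [h5]; exact inv_mem (mul_mem hb hb)) (mul_mem ho ho)
    have h4 : o = 1 := h.eq_one_of_sq ho h3'
    rw [h4, mul_one] at hto
    apply ht1
    have : t ∈ A ⊓ A.comap (MulAut.conj g).toMonoidHom := by
      refine ⟨htA, ?_⟩
      change g * t * g⁻¹ ∈ A
      rw [hto]; exact hb
    rwa [h1, mem_bot] at this
  · refine mem_normalizer_fintype fun a ha => ?_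
    have : a ∈ A ⊓ A.comap (MulAut.conj g).toMonoidHom := by rw [h1]; exact ha
    exact this.2

/-- the image of `A` modulo `O` -/
theorem mem_centralizer_map [Finite H] (h : Ctx A O) [O.Normal] {x : H} :
    QuotientGroup.mk' O x ∈ centralizer ((A.map (QuotientGroup.mk' O) : Subgroup (H ⧸ O)) : Set (H ⧸ O)) ↔
      x ∈ centralizer (A : Set H) := by
  rw [mem_centralizer_iff, mem_centralizer_iff]
  constructor
  · intro hx
    have h1 := h.cent_of_mod (g := x) (fun a ha => by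
      have h2 := hx (QuotientGroup.mk' O a) ⟨a, ha, rfl⟩
      rw [← map_mul, ← map_mul] at h2
      have h3 : (a * x)⁻¹ * (x * a) ∈ O := QuotientGroup.eq.1 h2
      have h4 := h.normal.conj_mem _ h3 x
      rwa [show x * ((a * x)⁻¹ * (x * a)) * x⁻¹ = a⁻¹ * (x * a * x⁻¹) by group] at h4)
    intro a ha
    exact (h1 a ha).symm
  · rintro hx _ ⟨a, ha, rfl⟩
    rw [← map_mul, ← map_mul, hx a ha]

theorem mem_normalizer_map [Finite H] (h : Ctx A O) [O.Normal] {x : H} :
    QuotientGroup.mk' O x ∈ normalizer ((A.map (QuotientGroup.mk' O) : Subgroup (H ⧸ O)) : Set (H ⧸ O)) ↔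
      x ∈ normalizer (A : Set H) := by
  constructor
  · intro hx
    refine h.norm_of_mod fun a ha => ?_
    obtain ⟨b, hb, hab⟩ := (mem_normalizer_iff.1 hx (QuotientGroup.mk' O a)).1 ⟨a, ha, rfl⟩
    refine ⟨b, hb, b⁻¹ * (x * a * x⁻¹), ?_, by group⟩
    rw [← map_inv, ← map_mul, ← map_mul] at hab
    exact QuotientGroup.eq.1 hab
  · intro hx
    refine mem_normalizer_fintype ?_
    rintro _ ⟨a, ha, rfl⟩
    rw [← map_inv, ← map_mul, ← map_mul]
    exact ⟨_, (mem_normalizer_iff.1 hx a).1 ha, rfl⟩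

/-- `A ≃* A O / O` -/
noncomputable def equivMap [Finite H] (h : Ctx A O) [O.Normal] : A ≃* A.map (QuotientGroup.mk' O) :=
  MulEquiv.ofBijective ((QuotientGroup.mk' O).subgroupMap A) ⟨by
    rw [injective_iff_map_eq_one]
    intro a ha
    have h1 : QuotientGroup.mk' O (a : H) = 1 := congrArg Subtype.val ha
    rw [← MonoidHom.mem_ker, QuotientGroup.ker_mk'] at h1
    exact Subtype.ext (h.disj a.2 h1), MonoidHom.subgroupMap_surjective _ _⟩

theorem quasisimple_map [Finite H] (h : Ctx A O) [O.Normal] :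
    IsQuasisimple (A.map (QuotientGroup.mk' O)) := by
  have hnt : ∃ a ∈ A, a ≠ 1 := by
    obtain ⟨t, ht, ht1, -⟩ := h.inv
    exact ⟨t, ht, ht1⟩
  have hs : IsSimpleGroup A := by
    obtain ⟨t, ht, ht1⟩ := hnt
    refine { exists_pair_ne := ⟨⟨t, ht⟩, 1, fun h1 => ht1 (congrArg Subtype.val h1)⟩, eq_bot_or_eq_top_of_normal := ?_ }
    intro N hN
    have h1 := h.simple (N.map A.subtype) (map_subtype_le _) (by
      intro a ha
      refine mem_normalizer_fintype ?_
      rintro _ ⟨y, hy, rfl⟩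
      exact ⟨⟨a, ha⟩ * y * ⟨a, ha⟩⁻¹, hN.conj_mem y hy ⟨a, ha⟩, rfl⟩)
    rcases h1 with h1 | h1
    · left
      rwa [map_eq_bot_iff_of_injective _ A.subtype_injective] at h1
    · right
      rw [eq_top_iff]
      intro a _
      have : (a : H) ∈ N.map A.subtype := by rw [h1]; exact a.2
      obtain ⟨y, hy, hya⟩ := this
      rwa [← show y = a from Subtype.ext hya]
  have hs' : IsSimpleGroup (A.map (QuotientGroup.mk' O)) := by
    have : Nontrivial (A.map (QuotientGroup.mk' O)) := h.equivMap.symm.toEquiv.nontrivial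
    exact IsSimpleGroup.isSimpleGroup_of_surjective h.equivMap.toMonoidHom h.equivMap.surjective
  refine Cfsg.Agent.SignalizersComponents.IntrinsicDiag.quasisimple_of_simple hs' ?_
  rintro ⟨⟨hc⟩⟩
  obtain ⟨a, ha, b, hb, hab⟩ := h.nonab
  apply hab
  have h1 := hc (h.equivMap ⟨a, ha⟩) (h.equivMap ⟨b, hb⟩)
  rw [← map_mul, ← map_mul] at h1
  exact congrArg Subtype.val (h.equivMap.injective h1)

/-- **a standard subgroup modulo an odd normal subgroup centralizing it** -/
theorem isStandard_map [Finite H] (h : Ctx A O) [O.Normal]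
    (hpair : ∀ x g : H, x ∈ centralizer (A : Set H) → x ≠ 1 → x * x = 1 → g * x * g⁻¹ ∈ centralizer (A : Set H) →
      g ∈ normalizer (A : Set H))
    (hcomm : ∀ g : H, (∀ a ∈ A, ∀ b ∈ A, a * (g * b * g⁻¹) = (g * b * g⁻¹) * a) → False)
    (heven : ∃ t ∈ centralizer (A : Set H), t ≠ 1 ∧ t * t = 1) :
    IsStandardSubgroup (A.map (QuotientGroup.mk' O)) := by
  set π := QuotientGroup.mk' O with hπ
  have hker : ∀ x : H, π x = 1 ↔ x ∈ O := fun x => by
    rw [← MonoidHom.mem_ker, hπ, QuotientGroup.ker_mk']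
  -- involutions of the quotient lift
  have hlift : ∀ y : H ⧸ O, y ∈ centralizer ((A.map π : Subgroup (H ⧸ O)) : Set (H ⧸ O)) → y ≠ 1 → y * y = 1 →
      ∃ x ∈ centralizer (A : Set H), x ≠ 1 ∧ x * x = 1 ∧ π x = y := by
    intro y hy hy1 hy2
    obtain ⟨x, rfl⟩ := QuotientGroup.mk'_surjective O y
    have h1 : x ∈ centralizer (A : Set H) := h.mem_centralizer_map.1 hy
    have h2 : x * x ∈ O := by
      rw [← hker, map_mul]
      exact hy2
    obtain ⟨z, hz, hz2, hxz⟩ := exists_involution_lift h.odd h1 h2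
    have hz' : π z = π x := by
      have : π (x⁻¹ * z) = 1 := (hker _).2 hxz
      rw [map_mul, map_inv, inv_mul_eq_one] at this
      exact this.symm
    refine ⟨z, hz, ?_, hz2, hz'⟩
    rintro rfl
    rw [map_one] at hz'
    exact hy1 hz'.symm
  have hpair' : ∀ y g : H ⧸ O, y ∈ centralizer ((A.map π : Subgroup (H ⧸ O)) : Set (H ⧸ O)) → y ≠ 1 → y * y = 1 →
      g * y * g⁻¹ ∈ centralizer ((A.map π : Subgroup (H ⧸ O)) : Set (H ⧸ O)) →
      g ∈ normalizer ((A.map π : Subgroup (H ⧸ O)) : Set (H ⧸ O)) := by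
    intro y g hy hy1 hy2 hyg
    obtain ⟨x, hx, hx1, hx2, rfl⟩ := hlift y hy hy1 hy2
    obtain ⟨g, rfl⟩ := QuotientGroup.mk'_surjective O g
    refine h.mem_normalizer_map.2 (hpair x g hx hx1 hx2 (h.mem_centralizer_map.1 ?_))
    rw [map_mul, map_mul, map_inv]
    exact hyg
  refine ⟨h.quasisimple_map, ⟨?_, ?_⟩, ?_, ?_⟩
  · obtain ⟨t, ht, ht1, ht2⟩ := heven
    have h1 : π t ∈ centralizer ((A.map π : Subgroup (H ⧸ O)) : Set (H ⧸ O)) := h.mem_centralizer_map.2 ht
    have h3 : orderOf (⟨π t, h1⟩ : centralizer ((A.map π : Subgroup (H ⧸ O)) : Set (H ⧸ O))) = 2 := by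
      refine orderOf_eq_prime ?_ ?_
      · rw [pow_two]
        apply Subtype.ext
        change π t * π t = 1
        rw [← map_mul, ht2, map_one]
      · intro h4
        have h5 : π t = 1 := congrArg Subtype.val h4
        rw [hker] at h5
        exact ht1 (h.eq_one_of_sq h5 ht2)
    rw [even_iff_two_dvd, ← h3]
    exact orderOf_dvd_natCard _
  · intro g hg
    by_contra hodd
    rw [Nat.not_odd_iff_even, even_iff_two_dvd] at hodd
    obtain ⟨y, hy⟩ := exists_prime_orderOf_dvd_card' 2 hodd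
    obtain ⟨hy1, hy2⟩ := (orderOf_eq_prime_iff (p := 2)).1 hy
    apply hg
    obtain ⟨⟨y, hyC, z, hzC, hzy⟩, rfl⟩ : ∃ w, w = y := ⟨y, rfl⟩
    change g * z * g⁻¹ = y at hzy
    have hz2 : z * z = 1 := by
      have h1 : y * y = 1 := by
        have := congrArg Subtype.val hy1
        rwa [SubgroupClass.coe_pow, pow_two] at this
      rw [← hzy] at h1
      calc z * z = g⁻¹ * (g * z * g⁻¹ * (g * z * g⁻¹)) * g := by group
        _ = 1 := by rw [h1]; group
    have hz1 : z ≠ 1 := by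
      rintro rfl
      apply hy2
      apply Subtype.ext
      change y = 1
      rw [← hzy]; group
    exact centralizer_normalizer_le (hpair' z g hzC hz1 hz2 (by rw [hzy]; exact hyC))
  · intro g hg h1
    obtain ⟨g, rfl⟩ := QuotientGroup.mk'_surjective O g
    apply hcomm g
    intro a ha b hb
    have h2 : π a * (π g * π b * (π g)⁻¹) = (π g * π b * (π g)⁻¹) * π a := by
      have h3 : ⁅π a, π g * π b * (π g)⁻¹⁆ ∈ ⁅A.map π, (A.map π).map (MulAut.conj (π g)).toMonoidHom⁆ :=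
        commutator_mem_commutator ⟨a, ha, rfl⟩ ⟨π b, ⟨b, hb, rfl⟩, rfl⟩
      rw [h1, mem_bot, commutatorElement_eq_one_iff_mul_comm] at h3
      exact h3
    have h4 : π (g * b * g⁻¹) ∈ centralizer ((A.map π : Subgroup (H ⧸ O)) : Set (H ⧸ O)) := by
      rw [mem_centralizer_iff]
      rintro _ ⟨a', ha', rfl⟩
      have h3 : ⁅π a', π g * π b * (π g)⁻¹⁆ ∈ ⁅A.map π, (A.map π).map (MulAut.conj (π g)).toMonoidHom⁆ :=
        commutator_mem_commutator ⟨a', ha', rfl⟩ ⟨π b, ⟨b, hb, rfl⟩, rfl⟩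
      rw [h1, mem_bot, commutatorElement_eq_one_iff_mul_comm] at h3
      rw [map_mul, map_mul, map_inv]
      exact h3
    exact mem_centralizer_iff.1 (h.mem_centralizer_map.1 h4) a ha
  · refine le_antisymm centralizer_normalizer_le ?_
    intro g hg
    obtain ⟨t, ht, ht1, ht2⟩ := heven
    refine hpair' (π t) g (h.mem_centralizer_map.2 ht) ?_ ?_ ?_
    · intro h1
      rw [hker] at h1
      exact ht1 (h.eq_one_of_sq h1 ht2)
    · rw [← map_mul, ht2, map_one]
    · exact (mem_normalizer_iff.1 hg _).1 (h.mem_centralizer_map.2 ht)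

end Ctx

end Cfsg.Agent.StdG24.StdQuot
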