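import Mathlib
import Cfsg.Agent.StdG24.Local

/-!
# Steps 3 and 5 (helper823, R14 #4198)
-/

set_option autoImplicit false

namespace Cfsg.Agent.StdG24

open Subgroup
open scoped commutatorElement

variable {L : Type*} [Group L] {G : Type*} [Group G] {D : Data L} {e : L →* G}

/-- the centralizer of `e d` and `e B` -/
def CC (e : L →* G) (d : L) (B : Subgroup L) : Subgroup G :=
  centralizer ({e d} : Set G) ⊓ centralizer ((B.map e : Subgroup G) : Set G)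

theorem mem_CC {d : L} {B : Subgroup L} {x : G} :
    x ∈ CC e d B ↔ x * e d = e d * x ∧ ∀ b ∈ B, x * e b = e b * x := by
  rw [CC, mem_inf, mem_centralizer_singleton_iff, mem_centralizer_iff]
  constructor
  · rintro ⟨h1, h2⟩
    exact ⟨h1, fun b hb => (h2 _ ⟨b, hb, rfl⟩).symm⟩
  · rintro ⟨h1, h2⟩
    refine ⟨h1, ?_⟩
    rintro _ ⟨b, hb, rfl⟩
    exact (h2 b hb).symm

theorem eq_one_of_five {x : L} (h5 : x ^ 5 = 1) {n : ℕ} (h2 : x ^ 2 ^ n = 1) : x = 1 := by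
  have h3 : orderOf x ∣ 5 := orderOf_dvd_of_pow_eq_one h5
  have h4 : orderOf x ∣ 2 ^ n := orderOf_dvd_of_pow_eq_one h2
  have h6 : Nat.Coprime 5 (2 ^ n) := Nat.Coprime.pow_right n (by norm_num)
  exact orderOf_eq_one_iff.1 (Nat.eq_one_of_dvd_coprimes h6 h3 h4)

theorem KK_le_CC (d : L) (B : Subgroup L) : KK e ≤ CC e d B := by
  intro k hk
  rw [mem_KK] at hk
  exact mem_CC.2 ⟨hk _, fun b _ => hk b⟩

theorem pow5_pow {x : L} (h : x ^ 5 = 1) (i : ℕ) : (x ^ i) ^ 5 = 1 := by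
  rw [← pow_mul, mul_comm, pow_mul, h, one_pow]

/-- 2-elements of `M ∩ C(u, Al)` lie in `K` -/
theorem two_mem_u (F : Facts D) (h : Emb e) (m : G) (hm : m ∈ MM e) (hc : m ∈ CC e D.u D.Al)
    (h2 : ∃ n, m ^ 2 ^ n = 1) : m ∈ KK e := by
  obtain ⟨hmu, hmA⟩ := mem_CC.1 hc
  obtain ⟨k, hk, i, c, hcA, rfl⟩ := exists_of_comm_u F h hm hmu
  have hc1 : c = 1 := by
    apply F.centAl c hcA
    intro b hb
    have h1 := hmA b hb
    have h3 : e (D.u ^ i * c * b) = e (b * (D.u ^ i * c)) := by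
      rw [map_mul, map_mul e b]
      calc e (D.u ^ i * c) * e b = k⁻¹ * (k * e (D.u ^ i * c) * e b) := by group
        _ = k⁻¹ * (e b * (k * e (D.u ^ i * c))) := by rw [h1]
        _ = k⁻¹ * (e b * k) * e (D.u ^ i * c) := by group
        _ = k⁻¹ * (k * e b) * e (D.u ^ i * c) := by rw [mem_KK.1 hk]
        _ = e b * e (D.u ^ i * c) := by group
    have h4 := h.inj h3
    have h5 : D.u ^ i * b = b * D.u ^ i := Commute.pow_left (comm_uAl F hb) i
    have h6 : D.u ^ i * (c * b) = D.u ^ i * (b * c) := by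
      calc D.u ^ i * (c * b) = D.u ^ i * c * b := by group
        _ = b * (D.u ^ i * c) := h4
        _ = (b * D.u ^ i) * c := by group
        _ = D.u ^ i * (b * c) := by rw [← h5]; group
    exact mul_left_cancel h6
  obtain ⟨n, hn⟩ := h2
  have h7 := (eq_one_of_mul_sq h hk hn).2
  rw [hc1, mul_one] at h7 ⊢
  rw [eq_one_of_five (pow5_pow F.u5 i) h7, map_one, mul_one]
  exact hk

/-- 2-elements of `M ∩ C(w, As)` lie in `K` -/
theorem two_mem_w (F : Facts D) (h : Emb e) (m : G) (hm : m ∈ MM e) (hc : m ∈ CC e D.w D.As)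
    (h2 : ∃ n, m ^ 2 ^ n = 1) : m ∈ KK e := by
  obtain ⟨hmu, hmA⟩ := mem_CC.1 hc
  obtain ⟨k, hk, i, c, hcA, rfl⟩ := exists_of_comm_w F h hm hmu
  have hc1 : c = 1 := by
    apply F.centAs c hcA
    intro b hb
    have h1 := hmA b hb
    have h3 : e (D.w ^ i * c * b) = e (b * (D.w ^ i * c)) := by
      rw [map_mul, map_mul e b]
      calc e (D.w ^ i * c) * e b = k⁻¹ * (k * e (D.w ^ i * c) * e b) := by group
        _ = k⁻¹ * (e b * (k * e (D.w ^ i * c))) := by rw [h1]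
        _ = k⁻¹ * (e b * k) * e (D.w ^ i * c) := by group
        _ = k⁻¹ * (k * e b) * e (D.w ^ i * c) := by rw [mem_KK.1 hk]
        _ = e b * e (D.w ^ i * c) := by group
    have h4 := h.inj h3
    have h5 : D.w ^ i * b = b * D.w ^ i := Commute.pow_left (comm_wAs F hb) i
    have h6 : D.w ^ i * (c * b) = D.w ^ i * (b * c) := by
      calc D.w ^ i * (c * b) = D.w ^ i * c * b := by group
        _ = b * (D.w ^ i * c) := h4
        _ = (b * D.w ^ i) * c := by group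
        _ = D.w ^ i * (b * c) := by rw [← h5]; group
    exact mul_left_cancel h6
  obtain ⟨n, hn⟩ := h2
  have h7 := (eq_one_of_mul_sq h hk hn).2
  rw [hc1, mul_one] at h7 ⊢
  rw [eq_one_of_five (pow5_pow F.w5 i) h7, map_one, mul_one]
  exact hk

theorem conj_u [Finite G] (F : Facts D) (h : Emb e) {P : Subgroup G} (hP : P ≤ CC e D.u D.Al)
    (h2 : IsPGroup 2 P) : ∃ c ∈ CC e D.u D.Al, ∀ x ∈ P, c * x * c⁻¹ ∈ KK e :=
  exists_conj_le_of_tight (KK_le_CC _ _) h.key (two_mem_u F h) h.even hP h2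

theorem conj_w [Finite G] (F : Facts D) (h : Emb e) {P : Subgroup G} (hP : P ≤ CC e D.w D.As)
    (h2 : IsPGroup 2 P) : ∃ c ∈ CC e D.w D.As, ∀ x ∈ P, c * x * c⁻¹ ∈ KK e :=
  exists_conj_le_of_tight (KK_le_CC _ _) h.key (two_mem_w F h) h.even hP h2

theorem conj_inv_u [Finite G] (F : Facts D) (h : Emb e) {t : G} (ht : t ∈ CC e D.u D.Al)
    (h2 : t * t = 1) : ∃ c ∈ CC e D.u D.Al, c * t * c⁻¹ ∈ KK e := by
  obtain ⟨c, hc, h3⟩ := conj_u F h (P := zpowers t) (by rwa [zpowers_le]) (isPGroup_zpowers h2)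
  exact ⟨c, hc, h3 t (mem_zpowers t)⟩

theorem conj_inv_w [Finite G] (F : Facts D) (h : Emb e) {t : G} (ht : t ∈ CC e D.w D.As)
    (h2 : t * t = 1) : ∃ c ∈ CC e D.w D.As, c * t * c⁻¹ ∈ KK e := by
  obtain ⟨c, hc, h3⟩ := conj_w F h (P := zpowers t) (by rwa [zpowers_le]) (isPGroup_zpowers h2)
  exact ⟨c, hc, h3 t (mem_zpowers t)⟩

theorem conj_comm {g x y : G} (hg : g * x = x * g) (h : y * x = x * y) :
    g * y * g⁻¹ * x = x * (g * y * g⁻¹) := by
  calc g * y * g⁻¹ * x = g * y * g⁻¹ * (x * g) * g⁻¹ := by group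
    _ = g * y * g⁻¹ * (g * x) * g⁻¹ := by rw [hg]
    _ = g * (y * x) * g⁻¹ := by group
    _ = g * (x * y) * g⁻¹ := by rw [h]
    _ = (g * x) * y * g⁻¹ := by group
    _ = x * (g * y * g⁻¹) := by rw [hg]; group

theorem conj_ne_one {g x : G} (h : x ≠ 1) : g * x * g⁻¹ ≠ 1 := by
  intro h1
  apply h
  rw [show x = g⁻¹ * (g * x * g⁻¹) * g by group, h1]; group

theorem conj_sq {g x : G} (h : x * x = 1) : g * x * g⁻¹ * (g * x * g⁻¹) = 1 := by
  rw [show g * x * g⁻¹ * (g * x * g⁻¹) = g * (x * x) * g⁻¹ by group, h]; group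

/-- **Step 3**: `Al` does not commute with a conjugate of `Al` under `C(u)`. -/
theorem no_comm_u [Finite G] (F : Facts D) (h : Emb e) {g : G} (hg : g * e D.u = e D.u * g)
    (hc : ∀ a ∈ D.Al, ∀ b ∈ D.Al, e a * (g * e b * g⁻¹) = (g * e b * g⁻¹) * e a) : False := by
  have hzz : e D.z * e D.z = 1 := by rw [← map_mul, F.z2, map_one]
  have hz' : g * e D.z * g⁻¹ ∈ CC e D.u D.Al := by
    rw [mem_CC]
    refine ⟨conj_comm hg ?_, fun b hb => (hc b hb _ F.zAl).symm⟩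
    rw [← map_mul, ← map_mul, comm_uAl F F.zAl]
  obtain ⟨c, hcC, hcK⟩ := conj_inv_u F h hz' (conj_sq hzz)
  obtain ⟨hcu, -⟩ := mem_CC.1 hcC
  set g' : G := c * g with hg'
  have hgu : g' * e D.u = e D.u * g' := by
    rw [hg', mul_assoc, hg, ← mul_assoc, hcu, mul_assoc]
  have hzK : g' * e D.z * g'⁻¹ ∈ KK e := by
    rw [hg', show c * g * e D.z * (c * g)⁻¹ = c * (g * e D.z * g⁻¹) * c⁻¹ by group]
    exact hcK
  have h' := h.cjh g'⁻¹
  set e' : L →* G := cjh g'⁻¹ e with he'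
  have hu' : e' D.u = e D.u := by
    rw [he', cjh_apply, inv_inv]
    calc g'⁻¹ * e D.u * g' = g'⁻¹ * (e D.u * g') := by group
      _ = g'⁻¹ * (g' * e D.u) := by rw [hgu]
      _ = e D.u := by group
  have hzK' : e D.z ∈ KK e' := by
    rw [he', mem_KK_cjh, inv_inv]
    exact hzK
  have hz1 : e D.z ≠ 1 := fun h1 => F.z1 (h.inj (by rw [h1, map_one]))
  have hle : Wof D.u D.z ≤ e'.range.comap e := by
    rw [Wof, closure_le]
    rintro _ ⟨x, hx, rfl⟩
    change e (x * D.u * x⁻¹) ∈ e'.range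
    have hxM : e x ∈ MM e' := h'.nrm hzK' hz1 hzz (by rw [← map_mul, hx, map_mul])
    obtain ⟨y, hy⟩ := (mem_MM.1 hxM).1 D.u
    refine ⟨y, ?_⟩
    rw [← hy, hu', map_mul, map_mul, map_inv]
  obtain ⟨y, hy⟩ := hle F.zW
  have h1 : y = 1 := h'.disj y (by rw [hy]; exact hzK')
  apply hz1
  rw [← hy, h1, map_one]

/-- **Step 5**: if (n) holds for `u`, then `As` does not commute with a conjugate of `As` under `C(w)`. -/
theorem no_comm_w [Finite G] (F : Facts D) (h : Emb e) (hn : NU D e) {g : G}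
    (hg : g * e D.w = e D.w * g)
    (hc : ∀ a ∈ D.As, ∀ b ∈ D.As, e a * (g * e b * g⁻¹) = (g * e b * g⁻¹) * e a) : False := by
  -- reduce to the case where `g (e v) g⁻¹ ∈ K`
  suffices H : ∀ g : G, g * e D.w = e D.w * g →
      (∀ a ∈ D.As, ∀ b ∈ D.As, e a * (g * e b * g⁻¹) = (g * e b * g⁻¹) * e a) →
      g * e D.v * g⁻¹ ∈ KK e → False by
    have hvv : e D.v * e D.v = 1 := by rw [← map_mul, F.v2, map_one]
    have hv' : g * e D.v * g⁻¹ ∈ CC e D.w D.As := by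
      rw [mem_CC]
      refine ⟨conj_comm hg ?_, fun b hb => (hc b hb _ F.vAs).symm⟩
      rw [← map_mul, ← map_mul, comm_wAs F F.vAs]
    obtain ⟨c, hcC, hcK⟩ := conj_inv_w F h hv' (conj_sq hvv)
    obtain ⟨hcw, hcA⟩ := mem_CC.1 hcC
    refine H (c * g) ?_ ?_ ?_
    · rw [mul_assoc, hg, ← mul_assoc, hcw, mul_assoc]
    · intro a ha b hb
      rw [show c * g * e b * (c * g)⁻¹ = c * (g * e b * g⁻¹) * c⁻¹ by group]
      exact (conj_comm (hcA a ha) (hc a ha b hb).symm).symm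
    · rw [show c * g * e D.v * (c * g)⁻¹ = c * (g * e D.v * g⁻¹) * c⁻¹ by group]
      exact hcK
  clear hc hg g
  intro g hg hc hvK
  have h' := h.cjh g
  set e' : L →* G := cjh g e with he'
  have hw' : e' D.w = e D.w := by
    rw [he', cjh_apply, hg]; group
  have hvK' : e' D.v ∈ KK e := hvK
  have hv1 : e' D.v ≠ 1 := fun h1 => F.v1 (h'.inj (by rw [h1, map_one]))
  have hv2 : e' D.v * e' D.v = 1 := by rw [← map_mul, F.v2, map_one]
  have hcomm : ∀ a ∈ D.As, ∀ b ∈ D.As, e a * e' b = e' b * e a := hc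
  -- elements of `CC e' w As`
  have hDM : ∀ m ∈ CC e' D.w D.As, m ∈ MM e := fun m hm =>
    h.nrm hvK' hv1 hv2 ((mem_CC.1 hm).2 _ F.vAs)
  have hDform : ∀ m ∈ CC e' D.w D.As, ∃ k ∈ KK e, ∃ i : ℕ, ∃ c ∈ D.As, m = k * e (D.w ^ i * c) := by
    intro m hm
    refine exists_of_comm_w F h (hDM m hm) ?_
    rw [← hw']
    exact (mem_CC.1 hm).1
  -- Claim A
  have hA : ∀ t ∈ KK e, t ∈ CC e' D.w D.As → t * t = 1 → t = 1 := by
    intro t htK htD ht2
    by_contra ht1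
    obtain ⟨c, hcD, hcK⟩ := conj_inv_w F h' htD ht2
    have hcK' : c * t * c⁻¹ ∈ KK e := Emb.conj_KK (hDM c hcD) htK
    rw [he', mem_KK_cjh] at hcK
    have hgM : g ∈ MM e := by
      refine h.key (g⁻¹ * (c * t * c⁻¹) * g) g hcK ?_ ?_ ?_
      · have := conj_ne_one (g := g⁻¹) (conj_ne_one (g := c) ht1)
        rwa [inv_inv] at this
      · have := conj_sq (g := g⁻¹) (conj_sq (g := c) ht2)
        rwa [inv_inv] at this
      · rw [show g * (g⁻¹ * (c * t * c⁻¹) * g) * g⁻¹ = c * t * c⁻¹ by group]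
        exact hcK'
    obtain ⟨k, hk, i, d, hd, hgk⟩ := exists_of_comm_w F h hgM hg
    have h1 : ∀ b ∈ D.As, g * e b * g⁻¹ = e (d * b * d⁻¹) := by
      intro b hb
      have hwd : Commute (D.w ^ i) (d * b * d⁻¹) :=
        Commute.pow_left (comm_wAs F (mul_mem (mul_mem hd hb) (inv_mem hd))) i
      rw [hgk]
      calc k * e (D.w ^ i * d) * e b * (k * e (D.w ^ i * d))⁻¹
          = k * e (D.w ^ i * (d * b * d⁻¹) * (D.w ^ i)⁻¹) * k⁻¹ := by
            simp only [map_mul, map_inv, mul_inv_rev]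
            group
        _ = k * e (d * b * d⁻¹) * k⁻¹ := by rw [hwd.eq]; group
        _ = e (d * b * d⁻¹) := by rw [mem_KK.1 hk]; group
    apply F.v1
    apply F.centAs _ F.vAs
    intro b hb
    have h2 := hc _ F.vAs (d⁻¹ * b * d) (mul_mem (mul_mem (inv_mem hd) hb) hd)
    rw [h1 _ (mul_mem (mul_mem (inv_mem hd) hb) hd),
      show d * (d⁻¹ * b * d) * d⁻¹ = b by group, ← map_mul, ← map_mul] at h2
    exact h.inj h2
  -- Claim B
  obtain ⟨r, hrK, hr1, hr2⟩ := h'.even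
  have hrD : r ∈ CC e' D.w D.As := KK_le_CC _ _ hrK
  obtain ⟨k, hk, i, a, haA, hrk⟩ := hDform r hrD
  have hr2' : (k * e (D.w ^ i * a)) ^ 2 = 1 := by rw [← hrk, pow_two, hr2]
  obtain ⟨hk2, hwa2⟩ := eq_one_of_mul_sq h hk hr2'
  have hwcomm : ∀ j : ℕ, ∀ b ∈ D.As, Commute (D.w ^ j) b := fun j b hb =>
    Commute.pow_left (comm_wAs F hb) j
  have haa : a ^ 2 = 1 ∧ D.w ^ i = 1 := by
    rw [(hwcomm i a haA).mul_pow] at hwa2
    have h1 : a ^ 2 = 1 := by
      apply F.centAs _ (pow_mem haA 2)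
      intro b hb
      have h2 : a ^ 2 = ((D.w ^ i) ^ 2)⁻¹ := (inv_eq_of_mul_eq_one_right hwa2).symm
      rw [h2, ← pow_mul]
      exact ((hwcomm _ b hb).inv_left).eq
    rw [h1, mul_one] at hwa2
    exact ⟨h1, eq_one_of_five (pow5_pow F.w5 i) (n := 1) (by rw [pow_one]; exact hwa2)⟩
  obtain ⟨ha2, hwi⟩ := haa
  rw [hwi, one_mul] at hrk
  have heaD : e a ∈ CC e' D.w D.As := by
    rw [mem_CC, hw']
    refine ⟨?_, fun b hb => hcomm a haA b hb⟩
    rw [← map_mul, ← map_mul, comm_wAs F haA]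
  have hkD : k ∈ CC e' D.w D.As := by
    have : k = r * (e a)⁻¹ := by rw [hrk]; group
    rw [this]
    exact mul_mem hrD (inv_mem heaD)
  have hk1 : k = 1 := hA k hk hkD (by rw [← pow_two]; exact hk2)
  rw [hk1, one_mul] at hrk
  have ha1 : a ≠ 1 := by
    rintro rfl
    exact hr1 (by rw [hrk, map_one])
  have haa : a * a = 1 := by rw [← pow_two]; exact ha2
  have haK' : e a ∈ KK e' := hrk ▸ hrK
  -- Claim C
  have hC1 : ∀ x, x * D.v = D.v * x → e' (x * D.w * x⁻¹) ∈ e.range := by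
    intro x hx
    have hxM : e' x ∈ MM e := h.nrm hvK' hv1 hv2 (by rw [← map_mul, hx, map_mul])
    obtain ⟨y, hy⟩ := (mem_MM.1 hxM).1 D.w
    refine ⟨y, ?_⟩
    rw [← hy, ← hw', map_mul, map_mul, map_inv]
  have hC2 : Wof D.w D.v ≤ e.range.comap e' := by
    rw [Wof, closure_le]
    rintro _ ⟨x, hx, rfl⟩
    exact hC1 x hx
  have hC3 : ∀ x ∈ Wof D.w D.v, ∃ x1, e x1 = e' x ∧ x1 * a = a * x1 := by
    intro x hx
    obtain ⟨x1, hx1⟩ := hC2 hx
    refine ⟨x1, hx1, h.inj ?_⟩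
    rw [map_mul, map_mul, hx1]
    exact (mem_KK.1 haK' x).symm
  have hC4 : ∀ x ∈ Wof D.w D.v, ∃ x1 ∈ Wof D.w a, e x1 = e' x := by
    have h1 : Wof D.w D.v ≤ ((Wof D.w a).map e).comap e' := by
      refine F.gen_v.trans ?_
      rw [closure_le]
      rintro _ ⟨x, hx, rfl⟩
      obtain ⟨x1, hx1, hxa⟩ := hC3 x hx
      change e' (x * D.w * x⁻¹) ∈ (Wof D.w a).map e
      refine ⟨x1 * D.w * x1⁻¹, subset_closure ⟨x1, hxa, rfl⟩, ?_⟩
      rw [map_mul, map_mul, map_inv, map_mul, map_mul, map_inv, hx1, hw']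
    intro x hx
    obtain ⟨x1, hx1, hx2⟩ := h1 hx
    exact ⟨x1, hx1, hx2⟩
  -- Claim D
  obtain ⟨y, hyW, hy1, hy2, p, hp⟩ := F.fus_v
  obtain ⟨y1, hy1W, hy1e⟩ := hC4 y hyW
  have hy1' : y1 ≠ 1 := by
    rintro rfl
    rw [map_one] at hy1e
    exact hy1 (h'.inj (by rw [← hy1e, map_one]))
  have hy2' : y1 * y1 = 1 := h.inj (by rw [map_mul, hy1e, ← map_mul, hy2, map_one, map_one])
  refine a0 F h hn hvK' hv1 hv2 (F.inv2A a haA ha1 haa y1 hy1W hy1' hy2') hy1' hy2' (e' p) ?_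
  rw [mem_KK_cjh, hy1e]
  have h1 : (e' p)⁻¹ * (e' D.v * e' y) * e' p = e' D.v := by
    rw [← map_mul, ← map_inv, ← map_mul, ← map_mul, ← hp]
    congr 1
    group
  rw [h1]
  exact hvK'

end Cfsg.Agent.StdG24
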