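import Mathlib
import Cfsg.Prelude.Def_ClassificationK
import Cfsg.Agent.SignalizersComponents.PLayerAut

/-!
# The strong B-property passes to sections
-/

set_option autoImplicit false

namespace Cfsg.Agent.StdG24

open Subgroup Cfsg Cfsg.Agent.Lib.Cores Cfsg.Agent.SignalizersComponents

theorem hasBProperty_of_equiv {X Y : Type*} [Group X] [Group Y] (φ : X ≃* Y) (h : HasBProperty X) :
    HasBProperty Y := by
  intro t ht
  have hs : orderOf (φ.symm t) = 2 := by
    rw [MulEquiv.orderOf_eq]; exact ht
  have h1 := h (φ.symm t) hs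
  have hC : (centralizer ({φ.symm t} : Set X)).map φ.toMonoidHom = centralizer ({t} : Set Y) := by
    ext y
    rw [mem_map, mem_centralizer_singleton_iff]
    constructor
    · rintro ⟨x, hx, rfl⟩
      rw [mem_centralizer_singleton_iff] at hx
      have := congrArg φ hx
      simpa using this
    · intro hy
      refine ⟨φ.symm y, ?_, by simp⟩
      rw [mem_centralizer_singleton_iff]
      apply φ.injective
      simpa using hy
  let ψ : centralizer ({φ.symm t} : Set X) ≃* centralizer ({t} : Set Y) :=
    (φ.subgroupMap (centralizer ({φ.symm t} : Set X))).trans (MulEquiv.subgroupCongr hC)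
  have hψ : ∀ x, ((ψ x : centralizer ({t} : Set Y)) : Y) = φ x := fun x => rfl
  have h2 : (⁅pLayer 2 ↥(centralizer ({t} : Set Y)), oddCore ↥(centralizer ({t} : Set Y))⁆) =
      (⁅pLayer 2 ↥(centralizer ({φ.symm t} : Set X)), oddCore ↥(centralizer ({φ.symm t} : Set X))⁆).map
        ψ.toMonoidHom := by
    rw [map_commutator, PLayerAut.map_equiv_pLayer, oddCore, map_equiv_pPrimeCore]
  rw [h2, map_map]
  have h3 : (centralizer ({t} : Set Y)).subtype.comp ψ.toMonoidHom =
      φ.toMonoidHom.comp (centralizer ({φ.symm t} : Set X)).subtype := by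
    ext x
    rfl
  rw [h3, ← map_map]
  have h4 : oddCore Y = (oddCore X).map φ.toMonoidHom := by
    rw [oddCore, map_equiv_pPrimeCore]
  rw [h4]
  exact map_mono h1

/-- the strong B-property passes to homomorphic images of subgroups -/
theorem strongB_of_surjective {G Q : Type*} [Group G] [Group Q] (hB : HasStrongBProperty G) (H : Subgroup G)
    (f : H →* Q) (hf : Function.Surjective f) : HasStrongBProperty Q := by
  intro X N hN
  -- the preimage of `X`
  let X' : Subgroup G := (X.comap f).map H.subtype
  let g : X' →* H :=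
    { toFun := fun x => ⟨x, by obtain ⟨y, -, hy⟩ := x.2; rw [← hy]; exact y.2⟩
      map_one' := rfl
      map_mul' := fun _ _ => rfl }
  have hg : ∀ x : X', f (g x) ∈ X := by
    intro x
    obtain ⟨y, hy, hyx⟩ := x.2
    have : g x = y := Subtype.ext hyx.symm
    rw [this]
    exact hy
  let k : X' →* X := (f.comp g).codRestrict X hg
  have hk : Function.Surjective k := by
    rintro ⟨x, hx⟩
    obtain ⟨y, rfl⟩ := hf x
    exact ⟨⟨y, ⟨y, hx, rfl⟩⟩, Subtype.ext rfl⟩
  let m : X' →* X ⧸ N := (QuotientGroup.mk' N).comp k
  have hm : Function.Surjective m := (QuotientGroup.mk'_surjective N).comp hk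
  exact hasBProperty_of_equiv (QuotientGroup.quotientKerEquivOfSurjective m hm) (hB X' m.ker)

end Cfsg.Agent.StdG24
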