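import Mathlib
import Cfsg.Prelude.Def_CaseTheorems
import Cfsg.Agent.StdG24.StepFive
import Cfsg.Agent.StdG24.StdQuot
import Cfsg.Agent.StdG24.StrongB
import Cfsg.Agent.Lib.KleinGen

/-!
# Step 2 (helper823, R14 #4198): the centralizer of a 5-element `d`
-/

set_option autoImplicit false

namespace Cfsg.Agent.StdG24

open Subgroup
open scoped commutatorElement

variable {L : Type*} [Group L] {G : Type*} [Group G]

/-- what is used about the 5-element `d` and `B = C_L(d)^∞` -/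
structure FD (d : L) (B : Subgroup L) : Prop where
  d5 : d ^ 5 = 1
  comm : ∀ b ∈ B, d * b = b * d
  aut : ∀ α : L ≃* L, α d = d → ∃ i : ℕ, ∃ c ∈ B, ∀ x, α x = (d ^ i * c) * x * (d ^ i * c)⁻¹
  iso : Nonempty (B ≃* alternatingGroup (Fin 5))

theorem simple_of_range {A H : Type*} [Group A] [Group H] [Finite H] (hs : IsSimpleGroup A) {f : A →* H}
    (hf : Function.Injective f) {N : Subgroup H} (h1 : N ≤ f.range) (h2 : f.range ≤ normalizer (N : Set H)) :
    N = ⊥ ∨ N = f.range := by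
  have hn : (N.comap f).Normal := by
    refine ⟨fun n hn g => ?_⟩
    rw [mem_comap] at hn ⊢
    rw [map_mul, map_mul, map_inv]
    exact (mem_normalizer_iff.1 (h2 ⟨g, rfl⟩) _).1 hn
  have h3 : (N.comap f).map f = N := by
    rw [map_comap_eq, inf_eq_right.2 h1]
  rcases hs.eq_bot_or_eq_top_of_normal _ hn with h | h
  · left; rw [← h3, h, Subgroup.map_bot]
  · right; rw [← h3, h, ← MonoidHom.range_eq_map]

theorem exists_klein {K : Type*} [Group K] [Finite K] (h : ¬ PRankLE 2 1 K) :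
    ∃ x y : K, x ≠ 1 ∧ y ≠ 1 ∧ x ≠ y ∧ x * x = 1 ∧ y * y = 1 ∧ x * y = y * x := by
  rw [PRankLE] at h
  push Not at h
  obtain ⟨A, hA, h2, hc⟩ := h
  have h3 : 1 < Nat.card A := by omega
  obtain ⟨x, hx⟩ : ∃ x : A, x ≠ 1 := by
    have := (Finite.one_lt_card_iff_nontrivial.1 h3)
    exact exists_ne 1
  obtain ⟨y, hy1, hy2⟩ : ∃ y : A, y ≠ 1 ∧ y ≠ x := by
    by_contra hne
    push Not at hne
    have h4 : Nat.card A ≤ 2 := by
      have : Set.ncard (Set.univ : Set A) ≤ 2 := by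
        have h5 : (Set.univ : Set A) ⊆ {1, x} := by
          intro y _
          by_cases h6 : y = 1
          · left; exact h6
          · right; exact hne y h6
        exact (Set.ncard_le_ncard h5 (Set.toFinite _)).trans (Set.ncard_insert_le _ _ |>.trans (by simp))
      rwa [Set.ncard_univ] at this
    omega
  refine ⟨x, y, fun h => hx (Subtype.ext h), fun h => hy1 (Subtype.ext h), fun h => hy2 (Subtype.ext h.symm), ?_, ?_, ?_⟩
  · rw [← pow_two]; exact h2 _ x.2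
  · rw [← pow_two]; exact h2 _ y.2
  · exact congrArg Subtype.val (hA.is_comm.comm x y)

theorem altFive_noncomm : ∃ a b : alternatingGroup (Fin 5), a * b ≠ b * a :=
  ⟨⟨Equiv.swap 0 1 * Equiv.swap 0 2, Equiv.Perm.mem_alternatingGroup.2 (by decide)⟩, ⟨Equiv.swap 0 1 * Equiv.swap 0 3, Equiv.Perm.mem_alternatingGroup.2 (by decide)⟩, by decide⟩

theorem altFive_inv : ∃ a : alternatingGroup (Fin 5), a ≠ 1 ∧ a * a = 1 :=
  ⟨⟨Equiv.swap 0 1 * Equiv.swap 2 3, Equiv.Perm.mem_alternatingGroup.2 (by decide)⟩, by decide, by decide⟩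

namespace FD

variable {d : L} {B : Subgroup L} {e : L →* G}

theorem simpleB (F : FD d B) : IsSimpleGroup B := by
  obtain ⟨φ⟩ := F.iso
  have : IsSimpleGroup (alternatingGroup (Fin 5)) := alternatingGroup.isSimpleGroup (by simp)
  have : Nontrivial B := φ.toEquiv.nontrivial
  exact IsSimpleGroup.isSimpleGroup_of_surjective φ.symm.toMonoidHom φ.symm.surjective

theorem nonab (F : FD d B) : ∃ a ∈ B, ∃ b ∈ B, a * b ≠ b * a := by
  obtain ⟨φ⟩ := F.iso
  obtain ⟨a, b, hab⟩ := altFive_noncomm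
  refine ⟨φ.symm a, (φ.symm a).2, φ.symm b, (φ.symm b).2, fun h => hab ?_⟩
  have h1 : φ.symm a * φ.symm b = φ.symm b * φ.symm a := Subtype.ext h
  have h2 := congrArg φ h1
  simpa using h2

theorem inv (F : FD d B) : ∃ t ∈ B, t ≠ 1 ∧ t * t = 1 := by
  obtain ⟨φ⟩ := F.iso
  obtain ⟨a, ha1, ha2⟩ := altFive_inv
  refine ⟨φ.symm a, (φ.symm a).2, fun h => ha1 ?_, ?_⟩
  · have h1 : φ.symm a = 1 := Subtype.ext h
    exact (MulEquiv.map_eq_one_iff _).1 h1
  · have h1 : φ.symm a * φ.symm a = 1 := by rw [← map_mul, ha2, map_one]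
    exact congrArg Subtype.val h1

theorem cent (F : FD d B) : ∀ a ∈ B, (∀ b ∈ B, a * b = b * a) → a = 1 := by
  intro a ha h
  have hs := F.simpleB
  rcases hs.eq_bot_or_eq_top_of_normal (center B) inferInstance with h1 | h1
  · have : (⟨a, ha⟩ : B) ∈ center B := by
      rw [mem_center_iff]
      rintro ⟨b, hb⟩
      exact Subtype.ext (h b hb).symm
    rw [h1, mem_bot] at this
    exact congrArg Subtype.val this
  · exfalso
    obtain ⟨x, hx, y, hy, hxy⟩ := F.nonab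
    apply hxy
    have : (⟨y, hy⟩ : B) ∈ center B := by rw [h1]; trivial
    exact congrArg Subtype.val ((mem_center_iff.1 this) ⟨x, hx⟩)

theorem powComm (F : FD d B) (i : ℕ) {b : L} (hb : b ∈ B) : d ^ i * b = b * d ^ i :=
  Commute.pow_left (F.comm b hb) i

theorem exists_of_comm (F : FD d B) (h : Emb e) {m : G} (hm : m ∈ MM e)
    (hc : m * e d = e d * m) : ∃ k ∈ KK e, ∃ i : ℕ, ∃ c ∈ B, m = k * e (d ^ i * c) := by
  obtain ⟨α, hα⟩ := h.exists_aut hm
  have h1 : α d = d := h.inj (by rw [hα, hc]; group)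
  obtain ⟨i, c, hcA, h2⟩ := F.aut α h1
  refine ⟨_, Emb.mem_of_aut (m := m) (t := d ^ i * c) fun x => ?_, i, c, hcA, by group⟩
  rw [← hα, h2]

/-- the elements of `M` centralizing `d` and `B` -/
theorem exists_of_CC (F : FD d B) (h : Emb e) {m : G} (hm : m ∈ MM e) (hc : m ∈ CC e d B) :
    ∃ k ∈ KK e, ∃ i : ℕ, m = k * e (d ^ i) := by
  obtain ⟨hmu, hmA⟩ := mem_CC.1 hc
  obtain ⟨k, hk, i, c, hcA, rfl⟩ := F.exists_of_comm h hm hmu
  have hc1 : c = 1 := by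
    apply F.cent c hcA
    intro b hb
    have h1 := hmA b hb
    have h3 : e (d ^ i * c * b) = e (b * (d ^ i * c)) := by
      rw [map_mul, map_mul e b]
      calc e (d ^ i * c) * e b = k⁻¹ * (k * e (d ^ i * c) * e b) := by group
        _ = k⁻¹ * (e b * (k * e (d ^ i * c))) := by rw [h1]
        _ = k⁻¹ * (e b * k) * e (d ^ i * c) := by group
        _ = k⁻¹ * (k * e b) * e (d ^ i * c) := by rw [mem_KK.1 hk]
        _ = e b * e (d ^ i * c) := by group
    have h4 := h.inj h3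
    have h6 : d ^ i * (c * b) = d ^ i * (b * c) := by
      calc d ^ i * (c * b) = d ^ i * c * b := by group
        _ = b * (d ^ i * c) := h4
        _ = (b * d ^ i) * c := by group
        _ = d ^ i * (b * c) := by rw [← F.powComm i hb]; group
    exact mul_left_cancel h6
  exact ⟨k, hk, i, by rw [hc1, mul_one]⟩

theorem two_mem (F : FD d B) (h : Emb e) (m : G) (hm : m ∈ MM e) (hc : m ∈ CC e d B)
    (h2 : ∃ n, m ^ 2 ^ n = 1) : m ∈ KK e := by
  obtain ⟨k, hk, i, rfl⟩ := F.exists_of_CC h hm hc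
  obtain ⟨n, hn⟩ := h2
  have h7 := (eq_one_of_mul_sq h hk hn).2
  rw [eq_one_of_five (pow5_pow F.d5 i) h7, map_one, mul_one]
  exact hk

theorem conj [Finite G] (F : FD d B) (h : Emb e) {P : Subgroup G} (hP : P ≤ CC e d B)
    (h2 : IsPGroup 2 P) : ∃ c ∈ CC e d B, ∀ x ∈ P, c * x * c⁻¹ ∈ KK e :=
  exists_conj_le_of_tight (KK_le_CC _ _) h.key (F.two_mem h) h.even hP h2

theorem conj_inv [Finite G] (F : FD d B) (h : Emb e) {t : G} (ht : t ∈ CC e d B)
    (h2 : t * t = 1) : ∃ c ∈ CC e d B, c * t * c⁻¹ ∈ KK e := by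
  obtain ⟨c, hc, h3⟩ := F.conj h (P := zpowers t) (by rwa [zpowers_le]) (isPGroup_zpowers h2)
  exact ⟨c, hc, h3 t (mem_zpowers t)⟩

/-- elements of `M ∩ C(d)` normalise `B` -/
theorem norm_of_mem (F : FD d B) (h : Emb e) {m : G} (hm : m ∈ MM e)
    (hc : m * e d = e d * m) {b : L} (hb : b ∈ B) : ∃ b' ∈ B, m * e b * m⁻¹ = e b' := by
  obtain ⟨k, hk, i, c, hcB, rfl⟩ := F.exists_of_comm h hm hc
  refine ⟨c * b * c⁻¹, mul_mem (mul_mem hcB hb) (inv_mem hcB), ?_⟩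
  have h1 : d ^ i * c * b * (d ^ i * c)⁻¹ = c * b * c⁻¹ := by
    have h2 := F.powComm i (mul_mem (mul_mem hcB hb) (inv_mem hcB))
    calc d ^ i * c * b * (d ^ i * c)⁻¹ = d ^ i * (c * b * c⁻¹) * (d ^ i)⁻¹ := by group
      _ = c * b * c⁻¹ := by rw [h2]; group
  rw [← h1]
  calc k * e (d ^ i * c) * e b * (k * e (d ^ i * c))⁻¹
      = k * e (d ^ i * c * b * (d ^ i * c)⁻¹) * k⁻¹ := by
        simp only [map_mul, map_inv, mul_inv_rev]
        group
    _ = e (d ^ i * c * b * (d ^ i * c)⁻¹) := by rw [mem_KK.1 hk]; group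

end FD

/-- two simple subgroups normalizing each other are equal or commute -/
theorem eq_or_comm {A1 A2 : Subgroup G} (h1 : ∀ N : Subgroup G, N ≤ A1 → A1 ≤ normalizer (N : Set G) → N = ⊥ ∨ N = A1)
    (h2 : ∀ N : Subgroup G, N ≤ A2 → A2 ≤ normalizer (N : Set G) → N = ⊥ ∨ N = A2)
    (n1 : A1 ≤ normalizer (A2 : Set G)) (n2 : A2 ≤ normalizer (A1 : Set G)) :
    A1 = A2 ∨ ∀ a ∈ A1, ∀ b ∈ A2, a * b = b * a := by
  have hN : ∀ g, g ∈ normalizer (A1 : Set G) → g ∈ normalizer (A2 : Set G) → g ∈ normalizer ((A1 ⊓ A2 : Subgroup G) : Set G) := by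
    intro g h3 h4
    rw [mem_normalizer_iff] at h3 h4 ⊢
    intro x
    exact and_congr (h3 x) (h4 x)
  have h3 : A1 ⊓ A2 = ⊥ ∨ A1 ⊓ A2 = A1 := h1 _ inf_le_left fun g hg => hN g (le_normalizer hg) (n1 hg)
  have h4 : A1 ⊓ A2 = ⊥ ∨ A1 ⊓ A2 = A2 := h2 _ inf_le_right fun g hg => hN g (n2 hg) (le_normalizer hg)
  rcases h3 with h3 | h3
  · right
    intro a ha b hb
    have h5 : a * b * a⁻¹ * b⁻¹ ∈ A1 ⊓ A2 := by
      refine ⟨?_, ?_⟩
      · have : b * a⁻¹ * b⁻¹ ∈ A1 := (mem_normalizer_iff.1 (n2 hb) _).1 (inv_mem ha)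
        have h6 := A1.mul_mem ha this
        rwa [show a * (b * a⁻¹ * b⁻¹) = a * b * a⁻¹ * b⁻¹ by group] at h6
      · exact A2.mul_mem ((mem_normalizer_iff.1 (n1 ha) _).1 hb) (A2.inv_mem hb)
    rw [h3, mem_bot] at h5
    calc a * b = a * b * a⁻¹ * b⁻¹ * (b * a) := by group
      _ = b * a := by rw [h5, one_mul]
  · rcases h4 with h4 | h4
    · right
      intro a ha b hb
      have : a ∈ A1 ⊓ A2 := by rw [h3]; exact ha
      rw [h4, mem_bot] at this
      rw [this]; group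
    · left
      rw [← h3, h4]

theorem mem_normalizer_of_conj [Finite G] {A : Subgroup G} {g : G} (h : ∀ a ∈ A, g * a * g⁻¹ ∈ A) :
    g ∈ normalizer (A : Set G) :=
  mem_normalizer_fintype h

theorem inv_comm {g x : G} (h : g * x = x * g) : g⁻¹ * x = x * g⁻¹ := by
  calc g⁻¹ * x = g⁻¹ * (x * g) * g⁻¹ := by group
    _ = g⁻¹ * (g * x) * g⁻¹ := by rw [h]
    _ = x * g⁻¹ := by group

namespace FD

variable {d : L} {B : Subgroup L} {e : L →* G}

theorem simple_map [Finite G] (F : FD d B) {e : L →* G} (h : Function.Injective e) {N : Subgroup G} (h1 : N ≤ B.map e)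
    (h2 : B.map e ≤ normalizer (N : Set G)) : N = ⊥ ∨ N = B.map e := by
  have h3 : (e.comp B.subtype).range = B.map e := by
    rw [MonoidHom.range_comp, range_subtype]
  rw [← h3] at h1 h2 ⊢
  exact simple_of_range F.simpleB (h.comp B.subtype_injective) h1 h2

/-- the key lemma: tight embedding of `C(d, B)` -/
theorem tight [Finite G] (F : FD d B) (h : Emb e)
    (nc : ∀ g, g * e d = e d * g → (∀ a ∈ B, ∀ b ∈ B, e a * (g * e b * g⁻¹) = (g * e b * g⁻¹) * e a) → False)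
    {x g : G} (hx : x ∈ CC e d B) (hx1 : x ≠ 1) (hx2 : x * x = 1) (hg : g * e d = e d * g)
    (hgx : g * x * g⁻¹ ∈ CC e d B) : ∀ b ∈ B, ∃ b' ∈ B, g * e b * g⁻¹ = e b' := by
  obtain ⟨c, hcC, hcK⟩ := F.conj_inv h hx hx2
  obtain ⟨c2, hc2C, hc2K⟩ := F.conj_inv h hgx (conj_sq hx2)
  obtain ⟨hcd, hcB⟩ := mem_CC.1 hcC
  obtain ⟨hc2d, hc2B⟩ := mem_CC.1 hc2C
  have h1 := h.cjh c⁻¹
  have h3 := h.cjh (c2 * g)⁻¹
  have hxK1 : x ∈ KK (cjh c⁻¹ e) := by
    rw [mem_KK_cjh, inv_inv]; exact hcK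
  have hxK3 : x ∈ KK (cjh (c2 * g)⁻¹ e) := by
    rw [mem_KK_cjh, inv_inv, show c2 * g * x * (c2 * g)⁻¹ = c2 * (g * x * g⁻¹) * c2⁻¹ by group]
    exact hc2K
  have hd1 : cjh c⁻¹ e d = e d := by
    rw [cjh_apply, inv_comm hcd]; group
  have hd3 : cjh (c2 * g)⁻¹ e d = e d := by
    have : c2 * g * e d = e d * (c2 * g) := by rw [mul_assoc, hg, ← mul_assoc, hc2d, mul_assoc]
    rw [cjh_apply, inv_comm this]; group
  have hb1 : ∀ b ∈ B, cjh c⁻¹ e b = e b := by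
    intro b hb
    rw [cjh_apply, inv_comm (hcB b hb)]; group
  have hb3 : ∀ b ∈ B, cjh (c2 * g)⁻¹ e b = g⁻¹ * e b * g := by
    intro b hb
    rw [cjh_apply]
    calc (c2 * g)⁻¹ * e b * ((c2 * g)⁻¹)⁻¹ = g⁻¹ * (c2⁻¹ * e b) * c2 * g := by group
      _ = g⁻¹ * e b * g := by rw [inv_comm (hc2B b hb)]; group
  have hcomm1 : ∀ b ∈ B, cjh c⁻¹ e b * e d = e d * cjh c⁻¹ e b := by
    intro b hb
    rw [← hd1, ← map_mul, ← map_mul, F.comm b hb]
  have hcomm3 : ∀ b ∈ B, cjh (c2 * g)⁻¹ e b * e d = e d * cjh (c2 * g)⁻¹ e b := by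
    intro b hb
    rw [← hd3, ← map_mul, ← map_mul, F.comm b hb]
  have n1 : B.map (cjh c⁻¹ e) ≤ normalizer ((B.map (cjh (c2 * g)⁻¹ e) : Subgroup G) : Set G) := by
    rintro _ ⟨a, ha, rfl⟩
    have hM : cjh c⁻¹ e a ∈ MM (cjh (c2 * g)⁻¹ e) := h3.nrm hxK3 hx1 hx2 (mem_KK.1 hxK1 a).symm
    refine mem_normalizer_of_conj ?_
    rintro _ ⟨b, hb, rfl⟩
    obtain ⟨b', hb', h4⟩ := F.norm_of_mem h3 hM (by rw [hd3]; exact hcomm1 a ha) hb
    exact ⟨b', hb', h4.symm⟩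
  have n3 : B.map (cjh (c2 * g)⁻¹ e) ≤ normalizer ((B.map (cjh c⁻¹ e) : Subgroup G) : Set G) := by
    rintro _ ⟨a, ha, rfl⟩
    have hM : cjh (c2 * g)⁻¹ e a ∈ MM (cjh c⁻¹ e) := h1.nrm hxK1 hx1 hx2 (mem_KK.1 hxK3 a).symm
    refine mem_normalizer_of_conj ?_
    rintro _ ⟨b, hb, rfl⟩
    obtain ⟨b', hb', h4⟩ := F.norm_of_mem h1 hM (by rw [hd1]; exact hcomm3 a ha) hb
    exact ⟨b', hb', h4.symm⟩
  rcases eq_or_comm (fun N => F.simple_map h1.inj) (fun N => F.simple_map h3.inj) n1 n3 with h5 | h5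
  · intro b hb
    have h6 : e b ∈ B.map (cjh c⁻¹ e) := ⟨b, hb, hb1 b hb⟩
    rw [h5] at h6
    obtain ⟨b', hb', h7⟩ := h6
    refine ⟨b', hb', ?_⟩
    rw [← h7, hb3 b' hb']; group
  · exfalso
    refine nc g⁻¹ (inv_comm hg) fun a ha b hb => ?_
    have h6 := h5 (e a) ⟨a, ha, hb1 a ha⟩ (g⁻¹ * e b * g) ⟨b, hb, hb3 b hb⟩
    rw [inv_inv]
    exact h6

/-- `N_H(B) = B C_H(B)` -/
theorem mu_one [Finite G] (F : FD d B) (h : Emb e) {g : G} (hg : g * e d = e d * g)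
    (hgB : ∀ b ∈ B, ∃ b' ∈ B, g * e b * g⁻¹ = e b') : ∃ k ∈ CC e d B, ∃ c ∈ B, g = e c * k := by
  obtain ⟨t, ht, ht1, ht2⟩ := h.even
  have hgC : g * t * g⁻¹ ∈ CC e d B := by
    rw [mem_CC]
    refine ⟨?_, ?_⟩
    · exact conj_comm hg (mem_KK.1 ht d)
    · -- `g` permutes `e B`
      have hinj : Function.Injective (fun b : B => (⟨(hgB b b.2).choose, (hgB b b.2).choose_spec.1⟩ : B)) := by
        intro a b hab
        have h1 := (hgB a a.2).choose_spec.2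
        have h2 := (hgB b b.2).choose_spec.2
        have h3 : (hgB a a.2).choose = (hgB b b.2).choose := congrArg Subtype.val hab
        rw [h3, ← h2, mul_left_inj, mul_right_inj] at h1
        exact Subtype.ext (h.inj h1)
      intro b hb
      have : Finite B := Finite.of_injective (fun b : B => e b) fun a b hab => Subtype.ext (h.inj hab)
      obtain ⟨a, ha⟩ := (Finite.injective_iff_surjective.1 hinj) ⟨b, hb⟩
      have h2 := (hgB a a.2).choose_spec.2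
      have h3 : (hgB a a.2).choose = b := congrArg Subtype.val ha
      rw [h3] at h2
      rw [← h2]
      calc g * t * g⁻¹ * (g * e a * g⁻¹) = g * (t * e a) * g⁻¹ := by group
        _ = g * (e a * t) * g⁻¹ := by rw [mem_KK.1 ht]
        _ = g * e a * g⁻¹ * (g * t * g⁻¹) := by group
  obtain ⟨c, hcC, hcK⟩ := F.conj_inv h hgC (conj_sq ht2)
  obtain ⟨hcd, hcB⟩ := mem_CC.1 hcC
  have hM : c * g ∈ MM e := by
    refine h.key t (c * g) ht ht1 ht2 ?_
    rw [show c * g * t * (c * g)⁻¹ = c * (g * t * g⁻¹) * c⁻¹ by group]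
    exact hcK
  obtain ⟨k, hk, i, b, hb, hcg⟩ := F.exists_of_comm h hM (by rw [mul_assoc, hg, ← mul_assoc, hcd, mul_assoc])
  have hkC : k ∈ CC e d B := KK_le_CC _ _ hk
  have hdC : e (d ^ i) ∈ CC e d B := by
    rw [mem_CC]
    refine ⟨?_, fun a ha => ?_⟩
    · rw [← map_mul, ← map_mul, ← pow_succ, ← pow_succ']
    · rw [← map_mul, ← map_mul, F.powComm i ha]
  have hcomm : ∀ x ∈ CC e d B, x * e b = e b * x := fun x hx => (mem_CC.1 hx).2 b hb
  refine ⟨c⁻¹ * (k * e (d ^ i)), mul_mem (inv_mem hcC) (mul_mem hkC hdC), b, hb, ?_⟩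
  rw [← hcomm _ (mul_mem (inv_mem hcC) (mul_mem hkC hdC))]
  calc g = c⁻¹ * (c * g) := by group
    _ = c⁻¹ * (k * e (d ^ i)) * e b := by rw [hcg, map_mul]; group

end FD

/-- the centralizer of the 5-element -/
def HH (e : L →* G) (d : L) : Subgroup G := centralizer ({e d} : Set G)

theorem mem_HH {e : L →* G} {d : L} {g : G} : g ∈ HH e d ↔ g * e d = e d * g :=
  mem_centralizer_singleton_iff

/-- the subgroup `K × ⟨d⟩` of `H` -/
def KD (e : L →* G) (d : L) (hd : d ^ 5 = 1) : Subgroup (HH e d) where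
  carrier := {x | ∃ k ∈ KK e, ∃ i : ℕ, (x : G) = k * e (d ^ i)}
  one_mem' := ⟨1, one_mem _, 0, by simp⟩
  mul_mem' := by
    rintro a b ⟨k, hk, i, ha⟩ ⟨l, hl, j, hb⟩
    refine ⟨k * l, mul_mem hk hl, i + j, ?_⟩
    rw [Subgroup.coe_mul, ha, hb, pow_add, map_mul]
    calc k * e (d ^ i) * (l * e (d ^ j)) = k * (e (d ^ i) * l) * e (d ^ j) := by group
      _ = k * l * (e (d ^ i) * e (d ^ j)) := by rw [← mem_KK.1 hl]; group
  inv_mem' := by
    rintro a ⟨k, hk, i, ha⟩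
    refine ⟨k⁻¹, inv_mem hk, 4 * i, ?_⟩
    have h1 : d ^ (4 * i) = (d ^ i)⁻¹ := by
      rw [eq_inv_iff_mul_eq_one, ← pow_add, show 4 * i + i = 5 * i by ring, pow_mul, hd, one_pow]
    rw [Subgroup.coe_inv, ha, h1, mul_inv_rev, ← map_inv, ← mem_KK.1 (inv_mem hk)]

theorem mem_KD {e : L →* G} {d : L} {hd : d ^ 5 = 1} {x : HH e d} :
    x ∈ KD e d hd ↔ ∃ k ∈ KK e, ∃ i : ℕ, (x : G) = k * e (d ^ i) := Iff.rfl

namespace FD

variable {d : L} {B : Subgroup L} {e : L →* G}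

/-- `B → H` -/
def eH (F : FD d B) (e : L →* G) : B →* HH e d :=
  (e.comp B.subtype).codRestrict (HH e d) fun b => by
    rw [mem_HH]
    change e b * e d = e d * e b
    rw [← map_mul, ← map_mul, F.comm b b.2]

@[simp] theorem coe_eH (F : FD d B) (b : B) : (F.eH e b : G) = e b := rfl

theorem eH_inj (F : FD d B) (h : Function.Injective e) : Function.Injective (F.eH e) := by
  intro a b hab
  have h1 : e a = e b := congrArg Subtype.val hab
  exact Subtype.ext (h h1)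

/-- `A ≤ H` -/
def AH (F : FD d B) (e : L →* G) : Subgroup (HH e d) := (F.eH e).range

theorem mem_AH (F : FD d B) {x : HH e d} : x ∈ F.AH e ↔ ∃ b ∈ B, (x : G) = e b := by
  constructor
  · rintro ⟨b, rfl⟩
    exact ⟨b, b.2, rfl⟩
  · rintro ⟨b, hb, h⟩
    exact ⟨⟨b, hb⟩, Subtype.ext h.symm⟩

theorem mem_centralizer_AH (F : FD d B) {x : HH e d} :
    x ∈ centralizer (F.AH e : Set (HH e d)) ↔ (x : G) ∈ CC e d B := by
  rw [mem_centralizer_iff, mem_CC]
  constructor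
  · intro hx
    refine ⟨mem_HH.1 x.2, fun b hb => ?_⟩
    exact (congrArg Subtype.val (hx (F.eH e ⟨b, hb⟩) ⟨_, rfl⟩)).symm
  · rintro ⟨-, hx⟩ _ ⟨b, rfl⟩
    exact Subtype.ext (hx b b.2).symm

theorem mem_normalizer_AH [Finite G] (F : FD d B) {x : HH e d} :
    x ∈ normalizer (F.AH e : Set (HH e d)) ↔ ∀ b ∈ B, ∃ b' ∈ B, (x : G) * e b * (x : G)⁻¹ = e b' := by
  constructor
  · intro hx b hb
    have h1 := (mem_normalizer_iff.1 hx (F.eH e ⟨b, hb⟩)).1 ⟨_, rfl⟩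
    exact F.mem_AH.1 h1
  · intro hx
    refine mem_normalizer_fintype ?_
    rintro _ ⟨b, rfl⟩
    exact F.mem_AH.2 (hx b b.2)

theorem disj_odd [Finite G] (F : FD d B) (h : Emb e) {O : Subgroup (HH e d)} (hO : O.Normal)
    (hodd : Odd (Nat.card O)) {x : HH e d} (h1 : x ∈ O) (h2 : x ∈ F.AH e) : x = 1 := by
  have h3 : O ⊓ F.AH e = ⊥ ∨ O ⊓ F.AH e = F.AH e := by
    refine simple_of_range F.simpleB (F.eH_inj h.inj) inf_le_right ?_
    intro a ha
    refine mem_normalizer_fintype ?_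
    rintro y ⟨hy1, hy2⟩
    exact ⟨hO.conj_mem y hy1 a, (F.AH e).mul_mem ((F.AH e).mul_mem ha hy2) ((F.AH e).inv_mem ha)⟩
  rcases h3 with h3 | h3
  · have : x ∈ O ⊓ F.AH e := ⟨h1, h2⟩
    rwa [h3, mem_bot] at this
  · exfalso
    obtain ⟨t, ht, ht1, ht2⟩ := F.inv
    have h4 : F.eH e ⟨t, ht⟩ ∈ O := by
      have : F.eH e ⟨t, ht⟩ ∈ O ⊓ F.AH e := by rw [h3]; exact ⟨_, rfl⟩
      exact this.1
    have h5 : orderOf (⟨_, h4⟩ : O) ∣ Nat.card O := orderOf_dvd_natCard _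
    have h6 : orderOf (⟨_, h4⟩ : O) = 2 := by
      rw [orderOf_mk]
      refine orderOf_eq_prime ?_ ?_
      · rw [← map_pow]
        have : (⟨t, ht⟩ : B) ^ 2 = 1 := Subtype.ext (by rw [pow_two]; exact ht2)
        rw [this, map_one]
      · intro h7
        have := F.eH_inj h.inj (h7.trans (map_one _).symm)
        exact ht1 (congrArg Subtype.val this)
    rw [h6] at h5
    exact (Nat.not_even_iff_odd.2 hodd) (even_iff_two_dvd.2 h5)

/-- an odd normal subgroup of `H` is contained in `K × ⟨d⟩` -/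
theorem odd_le_KD [Finite G] (F : FD d B) (h : Emb e) (hr : ¬ PRankLE 2 1 (KK e)) {O : Subgroup (HH e d)}
    (hO : O.Normal) (hodd : Odd (Nat.card O)) : O ≤ KD e d F.d5 := by
  have key : ∀ v : HH e d, (v : G) ∈ KK e → v ≠ 1 → v * v = 1 →
      O ⊓ centralizer {v} ≤ KD e d F.d5 := by
    rintro v hv hv1 hv2 o ⟨ho, hov⟩
    have hov' : (o : G) * v = v * o := congrArg Subtype.val (mem_centralizer_singleton_iff.1 hov)
    have hM : (o : G) ∈ MM e := h.nrm hv (fun h1 => hv1 (Subtype.ext h1)) (congrArg Subtype.val hv2) hov'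
    have hC : (o : G) ∈ CC e d B := by
      rw [mem_CC]
      refine ⟨mem_HH.1 o.2, fun b hb => ?_⟩
      obtain ⟨b', hb', h1⟩ := F.norm_of_mem h hM (mem_HH.1 o.2) hb
      have h2 : o * F.eH e ⟨b, hb⟩ * o⁻¹ * (F.eH e ⟨b, hb⟩)⁻¹ = 1 := by
        refine F.disj_odd h hO hodd ?_ ?_
        · rw [show o * F.eH e ⟨b, hb⟩ * o⁻¹ * (F.eH e ⟨b, hb⟩)⁻¹ =
            o * (F.eH e ⟨b, hb⟩ * o⁻¹ * (F.eH e ⟨b, hb⟩)⁻¹) by group]
          exact O.mul_mem ho (hO.conj_mem _ (O.inv_mem ho) _)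
        · refine (F.AH e).mul_mem ?_ ((F.AH e).inv_mem ⟨_, rfl⟩)
          exact F.mem_AH.2 ⟨b', hb', h1⟩
      have h3 : (o : G) * e b * (o : G)⁻¹ * (e b)⁻¹ = 1 := congrArg Subtype.val h2
      calc (o : G) * e b = (o : G) * e b * (o : G)⁻¹ * (e b)⁻¹ * (e b * o) := by group
        _ = e b * o := by rw [h3, one_mul]
    exact F.exists_of_CC h hM hC
  obtain ⟨x, y, hx1, hy1, hxy, hx2, hy2, hc⟩ := exists_klein hr
  have hmem : ∀ k ∈ KK e, k ∈ HH e d := fun k hk => mem_HH.2 (mem_KK.1 hk d)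
  let x' : HH e d := ⟨x, hmem x x.2⟩
  let y' : HH e d := ⟨y, hmem y y.2⟩
  have gx2 : (x : G) * x = 1 := congrArg Subtype.val hx2
  have gy2 : (y : G) * y = 1 := congrArg Subtype.val hy2
  have gc : (x : G) * y = y * x := congrArg Subtype.val hc
  have hx2' : x' * x' = 1 := Subtype.ext gx2
  have hy2' : y' * y' = 1 := Subtype.ext gy2
  have hc' : x' * y' = y' * x' := Subtype.ext gc
  have hx1' : x' ≠ 1 := by
    intro h1
    have h2 : (x : G) = 1 := congrArg Subtype.val h1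
    exact hx1 (Subtype.ext h2)
  have hy1' : y' ≠ 1 := by
    intro h1
    have h2 : (y : G) = 1 := congrArg Subtype.val h1
    exact hy1 (Subtype.ext h2)
  refine Cfsg.Agent.Lib.KleinGen.le_of_klein O (KD e d F.d5) hodd x' y' hx2' hy2' hc'
    (fun a ha => hO.conj_mem a ha _) (fun a ha => hO.conj_mem a ha _) (key x' x.2 hx1' hx2')
    (key y' y.2 hy1' hy2') (key (x' * y') (mul_mem x.2 y.2) ?_ ?_)
  · intro h1
    apply hxy
    have h2 : y' = x' := by
      calc y' = x' * (x' * y') := by rw [← mul_assoc, hx2', one_mul]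
        _ = x' := by rw [h1, mul_one]
    have h3 : (y : G) = x := congrArg (Subtype.val : HH e d → G) h2
    exact (Subtype.ext h3).symm
  · calc x' * y' * (x' * y') = x' * (y' * x') * y' := by group
      _ = (x' * x') * (y' * y') := by rw [← hc']; group
      _ = 1 := by rw [hx2', hy2', one_mul]

theorem KD_le (F : FD d B) {x : HH e d} (hx : x ∈ KD e d F.d5) : (x : G) ∈ CC e d B := by
  obtain ⟨k, hk, i, h1⟩ := hx
  rw [h1]
  refine mul_mem (KK_le_CC _ _ hk) ?_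
  rw [mem_CC]
  refine ⟨?_, fun a ha => ?_⟩
  · rw [← map_mul, ← map_mul, ← pow_succ, ← pow_succ']
  · rw [← map_mul, ← map_mul, F.powComm i ha]

theorem ctx [Finite G] (F : FD d B) (h : Emb e) (hr : ¬ PRankLE 2 1 (KK e)) {O : Subgroup (HH e d)}
    (hO : O.Normal) (hodd : Odd (Nat.card O)) : StdQuot.Ctx (F.AH e) O where
  simple N h1 h2 := simple_of_range F.simpleB (F.eH_inj h.inj) h1 h2
  nonab := by
    obtain ⟨a, ha, b, hb, hab⟩ := F.nonab
    refine ⟨F.eH e ⟨a, ha⟩, ⟨_, rfl⟩, F.eH e ⟨b, hb⟩, ⟨_, rfl⟩, fun h1 => hab ?_⟩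
    have h2 : e a * e b = e b * e a := congrArg Subtype.val h1
    rw [← map_mul, ← map_mul] at h2
    exact h.inj h2
  inv := by
    obtain ⟨t, ht, ht1, ht2⟩ := F.inv
    refine ⟨F.eH e ⟨t, ht⟩, ⟨_, rfl⟩, fun h1 => ht1 ?_, ?_⟩
    · exact h.inj ((congrArg Subtype.val h1).trans (map_one e).symm)
    · rw [← map_mul]
      have : (⟨t, ht⟩ : B) * ⟨t, ht⟩ = 1 := Subtype.ext ht2
      rw [this, map_one]
  normal := hO
  odd := hodd
  cent := by
    intro o ho a ha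
    have h1 := F.KD_le (F.odd_le_KD h hr hO hodd ho)
    obtain ⟨b, hb, h2⟩ := F.mem_AH.1 ha
    apply Subtype.ext
    rw [Subgroup.coe_mul, Subgroup.coe_mul, h2]
    exact (mem_CC.1 h1).2 b hb

/-- `A` is standard modulo `O` -/
theorem isStandard [Finite G] (F : FD d B) (h : Emb e) (hr : ¬ PRankLE 2 1 (KK e)) {O : Subgroup (HH e d)}
    [hO : O.Normal] (hodd : Odd (Nat.card O))
    (nc : ∀ g, g * e d = e d * g → (∀ a ∈ B, ∀ b ∈ B, e a * (g * e b * g⁻¹) = (g * e b * g⁻¹) * e a) → False) :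
    IsStandardSubgroup ((F.AH e).map (QuotientGroup.mk' O)) := by
  refine (F.ctx h hr hO hodd).isStandard_map ?_ ?_ ?_
  · intro x g hx hx1 hx2 hgx
    rw [F.mem_centralizer_AH] at hx hgx
    refine F.mem_normalizer_AH.2 (F.tight h nc hx ?_ ?_ (mem_HH.1 g.2) hgx)
    · exact fun h1 => hx1 (Subtype.ext h1)
    · exact congrArg Subtype.val hx2
  · intro g hg
    refine nc g (mem_HH.1 g.2) fun a ha b hb => ?_
    exact congrArg Subtype.val (hg (F.eH e ⟨a, ha⟩) ⟨_, rfl⟩ (F.eH e ⟨b, hb⟩) ⟨_, rfl⟩)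
  · obtain ⟨t, ht, ht1, ht2⟩ := h.even
    refine ⟨⟨t, mem_HH.2 (mem_KK.1 ht d)⟩, F.mem_centralizer_AH.2 (KK_le_CC _ _ ht), fun h1 => ht1 ?_, Subtype.ext ht2⟩
    exact congrArg Subtype.val h1

end FD

end Cfsg.Agent.StdG24
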