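import Mathlib
import Cfsg.Agent.StdG24.Tri
import Cfsg.Agent.StdG24.AutA5
import Cfsg.Agent.StdAlt.Five.MkOdd
import Cfsg.Agent.StdAlt.Five.MkTwo
import Cfsg.Agent.StdAlt.First

/-!
# Step 2: the odd configuration in the centralizer of a 5-element
-/

set_option autoImplicit false

namespace Cfsg.Agent.StdG24

open Subgroup Cfsg Cfsg.Agent.StdAlt Cfsg.Agent.StdAlt.Conj Cfsg.Agent.StdAlt.Pairs Cfsg.Agent.StdAlt.First
  Cfsg.Agent.StdAlt.Five

variable {L : Type*} [Group L] {G : Type*} [Group G]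

namespace OddPair

theorem four_dvd {K : Type*} [Group K] [Finite K] (h : ¬ PRankLE 2 1 K) : 4 ∣ Nat.card K := by
  rw [PRankLE] at h
  push Not at h
  obtain ⟨A, hA, h2, hc⟩ := h
  have hp : IsPGroup 2 A := by
    rintro ⟨a, ha⟩
    exact ⟨1, Subtype.ext (by rw [pow_one]; exact h2 a ha)⟩
  have : Fact (Nat.Prime 2) := ⟨Nat.prime_two⟩
  obtain ⟨n, hn⟩ := IsPGroup.iff_card.1 hp
  have h3 : 2 ≤ n := by
    by_contra hlt
    have : n = 0 ∨ n = 1 := by omega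
    rcases this with rfl | rfl
    · rw [hn] at hc; norm_num at hc
    · rw [hn] at hc; norm_num at hc
  refine Dvd.dvd.trans ?_ (card_subgroup_dvd_card A)
  rw [hn, show (4 : ℕ) = 2 ^ 2 by norm_num]
  exact pow_dvd_pow 2 h3

theorem card_map_of_disj {H : Type*} [Group H] {O T : Subgroup H} [O.Normal] (h : ∀ x ∈ T, x ∈ O → x = 1) :
    Nat.card (T.map (QuotientGroup.mk' O)) = Nat.card T := by
  refine (Nat.card_congr (Equiv.ofBijective ((QuotientGroup.mk' O).subgroupMap T)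
    ⟨?_, MonoidHom.subgroupMap_surjective _ _⟩)).symm
  rw [injective_iff_map_eq_one]
  intro a ha
  have h1 : QuotientGroup.mk' O (a : H) = 1 := congrArg Subtype.val ha
  rw [← MonoidHom.mem_ker, QuotientGroup.ker_mk'] at h1
  exact Subtype.ext (h a a.2 h1)

theorem eq_one_of_odd {H : Type*} [Group H] [Finite H] {O T : Subgroup H} (hO : Odd (Nat.card O))
    (hT : IsPGroup 2 T) {x : H} (h1 : x ∈ T) (h2 : x ∈ O) : x = 1 := by
  obtain ⟨k, hk⟩ := hT ⟨x, h1⟩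
  have h3 : x ^ 2 ^ k = 1 := congrArg Subtype.val hk
  have h4 : orderOf x ∣ Nat.card O := by
    have := orderOf_dvd_natCard (⟨x, h2⟩ : O)
    rwa [orderOf_mk] at this
  have h5 : Nat.Coprime (Nat.card O) (2 ^ k) := (Nat.coprime_two_right.2 hO).pow_right k
  exact orderOf_eq_one_iff.1 (Nat.eq_one_of_dvd_coprimes h5 h4 (orderOf_dvd_of_pow_eq_one h3))

theorem cj_one {H : Type*} [Group H] (A : Subgroup H) : Conj.cj 1 A = A := by
  ext x
  rw [mem_cj, inv_one, one_mul, mul_one]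

end OddPair

open OddPair

namespace FD

variable {d : L} {B : Subgroup L} {e : L →* G}

/-- two involutions of `B` are conjugate in `B` -/
theorem exists_conj_inv (F : FD d B) {a b : L} (ha : a ∈ B) (ha1 : a ≠ 1) (haa : a * a = 1) (hb : b ∈ B)
    (hb1 : b ≠ 1) (hbb : b * b = 1) : ∃ s ∈ B, s * a * s⁻¹ = b := by
  obtain ⟨φ⟩ := F.iso
  have key : ∀ x : L, ∀ hx : x ∈ B, x ≠ 1 → x * x = 1 → ((φ ⟨x, hx⟩ : alternatingGroup (Fin 5)) : Equiv.Perm (Fin 5)) ≠ 1 ∧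
      ((φ ⟨x, hx⟩ : alternatingGroup (Fin 5)) : Equiv.Perm (Fin 5)) * (φ ⟨x, hx⟩ : alternatingGroup (Fin 5)) = 1 := by
    intro x hx hx1 hxx
    refine ⟨fun h => hx1 ?_, ?_⟩
    · have h1 : φ ⟨x, hx⟩ = 1 := Subtype.ext h
      exact congrArg Subtype.val ((MulEquiv.map_eq_one_iff φ).1 h1)
    · have h1 : φ ⟨x, hx⟩ * φ ⟨x, hx⟩ = 1 := by
        rw [← map_mul]
        have : (⟨x, hx⟩ : B) * ⟨x, hx⟩ = 1 := Subtype.ext hxx
        rw [this, map_one]
      exact congrArg Subtype.val h1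
  obtain ⟨ka1, kaa⟩ := key a ha ha1 haa
  obtain ⟨kb1, kbb⟩ := key b hb hb1 hbb
  obtain ⟨s, hs⟩ := AutA5.normV _ (Equiv.Perm.mem_alternatingGroup.1 (φ ⟨a, ha⟩).2) ka1 kaa
  obtain ⟨t, ht⟩ := AutA5.normV _ (Equiv.Perm.mem_alternatingGroup.1 (φ ⟨b, hb⟩).2) kb1 kbb
  have hc : (Equiv.swap 0 1 : Equiv.Perm (Fin 5)) * AutA5.a0 * (Equiv.swap 0 1)⁻¹ = AutA5.a0 := by decide
  have hex : ∃ r : Equiv.Perm (Fin 5), Equiv.Perm.sign r = 1 ∧
      r * (φ ⟨a, ha⟩ : alternatingGroup (Fin 5)) * r⁻¹ = (φ ⟨b, hb⟩ : alternatingGroup (Fin 5)) := by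
    rcases Int.units_eq_one_or (Equiv.Perm.sign (t⁻¹ * s)) with h | h
    · refine ⟨t⁻¹ * s, h, ?_⟩
      rw [show t⁻¹ * s * ((φ ⟨a, ha⟩ : alternatingGroup (Fin 5)) : Equiv.Perm (Fin 5)) * (t⁻¹ * s)⁻¹ =
        t⁻¹ * (s * ((φ ⟨a, ha⟩ : alternatingGroup (Fin 5)) : Equiv.Perm (Fin 5)) * s⁻¹) * t by group, hs, ← ht]
      group
    · refine ⟨t⁻¹ * Equiv.swap 0 1 * s, ?_, ?_⟩
      · rw [map_mul, map_mul, Equiv.Perm.sign_swap (by decide)]
        rw [map_mul] at h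
        rw [mul_right_comm, h]
        rfl
      · rw [show t⁻¹ * Equiv.swap 0 1 * s * ((φ ⟨a, ha⟩ : alternatingGroup (Fin 5)) : Equiv.Perm (Fin 5)) *
          (t⁻¹ * Equiv.swap 0 1 * s)⁻¹ =
          t⁻¹ * (Equiv.swap 0 1 * (s * ((φ ⟨a, ha⟩ : alternatingGroup (Fin 5)) : Equiv.Perm (Fin 5)) * s⁻¹) * (Equiv.swap 0 1)⁻¹) * t by group,
          hs, hc, ← ht]
        group
  obtain ⟨r, hr, hr2⟩ := hex
  let r' : alternatingGroup (Fin 5) := ⟨r, Equiv.Perm.mem_alternatingGroup.2 hr⟩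
  have h1 : r' * φ ⟨a, ha⟩ * r'⁻¹ = φ ⟨b, hb⟩ := Subtype.ext hr2
  refine ⟨φ.symm r', (φ.symm r').2, ?_⟩
  have h2 : φ.symm r' * ⟨a, ha⟩ * (φ.symm r')⁻¹ = ⟨b, hb⟩ := by
    apply φ.injective
    rw [map_mul, map_mul, map_inv, MulEquiv.apply_symm_apply, h1]
  exact congrArg Subtype.val h2

/-- non-commuting -/
def NC (d : L) (B : Subgroup L) (e : L →* G) : Prop :=
  ∀ g, g * e d = e d * g → (∀ a ∈ B, ∀ b ∈ B, e a * (g * e b * g⁻¹) = (g * e b * g⁻¹) * e a) → False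

theorem te [Finite G] (F : FD d B) (h : Emb e) (nc : NC d B e) : TE (F.AH e) := by
  refine ⟨fun k g hk h1 h2 hg => ?_, fun a ha hac => ?_, ?_⟩
  · have hk' := F.mem_centralizer_AH.1 hk
    have hg' := F.mem_centralizer_AH.1 hg
    refine F.mem_normalizer_AH.2 (F.tight h nc hk' ?_ ?_ (mem_HH.1 g.2) hg')
    · exact fun h3 => h1 (Subtype.ext h3)
    · exact congrArg Subtype.val h2
  · obtain ⟨b, hb, h1⟩ := F.mem_AH.1 ha
    have h2 := F.mem_centralizer_AH.1 hac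
    have h3 : b = 1 := by
      apply F.cent b hb
      intro c hc
      have h4 := (mem_CC.1 h2).2 c hc
      rw [h1, ← map_mul, ← map_mul] at h4
      exact h.inj h4
    apply Subtype.ext
    rw [h1, h3, map_one]
    rfl
  · rintro B' ⟨g, hg⟩ hle
    refine nc g (mem_HH.1 g.2) fun a ha b hb => ?_
    have h1 : F.eH e ⟨a, ha⟩ ∈ C B' := hle ⟨_, rfl⟩
    have h2 : g * F.eH e ⟨b, hb⟩ * g⁻¹ ∈ B' := (hg _).1 ⟨_, rfl⟩
    exact congrArg Subtype.val (mem_C.1 h1 _ h2)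

theorem iso_AH (F : FD d B) (h : Emb e) : Nonempty (F.AH e ≃* alternatingGroup (Fin 5)) := by
  obtain ⟨φ⟩ := F.iso
  exact ⟨(MonoidHom.ofInjective (F.eH_inj h.inj)).symm.trans φ⟩

/-- elements of `K` in `H` -/
def kH (e : L →* G) (d : L) (k : G) (hk : k ∈ KK e) : HH e d := ⟨k, mem_HH.2 (mem_KK.1 hk d)⟩

theorem hasFour [Finite G] (F : FD d B) (hr : ¬ PRankLE 2 1 (KK e)) : Two.HasFour (F.AH e) := by
  obtain ⟨x, y, hx1, hy1, hxy, hx2, hy2, hc⟩ := exists_klein hr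
  have gx2 : (x : G) * x = 1 := congrArg Subtype.val hx2
  have gy2 : (y : G) * y = 1 := congrArg Subtype.val hy2
  have gc : (x : G) * y = y * x := congrArg Subtype.val hc
  refine ⟨kH e d x x.2, F.mem_centralizer_AH.2 (KK_le_CC _ _ x.2), kH e d y y.2,
    F.mem_centralizer_AH.2 (KK_le_CC _ _ y.2), ?_, ?_, ?_, Subtype.ext gx2, Subtype.ext gy2, Subtype.ext gc.symm⟩
  · intro h1
    have h2 : (x : G) = 1 := congrArg (Subtype.val : HH e d → G) h1
    exact hx1 (Subtype.ext h2)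
  · intro h1
    have h2 : (y : G) = 1 := congrArg (Subtype.val : HH e d → G) h1
    exact hy1 (Subtype.ext h2)
  · intro h1
    have h2 : (y : G) = x := congrArg (Subtype.val : HH e d → G) h1
    exact hxy (Subtype.ext h2).symm

/-- `N_H(A) = A C_H(A)` -/
theorem mu_one' [Finite G] (F : FD d B) (h : Emb e) {x : HH e d} (hx : x ∈ N (F.AH e)) :
    ∃ a ∈ F.AH e, ∃ k ∈ C (F.AH e), x = a * k := by
  obtain ⟨k, hk, c, hc, h1⟩ := F.mu_one h (mem_HH.1 x.2) (F.mem_normalizer_AH.1 hx)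
  refine ⟨F.eH e ⟨c, hc⟩, ⟨_, rfl⟩, (F.eH e ⟨c, hc⟩)⁻¹ * x, ?_, by group⟩
  rw [F.mem_centralizer_AH]
  have h2 : (((F.eH e ⟨c, hc⟩)⁻¹ * x : HH e d) : G) = k := by
    change (e c)⁻¹ * (x : G) = k
    rw [h1]; group
  rw [h2]
  exact hk

/-- a good pair exists -/
theorem good [Finite G] (F : FD d B) (h : Emb e) (hr : ¬ PRankLE 2 1 (KK e)) (nc : NC d B e)
    (nn : ∃ g, g * e d = e d * g ∧ ∃ b ∈ B, ∀ b' ∈ B, g * e b * g⁻¹ ≠ e b')
    (hcomm : CommHalf (HH e d ⧸ oddCore (HH e d))) : Good (F.AH e) := by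
  have hO : (oddCore (HH e d)).Normal := Lib.Cores.pPrimeCore_normal 2
  have hodd : Odd (Nat.card (oddCore (HH e d))) :=
    Nat.coprime_two_right.1 (Lib.Cores.pPrimeCore_coprime (G := HH e d) 2)
  have ctx := F.ctx h hr hO hodd
  have hst := F.isStandard h hr hodd nc (O := oddCore (HH e d))
  set π := QuotientGroup.mk' (oddCore (HH e d)) with hπ
  set A' := (F.AH e).map π with hA'
  have hsA : IsSimpleGroup (F.AH e) := by
    have h1 : (F.eH e).range = F.AH e := rfl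
    have := F.simpleB
    exact (MonoidHom.ofInjective (F.eH_inj h.inj)).symm.isSimpleGroup
  have hsA' : IsSimpleGroup A' := ctx.equivMap.symm.isSimpleGroup
  have hTE : TE A' := TE.of_standard hst hsA'
  have hCA : ∀ x : HH e d, π x ∈ C A' ↔ x ∈ C (F.AH e) := fun x => ctx.mem_centralizer_map
  have hNA : ∀ x : HH e d, π x ∈ N A' ↔ x ∈ N (F.AH e) := fun x => ctx.mem_normalizer_map
  -- `Outer` is void
  have hout : Outer A' := by
    intro y hy _ _ hno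
    exfalso
    obtain ⟨x, rfl⟩ := QuotientGroup.mk'_surjective _ y
    obtain ⟨a, ha, k, hk, rfl⟩ := F.mu_one' h ((hNA x).1 hy)
    refine hno (π a⁻¹) ⟨a⁻¹, inv_mem ha, rfl⟩ ?_
    rw [← map_mul, hCA, show a⁻¹ * (a * k) = k by group]
    exact hk
  -- 4 divides the order of the centralizer
  have h4 : 4 ∣ Nat.card (C A') := by
    have h5 : 4 ∣ Nat.card (C (F.AH e)) := by
      refine (four_dvd hr).trans ?_
      let f : KK e →* C (F.AH e) :=
        { toFun := fun k => ⟨kH e d k k.2, F.mem_centralizer_AH.2 (KK_le_CC _ _ k.2)⟩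
          map_one' := rfl
          map_mul' := fun _ _ => rfl }
      refine card_dvd_of_injective f fun a b hab => ?_
      have h6 : (a : G) = b := congrArg (fun x : C (F.AH e) => ((x : HH e d) : G)) hab
      exact Subtype.ext h6
    obtain ⟨T, hT, hT4⟩ := exists_card_four h5
    have hTp := isPGroup_four hT4
    have h6 : Nat.card (T.map π) = 4 := by
      rw [← hT4]
      exact card_map_of_disj fun x hx hxO => eq_one_of_odd hodd hTp hx hxO
    rw [← h6]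
    refine card_dvd_of_le ?_
    rintro _ ⟨t, ht, rfl⟩
    exact (hCA t).2 (hT ht)
  obtain ⟨t, htA, ht1, htt⟩ := F.inv
  have htO : π (F.eH e ⟨t, htA⟩) ≠ 1 := by
    intro h1
    have h2 : F.eH e ⟨t, htA⟩ ∈ oddCore (HH e d) := by
      rw [← QuotientGroup.ker_mk' (oddCore (HH e d)), MonoidHom.mem_ker]
      exact h1
    have h3 := F.disj_odd h hO hodd h2 ⟨_, rfl⟩
    have h4 : e t = 1 := congrArg Subtype.val h3
    exact ht1 (h.inj (h4.trans (map_one e).symm))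
  have hts : π (F.eH e ⟨t, htA⟩) * π (F.eH e ⟨t, htA⟩) = 1 := by
    rw [← map_mul, ← map_mul]
    have : (⟨t, htA⟩ : B) * ⟨t, htA⟩ = 1 := Subtype.ext htt
    rw [this, map_one, map_one]
  rcases normal_or_good hTE hsA' hcomm hout h4 (s := π (F.eH e ⟨t, htA⟩)) ⟨_, ⟨_, rfl⟩, rfl⟩ htO hts with hn | hg
  · exfalso
    obtain ⟨g, hg, b, hb, hne⟩ := nn
    have h1 : π ⟨g, mem_HH.2 hg⟩ ∈ N A' := by
      rw [show N A' = ⊤ from normalizer_eq_top_iff.2 hn]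
      trivial
    obtain ⟨b', hb', h2⟩ := F.mem_normalizer_AH.1 ((hNA _).1 h1) b hb
    exact hne b' hb' h2
  · obtain ⟨B', hB', hne, hB4⟩ := hg
    obtain ⟨gq, rfl⟩ := hB'.exists_eq
    obtain ⟨g, rfl⟩ := QuotientGroup.mk'_surjective _ gq
    have hNB : ∀ x : HH e d, π x ∈ N (Conj.cj (π g) A') ↔ x ∈ N (Conj.cj g (F.AH e)) := by
      intro x
      have e1 : ∀ (X : Type _) [Group X] (A : Subgroup X) (g x : X), x ∈ N (Conj.cj g A) ↔ g⁻¹ * x * g ∈ N A := by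
        intro X _ A g x
        rw [← cj_eq_iff, ← cj_eq_iff, cj_cj]
        constructor
        · intro h1
          have h2 := congrArg (Conj.cj g⁻¹) h1
          rw [cj_cj, cj_cj, ← mul_assoc, inv_mul_cancel, OddPair.cj_one] at h2
          exact h2
        · intro h1
          have h2 := congrArg (Conj.cj g) h1
          rw [cj_cj, ← mul_assoc, ← mul_assoc, mul_inv_cancel, one_mul] at h2
          exact h2
      rw [e1, e1, ← map_inv, ← map_mul, ← map_mul, hNA]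
    refine ⟨Conj.cj g (F.AH e), Cj.cj _ _, ?_, ?_⟩
    · intro h1
      apply hne
      have h2 : g ∈ N (F.AH e) := cj_eq_iff.1 h1.symm
      exact (cj_eq_iff.2 ((hNA g).2 h2)).symm
    · have h5 : (C (F.AH e) ⊓ N (Conj.cj g (F.AH e))).map π = C A' ⊓ N (Conj.cj (π g) A') := by
        ext y
        constructor
        · rintro ⟨x, ⟨hx1, hx2⟩, rfl⟩
          exact ⟨(hCA x).2 hx1, (hNB x).2 hx2⟩
        · rintro ⟨hy1, hy2⟩
          obtain ⟨x, rfl⟩ := QuotientGroup.mk'_surjective _ y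
          exact ⟨x, ⟨(hCA x).1 hy1, (hNB x).1 hy2⟩, rfl⟩
      have hB4' : 4 ∣ Nat.card ↥((C (F.AH e) ⊓ N (Conj.cj g (F.AH e))).map π) := by rw [h5]; exact hB4
      exact hB4'.trans (card_map_dvd _ _)

end FD

namespace OddPair

theorem oddE_conj {H : Type*} [Group H] [Finite H] {A R V : Subgroup H} {ρ g c : H} (h : OddE A R V ρ g) (hc : c ∈ C A) :
    OddE A (Conj.cj c R) V ρ (c * g * c⁻¹) where
  te := h.te
  nK := h.nK
  R_le := by
    intro x hx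
    rw [mem_cj] at hx
    have h1 := mul_mem (mul_mem hc (h.R_le hx)) (inv_mem hc)
    rwa [show c * (c⁻¹ * x * c) * c⁻¹ = x by group] at h1
  V_le := h.V_le
  cardR := by
    rw [← h.cardR]
    exact (Nat.card_congr (R.equivMapOfInjective _ (MulAut.conj c).injective).toEquiv).symm
  cardV := h.cardV
  sqR := by
    intro r hr
    rw [mem_cj] at hr
    have h1 := h.sqR _ hr
    calc r * r = c * (c⁻¹ * r * c * (c⁻¹ * r * c)) * c⁻¹ := by group
      _ = 1 := by rw [h1]; group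
  sqV := h.sqV
  card8 := h.card8
  ρ_mem := h.ρ_mem
  ρ3 := h.ρ3
  ρV := h.ρV
  ρfix := h.ρfix
  CV := h.CV
  gE := by
    have h1 : Conj.cj c R ⊔ V = Conj.cj c (R ⊔ V) := by
      have h2 : Conj.cj c V = V := by
        rw [cj_eq_iff]
        refine mem_N_of fun v hv => ?_
        rw [comm_of_C hc (h.V_le hv), mul_inv_cancel_right]
        exact hv
      change R.map _ ⊔ V = (R ⊔ V).map _
      rw [Subgroup.map_sup]
      congr 1
      exact h2.symm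
    rw [h1, ← cj_eq_iff, cj_cj]
    have h3 : Conj.cj g (R ⊔ V) = R ⊔ V := cj_eq_iff.2 h.gE
    rw [show c * g * c⁻¹ * c = c * g by group, ← cj_cj, h3]
  gA := by
    intro h1
    apply h.gA
    have h2 := mul_mem (mul_mem (inv_mem (C_le_N hc)) h1) (C_le_N hc)
    rwa [show c⁻¹ * (c * g * c⁻¹) * c = g by group] at h2

end OddPair

namespace FD

variable {d : L} {B : Subgroup L} {e : L →* G}

/-- **The odd configuration in `C(d)`**, when no involution of `B` is conjugate into `C(d, B)`. -/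
theorem exists_odd [Finite G] (F : FD d B) (h : Emb e) (hr : ¬ PRankLE 2 1 (KK e)) (nc : NC d B e)
    (nn : ∃ g, g * e d = e d * g ∧ ∃ b ∈ B, ∀ b' ∈ B, g * e b * g⁻¹ ≠ e b')
    (nI : ∀ g, g * e d = e d * g → ∀ a ∈ B, a ≠ 1 → a * a = 1 → g * e a * g⁻¹ ∉ CC e d B)
    (hcomm : CommHalf (HH e d ⧸ oddCore (HH e d))) :
    ∃ (Lb : Lab (F.AH e) (Fin 5)) (i : Fin 5) (R : Subgroup (HH e d)) (ρ g : HH e d),
      OddE (F.AH e) R (Kl Lb (F.te h nc) i) ρ g ∧ ∀ r ∈ R, (r : G) ∈ KK e := by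
  obtain ⟨φ⟩ := F.iso_AH h
  obtain ⟨Lb, -⟩ := exists_lab φ
  have hgood := F.good h hr nc nn hcomm
  obtain ⟨i, R, ρ, g, hE⟩ := exists_oddE Lb (F.te h nc) hgood (by
    intro x a ha ha1 haa hx
    obtain ⟨b, hb, hab⟩ := F.mem_AH.1 ha
    refine nI x (mem_HH.1 x.2) b hb ?_ ?_ ?_
    · rintro rfl
      rw [map_one] at hab
      exact ha1 (Subtype.ext hab)
    · apply h.inj
      rw [map_mul, ← hab, map_one]
      exact congrArg Subtype.val haa
    · rw [← hab]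
      exact F.mem_centralizer_AH.1 hx)
  have hRp := isPGroup_four hE.cardR
  obtain ⟨c, hc, hcR⟩ := F.conj h (P := R.map (HH e d).subtype) (by
    rintro _ ⟨r, hr, rfl⟩
    exact F.mem_centralizer_AH.1 (hE.R_le hr)) (hRp.map _)
  let c' : HH e d := ⟨c, mem_HH.2 (mem_CC.1 hc).1⟩
  have hc' : c' ∈ C (F.AH e) := F.mem_centralizer_AH.2 hc
  refine ⟨Lb, i, Conj.cj c' R, ρ, c' * g * c'⁻¹, oddE_conj hE hc', ?_⟩
  intro r hr
  rw [mem_cj] at hr
  have h1 := hcR _ ⟨_, hr, rfl⟩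
  have h2 : c * ((c'⁻¹ * r * c' : HH e d) : G) * c⁻¹ = r := by
    change c * (c⁻¹ * (r : G) * c) * c⁻¹ = r
    group
  rw [← h2]
  exact h1

end FD

/-! ### `d = u` -/

variable {D : Data L} {e : L →* G}

theorem fd_u (F : Facts D) (hiso : Nonempty (D.Al ≃* alternatingGroup (Fin 5))) : FD D.u D.Al where
  d5 := F.u5
  comm _ hb := comm_uAl F hb
  aut := F.aut_u
  iso := hiso

theorem fd_w (F : Facts D) (hiso : Nonempty (D.As ≃* alternatingGroup (Fin 5))) : FD D.w D.As where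
  d5 := F.w5
  comm _ hb := comm_wAs F hb
  aut := F.aut_w
  iso := hiso

/-- no involution of `Al` is conjugate into `C(u, Al)` under `C(u)` -/
theorem no_inv_u [Finite G] (F : Facts D) (Fu : FD D.u D.Al) (h : Emb e) {g : G} (hg : g * e D.u = e D.u * g)
    {a : L} (ha : a ∈ D.Al) (ha1 : a ≠ 1) (haa : a * a = 1) (hga : g * e a * g⁻¹ ∈ CC e D.u D.Al) : False := by
  obtain ⟨s, hs, hsz⟩ := Fu.exists_conj_inv F.zAl F.z1 F.z2 ha ha1 haa
  have hsu : e s * e D.u = e D.u * e s := by rw [← map_mul, ← map_mul, Fu.comm s hs]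
  obtain ⟨c, hcC, hcK⟩ := Fu.conj_inv h hga (by
    rw [show g * e a * g⁻¹ * (g * e a * g⁻¹) = g * (e a * e a) * g⁻¹ by group, ← map_mul, haa, map_one]; group)
  obtain ⟨hcu, -⟩ := mem_CC.1 hcC
  set g' : G := c * g * e s with hg'
  have hgu : g' * e D.u = e D.u * g' := by
    rw [hg', mul_assoc, hsu, ← mul_assoc, mul_assoc c, hg, ← mul_assoc c, hcu]
    group
  have hzK : g' * e D.z * g'⁻¹ ∈ KK e := by
    have h1 : g' * e D.z * g'⁻¹ = c * (g * e a * g⁻¹) * c⁻¹ := by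
      rw [hg', ← hsz, map_mul, map_mul, map_inv]; group
    rw [h1]
    exact hcK
  have hzz : e D.z * e D.z = 1 := by rw [← map_mul, F.z2, map_one]
  have h' := h.cjh g'⁻¹
  set e' : L →* G := cjh g'⁻¹ e with he'
  have hu' : e' D.u = e D.u := by
    rw [he', cjh_apply, inv_inv]
    calc g'⁻¹ * e D.u * g' = g'⁻¹ * (e D.u * g') := by group
      _ = g'⁻¹ * (g' * e D.u) := by rw [hgu]
      _ = e D.u := by group
  have hzK' : e D.z ∈ KK e' := by
    rw [he', mem_KK_cjh, inv_inv]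
    exact hzK
  have hz1 : e D.z ≠ 1 := fun h1 => F.z1 (h.inj (by rw [h1, map_one]))
  have hle : Wof D.u D.z ≤ e'.range.comap e := by
    rw [Wof, closure_le]
    rintro _ ⟨x, hx, rfl⟩
    change e (x * D.u * x⁻¹) ∈ e'.range
    have hxM : e x ∈ MM e' := h'.nrm hzK' hz1 hzz (by rw [← map_mul, hx, map_mul])
    obtain ⟨y, hy⟩ := (mem_MM.1 hxM).1 D.u
    refine ⟨y, ?_⟩
    rw [← hy, hu', map_mul, map_mul, map_inv]
  obtain ⟨y, hy⟩ := hle F.zW
  have h1 : y = 1 := h'.disj y (by rw [hy]; exact hzK')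
  apply hz1
  rw [← hy, h1, map_one]

theorem nc_u [Finite G] (F : Facts D) (h : Emb e) : FD.NC D.u D.Al e := fun _ hg hc => no_comm_u F h hg hc

/-- **Step 2 for `u`** -/
theorem odd_u [Finite G] (F : Facts D) (Fu : FD D.u D.Al) (h : Emb e) (hr : ¬ PRankLE 2 1 (KK e))
    (hn : ¬ NU D e) (hcomm : CommHalf (HH e D.u ⧸ oddCore (HH e D.u))) :
    ∃ (Lb : Lab (Fu.AH e) (Fin 5)) (i : Fin 5) (R : Subgroup (HH e D.u)) (ρ g : HH e D.u),
      OddE (Fu.AH e) R (Kl Lb (Fu.te h (nc_u F h)) i) ρ g ∧ ∀ r ∈ R, (r : G) ∈ KK e := by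
  refine Fu.exists_odd h hr (nc_u F h) ?_ (fun g hg a ha ha1 haa hga => no_inv_u F Fu h hg ha ha1 haa hga) hcomm
  unfold NU at hn
  push Not at hn
  obtain ⟨g, hg, a, ha, h1⟩ := hn
  exact ⟨g, hg, a, ha, h1⟩

/-- hypothesis (n) for `w` -/
def NW (D : Data L) (e : L →* G) : Prop :=
  ∀ g, g * e D.w = e D.w * g → ∀ a ∈ D.As, ∃ b ∈ D.As, g * e a * g⁻¹ = e b

/-- Steps 5C, 5D: `e` and `e'` agree on `w`, the involution `v` of `e'` lies in `K`, an involution of `e As` lies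
in `K'`. -/
theorem swap_w (F : Facts D) (h : Emb e) (hn : NU D e) {e' : L →* G} (h' : Emb e') (hw' : e' D.w = e D.w)
    (hvK' : e' D.v ∈ KK e) {a : L} (haA : a ∈ D.As) (ha1 : a ≠ 1) (haa : a * a = 1) (haK' : e a ∈ KK e') :
    False := by
  have hv1 : e' D.v ≠ 1 := fun h1 => F.v1 (h'.inj (by rw [h1, map_one]))
  have hv2 : e' D.v * e' D.v = 1 := by rw [← map_mul, F.v2, map_one]
  have hC1 : ∀ x, x * D.v = D.v * x → e' (x * D.w * x⁻¹) ∈ e.range := by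
    intro x hx
    have hxM : e' x ∈ MM e := h.nrm hvK' hv1 hv2 (by rw [← map_mul, hx, map_mul])
    obtain ⟨y, hy⟩ := (mem_MM.1 hxM).1 D.w
    refine ⟨y, ?_⟩
    rw [← hy, ← hw', map_mul, map_mul, map_inv]
  have hC2 : Wof D.w D.v ≤ e.range.comap e' := by
    rw [Wof, closure_le]
    rintro _ ⟨x, hx, rfl⟩
    exact hC1 x hx
  have hC3 : ∀ x ∈ Wof D.w D.v, ∃ x1, e x1 = e' x ∧ x1 * a = a * x1 := by
    intro x hx
    obtain ⟨x1, hx1⟩ := hC2 hx
    refine ⟨x1, hx1, h.inj ?_⟩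
    rw [map_mul, map_mul, hx1]
    exact (mem_KK.1 haK' x).symm
  have hC4 : ∀ x ∈ Wof D.w D.v, ∃ x1 ∈ Wof D.w a, e x1 = e' x := by
    have h1 : Wof D.w D.v ≤ ((Wof D.w a).map e).comap e' := by
      refine F.gen_v.trans ?_
      rw [closure_le]
      rintro _ ⟨x, hx, rfl⟩
      obtain ⟨x1, hx1, hxa⟩ := hC3 x hx
      change e' (x * D.w * x⁻¹) ∈ (Wof D.w a).map e
      refine ⟨x1 * D.w * x1⁻¹, subset_closure ⟨x1, hxa, rfl⟩, ?_⟩
      rw [map_mul, map_mul, map_inv, map_mul, map_mul, map_inv, hx1, hw']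
    intro x hx
    obtain ⟨x1, hx1, hx2⟩ := h1 hx
    exact ⟨x1, hx1, hx2⟩
  obtain ⟨y, hyW, hy1, hy2, p, hp⟩ := F.fus_v
  obtain ⟨y1, hy1W, hy1e⟩ := hC4 y hyW
  have hy1' : y1 ≠ 1 := by
    rintro rfl
    rw [map_one] at hy1e
    exact hy1 (h'.inj (by rw [← hy1e, map_one]))
  have hy2' : y1 * y1 = 1 := h.inj (by rw [map_mul, hy1e, ← map_mul, hy2, map_one, map_one])
  refine a0 F h hn hvK' hv1 hv2 (F.inv2A a haA ha1 haa y1 hy1W hy1' hy2') hy1' hy2' (e' p) ?_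
  rw [mem_KK_cjh, hy1e]
  have h1 : (e' p)⁻¹ * (e' D.v * e' y) * e' p = e' D.v := by
    rw [← map_mul, ← map_inv, ← map_mul, ← map_mul, ← hp]
    congr 1
    group
  rw [h1]
  exact hvK'

/-- the configuration obtained from "type two" -/
theorem no_swap_w [Finite G] (F : Facts D) (Fw : FD D.w D.As) (h : Emb e) (hn : NU D e) {g : G}
    (hg : g * e D.w = e D.w * g) {a' : L} (ha' : a' ∈ D.As) (ha'1 : a' ≠ 1) (ha'a' : a' * a' = 1)
    (hga : g * e a' * g⁻¹ ∈ CC e D.w D.As) {a : L} (ha : a ∈ D.As) (ha1 : a ≠ 1) (haa : a * a = 1)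
    (hc : ∀ b ∈ D.As, e a * (g * e b * g⁻¹) = g * e b * g⁻¹ * e a) : False := by
  have hsq : ∀ x : L, x * x = 1 → e x * e x = 1 := fun x hx => by rw [← map_mul, hx, map_one]
  obtain ⟨c, hcC, hcK⟩ := Fw.conj_inv h hga (conj_sq (hsq a' ha'a'))
  obtain ⟨hcw, hcA⟩ := mem_CC.1 hcC
  have h2 := h.cjh (c * g)
  set e2 : L →* G := cjh (c * g) e with he2
  have hcg : c * g * e D.w = e D.w * (c * g) := by rw [mul_assoc, hg, ← mul_assoc, hcw, mul_assoc]
  have hw2 : e2 D.w = e D.w := by rw [he2, cjh_apply, hcg]; group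
  have ha'2 : e2 a' ∈ KK e := by
    rw [he2, cjh_apply, show c * g * e a' * (c * g)⁻¹ = c * (g * e a' * g⁻¹) * c⁻¹ by group]
    exact hcK
  have haC : e a ∈ CC e2 D.w D.As := by
    rw [mem_CC, hw2]
    refine ⟨by rw [← map_mul, ← map_mul, Fw.comm a ha], fun b hb => ?_⟩
    rw [he2, cjh_apply, show c * g * e b * (c * g)⁻¹ = c * (g * e b * g⁻¹) * c⁻¹ by group]
    exact (conj_comm (hcA a ha) (hc b hb).symm).symm
  obtain ⟨c3, hc3C, hc3K⟩ := Fw.conj_inv h2 haC (hsq a haa)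
  obtain ⟨hc3w, hc3A⟩ := mem_CC.1 hc3C
  have h3 := h2.cjh c3⁻¹
  set e3 : L →* G := cjh c3⁻¹ e2 with he3
  have hw3 : e3 D.w = e D.w := by
    rw [he3, cjh_apply, inv_comm hc3w, ← hw2]; group
  have hA3 : ∀ b ∈ D.As, e3 b = e2 b := by
    intro b hb
    rw [he3, cjh_apply, inv_comm (hc3A b hb)]; group
  have haK3 : e a ∈ KK e3 := by
    rw [he3, mem_KK_cjh, inv_inv]
    exact hc3K
  obtain ⟨s, hs, hsv⟩ := Fw.exists_conj_inv F.vAs F.v1 F.v2 ha' ha'1 ha'a'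
  have h4 := h3.cjh (e3 s)
  refine swap_w F h hn h4 ?_ ?_ ha ha1 haa ?_
  · rw [cjh_apply, ← map_inv, ← map_mul, ← map_mul, ← Fw.comm s hs, mul_inv_cancel_right, hw3]
  · rw [cjh_apply, ← map_inv, ← map_mul, ← map_mul, hsv, hA3 a' ha']
    exact ha'2
  · rw [mem_KK_cjh]
    have h5 := mem_KK.1 haK3 s
    rw [show (e3 s)⁻¹ * e a * e3 s = (e3 s)⁻¹ * (e a * e3 s) by group, h5]
    rw [show (e3 s)⁻¹ * (e3 s * e a) = e a by group]
    exact haK3

theorem nc_w [Finite G] (F : Facts D) (h : Emb e) (hn : NU D e) : FD.NC D.w D.As e :=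
  fun _ hg hc => no_comm_w F h hn hg hc

/-- no involution of `As` is conjugate into `C(w, As)` under `C(w)` -/
theorem no_inv_w [Finite G] (F : Facts D) (Fw : FD D.w D.As) (h : Emb e) (hr : ¬ PRankLE 2 1 (KK e)) (hn : NU D e)
    {g : G} (hg : g * e D.w = e D.w * g) {a : L} (ha : a ∈ D.As) (ha1 : a ≠ 1) (haa : a * a = 1)
    (hga : g * e a * g⁻¹ ∈ CC e D.w D.As) : False := by
  have hte := Fw.te h (nc_w F h hn)
  obtain ⟨φ⟩ := Fw.iso_AH h
  obtain ⟨Lb, -⟩ := exists_lab φ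
  have hne : Fw.eH e ⟨a, ha⟩ ≠ 1 := by
    intro h1
    have h2 : e a = 1 := congrArg Subtype.val h1
    exact ha1 (h.inj (h2.trans (map_one e).symm))
  have hsq : Fw.eH e ⟨a, ha⟩ * Fw.eH e ⟨a, ha⟩ = 1 := by
    rw [← map_mul]
    have : (⟨a, ha⟩ : D.As) * ⟨a, ha⟩ = 1 := Subtype.ext haa
    rw [this, map_one]
  obtain ⟨β, T⟩ := typeTwo_of_inv Lb hte (Fw.hasFour hr)
    ⟨⟨g, mem_HH.2 hg⟩, Fw.eH e ⟨a, ha⟩, ⟨_, rfl⟩, hne, hsq, Fw.mem_centralizer_AH.2 hga⟩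
  -- an involution of `K₀`
  let σ : alternatingGroup (Fin 5) := ⟨Equiv.swap 0 1 * Equiv.swap 2 3, Equiv.Perm.mem_alternatingGroup.2 (by decide)⟩
  have hσ4 : σ.1 4 = 4 := by decide
  have hσ1 : σ ≠ 1 := by decide
  have hσσ : σ * σ = 1 := by decide
  let τ : Equiv.Perm (Fin 5) := Equiv.swap 1 2 * Equiv.swap 3 4
  have hτ : τ ∈ alternatingGroup (Fin 5) := Equiv.Perm.mem_alternatingGroup.2 (by decide)
  have hτ0 : τ 0 = 0 := by decide
  have hτ1 : τ ≠ 1 := by decide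
  have hττ : τ * τ = 1 := by decide
  obtain ⟨k, hk⟩ := T.conjβ 0
  have hx : k⁻¹ * β 0 σ * k ∈ Fw.AH e := (hk _).2 ⟨σ, by group⟩
  obtain ⟨a', ha', hxa'⟩ := Fw.mem_AH.1 hx
  obtain ⟨b, hb, hbτ⟩ := Lb.lift τ hτ
  obtain ⟨b', hb', hbb'⟩ := Fw.mem_AH.1 hb
  have hβσ : β 0 σ ≠ 1 := fun h1 => hσ1 (T.injβ 0 σ h1)
  have hβ1 : β 0 1 = 1 := by
    have h1 := T.mulβ 0 1 1
    rw [mul_one] at h1
    exact (mul_eq_left.1 h1.symm)
  have hβσσ : β 0 σ * β 0 σ = 1 := by rw [← T.mulβ, hσσ, hβ1]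
  have hkw := mem_HH.1 k.2
  refine no_swap_w F Fw h hn (g := k) hkw (a' := a') ha' ?_ ?_ ?_ (a := b') hb' ?_ ?_ ?_
  · rintro rfl
    rw [map_one] at hxa'
    have h1 : k⁻¹ * β 0 σ * k = 1 := Subtype.ext hxa'
    apply hβσ
    rw [show β 0 σ = k * (k⁻¹ * β 0 σ * k) * k⁻¹ by group, h1]; group
  · apply h.inj
    rw [map_mul, ← hxa', map_one]
    have h1 : k⁻¹ * β 0 σ * k * (k⁻¹ * β 0 σ * k) = 1 := by
      rw [show k⁻¹ * β 0 σ * k * (k⁻¹ * β 0 σ * k) = k⁻¹ * (β 0 σ * β 0 σ) * k by group, hβσσ]; group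
    exact congrArg Subtype.val h1
  · rw [← hxa']
    have h1 : (k : G) * ((k⁻¹ * β 0 σ * k : HH e D.w) : G) * (k : G)⁻¹ = (β 0 σ : HH e D.w) := by
      change (k : G) * ((k : G)⁻¹ * (β 0 σ : HH e D.w) * k) * (k : G)⁻¹ = _
      group
    rw [h1]
    exact Fw.mem_centralizer_AH.1 ((T.K0 0 σ).2 hσ4)
  · rintro rfl
    rw [map_one] at hbb'
    have h1 : b = 1 := Subtype.ext hbb'
    rw [h1, Lb.one] at hbτ
    exact hτ1 hbτ.symm
  · apply h.inj
    rw [map_mul, ← hbb', map_one]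
    have h1 : b * b = 1 := by
      apply Lb.eq_one hte (mul_mem hb hb)
      rw [Lb.mul _ _ (le_N hb) (le_N hb), hbτ, hττ]
    exact congrArg Subtype.val h1
  · intro c hc
    have hfix := (T.fix b hb 0).2 (by rw [hbτ]; exact hτ0)
    obtain ⟨σ', hσ'⟩ := (hk (Fw.eH e ⟨c, hc⟩)).1 ⟨_, rfl⟩
    have h1 := hfix σ'
    rw [← hσ'] at h1
    rw [← hbb']
    exact congrArg Subtype.val h1

/-- **Step 2 for `w`** -/
theorem odd_w [Finite G] (F : Facts D) (Fw : FD D.w D.As) (h : Emb e) (hr : ¬ PRankLE 2 1 (KK e))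
    (hn : NU D e) (hnw : ¬ NW D e) (hcomm : CommHalf (HH e D.w ⧸ oddCore (HH e D.w))) :
    ∃ (Lb : Lab (Fw.AH e) (Fin 5)) (i : Fin 5) (R : Subgroup (HH e D.w)) (ρ g : HH e D.w),
      OddE (Fw.AH e) R (Kl Lb (Fw.te h (nc_w F h hn)) i) ρ g ∧ ∀ r ∈ R, (r : G) ∈ KK e := by
  refine Fw.exists_odd h hr (nc_w F h hn) ?_ (fun g hg a ha ha1 haa hga => no_inv_w F Fw h hr hn hg ha ha1 haa hga) hcomm
  unfold NW at hnw
  push Not at hnw
  obtain ⟨g, hg, a, ha, h1⟩ := hnw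
  exact ⟨g, hg, a, ha, h1⟩

end Cfsg.Agent.StdG24
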