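import Mathlib
import Cfsg.Agent.StdG24.AutA5

/-!
# Elements of `A₄`, and rigidity of `A₄ ≤ A₅`
-/

set_option autoImplicit false

namespace Cfsg.Agent.StdG24.RigidA4

open Subgroup Equiv

/-- generators of a group isomorphic to `A₄` -/
structure Gens {G : Type*} [Group G] (K : Subgroup G) (a b c : G) : Prop where
  aK : a ∈ K
  bK : b ∈ K
  cK : c ∈ K
  a1 : a ≠ 1
  b1 : b ≠ 1
  hne : a ≠ b
  aa : a * a = 1
  bb : b * b = 1
  ab : a * b = b * a
  ca : c * a * c⁻¹ = b
  cb : c * b * c⁻¹ = a * b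
  ccc : c * c * c = 1
  cent : ∀ v, (v = a ∨ v = b ∨ v = a * b) → ∀ k ∈ K, k * v = v * k → k = 1 ∨ k = a ∨ k = b ∨ k = a * b
  inv : ∀ k ∈ K, k ≠ 1 → k * k = 1 → k = a ∨ k = b ∨ k = a * b
  form : ∀ k ∈ K, ∃ i : ℕ, ∃ v : G, (v = 1 ∨ v = a ∨ v = b ∨ v = a * b) ∧ k = c ^ i * v
  card : Nat.card K = 12

section conc

abbrev P4 := Perm (Fin 4)

def a0 : P4 := swap 0 1 * swap 2 3
def b0 : P4 := swap 0 2 * swap 1 3
def c0 : P4 := swap 1 2 * swap 2 3

theorem sgn : Perm.sign a0 = 1 ∧ Perm.sign b0 = 1 ∧ Perm.sign c0 = 1 := by decide +kernel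

theorem ne0 : a0 ≠ 1 ∧ b0 ≠ 1 ∧ a0 ≠ b0 ∧ a0 * a0 = 1 ∧ b0 * b0 = 1 ∧ a0 * b0 = b0 * a0 ∧
    c0 * a0 * c0⁻¹ = b0 ∧ c0 * b0 * c0⁻¹ = a0 * b0 ∧ c0 * c0 * c0 = 1 := by decide +kernel

theorem cent0 : ∀ k : P4, Perm.sign k = 1 → (k * a0 = a0 * k ∨ k * b0 = b0 * k ∨
    k * (a0 * b0) = a0 * b0 * k) → k = 1 ∨ k = a0 ∨ k = b0 ∨ k = a0 * b0 := by decide +kernel

theorem inv0 : ∀ k : P4, Perm.sign k = 1 → k ≠ 1 → k * k = 1 → k = a0 ∨ k = b0 ∨ k = a0 * b0 := by
  decide +kernel

theorem form0 : ∀ k : P4, Perm.sign k = 1 → ∃ i ∈ List.range 3, ∃ v ∈ [1, a0, b0, a0 * b0],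
    k = c0 ^ i * v := by decide +kernel

end conc

variable {G : Type*} [Group G]

theorem exists_gens {K : Subgroup G} (e : K ≃* alternatingGroup (Fin 4)) : ∃ a b c, Gens K a b c := by
  obtain ⟨sa, sb, sc⟩ := sgn
  obtain ⟨h1, h2, h3, h4, h5, h6, h7, h8, h9⟩ := ne0
  set f : K →* P4 := (alternatingGroup (Fin 4)).subtype.comp e.toMonoidHom with hf
  have hinj : Function.Injective f := Subtype.val_injective.comp e.injective
  have hsur : ∀ y : P4, Perm.sign y = 1 → ∃ x, f x = y := by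
    intro y hy
    exact ⟨e.symm ⟨y, Perm.mem_alternatingGroup.2 hy⟩, by
      rw [hf]; simp⟩
  have hsgn : ∀ x, Perm.sign (f x) = 1 := fun x => Perm.mem_alternatingGroup.1 (e x).2
  obtain ⟨a, ha⟩ := hsur _ sa
  obtain ⟨b, hb⟩ := hsur _ sb
  obtain ⟨c, hc⟩ := hsur _ sc
  refine ⟨a, b, c, a.2, b.2, c.2, ?_, ?_, ?_, ?_, ?_, ?_, ?_, ?_, ?_, ?_, ?_, ?_, ?_⟩
  · intro h
    apply h1
    rw [← ha, show a = 1 from Subtype.ext h, map_one]
  · intro h
    apply h2
    rw [← hb, show b = 1 from Subtype.ext h, map_one]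
  · intro h
    apply h3
    rw [← ha, ← hb, show a = b from Subtype.ext h]
  · have : a * a = 1 := hinj (by rw [map_mul, ha, h4, map_one])
    exact congrArg Subtype.val this
  · have : b * b = 1 := hinj (by rw [map_mul, hb, h5, map_one])
    exact congrArg Subtype.val this
  · have : a * b = b * a := hinj (by rw [map_mul, map_mul, ha, hb, h6])
    exact congrArg Subtype.val this
  · have : c * a * c⁻¹ = b := hinj (by rw [map_mul, map_mul, map_inv, ha, hb, hc, h7])
    exact congrArg Subtype.val this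
  · have : c * b * c⁻¹ = a * b := hinj (by rw [map_mul, map_mul, map_mul, map_inv, ha, hb, hc, h8])
    exact congrArg Subtype.val this
  · have : c * c * c = 1 := hinj (by rw [map_mul, map_mul, hc, h9, map_one])
    exact congrArg Subtype.val this
  · intro v hv k hk hkv
    have hv' : ∃ v' : K, (v' : G) = v ∧ (v' = a ∨ v' = b ∨ v' = a * b) := by
      rcases hv with h | h | h
      · exact ⟨a, h.symm, Or.inl rfl⟩
      · exact ⟨b, h.symm, Or.inr (Or.inl rfl)⟩
      · exact ⟨a * b, h.symm, Or.inr (Or.inr rfl)⟩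
    obtain ⟨v', hv', hv''⟩ := hv'
    have h10 : (⟨k, hk⟩ : K) * v' = v' * ⟨k, hk⟩ := Subtype.ext (by
      show k * (v' : G) = v' * k
      rw [hv', hkv])
    have h11 := congrArg f h10
    rw [map_mul, map_mul] at h11
    have h12 := cent0 (f ⟨k, hk⟩) (hsgn _) (by
      rcases hv'' with h | h | h
      · left; rw [h, ha] at h11; exact h11
      · right; left; rw [h, hb] at h11; exact h11
      · right; right; rw [h, map_mul, ha, hb] at h11; exact h11)
    rcases h12 with h | h | h | h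
    · left
      exact congrArg Subtype.val (hinj (by rw [h, map_one]) : (⟨k, hk⟩ : K) = 1)
    · right; left
      exact congrArg Subtype.val (hinj (by rw [h, ha]) : (⟨k, hk⟩ : K) = a)
    · right; right; left
      exact congrArg Subtype.val (hinj (by rw [h, hb]) : (⟨k, hk⟩ : K) = b)
    · right; right; right
      exact congrArg Subtype.val (hinj (by rw [h, map_mul, ha, hb]) : (⟨k, hk⟩ : K) = a * b)
  · intro k hk hk1 hk2
    have h12 := inv0 (f ⟨k, hk⟩) (hsgn _) (fun h => hk1 (congrArg Subtype.val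
      (hinj (by rw [h, map_one]) : (⟨k, hk⟩ : K) = 1))) (by
        rw [← map_mul, show (⟨k, hk⟩ : K) * ⟨k, hk⟩ = 1 from Subtype.ext hk2, map_one])
    rcases h12 with h | h | h
    · left
      exact congrArg Subtype.val (hinj (by rw [h, ha]) : (⟨k, hk⟩ : K) = a)
    · right; left
      exact congrArg Subtype.val (hinj (by rw [h, hb]) : (⟨k, hk⟩ : K) = b)
    · right; right
      exact congrArg Subtype.val (hinj (by rw [h, map_mul, ha, hb]) : (⟨k, hk⟩ : K) = a * b)
  · intro k hk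
    obtain ⟨i, -, v, hv, h⟩ := form0 (f ⟨k, hk⟩) (hsgn _)
    have key : ∀ v' : K, f v' = v → k = (c : G) ^ i * v' := by
      intro v' hv'
      have : (⟨k, hk⟩ : K) = c ^ i * v' := hinj (by rw [h, map_mul, map_pow, hc, hv'])
      exact congrArg Subtype.val this
    rw [List.mem_cons, List.mem_cons, List.mem_cons, List.mem_singleton] at hv
    rcases hv with h | h | h | h
    · exact ⟨i, 1, Or.inl rfl, key 1 (by rw [map_one, h])⟩
    · exact ⟨i, a, Or.inr (Or.inl rfl), key a (by rw [ha, h])⟩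
    · exact ⟨i, b, Or.inr (Or.inr (Or.inl rfl)), key b (by rw [hb, h])⟩
    · exact ⟨i, a * b, Or.inr (Or.inr (Or.inr rfl)), key (a * b) (by rw [map_mul, ha, hb, h])⟩
  · rw [Nat.card_congr e.toEquiv, nat_card_alternatingGroup, Nat.card_fin]
    rfl

namespace Gens

variable {K : Subgroup G} {a b c : G} (h : Gens K a b c)
include h

theorem ab1 : a * b ≠ 1 := by
  intro h1
  apply h.hne
  rw [← inv_eq_of_mul_eq_one_left h.bb, ← eq_inv_of_mul_eq_one_left h1]

theorem abab : a * b * (a * b) = 1 := by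
  calc a * b * (a * b) = a * (b * a) * b := by group
    _ = a * (a * b) * b := by rw [h.ab]
    _ = (a * a) * (b * b) := by group
    _ = 1 := by rw [h.aa, h.bb, one_mul]

/-- the element of order 3 permutes the involutions transitively -/
theorem c_ab : c * (a * b) * c⁻¹ = a := by
  calc c * (a * b) * c⁻¹ = (c * a * c⁻¹) * (c * b * c⁻¹) := by group
    _ = b * (a * b) := by rw [h.ca, h.cb]
    _ = (b * a) * b := by group
    _ = a * (b * b) := by rw [← h.ab]; group
    _ = a := by rw [h.bb, mul_one]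

theorem eq_one_of_comm {v : G} (hv : v = 1 ∨ v = a ∨ v = b ∨ v = a * b) (hc : c * v = v * c) : v = 1 := by
  have h1 : c * v * c⁻¹ = v := by rw [hc]; group
  rcases hv with rfl | rfl | rfl | rfl
  · rfl
  · exact absurd (h1.symm.trans h.ca) h.hne
  · rw [h.cb] at h1
    exact absurd (mul_eq_right.1 h1) h.a1
  · rw [h.c_ab] at h1
    exact absurd (left_eq_mul.1 h1) h.b1

theorem gen {H : Subgroup G} (ha : a ∈ H) (hb : b ∈ H) (hc : c ∈ H) : K ≤ H := by
  intro k hk
  obtain ⟨i, v, hv, rfl⟩ := h.form k hk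
  apply H.mul_mem (H.pow_mem hc i)
  rcases hv with rfl | rfl | rfl | rfl
  · exact H.one_mem
  · exact ha
  · exact hb
  · exact H.mul_mem ha hb

/-- an element normalising `B ≅ A₅` and centralising `A₄ ≤ B` centralises `B` -/
theorem comm_of_norm {B : Subgroup G} (eB : B ≃* alternatingGroup (Fin 5)) (hKB : K ≤ B) {g : G}
    (hg : ∀ x, x ∈ B ↔ g * x * g⁻¹ ∈ B) (ga : g * a = a * g) (gb : g * b = b * g) (gc : g * c = c * g) :
    ∀ x ∈ B, g * x = x * g := by
  set α : MulAut B :=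
    { toFun := fun x => ⟨g * x * g⁻¹, (hg x).1 x.2⟩
      invFun := fun x => ⟨g⁻¹ * x * g, (hg _).2 (by
        rw [show g * (g⁻¹ * (x : G) * g) * g⁻¹ = x by group]; exact x.2)⟩
      left_inv := fun x => Subtype.ext (by
        show g⁻¹ * (g * (x : G) * g⁻¹) * g = x
        group)
      right_inv := fun x => Subtype.ext (by
        show g * (g⁻¹ * (x : G) * g) * g⁻¹ = x
        group)
      map_mul' := fun x y => Subtype.ext (by
        show g * ((x : G) * y) * g⁻¹ = g * x * g⁻¹ * (g * y * g⁻¹)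
        group) } with hα
  have hαx : ∀ x : B, ((α x : B) : G) = g * x * g⁻¹ := fun x => rfl
  obtain ⟨v, hv, hvx⟩ := AutA5.conj_of_fix_four eB α (a := ⟨a, hKB h.aK⟩) (b := ⟨b, hKB h.bK⟩)
    (fun h1 => h.a1 (congrArg Subtype.val h1)) (fun h1 => h.b1 (congrArg Subtype.val h1))
    (Subtype.ext h.aa) (Subtype.ext h.bb) (fun h1 => h.hne (congrArg Subtype.val h1)) (Subtype.ext h.ab)
    (Subtype.ext (by rw [hαx]; show g * a * g⁻¹ = a; rw [ga]; group))
    (Subtype.ext (by rw [hαx]; show g * b * g⁻¹ = b; rw [gb]; group))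
  have hc : c * (v : G) = v * c := by
    have h1 := congrArg Subtype.val (hvx ⟨c, hKB h.cK⟩)
    rw [hαx] at h1
    have h2 : g * c * g⁻¹ = v * c * (v : G)⁻¹ := h1
    rw [gc, mul_inv_cancel_right] at h2
    calc c * (v : G) = (v * c * (v : G)⁻¹) * v := by rw [← h2]
      _ = v * c := by group
  have hv1 : (v : G) = 1 := by
    apply h.eq_one_of_comm _ hc
    rcases hv with h1 | h1 | h1 | h1
    · left; rw [h1]; rfl
    · right; left; rw [h1]
    · right; right; left; rw [h1]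
    · right; right; right; rw [h1]; rfl
  have hv2 : v = 1 := Subtype.ext hv1
  intro x hx
  have h1 := congrArg Subtype.val (hvx ⟨x, hx⟩)
  rw [hαx, hv2] at h1
  have h2 : g * x * g⁻¹ = 1 * x * (1 : G)⁻¹ := h1
  calc g * x = g * x * g⁻¹ * g := by group
    _ = x * g := by rw [h2]; group

end Gens

end Cfsg.Agent.StdG24.RigidA4
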