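import Mathlib
import Cfsg.Agent.StdG24.Basic
import Cfsg.Agent.StdG24.AutL
import Cfsg.Agent.StdG24.RigidA4
import Cfsg.Agent.J2Type.FourSelfCent
import Cfsg.Agent.TwoFusion.DihedralFusion

/-!
# Standard `G₂(4)`, step 7: (n) for `u` and (J) for `w` is impossible (abstract form in `C_G(D)/Z(D)`)
-/

set_option autoImplicit false

namespace Cfsg.Agent.StdG24.StepSevenAbs

open Subgroup Cfsg.Agent.StdG24.RigidA4 Cfsg.Agent.TwoFusion.DihedralFusion
open scoped commutatorElement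

variable {L : Type*} [Group L] {G : Type*} [Group G] {D : Data L} {e : L →* G}

/-- `N_L(⟨u, w⟩)` -/
def N5 (D : Data L) : Set L :=
  {x | x * D.u * x⁻¹ ∈ closure {D.u, D.w} ∧ x * D.w * x⁻¹ ∈ closure {D.u, D.w}}

/-- The facts on `L` used in step 7 (F9) -/
structure FactsT (D : Data L) (Z T : Subgroup L) (n : L) : Prop where
  ZAl : Z ≤ D.Al
  Zsq : ∀ z ∈ Z, z * z = 1
  ZT : Z ≤ T
  ZC : ∀ z ∈ Z, ∀ t ∈ T, z * t = t * z
  cent : ∀ x, (∀ t ∈ T, x * t = t * x) → x ∈ Z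
  TJ : T ≤ closure (D.Al ∪ N5 D)
  inner : ∀ α : L ≃* L, (∀ t ∈ T, α t = t) → ∃ c, ∀ x, α x = c * x * c⁻¹
  nT : ∀ t ∈ T, n * t * n⁻¹ ∈ T
  nT' : ∀ t ∈ T, n⁻¹ * t * n ∈ T
  top : closure ((D.Al : Set L) ∪ N5 D ∪ {n}) = ⊤

/-- `A₅` is perfect -/
theorem perfect_of_equiv {B : Subgroup G} (eB : B ≃* alternatingGroup (Fin 5)) : B ≤ ⁅B, B⁆ := by
  have h1 : commutator B = ⊤ := AutL.comm_top eB
  intro x hx
  have h2 : (⟨x, hx⟩ : B) ∈ commutator B := by rw [h1]; trivial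
  have h3 : B.subtype ⟨x, hx⟩ ∈ (commutator B).map B.subtype := mem_map_of_mem _ h2
  rw [commutator_def, map_commutator, ← MonoidHom.range_eq_map, range_subtype] at h3
  exact h3

/-- the centre of `A₅` is trivial -/
theorem center_of_equiv {B : Subgroup G} (eB : B ≃* alternatingGroup (Fin 5)) {x : G} (hx : x ∈ B)
    (hc : ∀ b ∈ B, x * b = b * x) : x = 1 := by
  have h5 : IsSimpleGroup (alternatingGroup (Fin 5)) := alternatingGroup.isSimpleGroup (by simp)
  have hs : IsSimpleGroup B := eB.isSimpleGroup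
  have hxc : (⟨x, hx⟩ : B) ∈ center B := by
    rw [mem_center_iff]
    intro b
    exact Subtype.ext (hc b b.2).symm
  rcases (inferInstance : (center B).Normal).eq_bot_or_eq_top with h | h
  · rw [h, mem_bot] at hxc
    exact congrArg Subtype.val hxc
  · exfalso
    have h1 : commutator B = ⊤ := AutL.comm_top eB
    have h2 : commutator B = ⊥ := by
      rw [commutator_def, commutator_eq_bot_iff_le_centralizer]
      intro y _
      rw [mem_centralizer_iff]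
      intro z _
      have : y ∈ center B := by rw [h]; trivial
      exact (mem_center_iff.1 this z)
    rw [h1] at h2
    exact absurd h2 top_ne_bot

theorem card_of_equiv {B : Subgroup G} (eB : B ≃* alternatingGroup (Fin 5)) : Nat.card B = 60 := by
  rw [Nat.card_congr eB.toEquiv, nat_card_alternatingGroup, Nat.card_fin]
  rfl

theorem step_seven [Finite G] (h : Emb e) {Z T : Subgroup L} {n : L} (hT : FactsT D Z T n)
    (eK : KK e ≃* alternatingGroup (Fin 4)) {B : Subgroup G} (eB : B ≃* alternatingGroup (Fin 5))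
    (hKB : KK e ≤ B) (hBAl : ∀ x ∈ D.Al, ∀ b ∈ B, e x * b = b * e x)
    (hBN : ∀ x ∈ N5 D, ∀ b, b ∈ B ↔ e x * b * (e x)⁻¹ ∈ B)
    (ha0 : ∀ k ∈ KK e, k ≠ 1 → k * k = 1 → ∀ y ∈ D.Al, y ≠ 1 → y * y = 1 → ∀ p, k * e y ∉ KK (cjh p e)) :
    False := by
  obtain ⟨a, b, c, hg⟩ := exists_gens eK
  -- `e ⟨A_l, N₅⟩` centralises `B`
  have hBJ : ∀ x ∈ closure ((D.Al : Set L) ∪ N5 D), ∀ y ∈ B, e x * y = y * e x := by
    have h1 : closure ((D.Al : Set L) ∪ N5 D) ≤ (centralizer (B : Set G)).comap e := by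
      rw [closure_le]
      rintro x (hx | hx)
      · rw [SetLike.mem_coe, mem_comap, mem_centralizer_iff]
        intro y hy
        exact (hBAl x hx y hy).symm
      · rw [SetLike.mem_coe, mem_comap, mem_centralizer_iff]
        intro y hy
        exact (hg.comm_of_norm eB hKB (hBN x hx) (mem_KK.1 hg.aK x).symm (mem_KK.1 hg.bK x).symm
          (mem_KK.1 hg.cK x).symm y hy).symm
    intro x hx y hy
    have h2 := h1 hx
    rw [mem_comap, mem_centralizer_iff] at h2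
    exact (h2 y hy).symm
  set Y : Subgroup G := centralizer (T.map e : Set G) with hY
  have mem_Y : ∀ y, y ∈ Y ↔ ∀ t ∈ T, y * e t = e t * y := by
    intro y
    rw [hY, mem_centralizer_iff]
    constructor
    · intro h1 t ht
      exact (h1 (e t) ⟨t, ht, rfl⟩).symm
    · rintro h1 _ ⟨t, ht, rfl⟩
      exact (h1 t ht).symm
  have hBY : B ≤ Y := fun y hy => (mem_Y y).2 fun t ht => (hBJ t (hT.TJ ht) y hy).symm
  have hKY : KK e ≤ Y := hKB.trans hBY
  -- centralisers of involutions of `K` in `Y`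
  have hYc : ∀ y ∈ Y, ∀ v, (v = a ∨ v = b ∨ v = a * b) → y * v = v * y →
      ∃ k, (k = 1 ∨ k = a ∨ k = b ∨ k = a * b) ∧ ∃ z ∈ Z, y = k * e z := by
    intro y hy v hv hyv
    have hvK : v ∈ KK e := by
      rcases hv with rfl | rfl | rfl
      · exact hg.aK
      · exact hg.bK
      · exact mul_mem hg.aK hg.bK
    have hv1 : v ≠ 1 := by
      rcases hv with rfl | rfl | rfl
      · exact hg.a1
      · exact hg.b1
      · exact hg.ab1
    have hv2 : v * v = 1 := by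
      rcases hv with rfl | rfl | rfl
      · exact hg.aa
      · exact hg.bb
      · exact hg.abab
    have hyM : y ∈ MM e := h.nrm hvK hv1 hv2 hyv
    obtain ⟨α, hα⟩ := h.exists_aut hyM
    obtain ⟨s, hs⟩ := hT.inner α (fun t ht => h.inj (by
      rw [hα, (mem_Y y).1 hy t ht]; group))
    have hsZ : s ∈ Z := hT.cent s (fun t ht => by
      have h1 : e (s * t * s⁻¹) = e t := by
        rw [← hs, hα, (mem_Y y).1 hy t ht]; group
      have h2 := h.inj h1
      calc s * t = s * t * s⁻¹ * s := by group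
        _ = t * s := by rw [h2])
    have hk : y * (e s)⁻¹ ∈ KK e := Emb.mem_of_aut (fun x => by rw [← hα, hs])
    refine ⟨y * (e s)⁻¹, ?_, s, hsZ, by group⟩
    apply hg.cent v hv _ hk
    have h3 := mem_KK.1 hvK s
    calc y * (e s)⁻¹ * v = y * ((e s)⁻¹ * (v * e s)) * (e s)⁻¹ := by group
      _ = y * v * (e s)⁻¹ := by rw [h3]; group
      _ = v * (y * (e s)⁻¹) := by rw [hyv]; group
  -- `e Z` is central in `Y`
  set ZZ : Subgroup Y := (Z.map e).subgroupOf Y with hZZ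
  have hZc : ∀ z ∈ Z, ∀ y ∈ Y, e z * y = y * e z := fun z hz y hy => ((mem_Y y).1 hy z (hT.ZT hz)).symm
  have hZY : ∀ z ∈ Z, e z ∈ Y := fun z hz => (mem_Y _).2 fun t ht => by
    rw [← map_mul, ← map_mul, hT.ZC z hz t ht]
  have mem_ZZ : ∀ y : Y, y ∈ ZZ ↔ ∃ z ∈ Z, (y : G) = e z := by
    intro y
    rw [hZZ, mem_subgroupOf]
    constructor
    · rintro ⟨z, hz, h1⟩
      exact ⟨z, hz, h1.symm⟩
    · rintro ⟨z, hz, h1⟩
      exact ⟨z, hz, h1.symm⟩
  have hnorm : ZZ.Normal := by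
    refine ⟨fun x hx y => ?_⟩
    obtain ⟨z, hz, h1⟩ := (mem_ZZ x).1 hx
    rw [mem_ZZ]
    refine ⟨z, hz, ?_⟩
    show (y : G) * x * (y : G)⁻¹ = e z
    rw [h1, ← hZc z hz y y.2]; group
  -- `Q = Y / Z`
  set π : Y →* Y ⧸ ZZ := QuotientGroup.mk' ZZ with hπ
  have hπs : Function.Surjective π := QuotientGroup.mk'_surjective ZZ
  have hπ1 : ∀ y : Y, π y = 1 ↔ ∃ z ∈ Z, (y : G) = e z := by
    intro y
    rw [hπ, QuotientGroup.mk'_apply, QuotientGroup.eq_one_iff, mem_ZZ]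
  have hKZ : ∀ k ∈ KK e, (∃ z ∈ Z, k = e z) → k = 1 := by
    rintro k hk ⟨z, hz, rfl⟩
    rw [h.disj z hk, map_one]
  set a' : Y := ⟨a, hKY hg.aK⟩ with ha'
  set b' : Y := ⟨b, hKY hg.bK⟩ with hb'
  have haa : π a' * π a' = 1 := by
    rw [← map_mul, show a' * a' = 1 from Subtype.ext hg.aa, map_one]
  have hbb : π b' * π b' = 1 := by
    rw [← map_mul, show b' * b' = 1 from Subtype.ext hg.bb, map_one]
  have hab : π a' * π b' = π b' * π a' := by
    rw [← map_mul, ← map_mul, show a' * b' = b' * a' from Subtype.ext hg.ab]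
  have ha1 : π a' ≠ 1 := fun h1 => hg.a1 (hKZ a hg.aK ((hπ1 a').1 h1))
  have hb1 : π b' ≠ 1 := fun h1 => hg.b1 (hKZ b hg.bK ((hπ1 b').1 h1))
  have hne : π a' ≠ π b' := by
    intro h1
    have h2 : π (a' * b') = 1 := by rw [map_mul, h1, hbb]
    exact hg.ab1 (hKZ (a * b) (mul_mem hg.aK hg.bK) ((hπ1 (a' * b')).1 h2))
  set U := fourGroup (π a') (π b') haa hbb hab with hU
  have hKF : IsKleinFour U := isKleinFour_fourGroup haa hbb hab ha1 hb1 hne
  have hcentU : ∀ v : Y, ((v : G) = a ∨ (v : G) = b ∨ (v : G) = a * b) → ∀ y : Y, π y * π v = π v * π y →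
      π y ∈ U := by
    intro v hv y hyv
    have hvK : (v : G) ∈ KK e := by
      rcases hv with h1 | h1 | h1 <;> rw [h1]
      · exact hg.aK
      · exact hg.bK
      · exact mul_mem hg.aK hg.bK
    have hv1 : (v : G) ≠ 1 := by
      rcases hv with h1 | h1 | h1 <;> rw [h1]
      · exact hg.a1
      · exact hg.b1
      · exact hg.ab1
    have hv2 : (v : G) * v = 1 := by
      rcases hv with h1 | h1 | h1 <;> rw [h1]
      · exact hg.aa
      · exact hg.bb
      · exact hg.abab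
    have h1 : π (v⁻¹ * (y * v * y⁻¹)) = 1 := by
      rw [map_mul, map_mul, map_mul, map_inv, map_inv, hyv]; group
    obtain ⟨z, hz, h2⟩ := (hπ1 _).1 h1
    have h3 : (y : G) * v * (y : G)⁻¹ = v * e z := by
      have h4 : (v : G)⁻¹ * (y * v * (y : G)⁻¹) = e z := h2
      rw [← h4]; group
    have hz1 : z = 1 := by
      by_contra hz1
      apply ha0 v hvK hv1 hv2 z (hT.ZAl hz) hz1 (hT.Zsq z hz) y
      rw [← h3, mem_KK_cjh]
      rw [show (y : G)⁻¹ * (y * v * (y : G)⁻¹) * y = v by group]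
      exact hvK
    rw [hz1, map_one, mul_one] at h3
    obtain ⟨k, hk, z', hz', h5⟩ := hYc y y.2 v hv (mul_inv_eq_iff_eq_mul.1 h3)
    have hkY : k ∈ Y := by
      rcases hk with h1 | h1 | h1 | h1 <;> rw [h1]
      · exact Y.one_mem
      · exact hKY hg.aK
      · exact hKY hg.bK
      · exact Y.mul_mem (hKY hg.aK) (hKY hg.bK)
    have h6 : π y = π ⟨k, hkY⟩ := by
      have h7 : π ((⟨k, hkY⟩ : Y)⁻¹ * y) = 1 := (hπ1 _).2 ⟨z', hz', by
        show k⁻¹ * (y : G) = e z'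
        rw [h5]; group⟩
      rw [map_mul, map_inv] at h7
      exact (inv_mul_eq_one.1 h7).symm
    rw [h6, hU, mem_fourGroup]
    rcases hk with h1 | h1 | h1 | h1
    · left
      rw [show (⟨k, hkY⟩ : Y) = 1 from Subtype.ext h1, map_one]
    · right; left
      rw [show (⟨k, hkY⟩ : Y) = a' from Subtype.ext h1]
    · right; right; left
      rw [show (⟨k, hkY⟩ : Y) = b' from Subtype.ext h1]
    · right; right; right
      rw [show (⟨k, hkY⟩ : Y) = a' * b' from Subtype.ext h1, map_mul]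
  have hHyp : J2Type.FourSelfCent.Hyp U := by
    refine ⟨hKF.card_four, fun u hu => sq_of_mem_fourGroup haa hbb hab hu, ?_⟩
    intro u hu hu1 q hq
    obtain ⟨y, rfl⟩ := hπs q
    rw [hU, mem_fourGroup] at hu
    rcases hu with rfl | rfl | rfl | rfl
    · exact absurd rfl hu1
    · exact hcentU a' (Or.inl rfl) y hq
    · exact hcentU b' (Or.inr (Or.inl rfl)) y hq
    · rw [← map_mul] at hq
      exact hcentU (a' * b') (Or.inr (Or.inr rfl)) y hq
  -- `B` embeds in `Y / Z`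
  have hBinj : ∀ y ∈ B, (∃ z ∈ Z, y = e z) → y = 1 := by
    rintro y hy ⟨z, hz, rfl⟩
    apply center_of_equiv eB hy
    intro x hx
    exact hBAl z (hT.ZAl hz) x hx
  have hcardB : Nat.card B = 60 := card_of_equiv eB
  let f : B →* Y ⧸ ZZ := π.comp (inclusion hBY)
  have hf : Function.Injective f := by
    rw [injective_iff_map_eq_one]
    intro x hx
    exact Subtype.ext (hBinj x x.2 ((hπ1 _).1 hx))
  have hcard : Nat.card (Y ⧸ ZZ) = 60 := by
    have h1 : Nat.card B ≤ Nat.card (Y ⧸ ZZ) := Nat.card_le_card_of_injective f hf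
    rcases hHyp.card_cases with h2 | h2 | h2
    · omega
    · omega
    · exact h2
  have hfs : Function.Surjective f := by
    have : Function.Bijective f := by
      rw [Nat.bijective_iff_injective_and_card]
      exact ⟨hf, by rw [hcardB, hcard]⟩
    exact this.2
  have hYB : ∀ y ∈ Y, ∃ x ∈ B, ∃ z ∈ Z, y = x * e z := by
    intro y hy
    obtain ⟨x, hx⟩ := hfs (π ⟨y, hy⟩)
    have h1 : π ((inclusion hBY x)⁻¹ * ⟨y, hy⟩) = 1 := by
      rw [map_mul, map_inv, ← hx]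
      exact inv_mul_cancel _
    obtain ⟨z, hz, h2⟩ := (hπ1 _).1 h1
    refine ⟨x, x.2, z, hz, ?_⟩
    have h3 : (x : G)⁻¹ * y = e z := h2
    rw [← h3]; group
  -- `B = Y'`
  have hYY : ⁅Y, Y⁆ ≤ B := by
    rw [commutator_le]
    intro y₁ hy₁ y₂ hy₂
    obtain ⟨x₁, hx₁, z₁, hz₁, rfl⟩ := hYB y₁ hy₁
    obtain ⟨x₂, hx₂, z₂, hz₂, rfl⟩ := hYB y₂ hy₂
    have c1 : e z₁ * x₂ = x₂ * e z₁ := hZc z₁ hz₁ _ (hBY hx₂)
    have c2 : e z₂ * x₁ = x₁ * e z₂ := hZc z₂ hz₂ _ (hBY hx₁)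
    have c3 : e z₁ * e z₂ = e z₂ * e z₁ := hZc z₁ hz₁ _ (hZY z₂ hz₂)
    have h1 : ⁅x₁ * e z₁, x₂ * e z₂⁆ = ⁅x₁, x₂⁆ := by
      rw [commutatorElement_def, commutatorElement_def]
      calc x₁ * e z₁ * (x₂ * e z₂) * (x₁ * e z₁)⁻¹ * (x₂ * e z₂)⁻¹
          = x₁ * (e z₁ * x₂) * e z₂ * (e z₁)⁻¹ * x₁⁻¹ * (e z₂)⁻¹ * x₂⁻¹ := by group
        _ = x₁ * x₂ * (e z₁ * e z₂) * (e z₁)⁻¹ * x₁⁻¹ * (e z₂)⁻¹ * x₂⁻¹ := by rw [c1]; group
        _ = x₁ * x₂ * (e z₂ * x₁⁻¹) * (e z₂)⁻¹ * x₂⁻¹ := by rw [c3]; group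
        _ = x₁ * x₂ * (x₁⁻¹ * (x₁ * e z₂) * x₁⁻¹) * (e z₂)⁻¹ * x₂⁻¹ := by group
        _ = x₁ * x₂ * (x₁⁻¹ * (e z₂ * x₁) * x₁⁻¹) * (e z₂)⁻¹ * x₂⁻¹ := by rw [c2]
        _ = x₁ * x₂ * x₁⁻¹ * x₂⁻¹ := by group
    rw [h1]
    exact B.mul_mem (B.mul_mem (B.mul_mem hx₁ hx₂) (B.inv_mem hx₁)) (B.inv_mem hx₂)
  have hBp : B ≤ ⁅B, B⁆ := perfect_of_equiv eB
  -- `n` normalises `Y`, hence `B`
  have hnY : ∀ s : L, (∀ t ∈ T, s⁻¹ * t * s ∈ T) → ∀ y ∈ Y, e s * y * (e s)⁻¹ ∈ Y := by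
    intro s hs y hy
    rw [mem_Y] at hy ⊢
    intro t ht
    have h1 := hy _ (hs t ht)
    rw [map_mul, map_mul, map_inv] at h1
    calc e s * y * (e s)⁻¹ * e t = e s * (y * ((e s)⁻¹ * e t * e s)) * (e s)⁻¹ := by group
      _ = e s * ((e s)⁻¹ * e t * e s * y) * (e s)⁻¹ := by rw [h1]
      _ = e t * (e s * y * (e s)⁻¹) := by group
  have hnB : ∀ s : L, (∀ t ∈ T, s⁻¹ * t * s ∈ T) → ∀ y ∈ B, e s * y * (e s)⁻¹ ∈ B := by
    intro s hs y hy
    have h1 : ⁅B, B⁆ ≤ ⁅Y, Y⁆ := commutator_mono hBY hBY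
    have h2 : ⁅Y, Y⁆ ≤ (B).comap (MulAut.conj (e s)).toMonoidHom := by
      rw [commutator_le]
      intro y₁ hy₁ y₂ hy₂
      rw [mem_comap, map_commutatorElement]
      exact hYY (commutator_mem_commutator (hnY s hs y₁ hy₁) (hnY s hs y₂ hy₂))
    exact h2 (h1 (hBp hy))
  have hn1 : ∀ y, y ∈ B ↔ e n * y * (e n)⁻¹ ∈ B := by
    intro y
    constructor
    · exact hnB n hT.nT' y
    · intro h1
      have h2 := hnB n⁻¹ (fun t ht => by rw [inv_inv]; exact hT.nT t ht) _ h1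
      rw [map_inv, inv_inv, show (e n)⁻¹ * (e n * y * (e n)⁻¹) * e n = y by group] at h2
      exact h2
  have hnc : ∀ y ∈ B, e n * y = y * e n :=
    hg.comm_of_norm eB hKB hn1 (mem_KK.1 hg.aK n).symm (mem_KK.1 hg.bK n).symm (mem_KK.1 hg.cK n).symm
  -- so `L` centralises `B`
  have hLB : ∀ x : L, ∀ y ∈ B, e x * y = y * e x := by
    have h1 : closure ((D.Al : Set L) ∪ N5 D ∪ {n}) ≤ (centralizer (B : Set G)).comap e := by
      rw [closure_le]
      rintro x (hx | hx)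
      · rw [SetLike.mem_coe, mem_comap, mem_centralizer_iff]
        intro y hy
        exact (hBJ x (subset_closure hx) y hy).symm
      · rw [Set.mem_singleton_iff] at hx
        rw [hx, SetLike.mem_coe, mem_comap, mem_centralizer_iff]
        intro y hy
        exact (hnc y hy).symm
    rw [hT.top] at h1
    intro x y hy
    have h2 := h1 (mem_top x)
    rw [mem_comap, mem_centralizer_iff] at h2
    exact (h2 y hy).symm
  have hBK : B ≤ KK e := fun y hy => mem_KK.2 fun x => (hLB x y hy).symm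
  have h60 : Nat.card B ∣ Nat.card (KK e) := card_dvd_of_le hBK
  rw [hcardB, hg.card] at h60
  revert h60
  norm_num

end Cfsg.Agent.StdG24.StepSevenAbs
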