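import Mathlib
import Cfsg.Agent.StdG24.OddPair
import Cfsg.Agent.StdG24.StepSevenAbs
import Cfsg.Agent.StdG24.StepSevenN
import Cfsg.Agent.StdAlt.Five.PGroup

/-!
# From the odd configuration to step 7

`FD.align`: an odd configuration in `C(d)` moved so that its four-group of `e B` is a given four-group `e X`.
`nw_of_nu`: (n) for `u` implies (n) for `w`.
-/

set_option autoImplicit false

namespace Cfsg.Agent.StdG24

open scoped Pointwise
open Subgroup Cfsg Cfsg.Agent.StdAlt Cfsg.Agent.StdAlt.Conj Cfsg.Agent.StdAlt.Pairs Cfsg.Agent.StdAlt.First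
  Cfsg.Agent.StdAlt.Five

variable {L : Type*} [Group L] {G : Type*} [Group G]

namespace Glue

/-- a subgroup of order 4 is a maximal 2-subgroup when 8 does not divide the order -/
theorem eq_of_four {K : Type*} [Group K] [Finite K] (h8 : ¬ 8 ∣ Nat.card K) {P S : Subgroup K} (hP : Nat.card P = 4)
    (hS : IsPGroup 2 S) (h : P ≤ S) : P = S := by
  have : Fact (Nat.Prime 2) := ⟨Nat.prime_two⟩
  obtain ⟨n, hn⟩ := IsPGroup.iff_card.1 hS
  have h1 : n ≤ 2 := by
    by_contra hlt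
    apply h8
    refine Dvd.dvd.trans ?_ (card_subgroup_dvd_card S)
    rw [hn, show (8 : ℕ) = 2 ^ 3 by norm_num]
    exact pow_dvd_pow 2 (by omega)
  refine eq_of_le_of_card_ge h ?_
  rw [hn, hP, show (4 : ℕ) = 2 ^ 2 by norm_num]
  exact Nat.pow_le_pow_right (by norm_num) h1

theorem exists_conj_four {K : Type*} [Group K] [Finite K] (h8 : ¬ 8 ∣ Nat.card K) {P Q : Subgroup K}
    (hP : Nat.card P = 4) (hQ : Nat.card Q = 4) : ∃ s : K, ∀ x, x ∈ P ↔ s * x * s⁻¹ ∈ Q := by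
  have : Fact (Nat.Prime 2) := ⟨Nat.prime_two⟩
  obtain ⟨S, hS⟩ := (isPGroup_four hP).exists_le_sylow
  obtain ⟨T, hT⟩ := (isPGroup_four hQ).exists_le_sylow
  have h1 : P = S := eq_of_four h8 hP S.isPGroup' hS
  have h2 : Q = T := eq_of_four h8 hQ T.isPGroup' hT
  obtain ⟨s, hs⟩ := MulAction.exists_smul_eq K S T
  refine ⟨s, fun x => ?_⟩
  have h3 : ((T : Subgroup K)) = MulAut.conj s • (S : Subgroup K) := by
    rw [← hs]; rfl
  rw [h1, h2, h3, Subgroup.mem_pointwise_smul_iff_inv_smul_mem]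
  constructor
  · intro hx
    have : (MulAut.conj s)⁻¹ • (s * x * s⁻¹) = x := by
      rw [← map_inv, MulAut.smul_def, MulAut.conj_apply]; group
    rw [this]
    exact hx
  · intro hx
    have : (MulAut.conj s)⁻¹ • (s * x * s⁻¹) = x := by
      rw [← map_inv, MulAut.smul_def, MulAut.conj_apply]; group
    rw [this] at hx
    exact hx

theorem mem_sup [Finite G] {A R V : Subgroup G} (hR : R ≤ C A) (hV : V ≤ A) {x : G} (hx : x ∈ R ⊔ V) :
    ∃ r ∈ R, ∃ v ∈ V, x = r * v := by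
  have hc : V ≤ N R := by
    intro v hv
    refine mem_N_of fun r hr => ?_
    rw [← comm_of_C (hR hr) (hV hv), mul_inv_cancel_right]
    exact hr
  rw [← SetLike.mem_coe, coe_mul_of_right_le_normalizer_left R V hc] at hx
  obtain ⟨r, hr, v, hv, rfl⟩ := hx
  exact ⟨r, hr, v, hv, rfl⟩

end Glue

namespace FD

variable {d : L} {B : Subgroup L} {e : L →* G}

/-- The odd configuration in `C(d)`, moved to a given four-group `X` of `B`. -/
theorem align [Finite G] (F : FD d B) (h : Emb e) {R V : Subgroup (HH e d)} {ρ g : HH e d}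
    (hE : OddE (F.AH e) R V ρ g) (hRK : ∀ r ∈ R, (r : G) ∈ KK e) {X : Subgroup L} (hXB : X ≤ B)
    (hX4 : Nat.card X = 4) :
    ∃ g' : G, R.map (HH e d).subtype ≤ KK e ∧ (∀ v ∈ R.map (HH e d).subtype, v * v = 1) ∧
      Nat.card (R.map (HH e d).subtype) = 4 ∧
      (∀ P : Subgroup G, P ≤ KK e → IsPGroup 2 P → R.map (HH e d).subtype ≤ P → P = R.map (HH e d).subtype) ∧
      g' * e d = e d * g' ∧
      (∀ v ∈ R.map (HH e d).subtype, ∃ v' ∈ R.map (HH e d).subtype, ∃ x ∈ X, g' * v * g'⁻¹ = v' * e x) ∧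
      (∀ x ∈ X, ∃ x' ∈ X, g' * e x * g'⁻¹ = e x') ∧
      ∃ v ∈ R.map (HH e d).subtype, g' * v * g'⁻¹ ∉ R.map (HH e d).subtype := by
  set W : Subgroup G := R.map (HH e d).subtype with hW
  have hWK : W ≤ KK e := by
    rintro _ ⟨r, hr, rfl⟩
    exact hRK r hr
  have hW4 : Nat.card W = 4 := by
    rw [← hE.cardR]
    exact (Nat.card_congr (R.equivMapOfInjective _ (HH e d).subtype_injective).toEquiv).symm
  have hW2 : ∀ v ∈ W, v * v = 1 := by
    rintro _ ⟨r, hr, rfl⟩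
    exact congrArg Subtype.val (hE.sqR r hr)
  have hmem : ∀ r : HH e d, (r : G) ∈ W ↔ r ∈ R := by
    intro r
    constructor
    · rintro ⟨r', hr', h1⟩
      have h2 : r' = r := Subtype.ext h1
      rw [← h2]
      exact hr'
    · intro hr
      exact ⟨r, hr, rfl⟩
  -- the conjugating element
  obtain ⟨s, hs⟩ : ∃ s : B, ∀ x : B, F.eH e x ∈ V ↔ ((s * x * s⁻¹ : B) : L) ∈ X := by
    have h60 : Nat.card B = 60 := by
      obtain ⟨φ⟩ := F.iso
      exact StepSevenAbs.card_of_equiv φ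
    have : Finite B := Nat.finite_of_card_ne_zero (by rw [h60]; norm_num)
    have h8 : ¬ 8 ∣ Nat.card B := by rw [h60]; norm_num
    have hV4 : Nat.card (V.comap (F.eH e)) = 4 := by
      have h1 : (V.comap (F.eH e)).map (F.eH e) = V := by
        rw [map_comap_eq]
        exact inf_eq_right.2 hE.V_le
      have h2 := Nat.card_congr ((V.comap (F.eH e)).equivMapOfInjective _ (F.eH_inj h.inj)).toEquiv
      rw [h1] at h2
      rw [h2]
      exact hE.cardV
    have hX4' : Nat.card (X.subgroupOf B) = 4 := by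
      rw [← hX4]
      exact Nat.card_congr (subgroupOfEquivOfLe hXB).toEquiv
    obtain ⟨s, hs⟩ := Glue.exists_conj_four h8 hV4 hX4'
    exact ⟨s, fun x => hs x⟩
  have hsd : e s * e d = e d * e s := by rw [← map_mul, ← map_mul, F.comm s s.2]
  have hgd := mem_HH.1 g.2
  have hsK : ∀ k ∈ KK e, e s * k * (e s)⁻¹ = k := by
    intro k hk
    rw [← mem_KK.1 hk]; group
  have hsK' : ∀ k ∈ KK e, (e s)⁻¹ * k * e s = k := by
    intro k hk
    rw [mul_assoc, mem_KK.1 hk]; group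
  -- elements of `R ⊔ V`
  have hsup : ∀ x : HH e d, x ∈ R ⊔ V → ∃ v' ∈ W, ∃ x' ∈ X, e s * (x : G) * (e s)⁻¹ = v' * e x' := by
    intro x hx
    obtain ⟨r, hr, v, hv, rfl⟩ := Glue.mem_sup hE.R_le hE.V_le hx
    obtain ⟨b, rfl⟩ := hE.V_le hv
    refine ⟨r, ⟨r, hr, rfl⟩, _, (hs b).1 hv, ?_⟩
    have h1 := hsK _ (hRK r hr)
    calc e s * ((r * F.eH e b : HH e d) : G) * (e s)⁻¹ = (e s * (r : G) * (e s)⁻¹) * (e s * e b * (e s)⁻¹) := by
          rw [Subgroup.coe_mul, coe_eH]; group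
      _ = r * e ((s * b * s⁻¹ : B) : L) := by
          rw [h1]
          simp only [Subgroup.coe_mul, Subgroup.coe_inv, map_mul, map_inv]
  refine ⟨e s * g * (e s)⁻¹, hWK, hW2, hW4, ?_, ?_, ?_, ?_, ?_⟩
  · intro P hP hP2 hle
    have hPH : ∀ p ∈ P, p ∈ HH e d := fun p hp => mem_HH.2 (mem_KK.1 (hP hp) d)
    let f : P →* C (F.AH e) :=
      { toFun := fun p => ⟨⟨p, hPH p p.2⟩, F.mem_centralizer_AH.2 (KK_le_CC _ _ (hP p.2))⟩
        map_one' := rfl
        map_mul' := fun _ _ => rfl }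
    have hf : Function.Injective f := fun a b hab => by
      have h6 : (a : G) = b := congrArg (fun x : C (F.AH e) => ((x : HH e d) : G)) hab
      exact Subtype.ext h6
    have : Fact (Nat.Prime 2) := ⟨Nat.prime_two⟩
    obtain ⟨n, hn⟩ := IsPGroup.iff_card.1 hP2
    have h1 : n ≤ 2 := by
      by_contra hlt
      apply hE.card8
      refine Dvd.dvd.trans ?_ (card_dvd_of_injective f hf)
      rw [hn, show (8 : ℕ) = 2 ^ 3 by norm_num]
      exact pow_dvd_pow 2 (by omega)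
    refine (eq_of_le_of_card_ge hle ?_).symm
    rw [hn, hW4, show (4 : ℕ) = 2 ^ 2 by norm_num]
    exact Nat.pow_le_pow_right (by norm_num) h1
  · have h1 := inv_comm hsd
    calc e s * (g : G) * (e s)⁻¹ * e d = e s * (g : G) * ((e s)⁻¹ * e d) := by group
      _ = e s * ((g : G) * e d) * (e s)⁻¹ := by rw [h1]; group
      _ = e s * e d * (g : G) * (e s)⁻¹ := by rw [hgd]; group
      _ = e d * (e s * (g : G) * (e s)⁻¹) := by rw [hsd]; group
  · intro v hv
    obtain ⟨r, hr, rfl⟩ := hv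
    obtain ⟨v', hv', x', hx', h1⟩ := hsup _ (Conj.conj_mem hE.gE (mem_sup_left hr))
    refine ⟨v', hv', x', hx', ?_⟩
    rw [← h1]
    change e s * (g : G) * (e s)⁻¹ * (r : G) * (e s * (g : G) * (e s)⁻¹)⁻¹ =
      e s * ((g : G) * (r : G) * (g : G)⁻¹) * (e s)⁻¹
    calc e s * (g : G) * (e s)⁻¹ * (r : G) * (e s * (g : G) * (e s)⁻¹)⁻¹ =
        e s * (g : G) * ((e s)⁻¹ * (r : G) * e s) * (g : G)⁻¹ * (e s)⁻¹ := by group
      _ = e s * ((g : G) * (r : G) * (g : G)⁻¹) * (e s)⁻¹ := by rw [hsK' _ (hRK r hr)]; group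
  · intro x hx
    have hxV : F.eH e (s⁻¹ * ⟨x, hXB hx⟩ * s) ∈ V := by
      rw [hs, show s * (s⁻¹ * ⟨x, hXB hx⟩ * s) * s⁻¹ = ⟨x, hXB hx⟩ by group]
      exact hx
    have hgV := PGroup.normV hE hE.gE hxV
    obtain ⟨y, hy⟩ := hE.V_le hgV
    rw [← hy] at hgV
    refine ⟨_, (hs y).1 hgV, ?_⟩
    have h1 : (g : G) * (F.eH e (s⁻¹ * ⟨x, hXB hx⟩ * s) : G) * (g : G)⁻¹ = e y := (congrArg Subtype.val hy).symm
    simp only [Subgroup.coe_mul, Subgroup.coe_inv, map_mul, map_inv]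
    rw [← h1, coe_eH]
    simp only [Subgroup.coe_mul, Subgroup.coe_inv, map_mul, map_inv, mul_inv_rev, inv_inv]
    group
  · by_contra hcon
    push Not at hcon
    apply hE.gA
    obtain ⟨r, hr, hr1⟩ : ∃ r ∈ R, r ≠ 1 := by
      by_contra hno
      push Not at hno
      have : R = ⊥ := (eq_bot_iff_forall R).2 hno
      have h1 := hE.cardR
      rw [this, Subgroup.card_bot] at h1
      omega
    refine hE.te.key r g (hE.R_le hr) hr1 (hE.sqR r hr) (hE.R_le ?_)
    rw [← hmem]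
    have h1 := hcon r ⟨r, hr, rfl⟩
    have h2 := hsK' _ (hWK h1)
    have h3 : ((g * r * g⁻¹ : HH e d) : G) = e s * (g : G) * (e s)⁻¹ * (r : G) * (e s * (g : G) * (e s)⁻¹)⁻¹ := by
      rw [← h2]
      change (g : G) * (r : G) * (g : G)⁻¹ = _
      calc (g : G) * (r : G) * (g : G)⁻¹ = (g : G) * ((e s)⁻¹ * (r : G) * e s) * (g : G)⁻¹ := by
            rw [hsK' _ (hRK r hr)]
        _ = _ := by group
    rw [h3]
    exact h1

end FD

variable {D : Data L} {e : L →* G}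

/-- **Step 7**: (n) for `u` implies (n) for `w` -/
theorem nw_of_nu [Finite G] (F : Facts D) (Fw : FD D.w D.As) {N Q X : Subgroup L}
    (FN : StepSevenN.FactsN D N Q X) (hX : X ≤ D.As) (hX4 : Nat.card X = 4) (h : Emb e)
    (hr : ¬ PRankLE 2 1 (KK e)) (hn : NU D e) (hcomm : CommHalf (HH e D.w ⧸ oddCore (HH e D.w))) : NW D e := by
  by_contra hnw
  obtain ⟨Lb, i, R, ρ, g, hE, hRK⟩ := odd_w F Fw h hr hn hnw hcomm
  obtain ⟨g', h1, h2, h3, h4, h5, h6, h7, h8⟩ := Fw.align h hE hRK hX hX4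
  refine StepSevenN.step_seven F FN h hn _ h1 h2 h4 g' h5 h6 (fun x hx => ?_) h8
  obtain ⟨x', hx', h9⟩ := h7 x hx
  exact ⟨1, one_mem _, x', hx', by rw [h9, one_mul]⟩

end Cfsg.Agent.StdG24
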