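import Cfsg.Agent.StdG24.MainB
import Cfsg.Agent.StdG24.NormalStd
import Cfsg.Agent.StdG24.StepSevenGlue
import Cfsg.Agent.StdG24.FactsNL0
import Cfsg.Agent.StdG24.QB
import Cfsg.Agent.GTwoFour.EmbOf
import Cfsg.Agent.StdAlt.Pairs

/-!
# S1767: assembly
-/

set_option autoImplicit false

namespace Cfsg.Agent.StdG24.MainA

open Cfsg Cfsg.Agent.StdG24.Words Cfsg.Agent.StdG24.FactsL0 Cfsg.Agent.StdG24.GenJ Subgroup
open Cfsg.Agent.StdAlt Cfsg.Agent.StdAlt.First

theorem z00 : X 6 0 * X 6 0 = 1 := QB.XX (by decide +kernel)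
theorem z11 : X 6 1 * X 6 1 = 1 := QB.XX (by decide +kernel)
theorem z01 : X 6 0 * X 6 1 = X 6 1 * X 6 0 := QB.XXX (by decide +kernel)
theorem v00 : X 9 0 * X 9 0 = 1 := QB.XX (by decide +kernel)
theorem v11 : X 9 1 * X 9 1 = 1 := QB.XX (by decide +kernel)
theorem v01 : X 9 0 * X 9 1 = X 9 1 * X 9 0 := QB.XXX (by decide +kernel)
theorem z0 : X 6 0 ≠ 1 := by
  have h := CentX.E_ne (a := [xr 6 0]) (b := []) (by decide +kernel)
  rwa [E_nil] at h
theorem z1 : X 6 1 ≠ 1 := by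
  have h := CentX.E_ne (a := [xr 6 1]) (b := []) (by decide +kernel)
  rwa [E_nil] at h
theorem v0 : X 9 0 ≠ 1 := by
  have h := CentX.E_ne (a := [xr 9 0]) (b := []) (by decide +kernel)
  rwa [E_nil] at h
theorem v1 : X 9 1 ≠ 1 := by
  have h := CentX.E_ne (a := [xr 9 1]) (b := []) (by decide +kernel)
  rwa [E_nil] at h
theorem zne : X 6 0 ≠ X 6 1 := CentX.E_ne (a := [xr 6 0]) (b := [xr 6 1]) (by decide +kernel)
theorem vne : X 9 0 ≠ X 9 1 := CentX.E_ne (a := [xr 9 0]) (b := [xr 9 1]) (by decide +kernel)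

/-- `Z₁` -/
noncomputable def Z1 : Subgroup L0 := Pairs.four (X 6 0) (X 6 1) z00 z11 z01

theorem Z1_le : Z1 ≤ D0.Al := by
  rintro x (rfl | rfl | rfl | rfl)
  · exact one_mem _
  · exact X_mem_Al (Or.inr rfl) (by norm_num)
  · exact X_mem_Al (Or.inr rfl) (by norm_num)
  · exact mul_mem (X_mem_Al (Or.inr rfl) (by norm_num)) (X_mem_Al (Or.inr rfl) (by norm_num))

theorem card_Z1 : Nat.card Z1 = 4 := Pairs.card_four z0 z1 zne

theorem z_mem : D0.z ∈ Z1 := Or.inr (Or.inl rfl)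

theorem XB_le : QDef.XB ≤ D0.As := by
  rw [QDef.XB, closure_le]
  rintro x (rfl | rfl)
  · exact X_mem_As (Or.inr rfl) (by norm_num)
  · exact X_mem_As (Or.inr rfl) (by norm_num)

theorem card_XB : Nat.card QDef.XB = 4 := by
  have h : QDef.XB = Pairs.four (X 9 0) (X 9 1) v00 v11 v01 := by
    apply le_antisymm
    · intro x hx
      exact QB.XB_cases hx
    · rintro x (rfl | rfl | rfl | rfl)
      · exact one_mem _
      · exact subset_closure (by simp)
      · exact subset_closure (by simp)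
      · exact mul_mem (subset_closure (by simp)) (subset_closure (by simp))
  rw [h]
  exact Pairs.card_four v0 v1 vne

/-- the centre of `L0` is trivial -/
theorem center_L0 (x : L0) (hx : ∀ y, x * y = y * x) : x = 1 := by
  have h1 := LettersAbs.simple_L0
  rcases (inferInstance : (center L0).Normal).eq_bot_or_eq_top with h | h
  · have h2 : x ∈ center L0 := mem_center_iff.2 fun y => (hx y).symm
    rw [h, mem_bot] at h2
    exact h2
  · exfalso
    apply facts0.u1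
    apply facts0.centAs _ facts0.uAs
    intro b _
    have h2 : D0.u ∈ center L0 := by rw [h]; exact mem_top _
    exact (mem_center_iff.1 h2 b).symm

/-- **S1767** -/
theorem main {G : Type*} [Group G] [Finite G] (hO : Cfsg.oddCore G = ⊥)
    (A : Subgroup G) (hA : Cfsg.IsStandardSubgroup A) {F : Type*} [Field F] [Fintype F] (hF : Fintype.card F = 4)
    (hAX : Nonempty (↥A ≃* ↥(Cfsg.Lie.chevG2.group F)))
    (hR : ¬ Cfsg.PRankLE 2 1 ↥(Subgroup.centralizer (A : Set G)))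
    (hcG : CommHalf G) (hcQ : ∀ K : Subgroup G, CommHalf (K ⧸ Cfsg.oddCore K)) :
    A.Normal ∨ Cfsg.Spor.IsoCo1 ↥(Subgroup.normalClosure (A : Set G)) := by
  obtain ⟨φ0⟩ := hAX
  obtain ⟨φ1⟩ := Iso416.equiv_chev F hF
  let φ : A ≃* L0 := φ0.trans φ1.symm
  have h : Emb (GTwoFour.EmbOf.emb φ) := GTwoFour.EmbOf.emb_of_standard hA φ center_L0 ⟨_, facts0.u1⟩
  have hrange := GTwoFour.EmbOf.range_emb φ
  have hr : ¬ PRankLE 2 1 (KK (GTwoFour.EmbOf.emb φ)) := by
    rw [GTwoFour.EmbOf.KK_emb]; exact hR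
  by_cases hn : NU D0 (GTwoFour.EmbOf.emb φ)
  · left
    have hw : NW D0 (GTwoFour.EmbOf.emb φ) := nw_of_nu facts0 (fd_w facts0 MainB.eAs) FactsNL0.factsN0 XB_le card_XB
      h hr hn (hcQ _)
    have hs := LettersAbs.simple_L0
    exact NormalStd.normal_of_standard hcG hA hR (E := E0) ax0 NormalStd.f4 φ.symm hw hn
  · right
    obtain ⟨Lb, i, R, ρ, g, hE, hRK⟩ := odd_u facts0 (fd_u facts0 MainB.eAl) h hr hn (hcQ _)
    obtain ⟨g', h1, h2, h3, h4, h5, h6, h7, h8⟩ := (fd_u facts0 MainB.eAl).align h hE hRK Z1_le card_Z1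
    have := MainB.iso hO Z1_le card_Z1 z_mem h (b := g')
      { WK := h1, sq := h2, W4 := h3, max := h4, bu := h5, bW := h6, bZ := h7, bn := h8 }
    rwa [hrange] at this

end Cfsg.Agent.StdG24.MainA
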