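import Cfsg.Agent.StdG24.Ord6
import Cfsg.Agent.S0494

/-!
# The two commuting subgroups `Al`, `As` of type `A₅` of the six-dimensional `G₂(4)`
-/

set_option autoImplicit false
set_option linter.constructorNameAsVariable false
set_option linter.unusedVariables false

namespace Cfsg.Agent.StdG24.Al6

open Cfsg.Agent.SporRec
open Cfsg.Agent.SporRec.GF4
open Cfsg.Agent.SporRec.G24Code (app)
open Cfsg.Agent.StdG24.Mod6
open Cfsg.Agent.StdG24.Ord6

/-- equality of codes -/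
def eqC : List ℕ → List ℕ → Bool
  | [], [] => true
  | a :: as, b :: bs => Nat.beq a b && eqC as bs
  | _, _ => false

theorem eqC_iff {C D : List ℕ} : eqC C D = true ↔ C = D := by
  induction C generalizing D with
  | nil => cases D <;> simp [eqC]
  | cons a as ih =>
    cases D with
    | nil => simp [eqC]
    | cons b bs => simp [eqC, ih]

/-- the long subgroup `A₅` -/
def Al : Subgroup GL6 := Subgroup.closure {g | ∃ t, g = gx 5 t ∨ g = gx 6 t}

/-- the short subgroup `A₅` -/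
def As : Subgroup GL6 := Subgroup.closure {g | ∃ t, g = gx 2 t ∨ g = gx 9 t}

theorem gx5_mem (t : Fin 3) : gx 5 t ∈ Al := Subgroup.subset_closure ⟨t, Or.inl rfl⟩
theorem gx6_mem (t : Fin 3) : gx 6 t ∈ Al := Subgroup.subset_closure ⟨t, Or.inr rfl⟩
theorem gx2_mem (t : Fin 3) : gx 2 t ∈ As := Subgroup.subset_closure ⟨t, Or.inl rfl⟩
theorem gx9_mem (t : Fin 3) : gx 9 t ∈ As := Subgroup.subset_closure ⟨t, Or.inr rfl⟩

theorem Al_le : Al ≤ L := by
  refine (Subgroup.closure_le _).2 ?_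
  rintro _ ⟨t, rfl | rfl⟩ <;> exact gx_mem _ _

theorem As_le : As ≤ L := by
  refine (Subgroup.closure_le _).2 ?_
  rintro _ ⟨t, rfl | rfl⟩ <;> exact gx_mem _ _

theorem comm_check : ∀ s t : Fin 3, cw [(5, s), (2, t)] = cw [(2, t), (5, s)] ∧
    cw [(6, s), (2, t)] = cw [(2, t), (6, s)] ∧ cw [(5, s), (9, t)] = cw [(9, t), (5, s)] ∧
    cw [(6, s), (9, t)] = cw [(9, t), (6, s)] := by decide +kernel

theorem ev_pair (r s : Fin 12) (t t' : Fin 3) : ev [(r, t), (s, t')] = gx r t * gx s t' := by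
  have h : [(r, t), (s, t')] = [(r, t)] ++ [(s, t')] := rfl
  rw [h, ev_append, ev_singleton, ev_singleton]

theorem gx_comm (r s : Fin 12) (t t' : Fin 3) (h : cw [(r, t), (s, t')] = cw [(s, t'), (r, t)]) :
    gx r t * gx s t' = gx s t' * gx r t := by
  rw [← ev_pair, ← ev_pair]
  exact ev_eq_of h

theorem comm_Al_As {a s : GL6} (ha : a ∈ Al) (hs : s ∈ As) : a * s = s * a := by
  have h1 : As ≤ Subgroup.centralizer (Al : Set GL6) := by
    refine (Subgroup.closure_le _).2 ?_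
    intro y hy
    rw [SetLike.mem_coe, Subgroup.mem_centralizer_iff]
    intro x hx
    have h2 : Al ≤ Subgroup.centralizer ({y} : Set GL6) := by
      refine (Subgroup.closure_le _).2 ?_
      intro x hx
      rw [SetLike.mem_coe, Subgroup.mem_centralizer_singleton_iff]
      obtain ⟨r, hr⟩ := hx
      obtain ⟨t, ht⟩ := hy
      obtain ⟨c1, c2, c3, c4⟩ := comm_check r t
      rcases hr with rfl | rfl <;> rcases ht with rfl | rfl
      · exact gx_comm _ _ _ _ c1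
      · exact gx_comm _ _ _ _ c3
      · exact gx_comm _ _ _ _ c2
      · exact gx_comm _ _ _ _ c4
    exact Subgroup.mem_centralizer_singleton_iff.1 (h2 hx)
  exact Subgroup.mem_centralizer_iff.1 (h1 hs) a ha

/-! ### Tables: codes of the elements and of their inverses -/

def ALT : List (List ℕ × List ℕ) := [
  ([1, 2, 4, 8, 16, 32, 64, 128, 256, 512, 1024, 2048], [1, 2, 4, 8, 16, 32, 64, 128, 256, 512, 1024, 2048]),
  ([1, 2, 20, 40, 16, 32, 320, 640, 256, 512, 1024, 2048], [1, 2, 20, 40, 16, 32, 320, 640, 256, 512, 1024, 2048]),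
  ([1, 2, 36, 56, 16, 32, 576, 896, 256, 512, 1024, 2048], [1, 2, 36, 56, 16, 32, 576, 896, 256, 512, 1024, 2048]),
  ([1, 2, 52, 24, 16, 32, 832, 384, 256, 512, 1024, 2048], [1, 2, 52, 24, 16, 32, 832, 384, 256, 512, 1024, 2048]),
  ([1, 2, 4, 8, 20, 40, 64, 128, 320, 640, 1024, 2048], [1, 2, 4, 8, 20, 40, 64, 128, 320, 640, 1024, 2048]),
  ([1, 2, 4, 8, 24, 44, 64, 128, 384, 704, 1024, 2048], [1, 2, 4, 8, 24, 44, 64, 128, 384, 704, 1024, 2048]),
  ([1, 2, 4, 8, 28, 36, 64, 128, 448, 576, 1024, 2048], [1, 2, 4, 8, 28, 36, 64, 128, 448, 576, 1024, 2048]),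
  ([1, 2, 16, 32, 20, 40, 256, 512, 320, 640, 1024, 2048], [1, 2, 20, 40, 4, 8, 320, 640, 64, 128, 1024, 2048]),
  ([1, 2, 28, 36, 24, 44, 448, 576, 384, 704, 1024, 2048], [1, 2, 20, 40, 56, 28, 320, 640, 896, 448, 1024, 2048]),
  ([1, 2, 24, 44, 28, 36, 384, 704, 448, 576, 1024, 2048], [1, 2, 20, 40, 44, 52, 320, 640, 704, 832, 1024, 2048]),
  ([1, 2, 44, 52, 20, 40, 704, 832, 320, 640, 1024, 2048], [1, 2, 36, 56, 52, 24, 576, 896, 832, 384, 1024, 2048]),
  ([1, 2, 40, 60, 24, 44, 640, 960, 384, 704, 1024, 2048], [1, 2, 36, 56, 40, 60, 576, 896, 640, 960, 1024, 2048]),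
  ([1, 2, 32, 48, 28, 36, 512, 768, 448, 576, 1024, 2048], [1, 2, 36, 56, 12, 4, 576, 896, 192, 64, 1024, 2048]),
  ([1, 2, 56, 28, 20, 40, 896, 448, 320, 640, 1024, 2048], [1, 2, 52, 24, 36, 56, 832, 384, 576, 896, 1024, 2048]),
  ([1, 2, 48, 16, 24, 44, 768, 256, 384, 704, 1024, 2048], [1, 2, 52, 24, 8, 12, 832, 384, 128, 192, 1024, 2048]),
  ([1, 2, 60, 20, 28, 36, 960, 320, 448, 576, 1024, 2048], [1, 2, 52, 24, 60, 20, 832, 384, 960, 320, 1024, 2048]),
  ([1, 2, 20, 40, 4, 8, 320, 640, 64, 128, 1024, 2048], [1, 2, 16, 32, 20, 40, 256, 512, 320, 640, 1024, 2048]),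
  ([1, 2, 36, 56, 52, 24, 576, 896, 832, 384, 1024, 2048], [1, 2, 44, 52, 20, 40, 704, 832, 320, 640, 1024, 2048]),
  ([1, 2, 52, 24, 36, 56, 832, 384, 576, 896, 1024, 2048], [1, 2, 56, 28, 20, 40, 896, 448, 320, 640, 1024, 2048]),
  ([1, 2, 20, 40, 56, 28, 320, 640, 896, 448, 1024, 2048], [1, 2, 28, 36, 24, 44, 448, 576, 384, 704, 1024, 2048]),
  ([1, 2, 36, 56, 40, 60, 576, 896, 640, 960, 1024, 2048], [1, 2, 40, 60, 24, 44, 640, 960, 384, 704, 1024, 2048]),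
  ([1, 2, 52, 24, 8, 12, 832, 384, 128, 192, 1024, 2048], [1, 2, 48, 16, 24, 44, 768, 256, 384, 704, 1024, 2048]),
  ([1, 2, 20, 40, 44, 52, 320, 640, 704, 832, 1024, 2048], [1, 2, 24, 44, 28, 36, 384, 704, 448, 576, 1024, 2048]),
  ([1, 2, 36, 56, 12, 4, 576, 896, 192, 64, 1024, 2048], [1, 2, 32, 48, 28, 36, 512, 768, 448, 576, 1024, 2048]),
  ([1, 2, 52, 24, 60, 20, 832, 384, 960, 320, 1024, 2048], [1, 2, 60, 20, 28, 36, 960, 320, 448, 576, 1024, 2048]),
  ([1, 2, 16, 32, 4, 8, 256, 512, 64, 128, 1024, 2048], [1, 2, 16, 32, 4, 8, 256, 512, 64, 128, 1024, 2048]),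
  ([1, 2, 16, 32, 52, 24, 256, 512, 832, 384, 1024, 2048], [1, 2, 28, 36, 4, 8, 448, 576, 64, 128, 1024, 2048]),
  ([1, 2, 16, 32, 36, 56, 256, 512, 576, 896, 1024, 2048], [1, 2, 24, 44, 4, 8, 384, 704, 64, 128, 1024, 2048]),
  ([1, 2, 44, 52, 56, 28, 704, 832, 896, 448, 1024, 2048], [1, 2, 44, 52, 56, 28, 704, 832, 896, 448, 1024, 2048]),
  ([1, 2, 12, 4, 40, 60, 192, 64, 640, 960, 1024, 2048], [1, 2, 8, 12, 56, 28, 128, 192, 896, 448, 1024, 2048]),
  ([1, 2, 60, 20, 8, 12, 960, 320, 128, 192, 1024, 2048], [1, 2, 48, 16, 56, 28, 768, 256, 896, 448, 1024, 2048]),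
  ([1, 2, 56, 28, 44, 52, 896, 448, 704, 832, 1024, 2048], [1, 2, 56, 28, 44, 52, 896, 448, 704, 832, 1024, 2048]),
  ([1, 2, 40, 60, 12, 4, 640, 960, 192, 64, 1024, 2048], [1, 2, 32, 48, 44, 52, 512, 768, 704, 832, 1024, 2048]),
  ([1, 2, 8, 12, 60, 20, 128, 192, 960, 320, 1024, 2048], [1, 2, 12, 4, 44, 52, 192, 64, 704, 832, 1024, 2048]),
  ([1, 2, 28, 36, 4, 8, 448, 576, 64, 128, 1024, 2048], [1, 2, 16, 32, 52, 24, 256, 512, 832, 384, 1024, 2048]),
  ([1, 2, 60, 20, 52, 24, 960, 320, 832, 384, 1024, 2048], [1, 2, 60, 20, 52, 24, 960, 320, 832, 384, 1024, 2048]),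
  ([1, 2, 12, 4, 36, 56, 192, 64, 576, 896, 1024, 2048], [1, 2, 8, 12, 52, 24, 128, 192, 832, 384, 1024, 2048]),
  ([1, 2, 8, 12, 56, 28, 128, 192, 896, 448, 1024, 2048], [1, 2, 12, 4, 40, 60, 192, 64, 640, 960, 1024, 2048]),
  ([1, 2, 24, 44, 40, 60, 384, 704, 640, 960, 1024, 2048], [1, 2, 24, 44, 40, 60, 384, 704, 640, 960, 1024, 2048]),
  ([1, 2, 56, 28, 8, 12, 896, 448, 128, 192, 1024, 2048], [1, 2, 48, 16, 40, 60, 768, 256, 640, 960, 1024, 2048]),
  ([1, 2, 32, 48, 44, 52, 512, 768, 704, 832, 1024, 2048], [1, 2, 40, 60, 12, 4, 640, 960, 192, 64, 1024, 2048]),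
  ([1, 2, 32, 48, 12, 4, 512, 768, 192, 64, 1024, 2048], [1, 2, 32, 48, 12, 4, 512, 768, 192, 64, 1024, 2048]),
  ([1, 2, 32, 48, 60, 20, 512, 768, 960, 320, 1024, 2048], [1, 2, 44, 52, 12, 4, 704, 832, 192, 64, 1024, 2048]),
  ([1, 2, 24, 44, 4, 8, 384, 704, 64, 128, 1024, 2048], [1, 2, 16, 32, 36, 56, 256, 512, 576, 896, 1024, 2048]),
  ([1, 2, 8, 12, 52, 24, 128, 192, 832, 384, 1024, 2048], [1, 2, 12, 4, 36, 56, 192, 64, 576, 896, 1024, 2048]),
  ([1, 2, 40, 60, 36, 56, 640, 960, 576, 896, 1024, 2048], [1, 2, 40, 60, 36, 56, 640, 960, 576, 896, 1024, 2048]),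
  ([1, 2, 48, 16, 56, 28, 768, 256, 896, 448, 1024, 2048], [1, 2, 60, 20, 8, 12, 960, 320, 128, 192, 1024, 2048]),
  ([1, 2, 48, 16, 40, 60, 768, 256, 640, 960, 1024, 2048], [1, 2, 56, 28, 8, 12, 896, 448, 128, 192, 1024, 2048]),
  ([1, 2, 48, 16, 8, 12, 768, 256, 128, 192, 1024, 2048], [1, 2, 48, 16, 8, 12, 768, 256, 128, 192, 1024, 2048]),
  ([1, 2, 12, 4, 44, 52, 192, 64, 704, 832, 1024, 2048], [1, 2, 8, 12, 60, 20, 128, 192, 960, 320, 1024, 2048]),
  ([1, 2, 44, 52, 12, 4, 704, 832, 192, 64, 1024, 2048], [1, 2, 32, 48, 60, 20, 512, 768, 960, 320, 1024, 2048]),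
  ([1, 2, 28, 36, 60, 20, 448, 576, 960, 320, 1024, 2048], [1, 2, 28, 36, 60, 20, 448, 576, 960, 320, 1024, 2048]),
  ([1, 2, 40, 60, 48, 16, 640, 960, 768, 256, 1024, 2048], [1, 2, 44, 52, 32, 48, 704, 832, 512, 768, 1024, 2048]),
  ([1, 2, 60, 20, 32, 48, 960, 320, 512, 768, 1024, 2048], [1, 2, 56, 28, 48, 16, 896, 448, 768, 256, 1024, 2048]),
  ([1, 2, 24, 44, 48, 16, 384, 704, 768, 256, 1024, 2048], [1, 2, 28, 36, 32, 48, 448, 576, 512, 768, 1024, 2048]),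
  ([1, 2, 44, 52, 32, 48, 704, 832, 512, 768, 1024, 2048], [1, 2, 40, 60, 48, 16, 640, 960, 768, 256, 1024, 2048]),
  ([1, 2, 28, 36, 32, 48, 448, 576, 512, 768, 1024, 2048], [1, 2, 24, 44, 48, 16, 384, 704, 768, 256, 1024, 2048]),
  ([1, 2, 56, 28, 48, 16, 896, 448, 768, 256, 1024, 2048], [1, 2, 60, 20, 32, 48, 960, 320, 512, 768, 1024, 2048]),
  ([1, 2, 12, 4, 32, 48, 192, 64, 512, 768, 1024, 2048], [1, 2, 8, 12, 48, 16, 128, 192, 768, 256, 1024, 2048]),
  ([1, 2, 8, 12, 48, 16, 128, 192, 768, 256, 1024, 2048], [1, 2, 12, 4, 32, 48, 192, 64, 512, 768, 1024, 2048])]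

def AST : List (List ℕ × List ℕ) := [
  ([1, 2, 4, 8, 16, 32, 64, 128, 256, 512, 1024, 2048], [1, 2, 4, 8, 16, 32, 64, 128, 256, 512, 1024, 2048]),
  ([1025, 2050, 68, 136, 272, 544, 64, 128, 256, 512, 1024, 2048], [1025, 2050, 68, 136, 272, 544, 64, 128, 256, 512, 1024, 2048]),
  ([3073, 1026, 132, 200, 528, 800, 64, 128, 256, 512, 1024, 2048], [3073, 1026, 132, 200, 528, 800, 64, 128, 256, 512, 1024, 2048]),
  ([2049, 3074, 196, 72, 784, 288, 64, 128, 256, 512, 1024, 2048], [2049, 3074, 196, 72, 784, 288, 64, 128, 256, 512, 1024, 2048]),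
  ([1, 2, 4, 8, 16, 32, 68, 136, 272, 544, 1025, 2050], [1, 2, 4, 8, 16, 32, 68, 136, 272, 544, 1025, 2050]),
  ([1, 2, 4, 8, 16, 32, 72, 140, 288, 560, 1027, 2049], [1, 2, 4, 8, 16, 32, 72, 140, 288, 560, 1027, 2049]),
  ([1, 2, 4, 8, 16, 32, 76, 132, 304, 528, 1026, 2051], [1, 2, 4, 8, 16, 32, 76, 132, 304, 528, 1026, 2051]),
  ([1024, 2048, 64, 128, 256, 512, 68, 136, 272, 544, 1025, 2050], [1025, 2050, 68, 136, 272, 544, 4, 8, 16, 32, 1, 2]),
  ([1026, 2051, 76, 132, 304, 528, 72, 140, 288, 560, 1027, 2049], [1025, 2050, 68, 136, 272, 544, 200, 76, 800, 304, 2051, 3073]),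
  ([1027, 2049, 72, 140, 288, 560, 76, 132, 304, 528, 1026, 2051], [1025, 2050, 68, 136, 272, 544, 140, 196, 560, 784, 3074, 1027]),
  ([3074, 1027, 140, 196, 560, 784, 68, 136, 272, 544, 1025, 2050], [3073, 1026, 132, 200, 528, 800, 196, 72, 784, 288, 2049, 3074]),
  ([3075, 1025, 136, 204, 544, 816, 72, 140, 288, 560, 1027, 2049], [3073, 1026, 132, 200, 528, 800, 136, 204, 544, 816, 3075, 1025]),
  ([3072, 1024, 128, 192, 512, 768, 76, 132, 304, 528, 1026, 2051], [3073, 1026, 132, 200, 528, 800, 12, 4, 48, 16, 2, 3]),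
  ([2051, 3073, 200, 76, 800, 304, 68, 136, 272, 544, 1025, 2050], [2049, 3074, 196, 72, 784, 288, 132, 200, 528, 800, 3073, 1026]),
  ([2048, 3072, 192, 64, 768, 256, 72, 140, 288, 560, 1027, 2049], [2049, 3074, 196, 72, 784, 288, 8, 12, 32, 48, 3, 1]),
  ([2050, 3075, 204, 68, 816, 272, 76, 132, 304, 528, 1026, 2051], [2049, 3074, 196, 72, 784, 288, 204, 68, 816, 272, 2050, 3075]),
  ([1025, 2050, 68, 136, 272, 544, 4, 8, 16, 32, 1, 2], [1024, 2048, 64, 128, 256, 512, 68, 136, 272, 544, 1025, 2050]),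
  ([3073, 1026, 132, 200, 528, 800, 196, 72, 784, 288, 2049, 3074], [3074, 1027, 140, 196, 560, 784, 68, 136, 272, 544, 1025, 2050]),
  ([2049, 3074, 196, 72, 784, 288, 132, 200, 528, 800, 3073, 1026], [2051, 3073, 200, 76, 800, 304, 68, 136, 272, 544, 1025, 2050]),
  ([1025, 2050, 68, 136, 272, 544, 200, 76, 800, 304, 2051, 3073], [1026, 2051, 76, 132, 304, 528, 72, 140, 288, 560, 1027, 2049]),
  ([3073, 1026, 132, 200, 528, 800, 136, 204, 544, 816, 3075, 1025], [3075, 1025, 136, 204, 544, 816, 72, 140, 288, 560, 1027, 2049]),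
  ([2049, 3074, 196, 72, 784, 288, 8, 12, 32, 48, 3, 1], [2048, 3072, 192, 64, 768, 256, 72, 140, 288, 560, 1027, 2049]),
  ([1025, 2050, 68, 136, 272, 544, 140, 196, 560, 784, 3074, 1027], [1027, 2049, 72, 140, 288, 560, 76, 132, 304, 528, 1026, 2051]),
  ([3073, 1026, 132, 200, 528, 800, 12, 4, 48, 16, 2, 3], [3072, 1024, 128, 192, 512, 768, 76, 132, 304, 528, 1026, 2051]),
  ([2049, 3074, 196, 72, 784, 288, 204, 68, 816, 272, 2050, 3075], [2050, 3075, 204, 68, 816, 272, 76, 132, 304, 528, 1026, 2051]),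
  ([1024, 2048, 64, 128, 256, 512, 4, 8, 16, 32, 1, 2], [1024, 2048, 64, 128, 256, 512, 4, 8, 16, 32, 1, 2]),
  ([1024, 2048, 64, 128, 256, 512, 196, 72, 784, 288, 2049, 3074], [1026, 2051, 76, 132, 304, 528, 4, 8, 16, 32, 1, 2]),
  ([1024, 2048, 64, 128, 256, 512, 132, 200, 528, 800, 3073, 1026], [1027, 2049, 72, 140, 288, 560, 4, 8, 16, 32, 1, 2]),
  ([3074, 1027, 140, 196, 560, 784, 200, 76, 800, 304, 2051, 3073], [3074, 1027, 140, 196, 560, 784, 200, 76, 800, 304, 2051, 3073]),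
  ([2, 3, 12, 4, 48, 16, 136, 204, 544, 816, 3075, 1025], [3, 1, 8, 12, 32, 48, 200, 76, 800, 304, 2051, 3073]),
  ([2050, 3075, 204, 68, 816, 272, 8, 12, 32, 48, 3, 1], [2048, 3072, 192, 64, 768, 256, 200, 76, 800, 304, 2051, 3073]),
  ([2051, 3073, 200, 76, 800, 304, 140, 196, 560, 784, 3074, 1027], [2051, 3073, 200, 76, 800, 304, 140, 196, 560, 784, 3074, 1027]),
  ([3075, 1025, 136, 204, 544, 816, 12, 4, 48, 16, 2, 3], [3072, 1024, 128, 192, 512, 768, 140, 196, 560, 784, 3074, 1027]),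
  ([3, 1, 8, 12, 32, 48, 204, 68, 816, 272, 2050, 3075], [2, 3, 12, 4, 48, 16, 140, 196, 560, 784, 3074, 1027]),
  ([1026, 2051, 76, 132, 304, 528, 4, 8, 16, 32, 1, 2], [1024, 2048, 64, 128, 256, 512, 196, 72, 784, 288, 2049, 3074]),
  ([2050, 3075, 204, 68, 816, 272, 196, 72, 784, 288, 2049, 3074], [2050, 3075, 204, 68, 816, 272, 196, 72, 784, 288, 2049, 3074]),
  ([2, 3, 12, 4, 48, 16, 132, 200, 528, 800, 3073, 1026], [3, 1, 8, 12, 32, 48, 196, 72, 784, 288, 2049, 3074]),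
  ([3, 1, 8, 12, 32, 48, 200, 76, 800, 304, 2051, 3073], [2, 3, 12, 4, 48, 16, 136, 204, 544, 816, 3075, 1025]),
  ([1027, 2049, 72, 140, 288, 560, 136, 204, 544, 816, 3075, 1025], [1027, 2049, 72, 140, 288, 560, 136, 204, 544, 816, 3075, 1025]),
  ([2051, 3073, 200, 76, 800, 304, 8, 12, 32, 48, 3, 1], [2048, 3072, 192, 64, 768, 256, 136, 204, 544, 816, 3075, 1025]),
  ([3072, 1024, 128, 192, 512, 768, 140, 196, 560, 784, 3074, 1027], [3075, 1025, 136, 204, 544, 816, 12, 4, 48, 16, 2, 3]),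
  ([3072, 1024, 128, 192, 512, 768, 12, 4, 48, 16, 2, 3], [3072, 1024, 128, 192, 512, 768, 12, 4, 48, 16, 2, 3]),
  ([3072, 1024, 128, 192, 512, 768, 204, 68, 816, 272, 2050, 3075], [3074, 1027, 140, 196, 560, 784, 12, 4, 48, 16, 2, 3]),
  ([1027, 2049, 72, 140, 288, 560, 4, 8, 16, 32, 1, 2], [1024, 2048, 64, 128, 256, 512, 132, 200, 528, 800, 3073, 1026]),
  ([3, 1, 8, 12, 32, 48, 196, 72, 784, 288, 2049, 3074], [2, 3, 12, 4, 48, 16, 132, 200, 528, 800, 3073, 1026]),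
  ([3075, 1025, 136, 204, 544, 816, 132, 200, 528, 800, 3073, 1026], [3075, 1025, 136, 204, 544, 816, 132, 200, 528, 800, 3073, 1026]),
  ([2048, 3072, 192, 64, 768, 256, 200, 76, 800, 304, 2051, 3073], [2050, 3075, 204, 68, 816, 272, 8, 12, 32, 48, 3, 1]),
  ([2048, 3072, 192, 64, 768, 256, 136, 204, 544, 816, 3075, 1025], [2051, 3073, 200, 76, 800, 304, 8, 12, 32, 48, 3, 1]),
  ([2048, 3072, 192, 64, 768, 256, 8, 12, 32, 48, 3, 1], [2048, 3072, 192, 64, 768, 256, 8, 12, 32, 48, 3, 1]),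
  ([2, 3, 12, 4, 48, 16, 140, 196, 560, 784, 3074, 1027], [3, 1, 8, 12, 32, 48, 204, 68, 816, 272, 2050, 3075]),
  ([3074, 1027, 140, 196, 560, 784, 12, 4, 48, 16, 2, 3], [3072, 1024, 128, 192, 512, 768, 204, 68, 816, 272, 2050, 3075]),
  ([1026, 2051, 76, 132, 304, 528, 204, 68, 816, 272, 2050, 3075], [1026, 2051, 76, 132, 304, 528, 204, 68, 816, 272, 2050, 3075]),
  ([3075, 1025, 136, 204, 544, 816, 192, 64, 768, 256, 2048, 3072], [3074, 1027, 140, 196, 560, 784, 128, 192, 512, 768, 3072, 1024]),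
  ([2050, 3075, 204, 68, 816, 272, 128, 192, 512, 768, 3072, 1024], [2051, 3073, 200, 76, 800, 304, 192, 64, 768, 256, 2048, 3072]),
  ([1027, 2049, 72, 140, 288, 560, 192, 64, 768, 256, 2048, 3072], [1026, 2051, 76, 132, 304, 528, 128, 192, 512, 768, 3072, 1024]),
  ([3074, 1027, 140, 196, 560, 784, 128, 192, 512, 768, 3072, 1024], [3075, 1025, 136, 204, 544, 816, 192, 64, 768, 256, 2048, 3072]),
  ([1026, 2051, 76, 132, 304, 528, 128, 192, 512, 768, 3072, 1024], [1027, 2049, 72, 140, 288, 560, 192, 64, 768, 256, 2048, 3072]),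
  ([2051, 3073, 200, 76, 800, 304, 192, 64, 768, 256, 2048, 3072], [2050, 3075, 204, 68, 816, 272, 128, 192, 512, 768, 3072, 1024]),
  ([2, 3, 12, 4, 48, 16, 128, 192, 512, 768, 3072, 1024], [3, 1, 8, 12, 32, 48, 192, 64, 768, 256, 2048, 3072]),
  ([3, 1, 8, 12, 32, 48, 192, 64, 768, 256, 2048, 3072], [2, 3, 12, 4, 48, 16, 128, 192, 512, 768, 3072, 1024])]

theorem ALT_check : ((AL.zip ALT).all fun p => eqC (cw p.1) p.2.1 && eqC (cw p.1.reverse) p.2.2) = true := by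
  decide +kernel

theorem AST_check : ((AS.zip AST).all fun p => eqC (cw p.1) p.2.1 && eqC (cw p.1.reverse) p.2.2) = true := by
  decide +kernel

theorem ALT_length : ALT.length = 60 := by decide +kernel
theorem AST_length : AST.length = 60 := by decide +kernel

theorem zip_right {α β : Type} {as : List α} {bs : List β} (h : as.length = bs.length) {a : α}
    (ha : a ∈ as) : ∃ b, (a, b) ∈ as.zip bs := by
  obtain ⟨i, hi, rfl⟩ := List.getElem_of_mem ha
  refine ⟨bs[i]'(h ▸ hi), ?_⟩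
  rw [← List.getElem_zip (i := i) (h := by rw [List.length_zip]; omega)]
  exact List.getElem_mem _

theorem zip_left {α β : Type} {as : List α} {bs : List β} (h : as.length = bs.length) {b : β}
    (hb : b ∈ bs) : ∃ a, (a, b) ∈ as.zip bs := by
  obtain ⟨i, hi, rfl⟩ := List.getElem_of_mem hb
  refine ⟨as[i]'(h ▸ hi), ?_⟩
  rw [← List.getElem_zip (i := i) (h := by rw [List.length_zip]; omega)]
  exact List.getElem_mem _

/-- `e` is the pair of codes of `g` and of its inverse -/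
def Cod (g : GL6) (e : List ℕ × List ℕ) : Prop :=
  IsCode (g : Mat) e.1 ∧ IsCode ((g⁻¹ : GL6) : Mat) e.2

theorem cod_ev (w : Wd) : Cod (ev w) (cw w, cw w.reverse) := by
  refine ⟨isCode_ev w, ?_⟩
  rw [← ev_reverse]
  exact isCode_ev _

theorem Cod.ext {g h : GL6} {e : List ℕ × List ℕ} (hg : Cod g e) (hh : Cod h e) : g = h :=
  Units.ext (hg.1.mat_eq hh.1)

/-- membership of words in `Al` -/
theorem ev_mem_Al {w : Wd} (h : ∀ p ∈ w, p.1 = 5 ∨ p.1 = 6) : ev w ∈ Al := by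
  refine Subgroup.list_prod_mem _ ?_
  intro x hx
  obtain ⟨p, hp, rfl⟩ := List.mem_map.1 hx
  rcases h p hp with h | h
  · rw [h]; exact gx5_mem _
  · rw [h]; exact gx6_mem _

theorem ev_mem_As {w : Wd} (h : ∀ p ∈ w, p.1 = 2 ∨ p.1 = 9) : ev w ∈ As := by
  refine Subgroup.list_prod_mem _ ?_
  intro x hx
  obtain ⟨p, hp, rfl⟩ := List.mem_map.1 hx
  rcases h p hp with h | h
  · rw [h]; exact gx2_mem _
  · rw [h]; exact gx9_mem _

theorem AL_letters : ∀ w ∈ AL, ∀ p ∈ w, p.1 = 5 ∨ p.1 = 6 := by decide +kernel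

theorem AS_letters : ∀ w ∈ AS, ∀ p ∈ w, p.1 = 2 ∨ p.1 = 9 := by decide +kernel

theorem Al_eq_S2 : Al = S2 := by
  apply le_antisymm
  · refine (Subgroup.closure_le _).2 ?_
    have h : ∀ t : Fin 3, (app (xc 5 t) 1 = 1 ∧ app (xc 5 t) 1024 = 1024) ∧
        (app (xc 6 t) 1 = 1 ∧ app (xc 6 t) 1024 = 1024) := by decide +kernel
    rintro _ ⟨t, rfl | rfl⟩
    · exact ⟨⟨gx_mem _ _, ((isCode_gx 5 t).app_eq_iff (by norm_num) (by norm_num)).2 (h t).1.1⟩,
        ((isCode_gx 5 t).app_eq_iff (by norm_num) (by norm_num)).2 (h t).1.2⟩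
    · exact ⟨⟨gx_mem _ _, ((isCode_gx 6 t).app_eq_iff (by norm_num) (by norm_num)).2 (h t).2.1⟩,
        ((isCode_gx 6 t).app_eq_iff (by norm_num) (by norm_num)).2 (h t).2.2⟩
  · rintro g ⟨⟨hg, h0⟩, h1⟩
    obtain ⟨w, hw, rfl⟩ := exists_AL hg h0 h1
    exact ev_mem_Al (AL_letters w hw)

/-- the elements fixing the hyperbolic pair `e0, e1` -/
theorem mem_Al_iff {g : GL6} : g ∈ Al ↔ (g ∈ L ∧ act g e0 = e0) ∧ act g e1 = e1 := by
  rw [Al_eq_S2]; exact mem_S2

theorem card_Al : Nat.card Al = 60 := by rw [Al_eq_S2]; exact card_S2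

theorem exists_word_Al {g : GL6} (hg : g ∈ Al) : ∃ w ∈ AL, g = ev w := by
  obtain ⟨⟨h1, h2⟩, h3⟩ := mem_Al_iff.1 hg
  exact exists_AL h1 h2 h3

def leftOk (p : Fin 12 × Fin 3) : Bool :=
  AST.all fun e => AST.any fun e' => eqC (mulC (xc p.1 p.2) e.1) e'.1

theorem left_check : ((List.range 3).all fun t => leftOk (2, Fin.ofNat 3 t) && leftOk (9, Fin.ofNat 3 t)) = true := by
  decide +kernel

theorem exists_word_As {g : GL6} (hg : g ∈ As) : ∃ w ∈ AS, g = ev w := by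
  have key : ∀ p : Fin 12 × Fin 3, leftOk p = true → ∀ w ∈ AS, ∃ w' ∈ AS, gx p.1 p.2 * ev w = ev w' := by
    intro p hp w hw
    obtain ⟨e, he⟩ := zip_right (bs := AST) (by rw [AS_length, AST_length]) hw
    have he' := (List.of_mem_zip he).2
    obtain ⟨e', he'1, he'2⟩ := List.any_eq_true.1 (List.all_eq_true.1 hp e he')
    obtain ⟨w', hw'⟩ := zip_left (as := AS) (by rw [AS_length, AST_length]) he'1
    refine ⟨w', (List.of_mem_zip hw').1, ?_⟩
    have c1 := List.all_eq_true.1 AST_check _ he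
    have c2 := List.all_eq_true.1 AST_check _ hw'
    simp only [Bool.and_eq_true, eqC_iff] at c1 c2 he'2
    have h : ev (p :: w) = ev w' := by
      apply ev_eq_of
      change mulC (xc p.1 p.2) (cw w) = cw w'
      rw [c1.1, c2.1, he'2]
    exact h
  have hl : ∀ t : Fin 3, leftOk (2, t) = true ∧ leftOk (9, t) = true := by
    intro t
    have h1 := List.all_eq_true.1 left_check (t : ℕ) (List.mem_range.2 t.isLt)
    rw [Bool.and_eq_true] at h1
    have h2 : Fin.ofNat 3 (t : ℕ) = t := by fin_cases t <;> rfl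
    rw [h2] at h1
    exact h1
  have h0 : ([] : Wd) ∈ AS := by decide +kernel
  have hall : ∀ v : Wd, (∀ p ∈ v, p.1 = 2 ∨ p.1 = 9) → ∃ w ∈ AS, ev v = ev w := by
    intro v
    induction v with
    | nil => intro _; exact ⟨[], h0, rfl⟩
    | cons p v ih =>
      intro hp
      obtain ⟨w, hw, hvw⟩ := ih (fun q hq => hp q (List.mem_cons_of_mem _ hq))
      have h3 : ev (p :: v) = gx p.1 p.2 * ev v := rfl
      rw [h3, hvw]
      have h4 : leftOk p = true := by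
        obtain ⟨r, t⟩ := p
        rcases hp (r, t) List.mem_cons_self with h | h
        · change r = 2 at h; rw [h]; exact (hl t).1
        · change r = 9 at h; rw [h]; exact (hl t).2
      exact key p h4 w hw
  suffices h : ∃ v : Wd, (∀ p ∈ v, p.1 = 2 ∨ p.1 = 9) ∧ g = ev v by
    obtain ⟨v, hv, rfl⟩ := h
    obtain ⟨w, hw, h⟩ := hall v hv
    exact ⟨w, hw, h⟩
  induction hg using Subgroup.closure_induction with
  | mem x hx =>
    obtain ⟨t, rfl | rfl⟩ := hx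
    · exact ⟨[(2, t)], by simp, (ev_singleton (2, t)).symm⟩
    · exact ⟨[(9, t)], by simp, (ev_singleton (9, t)).symm⟩
  | one => exact ⟨[], by simp, rfl⟩
  | mul x y _ _ hx hy =>
    obtain ⟨v, hv, rfl⟩ := hx
    obtain ⟨w, hw, rfl⟩ := hy
    refine ⟨v ++ w, ?_, (ev_append v w).symm⟩
    intro p hp
    rcases List.mem_append.1 hp with h | h
    · exact hv p h
    · exact hw p h
  | inv x _ hx =>
    obtain ⟨v, hv, rfl⟩ := hx
    exact ⟨v.reverse, fun p hp => hv p (List.mem_reverse.1 hp), (ev_reverse v).symm⟩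

theorem card_As : Nat.card As = 60 := by
  have h2 := List.nodup_iff_injective_get.1 AS_nodup
  have hinj : Function.Injective (fun i : Fin AS.length => ev (AS.get i)) := by
    intro i j h
    have h1 := ev_eq_iff.1 h
    have h3 : (AS.map cw).get ⟨i, by rw [List.length_map]; exact i.isLt⟩ =
        (AS.map cw).get ⟨j, by rw [List.length_map]; exact j.isLt⟩ := by
      simpa using h1
    have h4 := h2 h3
    exact Fin.ext (by simpa using congrArg Fin.val h4)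
  have hb : Function.Bijective (fun i : Fin AS.length =>
      (⟨ev (AS.get i), ev_mem_As (AS_letters _ (List.get_mem _ _))⟩ : As)) := by
    constructor
    · intro i j h
      exact hinj (congrArg Subtype.val h)
    · rintro ⟨g, hg⟩
      obtain ⟨w, hw, rfl⟩ := exists_word_As hg
      obtain ⟨i, hi, rfl⟩ := List.getElem_of_mem hw
      exact ⟨⟨i, hi⟩, rfl⟩
  rw [← Nat.card_congr (Equiv.ofBijective _ hb), Nat.card_fin, AS_length]

theorem exists_cod_Al {g : GL6} (hg : g ∈ Al) : ∃ e ∈ ALT, Cod g e := by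
  obtain ⟨w, hw, rfl⟩ := exists_word_Al hg
  obtain ⟨e, he⟩ := zip_right (bs := ALT) (by rw [AL_length, ALT_length]) hw
  have c := List.all_eq_true.1 ALT_check _ he
  simp only [Bool.and_eq_true, eqC_iff] at c
  refine ⟨e, (List.of_mem_zip he).2, ?_⟩
  have h := cod_ev w
  rw [c.1, c.2] at h
  exact h

theorem exists_cod_As {g : GL6} (hg : g ∈ As) : ∃ e ∈ AST, Cod g e := by
  obtain ⟨w, hw, rfl⟩ := exists_word_As hg
  obtain ⟨e, he⟩ := zip_right (bs := AST) (by rw [AS_length, AST_length]) hw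
  have c := List.all_eq_true.1 AST_check _ he
  simp only [Bool.and_eq_true, eqC_iff] at c
  refine ⟨e, (List.of_mem_zip he).2, ?_⟩
  have h := cod_ev w
  rw [c.1, c.2] at h
  exact h

theorem exists_elt_Al {e : List ℕ × List ℕ} (he : e ∈ ALT) : ∃ g ∈ Al, Cod g e := by
  obtain ⟨w, hw⟩ := zip_left (as := AL) (by rw [AL_length, ALT_length]) he
  have c := List.all_eq_true.1 ALT_check _ hw
  simp only [Bool.and_eq_true, eqC_iff] at c
  refine ⟨ev w, ev_mem_Al (AL_letters w (List.of_mem_zip hw).1), ?_⟩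
  have h := cod_ev w
  rw [c.1, c.2] at h
  exact h

theorem exists_elt_As {e : List ℕ × List ℕ} (he : e ∈ AST) : ∃ g ∈ As, Cod g e := by
  obtain ⟨w, hw⟩ := zip_left (as := AS) (by rw [AS_length, AST_length]) he
  have c := List.all_eq_true.1 AST_check _ hw
  simp only [Bool.and_eq_true, eqC_iff] at c
  refine ⟨ev w, ev_mem_As (AS_letters w (List.of_mem_zip hw).1), ?_⟩
  have h := cod_ev w
  rw [c.1, c.2] at h
  exact h

/-! ### Simplicity -/

/-- the element `w` of order five of `Al` -/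
def wE : GL6 := ev [(5, 0), (6, 1)]

/-- the element `u` of order five of `As` -/
def uE : GL6 := ev [(2, 0), (9, 1)]

def wC : List ℕ := cw [(5, 0), (6, 1)]
def uC : List ℕ := cw [(2, 0), (9, 1)]

theorem wE_mem : wE ∈ Al := ev_mem_Al (by decide)
theorem uE_mem : uE ∈ As := ev_mem_As (by decide)

theorem isCode_wE : IsCode (wE : Mat) wC := isCode_ev _
theorem isCode_uE : IsCode (uE : Mat) uC := isCode_ev _

def powC (C : List ℕ) : ℕ → List ℕ
  | 0 => idC
  | n + 1 => mulC (powC C n) C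

theorem isCode_pow {g : GL6} {C : List ℕ} (h : IsCode (g : Mat) C) (n : ℕ) :
    IsCode ((g ^ n : GL6) : Mat) (powC C n) := by
  induction n with
  | zero => rw [pow_zero]; exact isCode_one
  | succ n ih => rw [pow_succ, Units.val_mul]; exact isCode_mul ih h

theorem isCode_mul' {g h : GL6} {C D : List ℕ} (hg : IsCode (g : Mat) C) (hh : IsCode (h : Mat) D) :
    IsCode ((g * h : GL6) : Mat) (mulC C D) := by
  rw [Units.val_mul]; exact isCode_mul hg hh

theorem eq_one_iff {g : GL6} {C : List ℕ} (h : IsCode (g : Mat) C) : g = 1 ↔ C = idC := by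
  constructor
  · rintro rfl; exact h.unique isCode_one
  · rintro rfl; exact Units.ext (h.mat_eq isCode_one)

/-- checks for the simplicity of a table group with an element of order five with code `W` -/
def simpleOk (T : List (List ℕ × List ℕ)) (W : List ℕ) : Bool :=
  T.all fun x => eqC x.1 idC ||
    (T.any fun p => (fun y => !(eqC y idC) && eqC (powC y 5) idC) (mulC x.1 (mulC p.1 (mulC x.1 p.2))))

def fiveOk (T : List (List ℕ × List ℕ)) (W : List ℕ) : Bool :=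
  T.all fun y => eqC y.1 idC || !(eqC (powC y.1 5) idC) ||
    (T.any fun q => eqC (mulC q.1 (mulC (powC y.1 1) q.2)) W || eqC (mulC q.1 (mulC (powC y.1 2) q.2)) W ||
      eqC (mulC q.1 (mulC (powC y.1 3) q.2)) W || eqC (mulC q.1 (mulC (powC y.1 4) q.2)) W)

theorem simpleOk_Al : simpleOk ALT wC = true := by decide +kernel
theorem simpleOk_As : simpleOk AST uC = true := by decide +kernel
theorem fiveOk_Al : fiveOk ALT wC = true := by decide +kernel
theorem fiveOk_As : fiveOk AST uC = true := by decide +kernel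

/-- each generator is a product of two conjugates of powers of the element of order five -/
def genL : List ((Fin 12 × Fin 3) × Wd × ℕ × Wd × ℕ) := [
  ((5, 0), [(6, 0)], 1, [(6, 0), (5, 1)], 2),
  ((5, 1), [], 2, [(6, 0), (5, 1)], 1),
  ((5, 2), [], 1, [(6, 0)], 3),
  ((6, 0), [], 4, [(5, 1)], 3),
  ((6, 1), [(5, 1)], 1, [(5, 0), (6, 0)], 3),
  ((6, 2), [], 3, [(5, 0), (6, 0)], 4)]

def genS : List ((Fin 12 × Fin 3) × Wd × ℕ × Wd × ℕ) := [
  ((2, 0), [(9, 0)], 1, [(9, 0), (2, 1)], 2),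
  ((2, 1), [], 2, [(9, 0), (2, 1)], 1),
  ((2, 2), [], 1, [(9, 0)], 3),
  ((9, 0), [], 4, [(2, 1)], 3),
  ((9, 1), [(2, 1)], 1, [(2, 0), (9, 0)], 3),
  ((9, 2), [], 3, [(2, 0), (9, 0)], 4)]

def conjW (p x : Wd) (i : ℕ) : Wd := p ++ (List.replicate i x).flatten ++ p.reverse

theorem ev_conjW (p x : Wd) (i : ℕ) : ev (conjW p x i) = ev p * ev x ^ i * (ev p)⁻¹ := by
  rw [conjW, ev_append, ev_append, ev_reverse]
  congr 2
  induction i with
  | zero => rfl
  | succ i ih => rw [List.replicate_succ, List.flatten_cons, ev_append, ih, pow_succ']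

theorem genL_check : ∀ e ∈ genL, cw (conjW e.2.1 [(5, 0), (6, 1)] e.2.2.1 ++
    conjW e.2.2.2.1 [(5, 0), (6, 1)] e.2.2.2.2) = cw [e.1] ∧
    (∀ p ∈ e.2.1, p.1 = 5 ∨ p.1 = 6) ∧ (∀ p ∈ e.2.2.2.1, p.1 = 5 ∨ p.1 = 6) := by
  decide +kernel

theorem genS_check : ∀ e ∈ genS, cw (conjW e.2.1 [(2, 0), (9, 1)] e.2.2.1 ++
    conjW e.2.2.2.1 [(2, 0), (9, 1)] e.2.2.2.2) = cw [e.1] ∧
    (∀ p ∈ e.2.1, p.1 = 2 ∨ p.1 = 9) ∧ (∀ p ∈ e.2.2.2.1, p.1 = 2 ∨ p.1 = 9) := by
  decide +kernel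

theorem genL_all : ∀ t : Fin 3, (∃ e ∈ genL, e.1 = (5, t)) ∧ (∃ e ∈ genL, e.1 = (6, t)) := by
  decide +kernel

theorem genS_all : ∀ t : Fin 3, (∃ e ∈ genS, e.1 = (2, t)) ∧ (∃ e ∈ genS, e.1 = (9, t)) := by
  decide +kernel

/-- A subgroup containing all conjugates of `w` under `Al` contains `Al`. -/
theorem Al_le_of_conj {K : Subgroup GL6} (h : ∀ c ∈ Al, c * wE * c⁻¹ ∈ K) : Al ≤ K := by
  have key : ∀ e ∈ genL, gx e.1.1 e.1.2 ∈ K := by
    intro e he
    obtain ⟨h1, h2, h3⟩ := genL_check e he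
    have h4 := ev_eq_of h1
    rw [ev_singleton, ev_append, ev_conjW, ev_conjW] at h4
    rw [← h4]
    have h5 : ∀ (p : Wd) (i : ℕ), (∀ q ∈ p, q.1 = 5 ∨ q.1 = 6) → ev p * wE ^ i * (ev p)⁻¹ ∈ K := by
      intro p i hp
      have h6 : ev p * wE ^ i * (ev p)⁻¹ = (ev p * wE * (ev p)⁻¹) ^ i := by
        rw [← MulAut.conj_apply, ← MulAut.conj_apply, map_pow]
      rw [h6]
      exact K.pow_mem (h _ (ev_mem_Al hp)) i
    exact K.mul_mem (h5 _ _ h2) (h5 _ _ h3)
  refine (Subgroup.closure_le _).2 ?_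
  rintro _ ⟨t, rfl | rfl⟩
  · obtain ⟨⟨e, he, h1⟩, -⟩ := genL_all t
    have := key e he
    rwa [h1] at this
  · obtain ⟨-, ⟨e, he, h1⟩⟩ := genL_all t
    have := key e he
    rwa [h1] at this

/-- A subgroup containing all conjugates of `u` under `As` contains `As`. -/
theorem As_le_of_conj {K : Subgroup GL6} (h : ∀ c ∈ As, c * uE * c⁻¹ ∈ K) : As ≤ K := by
  have key : ∀ e ∈ genS, gx e.1.1 e.1.2 ∈ K := by
    intro e he
    obtain ⟨h1, h2, h3⟩ := genS_check e he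
    have h4 := ev_eq_of h1
    rw [ev_singleton, ev_append, ev_conjW, ev_conjW] at h4
    rw [← h4]
    have h5 : ∀ (p : Wd) (i : ℕ), (∀ q ∈ p, q.1 = 2 ∨ q.1 = 9) → ev p * uE ^ i * (ev p)⁻¹ ∈ K := by
      intro p i hp
      have h6 : ev p * uE ^ i * (ev p)⁻¹ = (ev p * uE * (ev p)⁻¹) ^ i := by
        rw [← MulAut.conj_apply, ← MulAut.conj_apply, map_pow]
      rw [h6]
      exact K.pow_mem (h _ (ev_mem_As hp)) i
    exact K.mul_mem (h5 _ _ h2) (h5 _ _ h3)
  refine (Subgroup.closure_le _).2 ?_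
  rintro _ ⟨t, rfl | rfl⟩
  · obtain ⟨⟨e, he, h1⟩, -⟩ := genS_all t
    have := key e he
    rwa [h1] at this
  · obtain ⟨-, ⟨e, he, h1⟩⟩ := genS_all t
    have := key e he
    rwa [h1] at this

/-- the common simplicity argument -/
theorem simple_aux (H : Subgroup GL6) (T : List (List ℕ × List ℕ)) (wv : GL6) (W : List ℕ)
    (hW : IsCode (wv : Mat) W) (hwH : wv ∈ H) (hne : wv ≠ 1)
    (hcod : ∀ g ∈ H, ∃ e ∈ T, Cod g e) (helt : ∀ e ∈ T, ∃ g ∈ H, Cod g e)
    (h1 : simpleOk T W = true) (h2 : fiveOk T W = true)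
    (h3 : ∀ K : Subgroup GL6, (∀ c ∈ H, c * wv * c⁻¹ ∈ K) → H ≤ K) : IsSimpleGroup H := by
  have hnt : Nontrivial H := ⟨⟨⟨wv, hwH⟩, 1, fun h => hne (congrArg Subtype.val h)⟩⟩
  refine ⟨fun N hN => ?_⟩
  by_cases hbot : N = ⊥
  · exact Or.inl hbot
  right
  obtain ⟨x, hxN, hx1⟩ : ∃ x : H, x ∈ N ∧ x ≠ 1 := by
    by_contra hcon
    push Not at hcon
    exact hbot ((Subgroup.eq_bot_iff_forall _).2 hcon)
  -- an element of order five
  obtain ⟨y, hyN, hy1, hy5⟩ : ∃ y : H, y ∈ N ∧ y ≠ 1 ∧ y ^ 5 = 1 := by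
    obtain ⟨e, he, hxe⟩ := hcod x x.2
    have c := List.all_eq_true.1 h1 e he
    rw [Bool.or_eq_true, eqC_iff] at c
    rcases c with c | c
    · exact absurd (Subtype.ext ((eq_one_iff hxe.1).2 c)) hx1
    · obtain ⟨p, hp, c⟩ := List.any_eq_true.1 c
      obtain ⟨q, hq, hqp⟩ := helt p hp
      have hcode : IsCode ((x.1 * (q * (x.1 * q⁻¹)) : GL6) : Mat)
          (mulC e.1 (mulC p.1 (mulC e.1 p.2))) :=
        isCode_mul' hxe.1 (isCode_mul' hqp.1 (isCode_mul' hxe.1 hqp.2))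
      simp only [Bool.and_eq_true, Bool.not_eq_true', eqC_iff] at c
      obtain ⟨c1, c2⟩ := c
      refine ⟨x * (⟨q, hq⟩ * x * ⟨q, hq⟩⁻¹), N.mul_mem hxN (hN.conj_mem x hxN _), ?_, ?_⟩
      · intro h
        have h4 : (x.1 * (q * (x.1 * q⁻¹)) : GL6) = 1 := by
          have := congrArg Subtype.val h
          simpa [mul_assoc] using this
        rw [(eq_one_iff hcode).1 h4] at c1
        exact absurd c1 (by decide)
      · apply Subtype.ext
        have h4 := (eq_one_iff (isCode_pow hcode 5)).2 c2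
        simpa [mul_assoc] using h4
  -- the chosen element of order five
  have hw : (⟨wv, hwH⟩ : H) ∈ N := by
    obtain ⟨e, he, hye⟩ := hcod y y.2
    have c := List.all_eq_true.1 h2 e he
    rw [Bool.or_eq_true, Bool.or_eq_true, eqC_iff, Bool.not_eq_true'] at c
    rcases c with (c | c) | c
    · exact absurd (Subtype.ext ((eq_one_iff hye.1).2 c)) hy1
    · exfalso
      have h4 := (eq_one_iff (isCode_pow hye.1 5)).1 (congrArg Subtype.val hy5)
      rw [h4] at c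
      exact absurd c (by decide)
    · obtain ⟨q, hq, c⟩ := List.any_eq_true.1 c
      obtain ⟨g, hg, hgq⟩ := helt q hq
      have key : ∀ i, mulC q.1 (mulC (powC e.1 i) q.2) = W → (⟨wv, hwH⟩ : H) ∈ N := by
        intro i hi
        have hcode : IsCode ((g * (y.1 ^ i * g⁻¹) : GL6) : Mat) W := by
          rw [← hi]
          exact isCode_mul' hgq.1 (isCode_mul' (isCode_pow hye.1 i) hgq.2)
        have h4 : g * (y.1 ^ i * g⁻¹) = wv := Units.ext (hcode.mat_eq hW)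
        have h5 : (⟨g, hg⟩ * y ^ i * ⟨g, hg⟩⁻¹ : H) = ⟨wv, hwH⟩ := by
          apply Subtype.ext
          change g * y.1 ^ i * g⁻¹ = wv
          rw [← h4, mul_assoc]
        rw [← h5]
        exact hN.conj_mem _ (N.pow_mem hyN i) _
      simp only [Bool.or_eq_true, eqC_iff] at c
      rcases c with ((c | c) | c) | c
      · exact key 1 c
      · exact key 2 c
      · exact key 3 c
      · exact key 4 c
  -- everything
  have h4 : H ≤ N.map H.subtype := by
    apply h3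
    intro c hc
    refine ⟨⟨c, hc⟩ * ⟨wv, hwH⟩ * ⟨c, hc⟩⁻¹, hN.conj_mem _ hw _, rfl⟩
  rw [eq_top_iff]
  rintro ⟨x, hx⟩ _
  obtain ⟨y, hy, hyx⟩ := h4 hx
  have : y = ⟨x, hx⟩ := Subtype.ext hyx
  rw [← this]
  exact hy

theorem wE_ne : wE ≠ 1 := by
  intro h
  have := (eq_one_iff isCode_wE).1 h
  exact absurd this (by decide +kernel)

theorem uE_ne : uE ≠ 1 := by
  intro h
  have := (eq_one_iff isCode_uE).1 h
  exact absurd this (by decide +kernel)

theorem wE_pow : wE ^ 5 = 1 := (eq_one_iff (isCode_pow isCode_wE 5)).2 (by decide +kernel)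

theorem uE_pow : uE ^ 5 = 1 := (eq_one_iff (isCode_pow isCode_uE 5)).2 (by decide +kernel)

instance simple_Al : IsSimpleGroup Al :=
  simple_aux Al ALT wE wC isCode_wE wE_mem wE_ne (fun _ h => exists_cod_Al h)
    (fun _ h => exists_elt_Al h) simpleOk_Al fiveOk_Al (fun K h => Al_le_of_conj h)

instance simple_As : IsSimpleGroup As :=
  simple_aux As AST uE uC isCode_uE uE_mem uE_ne (fun _ h => exists_cod_As h)
    (fun _ h => exists_elt_As h) simpleOk_As fiveOk_As (fun K h => As_le_of_conj h)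

instance finite_Al : Finite Al := Nat.finite_of_card_ne_zero (by rw [card_Al]; decide)

instance finite_As : Finite As := Nat.finite_of_card_ne_zero (by rw [card_As]; decide)

theorem equiv_Al : Nonempty (Al ≃* alternatingGroup (Fin 5)) := Cfsg.Agent.S0494.result card_Al

theorem equiv_As : Nonempty (As ≃* alternatingGroup (Fin 5)) := Cfsg.Agent.S0494.result card_As

end Cfsg.Agent.StdG24.Al6
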