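import Cfsg.Agent.StdG24.GenJ

/-!
# Automorphisms of `L₀ = G₂(4)` centralising `U₃(3)` or `J₂`
-/

set_option autoImplicit false

namespace Cfsg.Agent.StdG24.AutX

open Cfsg.Agent.StdG24.Words Cfsg.Agent.StdG24.PWords Cfsg.Agent.StdG24.CentX Cfsg.Agent.StdG24.GenJ

/-- the elements fixed by an automorphism -/
def fixed (α : L0 ≃* L0) : Subgroup L0 where
  carrier := {g | α g = g}
  one_mem' := map_one α
  mul_mem' := by intro a b ha hb; show α (a * b) = a * b; rw [map_mul, ha, hb]
  inv_mem' := by intro a ha; show α a⁻¹ = a⁻¹; rw [map_inv, ha]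

theorem mem_fixed {α : L0 ≃* L0} {g : L0} : g ∈ fixed α ↔ α g = g := Iff.rfl

/-- an automorphism fixing `s, t, x, y` maps `v` to `v` or `v⁻¹` -/
theorem aut_v (α : L0 ≃* L0) (hs : α s = s) (ht : α t = t) (hx : α x = x) (hy : α y = y) :
    α v = v ∨ α v = v⁻¹ := by
  have hc : ∀ a : L0, α a = a → v * a = a * v → α v * a = a * α v := by
    intro a ha h
    have := congrArg α h
    rwa [map_mul, map_mul, ha] at this
  rcases cent_X0 (α v) (hc s hs vs') (hc t ht vt') (hc x hx vx') (hc y hy vy') with h | h | h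
  · exact absurd (α.injective (by rw [h, map_one])) v_ne
  · exact Or.inl h
  · right
    rw [h]; exact (inv_eq_of_mul_eq_one_left v3').symm

/-- an automorphism fixing `s, t, x, y, q, v` is trivial -/
theorem aut_eq_one (α : L0 ≃* L0) (hs : α s = s) (ht : α t = t) (hx : α x = x) (hy : α y = y)
    (hq : α q = q) (hv : α v = v) (g : L0) : α g = g := by
  have h : fixed α = ⊤ := by
    rw [eq_top_iff, ← closure_top, Subgroup.closure_le]
    intro a ha
    simp only [Set.mem_insert_iff, Set.mem_singleton_iff] at ha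
    rcases ha with rfl | rfl | rfl | rfl | rfl | rfl
    · exact hs
    · exact ht
    · exact hx
    · exact hy
    · exact hq
    · exact hv
  have h1 : g ∈ fixed α := by rw [h]; trivial
  exact h1

/-- an automorphism fixing `s, t, x, y, q` and inverting `v` maps `r` to `r v⁻¹` -/
theorem aut_r (α : L0 ≃* L0) (hs : α s = s) (ht : α t = t) (hx : α x = x) (hy : α y = y)
    (hq : α q = q) (hv : α v = v⁻¹) : α r = r * v⁻¹ := by
  have h1 : ∀ c : ℕ, c < 10 → α (pl c) = pl (if c = 8 then 9 else if c = 9 then 8 else c) := by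
    intro c hc'
    interval_cases c
    · exact hs
    · exact ht
    · exact hx
    · show α x⁻¹ = x⁻¹
      rw [map_inv, hx]
    · exact hy
    · show α y⁻¹ = y⁻¹
      rw [map_inv, hy]
    · exact hq
    · show α q⁻¹ = q⁻¹
      rw [map_inv, hq]
    · exact hv
    · show α v⁻¹ = v
      rw [map_inv, hv, inv_inv]
  have h2 : ∀ w : List ℕ, (∀ c ∈ w, c < 10) → α (pp w) =
      pp (w.map fun c => if c = 8 then 9 else if c = 9 then 8 else c) := by
    intro w
    induction w with
    | nil => intro _; simp [pp]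
    | cons c w ih =>
      intro hw
      have h4 : ∀ (c' : ℕ) (w' : List ℕ), pp (c' :: w') = pl c' * pp w' := by
        intro c' w'; unfold pp; rw [List.map_cons, List.prod_cons]
      rw [h4, List.map_cons, h4, map_mul, h1 c (hw c List.mem_cons_self),
        ih fun c' hc' => hw c' (List.mem_cons_of_mem _ hc')]
  have h5 := h2 Rw (by decide)
  have h6 : (Rw.map fun c => if c = 8 then 9 else if c = 9 then 8 else c) = Rw' := by decide
  rw [h6, r_eq, r_eq'] at h5
  exact h5

/-- an automorphism fixing `J_L` elementwise is trivial -/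
theorem aut_JL (α : L0 ≃* L0) (h : ∀ a ∈ JL, α a = a) (g : L0) : α g = g := by
  have hs := h s s_mem
  have ht := h t t_mem
  have hx := h x x_mem
  have hy := h y y_mem
  have hq := h q q_mem
  rcases aut_v α hs ht hx hy with hv | hv
  · exact aut_eq_one α hs ht hx hy hq hv g
  · exfalso
    have h1 := aut_r α hs ht hx hy hq hv
    rw [h r r_mem] at h1
    have h2 : v⁻¹ = 1 := by
      have := congrArg (fun z => r⁻¹ * z) h1
      simpa using this.symm
    exact v_ne (inv_eq_one.1 h2)

/-- an automorphism fixing `s, t, x, y, q` is trivial or inverts `v` and has order 2 -/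
theorem aut_X (α : L0 ≃* L0) (hs : α s = s) (ht : α t = t) (hx : α x = x) (hy : α y = y)
    (hq : α q = q) : (∀ g, α g = g) ∨ (α v = v⁻¹ ∧ ∀ g, α (α g) = g) := by
  rcases aut_v α hs ht hx hy with hv | hv
  · exact Or.inl (aut_eq_one α hs ht hx hy hq hv)
  · refine Or.inr ⟨hv, fun g => ?_⟩
    have h2 : ∀ a, α a = a → (α.trans α) a = a := by
      intro a ha; rw [MulEquiv.trans_apply, ha, ha]
    exact aut_eq_one (α.trans α) (h2 s hs) (h2 t ht) (h2 x hx) (h2 y hy) (h2 q hq)
      (by rw [MulEquiv.trans_apply, hv, map_inv, hv, inv_inv]) g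

/-- two automorphisms fixing `s, t, x, y, q` and not trivial coincide -/
theorem aut_X_unique (α β : L0 ≃* L0) (hα : ∀ a ∈ ({s, t, x, y, q} : Set L0), α a = a)
    (hβ : ∀ a ∈ ({s, t, x, y, q} : Set L0), β a = a) (hα' : α v = v⁻¹) (hβ' : β v = v⁻¹) (g : L0) :
    α g = β g := by
  have hs : ∀ a ∈ ({s, t, x, y, q} : Set L0), (α.trans β.symm) a = a := by
    intro a ha
    rw [MulEquiv.trans_apply, hα a ha, MulEquiv.symm_apply_eq, hβ a ha]
  have := aut_eq_one (α.trans β.symm) (hs s (by simp)) (hs t (by simp)) (hs x (by simp))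
    (hs y (by simp)) (hs q (by simp)) (by
      rw [MulEquiv.trans_apply, hα', MulEquiv.symm_apply_eq, hβ']) g
  rw [MulEquiv.trans_apply, MulEquiv.symm_apply_eq] at this
  exact this

end Cfsg.Agent.StdG24.AutX
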