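import Cfsg.Agent.StdG24.Al6
import Cfsg.Agent.StdG24.AutA5

/-!
# Centralisers of the elements of order five, the element `n`, generation
-/

set_option autoImplicit false
set_option linter.constructorNameAsVariable false
set_option linter.unusedVariables false

namespace Cfsg.Agent.StdG24.Cent6

open Cfsg.Agent.SporRec
open Cfsg.Agent.SporRec.GF4
open Cfsg.Agent.SporRec.G24Code (app)
open Cfsg.Agent.SporRec.G24Orb (allb allb_spec)
open Cfsg.Agent.StdG24.Mod6
open Cfsg.Agent.StdG24.Ord6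
open Cfsg.Agent.StdG24.Al6

/-- the vectors of the plane `⟨e0, e1⟩` -/
def V0 (x : Vec) : Prop := ∃ a < 4, ∃ b < 4, x = dec (a + 1024 * b)

theorem V0_of_mod {n : ℕ} (hn : n < 4096) (h : Nat.beq (n % 1024 / 4) 0 = true) : V0 (dec n) := by
  have h1 : n % 1024 / 4 = 0 := Nat.eq_of_beq_eq_true h
  exact ⟨n % 1024, by omega, n / 1024, by omega, by congr 1; omega⟩

theorem V0_e0 : V0 e0 := ⟨1, by norm_num, 0, by norm_num, rfl⟩
theorem V0_e1 : V0 e1 := ⟨0, by norm_num, 1, by norm_num, rfl⟩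

theorem pair_check : ∀ a < 4, ∀ b < 4, ∀ c < 4, ∀ d < 4, formC (a + 1024 * b) (c + 1024 * d) = 1 →
    (AST.any fun e => Nat.beq (app e.1 1) (a + 1024 * b) && Nat.beq (app e.1 1024) (c + 1024 * d)) = true := by
  decide +kernel

/-- `As` is transitive on the hyperbolic pairs of the plane -/
theorem exists_As {x y : Vec} (hx : V0 x) (hy : V0 y) (h : form x y = 1) :
    ∃ s ∈ As, act s e0 = x ∧ act s e1 = y := by
  obtain ⟨a, ha, b, hb, rfl⟩ := hx
  obtain ⟨c, hc, d, hd, rfl⟩ := hy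
  obtain ⟨e, he, h1⟩ := List.any_eq_true.1 (pair_check a ha b hb c hc d hd h)
  obtain ⟨s, hs, hse⟩ := exists_elt_As he
  rw [Bool.and_eq_true] at h1
  exact ⟨s, hs, (hse.1.app_eq_iff (by norm_num) (by omega)).2 (Nat.eq_of_beq_eq_true h1.1),
    (hse.1.app_eq_iff (by norm_num) (by omega)).2 (Nat.eq_of_beq_eq_true h1.2)⟩

/-- the stabiliser of the plane is `As × Al` -/
theorem split {g : GL6} (hg : g ∈ L) (h0 : V0 (act g e0)) (h1 : V0 (act g e1)) :
    ∃ s ∈ As, ∃ a ∈ Al, g = s * a := by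
  obtain ⟨s, hs, hs0, hs1⟩ := exists_As h0 h1 (by rw [form_act hg, form_e0_e1])
  refine ⟨s, hs, s⁻¹ * g, mem_Al_iff.2 ⟨⟨L.mul_mem (L.inv_mem (As_le hs)) hg, ?_⟩, ?_⟩,
    (mul_inv_cancel_left s g).symm⟩
  · rw [act_mul, ← hs0, act_inv_act]
  · rw [act_mul, ← hs1, act_inv_act]

/-! ### The centraliser of `w` -/

theorem fixw_check : allb (fun n => !(Nat.beq (app wC n) n) || Nat.beq (n % 1024 / 4) 0) 4096 = true := by
  decide +kernel

theorem V0_of_fix {x : Vec} (h : act wE x = x) : V0 x := by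
  obtain ⟨n, hn, rfl⟩ := exists_dec x
  have h1 := (isCode_wE.app_eq_iff hn hn).1 h
  have h2 := allb_spec fixw_check n hn
  rw [Bool.or_eq_true, Bool.not_eq_true'] at h2
  rcases h2 with h2 | h2
  · rw [h1, Nat.beq_refl] at h2
    exact absurd h2 (by decide)
  · exact V0_of_mod hn h2

theorem fixw_e0 : act wE e0 = e0 := (mem_Al_iff.1 wE_mem).1.2
theorem fixw_e1 : act wE e1 = e1 := (mem_Al_iff.1 wE_mem).2

theorem inter {g : GL6} (h1 : g ∈ As) (h2 : g ∈ Al) : g = 1 := by
  have hc : (⟨g, h1⟩ : As) ∈ Subgroup.center As := by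
    rw [Subgroup.mem_center_iff]
    intro k
    exact Subtype.ext (comm_Al_As h2 k.2).symm
  rcases (inferInstance : (Subgroup.center As).Normal).eq_bot_or_eq_top with h | h
  · rw [h, Subgroup.mem_bot] at hc
    exact congrArg Subtype.val hc
  · exfalso
    have h3 : ∀ x y : As, x * y = y * x := fun x y => by
      have : y ∈ Subgroup.center As := by rw [h]; trivial
      exact Subgroup.mem_center_iff.1 this x
    have h4 := congrArg Subtype.val (h3 ⟨gx 2 0, gx2_mem 0⟩ ⟨gx 9 0, gx9_mem 0⟩)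
    change gx 2 0 * gx 9 0 = gx 9 0 * gx 2 0 at h4
    rw [← ev_pair, ← ev_pair] at h4
    exact absurd (ev_eq_iff.1 h4) (by decide +kernel)

/-- powers of `w` in `Al` -/
theorem pow_w {a : GL6} (ha : a ∈ Al) (h : a * wE = wE * a) : ∃ i : ℕ, a = wE ^ i := by
  obtain ⟨e⟩ := equiv_Al
  obtain ⟨k, hk⟩ := AutA5.cent_five e (u := ⟨wE, wE_mem⟩) (fun h => wE_ne (congrArg Subtype.val h))
    (Subtype.ext wE_pow) (x := ⟨a, ha⟩) (Subtype.ext h)
  exact ⟨k, congrArg Subtype.val hk⟩

/-- powers of `u` in `As` -/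
theorem pow_u {a : GL6} (ha : a ∈ As) (h : a * uE = uE * a) : ∃ i : ℕ, a = uE ^ i := by
  obtain ⟨e⟩ := equiv_As
  obtain ⟨k, hk⟩ := AutA5.cent_five e (u := ⟨uE, uE_mem⟩) (fun h => uE_ne (congrArg Subtype.val h))
    (Subtype.ext uE_pow) (x := ⟨a, ha⟩) (Subtype.ext h)
  exact ⟨k, congrArg Subtype.val hk⟩

theorem cent_w {g : GL6} (hg : g ∈ L) (h : g * wE = wE * g) : ∃ i : ℕ, ∃ s ∈ As, g = wE ^ i * s := by
  have h0 : ∀ x, act wE x = x → V0 (act g x) := fun x hx => V0_of_fix (by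
    rw [← act_mul, ← h, act_mul, hx])
  obtain ⟨s, hs, a, ha, rfl⟩ := split hg (h0 _ fixw_e0) (h0 _ fixw_e1)
  have h1 : wE * s = s * wE := comm_Al_As wE_mem hs
  have h2 : a * wE = wE * a := by
    rw [mul_assoc, ← mul_assoc wE, h1, mul_assoc] at h
    exact mul_left_cancel h
  obtain ⟨i, rfl⟩ := pow_w ha h2
  exact ⟨i, s, hs, (comm_Al_As ha hs).symm⟩

/-! ### The centraliser of `u` -/

/-- the scalar `ω²` -/
def SC : List ℕ := [3, 1, 12, 4, 48, 16, 192, 64, 768, 256, 3072, 1024]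

theorem SC_check : ∀ j < 12, dec (SC.getD j 0) = F4.v • dec (2 ^ j) := by decide +kernel

theorem isCode_SC : IsCode (F4.v • (1 : Mat)) SC := by
  refine isCode_of_cols rfl (by decide) (fun j hj => ?_)
  rw [Matrix.smul_mulVec, Matrix.one_mulVec]
  exact SC_check j hj

def uiC : List ℕ := cw [(9, 1), (2, 0)]

theorem isCode_uEi : IsCode ((uE⁻¹ : GL6) : Mat) uiC := by
  have h : uE⁻¹ = ev [(9, 1), (2, 0)] := (ev_reverse [(2, 0), (9, 1)]).symm
  rw [h]
  exact isCode_ev _

theorem fixu_check : allb (fun n => !(Nat.beq (Nat.xor (app uC n) (app uiC n)) (app SC n)) ||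
    Nat.beq (n % 1024 / 4) 0) 4096 = true := by
  decide +kernel

theorem V0_of_eig {x : Vec} (h : act uE x + act uE⁻¹ x = F4.v • x) : V0 x := by
  obtain ⟨n, hn, rfl⟩ := exists_dec x
  have h1 : dec (app uC n ^^^ app uiC n) = dec (app SC n) := by
    rw [dec_xor, isCode_uE.spec n hn, isCode_uEi.spec n hn, isCode_SC.spec n hn, Matrix.smul_mulVec,
      Matrix.one_mulVec]
    exact h
  have h3 := dec_inj (Nat.xor_lt_two_pow (n := 12) (isCode_uE.app_lt n) (isCode_uEi.app_lt n))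
    (isCode_SC.app_lt n) h1
  have h2 := allb_spec fixu_check n hn
  rw [Bool.or_eq_true, Bool.not_eq_true'] at h2
  rcases h2 with h2 | h2
  · have h4 : Nat.beq (Nat.xor (app uC n) (app uiC n)) (app SC n) = true := by
      rw [← h3]; exact Nat.beq_refl _
    rw [h4] at h2
    exact absurd h2 (by decide)
  · exact V0_of_mod hn h2

theorem eig_check : (Nat.xor (app uC 1) (app uiC 1) = app SC 1) ∧
    (Nat.xor (app uC 1024) (app uiC 1024) = app SC 1024) := by decide +kernel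

theorem eig_of {n : ℕ} (hn : n < 4096) (h : Nat.xor (app uC n) (app uiC n) = app SC n) :
    act uE (dec n) + act uE⁻¹ (dec n) = F4.v • dec n := by
  have h1 : dec (app uC n ^^^ app uiC n) = dec (app SC n) := congrArg dec h
  rw [dec_xor, isCode_uE.spec n hn, isCode_uEi.spec n hn, isCode_SC.spec n hn, Matrix.smul_mulVec,
      Matrix.one_mulVec] at h1
  exact h1

theorem eig_e0 : act uE e0 + act uE⁻¹ e0 = F4.v • e0 := eig_of (by norm_num) eig_check.1
theorem eig_e1 : act uE e1 + act uE⁻¹ e1 = F4.v • e1 := eig_of (by norm_num) eig_check.2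

theorem cent_u {g : GL6} (hg : g ∈ L) (h : g * uE = uE * g) : ∃ i : ℕ, ∃ a ∈ Al, g = uE ^ i * a := by
  have hi : g * uE⁻¹ = uE⁻¹ * g := ((show Commute g uE from h).inv_right).eq
  have h0 : ∀ x, act uE x + act uE⁻¹ x = F4.v • x → V0 (act g x) := fun x hx => V0_of_eig (by
    rw [← act_mul, ← act_mul, ← h, ← hi, act_mul, act_mul, ← act_add, hx, act_smul])
  obtain ⟨s, hs, a, ha, rfl⟩ := split hg (h0 _ eig_e0) (h0 _ eig_e1)
  have h1 : a * uE = uE * a := comm_Al_As ha uE_mem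
  have h2 : s * uE = uE * s := by
    rw [mul_assoc, h1, ← mul_assoc, ← mul_assoc] at h
    exact mul_right_cancel h
  obtain ⟨i, rfl⟩ := pow_u hs h2
  exact ⟨i, a, ha, rfl⟩

/-! ### The element `n` -/

/-- `n₀`, and `n = x₅(1) n₀` -/
def n0W : Wd := [(4, 0), (2, 0), (5, 2), (10, 0), (2, 0), (4, 0)]
def nW : Wd := (5, 0) :: n0W

def nE : GL6 := ev nW

theorem nE_mem : nE ∈ L := ev_mem _

theorem n_check : cw (nW ++ [(2, 0), (5, 0)]) = cw ([(2, 0), (5, 0)] ++ nW) ∧
    cw (nW ++ [(5, 0), (6, 1)] ++ nW.reverse) = cw ([(5, 0), (6, 1), (5, 0), (6, 1), (2, 0), (9, 1), (2, 0), (9, 1)]) ∧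
    cw (nW ++ [(2, 0), (9, 1)] ++ nW.reverse) = cw ([(5, 0), (6, 1), (5, 0), (6, 1), (5, 0), (6, 1), (5, 0), (6, 1),
      (2, 0), (9, 1), (2, 0), (9, 1)]) := by
  decide +kernel

theorem ni : nE * (gx 2 0 * gx 5 0) = gx 2 0 * gx 5 0 * nE := by
  have h := ev_eq_of n_check.1
  rw [ev_append, ev_append, ev_pair] at h
  exact h

theorem wE_sq : wE ^ 2 = ev [(5, 0), (6, 1), (5, 0), (6, 1)] := by
  rw [sq, wE, ← ev_append]; rfl

theorem uE_sq : uE ^ 2 = ev [(2, 0), (9, 1), (2, 0), (9, 1)] := by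
  rw [sq, uE, ← ev_append]; rfl

theorem wE_four : wE ^ 4 = ev [(5, 0), (6, 1), (5, 0), (6, 1), (5, 0), (6, 1), (5, 0), (6, 1)] := by
  have h : wE ^ 4 = wE ^ 2 * wE ^ 2 := by group
  rw [h, wE_sq, ← ev_append]; rfl

theorem nw : nE * wE * nE⁻¹ = wE ^ 2 * uE ^ 2 := by
  have h := ev_eq_of n_check.2.1
  rw [ev_append, ev_append, ev_reverse] at h
  rw [wE_sq, uE_sq, ← ev_append]
  exact h

theorem nu : nE * uE * nE⁻¹ = wE ^ 4 * uE ^ 2 := by
  have h := ev_eq_of n_check.2.2
  rw [ev_append, ev_append, ev_reverse] at h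
  rw [wE_four, uE_sq, ← ev_append]
  exact h

/-! ### Generation by `As`, `Al`, `n` -/

/-- words in root elements and `n₀` -/
def flat (l : List (Option (Fin 12 × Fin 3))) : Wd := l.flatMap fun o =>
  match o with
  | none => n0W
  | some p => [p]

def okL (l : List (Option (Fin 12 × Fin 3))) : Bool := l.all fun o =>
  match o with
  | none => true
  | some p => decide (p.1 = 2 ∨ p.1 = 5 ∨ p.1 = 6 ∨ p.1 = 9)

theorem flat_mem {K : Subgroup GL6} (hs : As ≤ K) (hl : Al ≤ K) (hn : ev n0W ∈ K)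
    (l : List (Option (Fin 12 × Fin 3))) (h : okL l = true) : ev (flat l) ∈ K := by
  induction l with
  | nil => exact K.one_mem
  | cons o l ih =>
    have h1 : flat (o :: l) = flat [o] ++ flat l := by
      simp [flat]
    have h2 : okL (o :: l) = (okL [o] && okL l) := by simp [okL]
    rw [h2, Bool.and_eq_true] at h
    rw [h1, ev_append]
    refine K.mul_mem ?_ (ih h.2)
    match o, h.1 with
    | none, _ =>
      have : flat [none] = n0W := by simp [flat]
      rw [this]; exact hn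
    | some (r, t), h3 =>
      have h4 : flat [some (r, t)] = [(r, t)] := rfl
      rw [h4, ev_singleton]
      simp only [okL, List.all_cons, List.all_nil, Bool.and_true, decide_eq_true_eq] at h3
      rcases h3 with rfl | rfl | rfl | rfl
      · exact hs (gx2_mem t)
      · exact hl (gx5_mem t)
      · exact hl (gx6_mem t)
      · exact hs (gx9_mem t)

def gl00 : List (Option (Fin 12 × Fin 3)) := [some (9,2),none,some (5,2),none,some (5,1),none,some (2,0),none,some (9,0),some (6,0),none,some (2,0),some (5,2),none,some (2,2),some (9,0),some (6,2),some (2,2),none,some (6,1),some (5,2)]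
def gl02 : List (Option (Fin 12 × Fin 3)) := [some (9,2),none,some (5,1),none,some (5,2),none,some (2,0),none,some (9,0),some (6,0),none,some (2,1),none,some (9,2),some (5,1),none,some (2,2),some (5,0),some (6,1),some (5,0)]
def gl110 : List (Option (Fin 12 × Fin 3)) := [some (2,2),none,some (9,2),some (5,1),none,some (2,2),some (6,2),some (2,2),none,some (9,2),some (5,1),none,some (2,2),some (6,2)]
def gl70 : List (Option (Fin 12 × Fin 3)) := [none,some (9,0),some (2,2),some (6,2),some (5,0),none,some (2,2),none,some (9,2),some (5,1),none,some (2,2),some (9,0),some (5,1),some (6,2),some (5,1)]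
def gl40 : List (Option (Fin 12 × Fin 3)) := [some (5,2),none,some (9,2),none,some (9,0),none,some (6,1),none,some (2,2),some (9,0),some (5,0),some (6,2),none,some (2,0),none,some (9,0),some (6,0),none,some (2,0),some (6,0),some (5,0)]

theorem gl_check : (cw (flat gl00) = cw [(0, 0)] ∧ okL gl00 = true) ∧ (cw (flat gl02) = cw [(0, 2)] ∧ okL gl02 = true) ∧
    (cw (flat gl110) = cw [(11, 0)] ∧ okL gl110 = true) ∧ (cw (flat gl70) = cw [(7, 0)] ∧ okL gl70 = true) ∧
    (cw (flat gl40) = cw [(4, 0)] ∧ okL gl40 = true) := by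
  decide +kernel

/-- `As`, `Al` and `n` generate -/
theorem L_le {K : Subgroup GL6} (hs : As ≤ K) (hl : Al ≤ K) (hn : nE ∈ K) : L ≤ K := by
  have hn0 : ev n0W ∈ K := by
    have h1 : nE = gx 5 0 * ev n0W := rfl
    have h2 : ev n0W = gx 5 0 * nE := by rw [h1, ← mul_assoc, gx_sq, one_mul]
    rw [h2]
    exact K.mul_mem (hl (gx5_mem 0)) hn
  obtain ⟨⟨c1, d1⟩, ⟨c2, d2⟩, ⟨c3, d3⟩, ⟨c4, d4⟩, c5, d5⟩ := gl_check
  have key : ∀ (l : List (Option (Fin 12 × Fin 3))) (p : Fin 12 × Fin 3), cw (flat l) = cw [p] →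
      okL l = true → gx p.1 p.2 ∈ K := by
    intro l p h1 h2
    have h3 := ev_eq_of h1
    rw [ev_singleton] at h3
    rw [← h3]
    exact flat_mem hs hl hn0 l h2
  have k1 := key _ _ c1 d1
  have k2 := key _ _ c2 d2
  have k3 := key _ _ c3 d3
  have k4 := key _ _ c4 d4
  have k5 := key _ _ c5 d5
  rw [← closure_B]
  refine (Subgroup.closure_le _).2 ?_
  rintro _ ⟨i, rfl⟩
  have hB : ∀ i, B i = ev (bw i) := fun _ => rfl
  rw [SetLike.mem_coe, hB]
  fin_cases i
  · change ev [(0, 2)] ∈ K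
    rw [ev_singleton]; exact k2
  · change ev [(11, 0)] ∈ K
    rw [ev_singleton]; exact k3
  · change ev ([(6, 1), (0, 0)] ++ [(6, 1)]) ∈ K
    rw [ev_append, ev_pair, ev_singleton]
    exact K.mul_mem (K.mul_mem (hl (gx6_mem 1)) k1) (hl (gx6_mem 1))
  · change ev [(7, 0)] ∈ K
    rw [ev_singleton]; exact k4
  · change ev [(4, 0)] ∈ K
    rw [ev_singleton]; exact k5
  · change ev [(0, 0)] ∈ K
    rw [ev_singleton]; exact k1

end Cfsg.Agent.StdG24.Cent6
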