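import Cfsg.Agent.StdG24.CentLe

/-!
# Centralisers by sifting over several blocks of adapted base points
-/

set_option autoImplicit false

namespace Cfsg.Agent.StdG24.CentBlk

open Cfsg.Agent.StdG24.Perm416 Cfsg.Agent.StdG24.Sift Cfsg.Agent.StdG24.Words Cfsg.Agent.StdG24.CentX
  Cfsg.Agent.StdG24.CentLe

/-- a block: a base point `p` and a table of index words (`f` digits each) of elements of `H` mapping `p` to `q` -/
structure Blk where
  p : ℕ
  f : ℕ
  T : ℕ

/-- the adapted points of `q` -/
noncomputable def pts (ws : List (List ℕ)) (q : ℕ) : List ℕ := q :: ws.map fun w => ivL w q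

/-- the word of a block at `q` -/
noncomputable def Blk.wd (B : Blk) (gens : List (List ℕ)) (q : ℕ) : List ℕ := gw gens (tabAt B.f B.T q)

/-- check of the blocks over the prefix `prev` -/
noncomputable def chkB (ls : List Level) (ws gens : List (List ℕ)) : List ℕ → List Blk → Bool
  | _, [] => true
  | prev, B :: Bs =>
    cond (allN 416 fun q => cond (sift ls (prev ++ pts ws q))
      (cond (Nat.beq (ivL (B.wd gens q) q) B.p) (prev.all fun b => Nat.beq (ivL (B.wd gens q) b) b) false)
      true) (chkB ls ws gens (prev ++ pts ws B.p) Bs) false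

/-- all adapted points -/
noncomputable def allPts (ws : List (List ℕ)) : List ℕ → List Blk → List ℕ
  | prev, [] => prev
  | prev, B :: Bs => allPts ws (prev ++ pts ws B.p) Bs

theorem allPts_eq (ws : List (List ℕ)) : ∀ (Bs : List Blk) (prev : List ℕ),
    ∃ r, allPts ws prev Bs = prev ++ r := by
  intro Bs
  induction Bs with
  | nil => intro prev; exact ⟨[], by simp [allPts]⟩
  | cons B Bs ih =>
    intro prev
    obtain ⟨r, hr⟩ := ih (prev ++ pts ws B.p)
    exact ⟨pts ws B.p ++ r, by rw [allPts, hr, List.append_assoc]⟩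

theorem map_pts {c : L0} {ws : List (List ℕ)} (hc : ∀ w ∈ ws, c * E w = E w * c) {p : ℕ} (hp : p < 416) :
    (pts ws p).map (ap (c : Equiv.Perm (Fin 416))) = pts ws (ap (c : Equiv.Perm (Fin 416)) p) := by
  unfold pts
  rw [List.map_cons, List.map_map]
  congr 1
  apply List.map_congr_left
  intro w hw
  exact ap_ivL hp (hc w hw)

theorem blk_aux {ls : List Level} (hf : Full ls) (ws gens : List (List ℕ)) (H : Subgroup L0)
    (hH : ∀ g ∈ gens, E g ∈ H) (hcomm : ∀ h ∈ H, ∀ w ∈ ws, h * E w = E w * h) :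
    ∀ (Bs : List Blk) (prev : List ℕ), chkB ls ws gens prev Bs = true →
      (bases ls).take (allPts ws prev Bs).length = allPts ws prev Bs →
      ∀ c : L0, (∀ w ∈ ws, c * E w = E w * c) → (∀ b ∈ prev, ap (c : Equiv.Perm (Fin 416)) b = b) →
      ∃ h ∈ H, ∀ b ∈ allPts ws prev Bs, ap ((h⁻¹ * c : L0) : Equiv.Perm (Fin 416)) b = b := by
  intro Bs
  induction Bs with
  | nil =>
    intro prev _ _ c _ hfix
    refine ⟨1, H.one_mem, fun b hb => ?_⟩
    rw [inv_one, one_mul]
    exact hfix b hb
  | cons B Bs ih =>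
    intro prev hchk hb c hc hfix
    have hchk' : cond (allN 416 fun q => cond (sift ls (prev ++ pts ws q))
      (cond (Nat.beq (ivL (B.wd gens q) q) B.p) (prev.all fun b => Nat.beq (ivL (B.wd gens q) b) b) false)
      true) (chkB ls ws gens (prev ++ pts ws B.p) Bs) false = true := hchk
    rw [cond_and] at hchk'
    obtain ⟨hc1, hc2⟩ := hchk'
    obtain ⟨r, hr⟩ := allPts_eq ws Bs (prev ++ pts ws B.p)
    have hall : allPts ws prev (B :: Bs) = prev ++ pts ws B.p ++ r := hr
    have hlt := bases_lt ls [] (by simp) hf.v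
    have hmem : ∀ b ∈ prev ++ pts ws B.p, b ∈ bases ls := by
      intro b hb'
      have h1 : b ∈ (bases ls).take (allPts ws prev (B :: Bs)).length := by
        rw [hb, hall]; exact List.mem_append_left _ hb'
      exact List.mem_of_mem_take h1
    have hp : B.p < 416 := hlt _ (hmem _ (List.mem_append_right _ List.mem_cons_self))
    set q := ap (c : Equiv.Perm (Fin 416)) B.p with hq
    have hq' : q < 416 := ap_lt _ hp
    have hn : (prev ++ pts ws B.p).length ≤ (allPts ws prev (B :: Bs)).length := by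
      rw [hall, List.length_append (as := prev ++ pts ws B.p)]; exact Nat.le_add_right _ _
    have htk : (bases ls).take (prev ++ pts ws B.p).length = prev ++ pts ws B.p := by
      calc (bases ls).take (prev ++ pts ws B.p).length
          = ((bases ls).take (allPts ws prev (B :: Bs)).length).take (prev ++ pts ws B.p).length := by
            rw [List.take_take, min_eq_left hn]
        _ = (allPts ws prev (B :: Bs)).take (prev ++ pts ws B.p).length := by rw [hb]
        _ = prev ++ pts ws B.p := by
            rw [hall, List.take_append_of_le_length le_rfl, List.take_length]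
    have h1 := hf.sift_ok c.2 (prev ++ pts ws B.p).length
    rw [htk, List.map_append, map_pts hc hp, ← hq] at h1
    have h2 : prev.map (ap (c : Equiv.Perm (Fin 416))) = prev := by
      conv_rhs => rw [← List.map_id prev]
      exact List.map_congr_left fun b hb' => hfix b hb'
    rw [h2] at h1
    have h3 := allN_spec hc1 q hq'
    rw [h1, cond_true, cond_and] at h3
    obtain ⟨h4, h5⟩ := h3
    have h4 : ivL (B.wd gens q) q = B.p := Nat.eq_of_beq_eq_true h4
    have h6 : E (B.wd gens q) ∈ H := gw_mem gens _ H hH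
    set h := E (B.wd gens q) with hh
    have h7 : ∀ w ∈ ws, (h⁻¹ * c) * E w = E w * (h⁻¹ * c) := by
      intro w hw'
      have h8 := hcomm _ (H.inv_mem h6) w hw'
      rw [mul_assoc, hc w hw', ← mul_assoc, h8, mul_assoc]
    have h9 : ap ((h⁻¹ * c : L0) : Equiv.Perm (Fin 416)) B.p = B.p := by
      show ap ((h : Equiv.Perm (Fin 416))⁻¹ * (c : Equiv.Perm (Fin 416))) B.p = B.p
      rw [ap_mul, ← hq, hh, ap_E_inv _ hq', h4]
    have h10 : ∀ b ∈ prev ++ pts ws B.p, ap ((h⁻¹ * c : L0) : Equiv.Perm (Fin 416)) b = b := by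
      intro b hb'
      rcases List.mem_append.1 hb' with hb' | hb'
      · have hb416 := hlt b (hmem b (List.mem_append_left _ hb'))
        show ap ((h : Equiv.Perm (Fin 416))⁻¹ * (c : Equiv.Perm (Fin 416))) b = b
        rw [ap_mul, hfix b hb', hh, ap_E_inv _ hb416]
        exact Nat.eq_of_beq_eq_true (List.all_eq_true.1 h5 b hb')
      · rcases List.mem_cons.1 hb' with rfl | hb''
        · exact h9
        · obtain ⟨w, hw', rfl⟩ := List.mem_map.1 hb''
          rw [ap_ivL hp (h7 w hw'), h9]
    obtain ⟨k, hk, hk2⟩ := ih (prev ++ pts ws B.p) hc2 hb (h⁻¹ * c) h7 h10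
    refine ⟨h * k, H.mul_mem h6 hk, fun b hb' => ?_⟩
    have h11 := hk2 b hb'
    rwa [show (h * k)⁻¹ * c = k⁻¹ * (h⁻¹ * c) by group]

/-- **centralisers**: an element commuting with `ws` lies in `H` -/
theorem cent_blk {ls : List Level} (hf : Full ls) {ws gens : List (List ℕ)} {Bs : List Blk}
    (hb : (bases ls).take (allPts ws [] Bs).length = allPts ws [] Bs)
    (hchk : chkB ls ws gens [] Bs = true) (H : Subgroup L0)
    (hH : ∀ g ∈ gens, E g ∈ H) (hcomm : ∀ h ∈ H, ∀ w ∈ ws, h * E w = E w * h)
    (hrest : ∀ l ∈ ls.drop (allPts ws [] Bs).length, ∀ q < 416, l.ok q = true → E [l.get q] ∈ H)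
    (c : L0) (hc : ∀ w ∈ ws, c * E w = E w * c) : c ∈ H := by
  obtain ⟨h, hh, h2⟩ := blk_aux hf ws gens H hH hcomm Bs [] hchk hb c hc (by simp)
  obtain ⟨bs', h3, h4, h5, h6⟩ := tight_drop (allPts ws [] Bs).length ls [] (by simp) hf.v hf.card_le
  have h7 : h⁻¹ * c ∈ H := by
    refine stab_le H _ bs' h3 h5 h6 hrest _ ⟨(h⁻¹ * c).2, fun b hb' => h2 b ?_⟩
    rcases (h4 b).1 hb' with h8 | h8
    · simp at h8
    · rw [hb] at h8; exact h8
  have := H.mul_mem hh h7
  rwa [mul_inv_cancel_left] at this

/-- commutation of a closure with words from a check on the generators -/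
theorem comm_of_chk {gens ws : List (List ℕ)}
    (h : (gens.all fun g => ws.all fun w => eqc (g ++ w) (w ++ g)) = true) :
    ∀ x ∈ Subgroup.closure {x : L0 | ∃ g ∈ gens, x = E g}, ∀ w ∈ ws, x * E w = E w * x := by
  intro x hx w hw
  have h1 : Subgroup.closure {x : L0 | ∃ g ∈ gens, x = E g} ≤ Subgroup.centralizer {E w} := by
    rw [Subgroup.closure_le]
    rintro y ⟨g, hg, rfl⟩
    rw [SetLike.mem_coe, Subgroup.mem_centralizer_singleton_iff]
    have h2 := E_eq (List.all_eq_true.1 (List.all_eq_true.1 h g hg) w hw)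
    rwa [E_append, E_append] at h2
  exact Subgroup.mem_centralizer_singleton_iff.1 (h1 hx)

/-- the subgroup generated by words -/
noncomputable def gen (gens : List (List ℕ)) : Subgroup L0 := Subgroup.closure {x : L0 | ∃ g ∈ gens, x = E g}

theorem gen_mem {gens : List (List ℕ)} : ∀ g ∈ gens, E g ∈ gen gens := fun g hg =>
  Subgroup.subset_closure ⟨g, hg, rfl⟩

theorem gen_le {gens : List (List ℕ)} {H : Subgroup L0} (h : ∀ g ∈ gens, E g ∈ H) : gen gens ≤ H := by
  unfold gen
  rw [Subgroup.closure_le]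
  rintro y ⟨g, hg, rfl⟩
  exact h g hg

end Cfsg.Agent.StdG24.CentBlk
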