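import Cfsg.Agent.SporadicA.PermTab

/-!
# Upper bounds for centralizers in automorphism groups of graphs

`card_le_cnt`: a group of automorphisms of a graph commuting with some permutations has at most as many
elements as there are compatible assignments of images to base points.
-/

set_option autoImplicit false

namespace Cfsg.Agent.StdG24.CentBound

open Equiv Cfsg.Agent.SporadicA.PermTab

/-- `all` as a bare recursor -/
def allL {α : Type} (p : α → Bool) (L : List α) : Bool := List.rec true (fun a _ ih => band (p a) ih) L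

theorem allL_iff {α : Type} (p : α → Bool) (L : List α) : allL p L = true ↔ ∀ a ∈ L, p a = true := by
  induction L with
  | nil => simp [allL]
  | cons a L ih =>
    have : allL p (a :: L) = band (p a) (allL p L) := rfl
    rw [this, band_eq_true, ih]
    simp

/-- `any` as a bare recursor -/
def anyL {α : Type} (p : α → Bool) (L : List α) : Bool :=
  List.rec false (fun a _ ih => cond (p a) true ih) L

theorem anyL_iff {α : Type} (p : α → Bool) (L : List α) : anyL p L = true ↔ ∃ a ∈ L, p a = true := by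
  induction L with
  | nil => simp [anyL]
  | cons a L ih =>
    have : anyL p (a :: L) = cond (p a) true (anyL p L) := rfl
    rw [this]
    cases h : p a with
    | true => simp [h]
    | false =>
      rw [cond_false, ih]
      simp [h]

/-- the image `q` of `y` is compatible with the previous assignments -/
def okc (n A : ℕ) (WL : List ℕ) (prev : List (ℕ × ℕ)) (y q : ℕ) : Bool :=
  band (allL (fun w => Nat.beq (bitM n A y (lk w y)) (bitM n A q (lk w q))) WL)
    (allL (fun pr => band (Nat.beq (bitM n A pr.1 y) (bitM n A pr.2 q))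
      (band (nbeq q pr.2) (allL (fun w => Nat.beq (bitM n A pr.1 (lk w y)) (bitM n A pr.2 (lk w q))) WL))) prev)

/-- sum -/
def sumN (f : ℕ → ℕ) (n : ℕ) : ℕ := Nat.rec 0 (fun k ih => Nat.add (f k) ih) n

theorem sumN_eq (f : ℕ → ℕ) (n : ℕ) : sumN f n = ∑ k ∈ Finset.range n, f k := by
  induction n with
  | zero => rfl
  | succ n ih =>
    have h : sumN f (n + 1) = f n + sumN f n := rfl
    rw [Finset.sum_range_succ, ← ih, h, add_comm]

/-- the number of compatible assignments -/
def cntT (n A : ℕ) (WL : List ℕ) : List ℕ → List (ℕ × ℕ) → ℕ :=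
  List.rec (fun _ => 1) (fun y _ ih prev =>
    sumN (fun q => cond (okc n A WL prev y q) (ih ((y, q) :: prev)) 0) n)

theorem cntT_nil (n A : ℕ) (WL : List ℕ) (prev : List (ℕ × ℕ)) : cntT n A WL [] prev = 1 := rfl

theorem cntT_cons (n A : ℕ) (WL : List ℕ) (y : ℕ) (ys : List ℕ) (prev : List (ℕ × ℕ)) :
    cntT n A WL (y :: ys) prev =
      ∑ q ∈ Finset.range n, cond (okc n A WL prev y q) (cntT n A WL ys ((y, q) :: prev)) 0 := by
  rw [← sumN_eq]
  rfl

/-- the tables in `WL` commute with `H` -/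
def CommL {n : ℕ} (H : Subgroup (Perm (Fin n))) (WL : List ℕ) : Prop :=
  ∀ w ∈ WL, ∃ c : Perm (Fin n), (∀ i, (c i : ℕ) = lk w i) ∧ ∀ h ∈ H, h * c = c * h

/-- agreement with an assignment -/
def Agree {n : ℕ} (h : Perm (Fin n)) (prev : List (ℕ × ℕ)) : Prop :=
  ∀ pr ∈ prev, ∀ i : Fin n, (i : ℕ) = pr.1 → (h i : ℕ) = pr.2

theorem okc_of_agree {n A : ℕ} {WL : List ℕ} {H : Subgroup (Perm (Fin n))} (hH : H ≤ autG n A)
    (hW : CommL H WL) {prev : List (ℕ × ℕ)} (hprev : ∀ pr ∈ prev, pr.1 < n) {y : Fin n}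
    (hy : ∀ pr ∈ prev, (y : ℕ) ≠ pr.1) {h : Perm (Fin n)}
    (hh : h ∈ H) (hag : Agree h prev) : okc n A WL prev y (h y) = true := by
  have hcomm : ∀ w ∈ WL, ∀ i : Fin n, ∃ j : Fin n, (j : ℕ) = lk w i ∧ (h j : ℕ) = lk w (h i) := by
    intro w hw i
    obtain ⟨c, hc, hcH⟩ := hW w hw
    refine ⟨c i, hc i, ?_⟩
    have h1 := congrArg (fun p : Perm (Fin n) => p i) (hcH h hh)
    simp only [Perm.mul_apply] at h1
    rw [h1, hc]
  unfold okc
  rw [band_eq_true, allL_iff, allL_iff]
  constructor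
  · intro w hw
    obtain ⟨j, hj1, hj2⟩ := hcomm w hw y
    rw [← hj1, ← hj2, hH hh y j]
    exact Nat.beq_refl _
  · intro pr hpr
    rw [band_eq_true, band_eq_true, allL_iff, nbeq_iff]
    have h1 := hag pr hpr ⟨pr.1, hprev pr hpr⟩ rfl
    refine ⟨?_, ?_, fun w hw => ?_⟩
    · rw [← h1]
      have := hH hh ⟨pr.1, hprev pr hpr⟩ y
      rw [this]
      exact Nat.beq_refl _
    · rw [← h1]
      intro h2
      have h3 := h.injective (Fin.ext h2)
      exact hy pr hpr (congrArg Fin.val h3)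
    · obtain ⟨j, hj1, hj2⟩ := hcomm w hw y
      rw [← hj1, ← hj2, ← h1, hH hh ⟨pr.1, hprev pr hpr⟩ j]
      exact Nat.beq_refl _

theorem card_agree_le {n A : ℕ} {WL : List ℕ} {H : Subgroup (Perm (Fin n))} (hH : H ≤ autG n A)
    (hW : CommL H WL) (ys : List ℕ) : ∀ (prev : List (ℕ × ℕ)), (∀ pr ∈ prev, pr.1 < n) →
    (∀ y ∈ ys, y < n) → (ys.Nodup) → (∀ y ∈ ys, ∀ pr ∈ prev, y ≠ pr.1) →
    (∀ h ∈ H, (∀ pr ∈ prev, ∀ i : Fin n, (i : ℕ) = pr.1 → h i = i) →
      (∀ y ∈ ys, ∀ i : Fin n, (i : ℕ) = y → h i = i) → h = 1) →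
    {h : Perm (Fin n) | h ∈ H ∧ Agree h prev}.ncard ≤ cntT n A WL ys prev := by
  classical
  induction ys with
  | nil =>
    intro prev hprev _ _ _ hfin
    rw [cntT_nil]
    rw [Set.ncard_le_one_iff]
    rintro a b ⟨ha, ha'⟩ ⟨hb, hb'⟩
    have h1 := hfin (a⁻¹ * b) (mul_mem (inv_mem ha) hb) (fun pr hpr i hi => by
      rw [Perm.mul_apply, Perm.inv_eq_iff_eq]
      exact Fin.ext ((hb' pr hpr i hi).trans (ha' pr hpr i hi).symm)) (fun y hy => absurd hy List.not_mem_nil)
    rw [inv_mul_eq_one] at h1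
    exact h1
  | cons y ys ih =>
    intro prev hprev hys hnd hne hfin
    have hy : y < n := hys y List.mem_cons_self
    rw [List.nodup_cons] at hnd
    rw [cntT_cons]
    have hsub : {h : Perm (Fin n) | h ∈ H ∧ Agree h prev} ⊆
        ⋃ q ∈ Finset.range n, {h : Perm (Fin n) | h ∈ H ∧ Agree h ((y, q) :: prev) ∧ okc n A WL prev y q = true} := by
      rintro h ⟨hh, hag⟩
      simp only [Set.mem_iUnion]
      refine ⟨h ⟨y, hy⟩, Finset.mem_range.2 (h ⟨y, hy⟩).2, hh, ?_, ?_⟩
      · intro pr hpr i hi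
        rcases List.mem_cons.1 hpr with rfl | h1
        · have : i = ⟨y, hy⟩ := Fin.ext hi
          rw [this]
        · exact hag pr h1 i hi
      · exact okc_of_agree hH hW hprev (y := ⟨y, hy⟩) (fun pr hpr => hne y List.mem_cons_self pr hpr) hh hag
    refine (Set.ncard_le_ncard hsub (Set.toFinite _)).trans ?_
    refine (Finset.set_ncard_biUnion_le _ _).trans ?_
    refine Finset.sum_le_sum fun q hq => ?_
    cases hok : okc n A WL prev y q with
    | false =>
      rw [cond_false]
      have : {h : Perm (Fin n) | h ∈ H ∧ Agree h ((y, q) :: prev) ∧ (false = true)} = ∅ := by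
        ext h; simp
      rw [this, Set.ncard_empty]
    | true =>
      rw [cond_true]
      have : {h : Perm (Fin n) | h ∈ H ∧ Agree h ((y, q) :: prev) ∧ (true = true)} =
          {h : Perm (Fin n) | h ∈ H ∧ Agree h ((y, q) :: prev)} := by
        ext h; simp
      rw [this]
      refine ih ((y, q) :: prev) ?_ (fun z hz => hys z (List.mem_cons_of_mem _ hz)) hnd.2 ?_ ?_
      · intro pr hpr
        rcases List.mem_cons.1 hpr with rfl | h1
        · exact hy
        · exact hprev pr h1
      · intro z hz pr hpr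
        rcases List.mem_cons.1 hpr with rfl | h1
        · rintro rfl
          exact hnd.1 hz
        · exact hne z (List.mem_cons_of_mem _ hz) pr h1
      · intro h hh h1 h2
        refine hfin h hh (fun pr hpr => h1 pr (List.mem_cons_of_mem _ hpr)) ?_
        intro z hz i hi
        rcases List.mem_cons.1 hz with rfl | h3
        · exact h1 (z, q) List.mem_cons_self i hi
        · exact h2 z h3 i hi

/-- each point of the list is an image of an earlier one -/
def chkF (WL : List ℕ) : List ℕ → List ℕ → Bool :=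
  List.rec (fun _ => true) (fun f _ ih acc =>
    band (anyL (fun g => anyL (fun w => Nat.beq (lk w g) f) WL) acc) (ih (f :: acc)))

theorem chkF_cons (WL : List ℕ) (f : ℕ) (fs acc : List ℕ) : chkF WL (f :: fs) acc =
    band (anyL (fun g => anyL (fun w => Nat.beq (lk w g) f) WL) acc) (chkF WL fs (f :: acc)) := rfl

/-- all points in the list are less than `n` -/
theorem fixL_of_chkF {n : ℕ} {WL : List ℕ} {H : Subgroup (Perm (Fin n))} (hW : CommL H WL)
    (fs : List ℕ) : ∀ acc : List ℕ, FixL H acc → chkF WL fs acc = true → FixL H (fs.reverse ++ acc) := by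
  induction fs with
  | nil => intro acc h _; exact h
  | cons f fs ih =>
    intro acc hacc h
    rw [chkF_cons, band_eq_true, anyL_iff] at h
    obtain ⟨⟨g, hg, h1⟩, h2⟩ := h
    rw [anyL_iff] at h1
    obtain ⟨w, hw, h3⟩ := h1
    have h4 := Nat.eq_of_beq_eq_true h3
    rw [List.reverse_cons, List.append_assoc]
    refine ih (f :: acc) ?_ h2
    intro e he
    rcases List.mem_cons.1 he with rfl | he
    · obtain ⟨hgn, hfix⟩ := hacc g hg
      obtain ⟨c, hc, hcH⟩ := hW w hw
      have h5 : (c ⟨g, hgn⟩ : ℕ) = e := by rw [hc]; exact h4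
      refine ⟨h5 ▸ (c ⟨g, hgn⟩).2, fun k hk i hi => ?_⟩
      have h6 : i = c ⟨g, hgn⟩ := Fin.ext (hi.trans h5.symm)
      rw [h6]
      have h7 := congrArg (fun p : Perm (Fin n) => p ⟨g, hgn⟩) (hcH k hk)
      simp only [Perm.mul_apply] at h7
      rw [h7, hfix k hk ⟨g, hgn⟩ rfl]
    · exact hacc e he

/-- the pointwise stabiliser -/
def psL {n : ℕ} (H : Subgroup (Perm (Fin n))) (ys : List ℕ) : Subgroup (Perm (Fin n)) where
  carrier := {h | h ∈ H ∧ ∀ y ∈ ys, ∀ i : Fin n, (i : ℕ) = y → h i = i}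
  one_mem' := ⟨one_mem _, fun _ _ _ _ => rfl⟩
  mul_mem' := by
    rintro a b ⟨ha, ha'⟩ ⟨hb, hb'⟩
    refine ⟨mul_mem ha hb, fun y hy i hi => ?_⟩
    rw [Perm.mul_apply, hb' y hy i hi, ha' y hy i hi]
  inv_mem' := by
    rintro a ⟨ha, ha'⟩
    refine ⟨inv_mem ha, fun y hy i hi => ?_⟩
    rw [Perm.inv_eq_iff_eq]
    exact (ha' y hy i hi).symm

/-- **upper bound for a centralizer** -/
theorem card_le_cnt {n A : ℕ} {WL : List ℕ} {H : Subgroup (Perm (Fin n))} (hH : H ≤ autG n A)
    (hW : CommL H WL) (ys fs : List ℕ) (bs : List (ℕ × ℕ)) (R O : ℕ)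
    (hys : allL (fun y => Nat.blt y n) ys = true) (hnd : ys.Nodup)
    (hF : chkF WL fs ys = true) (hc : chainB n A (fs.reverse ++ ys) bs = true) (h1 : prodC bs ≤ 1)
    (hd : chkDist n A (maskL (lastF (fs.reverse ++ ys) bs)) R O = true) :
    Nat.card H ≤ cntT n A WL ys [] := by
  have hlt : ∀ y ∈ ys, y < n := fun y hy => Nat.blt_eq ▸ (allL_iff _ _).1 hys y hy
  have hle : psL H ys ≤ H := fun h hh => hh.1
  have hW' : CommL (psL H ys) WL := by
    intro w hw
    obtain ⟨c, hc, hcH⟩ := hW w hw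
    exact ⟨c, hc, fun h hh => hcH h (hle hh)⟩
  have hfix : FixL (psL H ys) ys := fun y hy => ⟨hlt y hy, fun h hh => hh.2 y hy⟩
  have h2 := card_le_of_chain bs (fs.reverse ++ ys) (psL H ys) (hle.trans hH) (fixL_of_chkF hW' fs ys hfix hF)
    hc (fun g hg h => eq_one_of_dist hd g hg h)
  have h3 : psL H ys = ⊥ := by
    have : Finite (psL H ys) := inferInstance
    exact (Subgroup.card_le_one_iff_eq_bot _).1 (h2.trans h1)
  have h4 := card_agree_le hH hW ys [] (fun _ h => absurd h List.not_mem_nil) hlt hnd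
    (fun _ _ _ h => absurd h List.not_mem_nil) (fun h hh _ h5 => by
      have h6 : h ∈ psL H ys := ⟨hh, h5⟩
      rw [h3] at h6
      exact Subgroup.mem_bot.1 h6)
  have h5 : {h : Perm (Fin n) | h ∈ H ∧ Agree h []} = (H : Set (Perm (Fin n))) := by
    ext h
    simp only [Set.mem_ofPred_eq, SetLike.mem_coe, and_iff_left_iff_imp]
    intro _ pr hpr
    exact absurd hpr List.not_mem_nil
  rw [h5] at h4
  rwa [← Nat.card_coe_set_eq] at h4

end Cfsg.Agent.StdG24.CentBound
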