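import Cfsg.Agent.StdG24.CentX

/-!
# Large centralisers by sifting

Tools for `C(ws) ≤ H` where `H` is given by generators.
-/

set_option autoImplicit false

namespace Cfsg.Agent.StdG24.CentLe

open Cfsg.Agent.StdG24.Perm416 Cfsg.Agent.StdG24.Sift Cfsg.Agent.StdG24.Words Cfsg.Agent.StdG24.CentX

/-- indices from a packed number (4 bits each, ended by 15) -/
noncomputable def idxs (n : ℕ) : ℕ → List ℕ :=
  Nat.rec (motive := fun _ => ℕ → List ℕ) (fun _ => [])
    (fun _ ih w => cond (Nat.blt (Nat.land w 15) 15) (Nat.land w 15 :: ih (Nat.shiftRight w 4)) []) n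

/-- entry `q` of a table of packed index lists with `f` digits each -/
noncomputable def tabAt (f T q : ℕ) : List ℕ := idxs f (Nat.shiftRight T (Nat.mul (Nat.mul 4 f) q))

theorem el_eq_E (w : ℕ) : el w = ((E [w] : L0) : Equiv.Perm (Fin 416)) := rfl

theorem eqc_spec {a b : List ℕ} : eqc a b = true ↔ E a = E b := by
  constructor
  · exact E_eq
  · intro h
    cases h2 : eqc a b with
    | true => rfl
    | false => exact absurd h (E_ne h2)

/-- the elements fixing the points of the list `bs` -/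
theorem stab_cases {ls : List Level} {bs : List ℕ} (hbs : ∀ b ∈ bs, b < 416) {l : Level}
    (hv : verify bs (l :: ls) = true) (hc : Nat.card (Stab bs) ≤ prod (l :: ls))
    {g : Equiv.Perm (Fin 416)} (hg : g ∈ Stab bs) :
    l.ok (ap g l.b) = true ∧ ap g l.b < 416 ∧ (l.t (ap g l.b))⁻¹ * g ∈ Stab (l.b :: bs) := by
  obtain ⟨h1, _⟩ := tight hbs hv hc
  obtain ⟨hl, hv'⟩ := verify_cons.1 hv
  obtain ⟨hb, _, h3⟩ := chk_spec hbs hl
  have h4 := h1 g hg
  obtain ⟨h5, h6⟩ := h3 _ (ap_lt g hb) h4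
  refine ⟨h4, ap_lt g hb, LL.mul_mem (LL.inv_mem h5.1) hg.1, fun b hb' => ?_⟩
  rcases List.mem_cons.1 hb' with rfl | hb'
  · rw [ap_mul]
    have h10 := ap_inv_self (l.t (ap g l.b)) l.b
    rwa [h6] at h10
  · rw [ap_mul, hg.2 b hb']
    have := ap_inv_self (l.t (ap g l.b)) b
    rwa [h5.2 b hb'] at this

/-- all transversal elements of the levels lie in `H`: so does the stabiliser -/
theorem stab_le (H : Subgroup L0) : ∀ (ls : List Level) (bs : List ℕ), (∀ b ∈ bs, b < 416) →
    verify bs ls = true → Nat.card (Stab bs) ≤ prod ls →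
    (∀ l ∈ ls, ∀ q < 416, l.ok q = true → E [l.get q] ∈ H) →
    ∀ g : L0, (g : Equiv.Perm (Fin 416)) ∈ Stab bs → g ∈ H := by
  intro ls
  induction ls with
  | nil =>
    intro bs _ _ hc _ g hg
    have h1 : Nat.card (Stab bs) = 1 := le_antisymm hc (Nat.one_le_iff_ne_zero.2 (Nat.card_pos).ne')
    have h2 := Subgroup.card_eq_one.1 h1
    rw [h2] at hg
    have h3 : g = 1 := Subtype.ext (Subgroup.mem_bot.1 hg)
    rw [h3]; exact H.one_mem
  | cons l ls ih =>
    intro bs hbs hv hc hH g hg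
    obtain ⟨h1, h2, h3⟩ := stab_cases hbs hv hc hg
    obtain ⟨_, h4⟩ := tight hbs hv hc
    obtain ⟨hl, hv'⟩ := verify_cons.1 hv
    have hb := (chk_spec hbs hl).1
    have hbs' : ∀ b ∈ l.b :: bs, b < 416 := by
      intro b hb'
      rcases List.mem_cons.1 hb' with rfl | h
      · exact hb
      · exact hbs b h
    have h5 : E [l.get (ap (g : Equiv.Perm (Fin 416)) l.b)] ∈ H := hH l List.mem_cons_self _ h2 h1
    have h6 := ih _ hbs' hv' h4 (fun l' hl' => hH l' (List.mem_cons_of_mem _ hl'))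
      ((E [l.get (ap (g : Equiv.Perm (Fin 416)) l.b)])⁻¹ * g) h3
    have := H.mul_mem h5 h6
    rwa [mul_inv_cancel_left] at this

/-- after `k` levels: the chain below is verified and tight -/
theorem tight_drop : ∀ (k : ℕ) (ls : List Level) (bs : List ℕ), (∀ b ∈ bs, b < 416) →
    verify bs ls = true → Nat.card (Stab bs) ≤ prod ls →
    ∃ bs' : List ℕ, (∀ b ∈ bs', b < 416) ∧ (∀ b, b ∈ bs' ↔ b ∈ bs ∨ b ∈ (bases ls).take k) ∧
      verify bs' (ls.drop k) = true ∧ Nat.card (Stab bs') ≤ prod (ls.drop k) := by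
  intro k
  induction k with
  | zero => intro ls bs h1 h2 h3; exact ⟨bs, h1, by simp, by simpa using h2, by simpa using h3⟩
  | succ k ih =>
    intro ls bs h1 h2 h3
    cases ls with
    | nil => exact ⟨bs, h1, by simp [bases], by simpa using h2, by simpa using h3⟩
    | cons l ls =>
      obtain ⟨_, h4⟩ := tight h1 h2 h3
      obtain ⟨hl, hv'⟩ := verify_cons.1 h2
      have hb := (chk_spec h1 hl).1
      have hbs' : ∀ b ∈ l.b :: bs, b < 416 := by
        intro b hb'
        rcases List.mem_cons.1 hb' with rfl | h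
        · exact hb
        · exact h1 b h
      obtain ⟨bs', h5, h6, h7, h8⟩ := ih ls (l.b :: bs) hbs' hv' h4
      refine ⟨bs', h5, fun b => ?_, by simpa using h7, by simpa using h8⟩
      rw [h6, List.mem_cons]
      show _ ↔ _ ∨ b ∈ (l.b :: bases ls).take (k + 1)
      rw [List.take_succ_cons, List.mem_cons]
      tauto

/-- moving an adapted base point -/
theorem ap_ivL {d : L0} {w : List ℕ} {p : ℕ} (hp : p < 416) (hd : d * E w = E w * d) :
    ap (d : Equiv.Perm (Fin 416)) (ivL w p) = ivL w (ap (d : Equiv.Perm (Fin 416)) p) := by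
  rw [← ap_E_inv w hp, ← ap_E_inv w (ap_lt _ hp), ← ap_mul, ← ap_mul]
  congr 1
  have h1 : (d : Equiv.Perm (Fin 416)) * (E w : Equiv.Perm (Fin 416)) = E w * d := congrArg Subtype.val hd
  rw [eq_inv_mul_iff_mul_eq, ← mul_assoc, ← h1, mul_inv_cancel_right]

/-- First step for a centraliser: an element `c` commuting with `ws` is `h * c'` with `h ∈ H` and `c'`
commuting with `ws` and fixing the adapted base points. -/
theorem cent_step {ls : List Level} (hf : Full ls) {p : ℕ} {ws : List (List ℕ)}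
    (hb : (bases ls).take (ws.length + 1) = p :: ws.map (fun w => ivL w p)) (gens : List (List ℕ))
    (H : Subgroup L0) (hH : ∀ g ∈ gens, E g ∈ H) (f T : ℕ)
    (hchk : allN 416 (fun q => cond (sift ls (q :: ws.map fun w => ivL w q))
      (Nat.beq (ivL (gw gens (tabAt f T q)) q) p) true) = true)
    (hcomm : ∀ h ∈ H, ∀ w ∈ ws, h * E w = E w * h)
    (c : L0) (hc : ∀ w ∈ ws, c * E w = E w * c) :
    ∃ h ∈ H, (∀ w ∈ ws, (h⁻¹ * c) * E w = E w * (h⁻¹ * c)) ∧
      ∀ b ∈ (bases ls).take (ws.length + 1), ap ((h⁻¹ * c : L0) : Equiv.Perm (Fin 416)) b = b := by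
  have hlt := bases_lt ls [] (by simp) hf.v
  have hp : p < 416 := hlt p (List.mem_of_mem_take (by rw [hb]; exact List.mem_cons_self))
  set q := ap (c : Equiv.Perm (Fin 416)) p with hq
  have hq' : q < 416 := ap_lt _ hp
  have h1 := hf.sift_ok c.2 (ws.length + 1)
  rw [hb, List.map_cons, List.map_map] at h1
  have h2 : ws.map (ap (c : Equiv.Perm (Fin 416)) ∘ fun w => ivL w p) = ws.map fun w => ivL w q := by
    apply List.map_congr_left
    intro w hw
    exact ap_ivL hp (hc w hw)
  rw [h2, ← hq] at h1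
  have h3 := allN_spec hchk q hq'
  rw [h1, cond_true] at h3
  set hw := gw gens (tabAt f T q) with hhw
  have h5 : ivL hw q = p := Nat.eq_of_beq_eq_true h3
  have h6 : E hw ∈ H := gw_mem gens _ H hH
  have h7 : ∀ w ∈ ws, ((E hw)⁻¹ * c) * E w = E w * ((E hw)⁻¹ * c) := by
    intro w hw'
    have h8 := hcomm _ (H.inv_mem h6) w hw'
    rw [mul_assoc, hc w hw', ← mul_assoc, h8, mul_assoc]
  refine ⟨E hw, h6, h7, fun b hb' => ?_⟩
  have h9 : ap (((E hw)⁻¹ * c : L0) : Equiv.Perm (Fin 416)) p = p := by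
    show ap ((E hw : Equiv.Perm (Fin 416))⁻¹ * (c : Equiv.Perm (Fin 416))) p = p
    rw [ap_mul, ← hq, ap_E_inv hw hq', h5]
  rw [hb] at hb'
  rcases List.mem_cons.1 hb' with rfl | hb'
  · exact h9
  · obtain ⟨w, hw', rfl⟩ := List.mem_map.1 hb'
    rw [ap_ivL hp (h7 w hw'), h9]

/-- check that the transversal elements of a level lie in the subgroup generated by `gens` -/
noncomputable def lvlIn (gens : List (List ℕ)) (l : Level) (f T : ℕ) : Bool :=
  allN 416 fun q => cond (l.ok q) (eqc [l.get q] (gw gens (tabAt f T q))) true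

theorem lvlIn_spec {gens : List (List ℕ)} {l : Level} {f T : ℕ} (h : lvlIn gens l f T = true)
    {H : Subgroup L0} (hH : ∀ g ∈ gens, E g ∈ H) : ∀ q < 416, l.ok q = true → E [l.get q] ∈ H := by
  intro q hq hok
  have h1 := allN_spec h q hq
  rw [hok, cond_true] at h1
  rw [E_eq h1]; exact gw_mem gens _ H hH

/-- The centraliser of `ws` lies in `H` if the stabiliser of the adapted points does. -/
theorem cent_le {ls : List Level} (hf : Full ls) {p : ℕ} {ws : List (List ℕ)}
    (hb : (bases ls).take (ws.length + 1) = p :: ws.map (fun w => ivL w p)) (gens : List (List ℕ))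
    (H : Subgroup L0) (hH : ∀ g ∈ gens, E g ∈ H) (f T : ℕ)
    (hchk : allN 416 (fun q => cond (sift ls (q :: ws.map fun w => ivL w q))
      (Nat.beq (ivL (gw gens (tabAt f T q)) q) p) true) = true)
    (hcomm : ∀ h ∈ H, ∀ w ∈ ws, h * E w = E w * h)
    (hrest : ∀ l ∈ ls.drop (ws.length + 1), ∀ q < 416, l.ok q = true → E [l.get q] ∈ H)
    (c : L0) (hc : ∀ w ∈ ws, c * E w = E w * c) : c ∈ H := by
  obtain ⟨h, hh, _, h2⟩ := cent_step hf hb gens H hH f T hchk hcomm c hc
  obtain ⟨bs', h3, h4, h5, h6⟩ := tight_drop (ws.length + 1) ls [] (by simp) hf.v hf.card_le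
  have h7 : h⁻¹ * c ∈ H := by
    refine stab_le H _ bs' h3 h5 h6 hrest _ ⟨(h⁻¹ * c).2, fun b hb' => h2 b ?_⟩
    rcases (h4 b).1 hb' with h8 | h8
    · simp at h8
    · exact h8
  have := H.mul_mem hh h7
  rwa [mul_inv_cancel_left] at this

end Cfsg.Agent.StdG24.CentLe
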