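import Mathlib

/-!
# The closing by roots (helper963)

`X` is a finite group, `Y` a subgroup, `Q` a normal subgroup of `Y` which is "extraspecial of order `2 ^ 9` with
centre `⟨z⟩`", `z` central in `X`; `D` is a set of involutions of `Y` ("roots") each of which fixes exactly one
point of `X ⧸ Y`.  Involutions of `Q` fixing a point `d` lie in `Q_d`.  If for every proper subgroup `B ≥ ⟨z⟩` of
`Q` there is a root `v` normalising `B` with `[Q, v] ≰ B`, or such that each nontrivial coset `v q B` contains a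
root, then `Y = X`.
-/

set_option autoImplicit false

namespace Cfsg.Agent.StdG24.RootClosing

/-! ### the dihedral lemma -/

section Dihedral

variable {B : Type*} [Group B]

/-- Two involutions are conjugate, or there is a central involution `w` of the dihedral group they generate. -/
theorem dihedral [Finite B] {u v : B} (hu : u * u = 1) (hv : v * v = 1) :
    (∃ n : B, n * u * n⁻¹ = v) ∨
      ∃ w : B, w ≠ 1 ∧ w * u = u * w ∧ w * v = v * w ∧
        ((∃ n : B, n * u * n⁻¹ = u * w) ∧ (∃ n : B, n * v * n⁻¹ = v * w) ∨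
          (∃ n : B, n * v * n⁻¹ = u * w) ∧ (∃ n : B, n * u * n⁻¹ = v * w)) := by
  classical
  have hu' : u⁻¹ = u := by rw [inv_eq_iff_mul_eq_one]; exact hu
  have hv' : v⁻¹ = v := by rw [inv_eq_iff_mul_eq_one]; exact hv
  have key : ∀ j : ℕ, u * (u * v) ^ j * u = ((u * v) ^ j)⁻¹ := by
    intro j
    have h1 : u * (u * v) ^ j * u⁻¹ = (u * (u * v) * u⁻¹) ^ j := (conj_pow).symm
    rw [hu'] at h1
    rw [h1, ← inv_pow]
    congr 1
    rw [mul_inv_rev, hu', hv', ← mul_assoc, hu, one_mul]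
  have key' : ∀ j : ℕ, v * (u * v) ^ j * v = ((u * v) ^ j)⁻¹ := by
    intro j
    have h1 : v * (u * v) ^ j * v⁻¹ = (v * (u * v) * v⁻¹) ^ j := (conj_pow).symm
    rw [hv'] at h1
    rw [h1, ← inv_pow]
    congr 1
    rw [mul_inv_rev, hu', hv', mul_assoc, mul_assoc, hv, mul_one]
  rcases Nat.even_or_odd' (orderOf (u * v)) with ⟨k, hk | hk⟩
  · right
    have hpos : 0 < orderOf (u * v) := orderOf_pos _
    have hk0 : 0 < k := by omega
    have hww : (u * v) ^ k * (u * v) ^ k = 1 := by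
      rw [← pow_add, ← two_mul, ← hk, pow_orderOf_eq_one]
    have hwi : ((u * v) ^ k)⁻¹ = (u * v) ^ k := by
      rw [inv_eq_iff_mul_eq_one]; exact hww
    have hcu : (u * v) ^ k * u = u * (u * v) ^ k := by
      have h1 := key k
      rw [hwi] at h1
      calc (u * v) ^ k * u = (u * u) * ((u * v) ^ k * u) := by rw [hu, one_mul]
        _ = u * (u * (u * v) ^ k * u) := by group
        _ = _ := by rw [h1]
    have hcv : (u * v) ^ k * v = v * (u * v) ^ k := by
      have h1 := key' k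
      rw [hwi] at h1
      calc (u * v) ^ k * v = (v * v) * ((u * v) ^ k * v) := by rw [hv, one_mul]
        _ = v * (v * (u * v) ^ k * v) := by group
        _ = _ := by rw [h1]
    refine ⟨(u * v) ^ k, ?_, hcu, hcv, ?_⟩
    · intro h
      have := orderOf_dvd_of_pow_eq_one h
      have := Nat.le_of_dvd hk0 this
      omega
    · rcases Nat.even_or_odd' k with ⟨j, hj | hj⟩
      · left
        constructor
        · refine ⟨((u * v) ^ j)⁻¹, ?_⟩
          rw [inv_inv, ← key j, hj, two_mul, pow_add]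
          rw [show u * (u * v) ^ j * u * u * (u * v) ^ j = u * (u * v) ^ j * (u * u) * (u * v) ^ j by group, hu]
          group
        · refine ⟨((u * v) ^ j)⁻¹, ?_⟩
          rw [inv_inv, ← key' j, hj, two_mul, pow_add]
          rw [show v * (u * v) ^ j * v * v * (u * v) ^ j = v * (u * v) ^ j * (v * v) * (u * v) ^ j by group, hv]
          group
      · right
        -- `k = 2 j + 1`
        have e1 : ((u * v) ^ j)⁻¹ * v * (u * v) ^ j = u * (u * v) ^ k := by
          rw [← key j]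
          have : u * v = u * v := rfl
          calc u * (u * v) ^ j * u * v * (u * v) ^ j = u * ((u * v) ^ j * (u * v) * (u * v) ^ j) := by group
            _ = u * (u * v) ^ k := by rw [← pow_succ, ← pow_add]; congr 2; omega
        have e2 : (u * v) ^ j * u * ((u * v) ^ j)⁻¹ = v * (u * v) ^ k := by
          have h3 : ((u * v) ^ k)⁻¹ = (u * v) ^ k := hwi
          have h4 : v * (u * v) ^ k = ((u * v) ^ k)⁻¹ * v := by rw [h3, hcv]
          have h5 : (u * v) ^ j * u * ((u * v) ^ j)⁻¹ = (u * v) ^ j * (u * v) ^ j * u := by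
            rw [← key j]
            calc (u * v) ^ j * u * (u * (u * v) ^ j * u) = (u * v) ^ j * (u * u) * (u * v) ^ j * u := by group
              _ = _ := by rw [hu]; group
          rw [h5, ← hcv]
          calc (u * v) ^ j * (u * v) ^ j * u = (u * v) ^ j * (u * v) ^ j * (u * (v * v)) := by rw [hv, mul_one]
            _ = ((u * v) ^ j * (u * v) ^ j * (u * v)) * v := by group
            _ = (u * v) ^ k * v := by rw [← pow_add, ← pow_succ]; congr 2; omega
        exact ⟨⟨((u * v) ^ j)⁻¹, by rw [inv_inv]; exact e1⟩, ⟨(u * v) ^ j, e2⟩⟩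
  · left
    refine ⟨(u * v) ^ k, ?_⟩
    have h2 : u * ((u * v) ^ k)⁻¹ = (u * v) ^ k * u := by
      rw [← key k]
      calc u * (u * (u * v) ^ k * u) = (u * u) * (u * v) ^ k * u := by group
        _ = _ := by rw [hu, one_mul]
    rw [mul_assoc, h2, ← mul_assoc, ← pow_add]
    have e2 : (u * v) ^ (k + k) * (u * v) = 1 := by
      rw [← pow_succ, ← two_mul, ← hk, pow_orderOf_eq_one]
    have e3 : (u * v) ^ (k + k) = v * u := by
      rw [mul_eq_one_iff_eq_inv] at e2
      rw [e2, mul_inv_rev, hu', hv']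
    rw [e3, mul_assoc, hu, mul_one]

end Dihedral

/-- The dihedral lemma modulo a subgroup `A` normalised by both elements. -/
theorem dihedral_mod {G : Type*} [Group G] [Finite G] (A : Subgroup G) {u v : G}
    (hu : u ∈ Subgroup.normalizer (A : Set G)) (hv : v ∈ Subgroup.normalizer (A : Set G))
    (hu2 : u * u ∈ A) (hv2 : v * v ∈ A) :
    (∃ n ∈ Subgroup.normalizer (A : Set G), ∃ a ∈ A, n * u * n⁻¹ = v * a) ∨
      ∃ w ∈ Subgroup.normalizer (A : Set G), w ∉ A ∧ (∃ a ∈ A, w * u = u * w * a) ∧ (∃ a ∈ A, w * v = v * w * a) ∧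
        ((∃ n ∈ Subgroup.normalizer (A : Set G), ∃ a ∈ A, n * u * n⁻¹ = u * w * a) ∧
            (∃ n ∈ Subgroup.normalizer (A : Set G), ∃ a ∈ A, n * v * n⁻¹ = v * w * a) ∨
          (∃ n ∈ Subgroup.normalizer (A : Set G), ∃ a ∈ A, n * v * n⁻¹ = u * w * a) ∧
            (∃ n ∈ Subgroup.normalizer (A : Set G), ∃ a ∈ A, n * u * n⁻¹ = v * w * a)) := by
  classical
  let N := Subgroup.normalizer (A : Set G)
  let K : Subgroup N := A.subgroupOf N
  have : K.Normal := inferInstanceAs (A.subgroupOf (Subgroup.normalizer (A : Set G))).Normal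
  let π : N →* N ⧸ K := QuotientGroup.mk' K
  have hπ : ∀ a b : N, π a = π b ↔ ∃ c ∈ A, (a : G) = b * c := by
    intro a b
    rw [eq_comm]
    change ((b : N ⧸ K) = (a : N ⧸ K)) ↔ _
    rw [QuotientGroup.eq]
    constructor
    · intro h
      exact ⟨_, h, by simp⟩
    · rintro ⟨c, hc, h⟩
      change ((b⁻¹ * a : N) : G) ∈ A
      have : ((b⁻¹ * a : N) : G) = c := by
        change (b : G)⁻¹ * (a : G) = c
        rw [h]; group
      rw [this]; exact hc
  have hπ1 : ∀ a : N, π a = 1 ↔ (a : G) ∈ A := by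
    intro a
    have := hπ a 1
    rw [map_one] at this
    rw [this]
    constructor
    · rintro ⟨c, hc, h⟩
      rw [h]; simpa using hc
    · intro h
      exact ⟨a, h, by simp⟩
  have hsurj : Function.Surjective π := QuotientGroup.mk'_surjective K
  let u' : N := ⟨u, hu⟩
  let v' : N := ⟨v, hv⟩
  have h1 : π u' * π u' = 1 := by
    rw [← map_mul, hπ1]; exact hu2
  have h2 : π v' * π v' = 1 := by
    rw [← map_mul, hπ1]; exact hv2
  rcases dihedral h1 h2 with ⟨n, hn⟩ | ⟨w, hw1, hwu, hwv, hn⟩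
  · left
    obtain ⟨n', rfl⟩ := hsurj n
    refine ⟨n', n'.2, ?_⟩
    rw [← map_inv, ← map_mul, ← map_mul, hπ] at hn
    exact hn
  · right
    obtain ⟨w', rfl⟩ := hsurj w
    refine ⟨w', w'.2, fun h => hw1 ((hπ1 _).2 h), ?_, ?_, ?_⟩
    · rw [← map_mul, ← map_mul, hπ] at hwu; exact hwu
    · rw [← map_mul, ← map_mul, hπ] at hwv; exact hwv
    · have tr : ∀ a b c : N, (∃ n : N ⧸ K, n * π a * n⁻¹ = π b * π c) →
          ∃ n ∈ Subgroup.normalizer (A : Set G), ∃ d ∈ A, n * a * n⁻¹ = b * c * d := by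
        rintro a b c ⟨n, hn⟩
        obtain ⟨n', rfl⟩ := hsurj n
        rw [← map_inv, ← map_mul, ← map_mul, ← map_mul, hπ] at hn
        exact ⟨n', n'.2, hn⟩
      rcases hn with ⟨hn1, hn2⟩ | ⟨hn1, hn2⟩
      · left; exact ⟨tr u' u' w' hn1, tr v' v' w' hn2⟩
      · right; exact ⟨tr v' u' w' hn1, tr u' v' w' hn2⟩

/-! ### commuting subgroups of an extraspecial group -/

section Count

variable {X : Type*} [Group X]

/-- `Q` is a group of order `2 * k ^ 2`-like: `Q / ⟨z⟩` elementary abelian, centre `⟨z⟩`. -/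
structure Extra (Q : Subgroup X) (z : X) : Prop where
  zc : ∀ q ∈ Q, q * z = z * q
  zQ : z ∈ Q
  z2 : z * z = 1
  z1 : z ≠ 1
  sq : ∀ q ∈ Q, q * q = 1 ∨ q * q = z
  comm : ∀ p ∈ Q, ∀ q ∈ Q, p * q = q * p ∨ p * q = z * (q * p)
  card : Nat.card Q = 2 ^ 9
  ext : ∀ q ∈ Q, q ≠ 1 → q ≠ z → ∃ p ∈ Q, p * q ≠ q * p

open Classical in
/-- the commutator as a sign -/
noncomputable def sg (p q : X) : ℤ := if p * q = q * p then 1 else -1

theorem sg_comm (p q : X) : sg p q = sg q p := by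
  unfold sg
  by_cases h : p * q = q * p
  · rw [if_pos h, if_pos h.symm]
  · rw [if_neg h, if_neg fun h' => h h'.symm]

variable {Q : Subgroup X} {z : X}

theorem Extra.sg_one (p : X) : sg p 1 = 1 := by unfold sg; simp

theorem Extra.sg_mul (E : Extra Q z) {p q r : X} (hp : p ∈ Q) (hq : q ∈ Q) (hr : r ∈ Q) :
    sg p (q * r) = sg p q * sg p r := by
  have hzz : ∀ x : X, z * (z * x) = x := fun x => by rw [← mul_assoc, E.z2, one_mul]
  have hz1 : ∀ x : X, z * x ≠ x := fun x h => E.z1 (by simpa using h)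
  unfold sg
  rcases E.comm p hp q hq with h1 | h1 <;> rcases E.comm p hp r hr with h2 | h2
  · have h3 : p * (q * r) = q * r * p := by rw [← mul_assoc, h1, mul_assoc, h2, mul_assoc]
    rw [if_pos h1, if_pos h2, if_pos h3, one_mul]
  · have h3 : p * (q * r) = z * (q * r * p) := by
      rw [← mul_assoc, h1, mul_assoc, h2, ← mul_assoc q z, E.zc q hq]; simp only [mul_assoc]
    have n2 : ¬ (p * r = r * p) := by rw [h2]; exact hz1 _
    have n3 : ¬ (p * (q * r) = q * r * p) := by rw [h3]; exact hz1 _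
    rw [if_pos h1, if_neg n2, if_neg n3, one_mul]
  · have h3 : p * (q * r) = z * (q * r * p) := by
      rw [← mul_assoc, h1, mul_assoc, mul_assoc, h2]; simp only [mul_assoc]
    have n2 : ¬ (p * q = q * p) := by rw [h1]; exact hz1 _
    have n3 : ¬ (p * (q * r) = q * r * p) := by rw [h3]; exact hz1 _
    rw [if_neg n2, if_pos h2, if_neg n3, mul_one]
  · have h3 : p * (q * r) = q * r * p := by
      rw [← mul_assoc, h1, mul_assoc, mul_assoc, h2, ← mul_assoc q z, E.zc q hq]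
      simp only [mul_assoc]; rw [hzz]
    have n1 : ¬ (p * q = q * p) := by rw [h1]; exact hz1 _
    have n2 : ¬ (p * r = r * p) := by rw [h2]; exact hz1 _
    rw [if_neg n1, if_neg n2, if_pos h3]
    norm_num

open Classical in
theorem Extra.sum_sg [Finite X] (E : Extra Q z) {p : X} (hp : p ∈ Q) {B : Subgroup X} (hB : B ≤ Q)
    [Fintype B] :
    (∑ b : B, sg p b) = if (∀ b ∈ B, p * b = b * p) then (Nat.card B : ℤ) else 0 := by
  classical
  let f : B →* ℤ :=
    { toFun := fun b => sg p b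
      map_one' := by simpa using Extra.sg_one (X := X) p
      map_mul' := fun a b => by
        simpa using E.sg_mul hp (hB a.2) (hB b.2) }
  split_ifs with h
  · have : ∀ b : B, sg p b = 1 := fun b => by unfold sg; rw [if_pos (h b b.2)]
    rw [Finset.sum_congr rfl fun b _ => this b]
    simp [Nat.card_eq_fintype_card]
  · have hf : f ≠ 1 := by
      intro h1
      apply h
      intro b hb
      have h2 : f ⟨b, hb⟩ = 1 := by rw [h1]; rfl
      have h3 : sg p b = 1 := h2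
      unfold sg at h3
      by_contra h4
      rw [if_neg h4] at h3
      norm_num at h3
    exact sum_hom_units_eq_zero f hf

/-- `|B| |C| ≤ 2 |Q|` for commuting subgroups `B ∋ z`, `C` of `Q`. -/
theorem Extra.card_mul_card_le [Finite X] (E : Extra Q z) {B C : Subgroup X} (hB : B ≤ Q) (hC : C ≤ Q)
    (hzB : z ∈ B) (h : ∀ b ∈ B, ∀ c ∈ C, b * c = c * b) : Nat.card B * Nat.card C ≤ 2 ^ 10 := by
  classical
  have : Fintype X := Fintype.ofFinite X
  have hb1 : ∀ b : B, (∑ q : Q, sg (b : X) q) = if ((b : X) = 1 ∨ (b : X) = z) then (2 ^ 9 : ℤ) else 0 := by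
    intro b
    rw [E.sum_sg (hB b.2) (le_refl Q)]
    by_cases hb : (b : X) = 1 ∨ (b : X) = z
    · rw [if_pos hb, if_pos, E.card]
      · norm_num
      · intro q hq
        rcases hb with hb | hb
        · rw [hb]; simp
        · rw [hb]; exact (E.zc q hq).symm
    · rw [if_neg hb, if_neg]
      intro h1
      push Not at hb
      obtain ⟨p, hp, hp1⟩ := E.ext b (hB b.2) hb.1 hb.2
      exact hp1 (h1 p hp).symm
  have hq1 : ∀ q : Q, (∑ b : B, sg (b : X) q) = if (∀ b ∈ B, (q : X) * b = b * q) then (Nat.card B : ℤ) else 0 := by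
    intro q
    have h1 := E.sum_sg q.2 hB
    rw [Finset.sum_congr rfl fun (b : B) _ => sg_comm (b : X) q]
    convert h1
  have hsum : (∑ b : B, ∑ q : Q, sg (b : X) q) = ∑ q : Q, ∑ b : B, sg (b : X) q := Finset.sum_comm
  have hL : (∑ b : B, ∑ q : Q, sg (b : X) q) = 2 * 2 ^ 9 := by
    rw [Finset.sum_congr rfl fun b _ => hb1 b]
    rw [← Finset.sum_filter]
    rw [Finset.sum_const]
    have hset : (Finset.univ.filter fun b : B => (b : X) = 1 ∨ (b : X) = z) = {1, ⟨z, hzB⟩} := by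
      ext b
      simp only [Finset.mem_filter, Finset.mem_univ, true_and, Finset.mem_insert, Finset.mem_singleton]
      constructor
      · rintro (hb | hb)
        · left; exact Subtype.ext hb
        · right; exact Subtype.ext hb
      · rintro (hb | hb)
        · left; rw [hb]; rfl
        · right; rw [hb]
    rw [hset, Finset.card_pair]
    · norm_num
    · intro h1
      exact E.z1 (congrArg Subtype.val h1).symm
  have hR : (Nat.card C : ℤ) * Nat.card B ≤ ∑ q : Q, ∑ b : B, sg (b : X) q := by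
    rw [Finset.sum_congr rfl fun q _ => hq1 q]
    rw [← Finset.sum_filter, Finset.sum_const, nsmul_eq_mul]
    apply mul_le_mul_of_nonneg_right _ (by positivity)
    have : Nat.card C ≤ (Finset.univ.filter fun q : Q => ∀ b ∈ B, (q : X) * b = b * q).card := by
      rw [Nat.card_eq_fintype_card, ← Finset.card_univ]
      apply Finset.card_le_card_of_injOn (fun c : C => (⟨c, hC c.2⟩ : Q))
      · intro c _
        simp only [Finset.coe_filter, Finset.mem_univ, true_and, Set.mem_ofPred_eq]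
        intro b hb
        exact (h b hb c c.2).symm
      · intro a _ b _ hab
        have h1 : (a : X) = b := congrArg (fun q : Q => (q : X)) hab
        exact Subtype.ext h1
    exact_mod_cast this
  have h3 : (Nat.card C : ℤ) * Nat.card B ≤ 2 * 2 ^ 9 := by
    rw [← hL, hsum]; exact hR
  have h4 : Nat.card C * Nat.card B ≤ 2 * 2 ^ 9 := by exact_mod_cast h3
  rw [mul_comm]
  calc _ ≤ 2 * 2 ^ 9 := h4
    _ = 2 ^ 10 := by norm_num

/-- For `w` normalising `Q` and `B` (`z ∈ B ≤ Q`), `w² ∈ B`: `|Q| |B| ≤ |{t ∈ Q | [t, w] ∈ B}|²`. -/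
theorem Extra.card_fixed [Finite X] (E : Extra Q z) {B K : Subgroup X} (hB : B ≤ Q) (hzB : z ∈ B) {w : X}
    (hw : ∀ q ∈ Q, w * q * w⁻¹ ∈ Q) (hwB : ∀ b ∈ B, w * b * w⁻¹ ∈ B) (hw2 : w * w ∈ B)
    (hK : ∀ t ∈ Q, w * t * w⁻¹ * t⁻¹ ∈ B → t ∈ K) : 2 ^ 9 * Nat.card B ≤ Nat.card K ^ 2 := by
  classical
  -- `B` is normal in `Q`
  have hcom : ∀ p ∈ Q, ∀ q ∈ Q, p * q * p⁻¹ * q⁻¹ ∈ B := by
    intro p hp q hq
    rcases E.comm p hp q hq with h | h
    · rw [h]; simp
    · rw [h]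
      have : z * (q * p) * p⁻¹ * q⁻¹ = z := by group
      rw [this]; exact hzB
  let B' : Subgroup Q := B.subgroupOf Q
  have hB'n : B'.Normal := by
    constructor
    intro n hn g
    rw [Subgroup.mem_subgroupOf] at hn ⊢
    have h1 := hcom g g.2 n n.2
    have h2 := B.mul_mem h1 hn
    have h3 : (g : X) * n * (g : X)⁻¹ * (n : X)⁻¹ * n = ((g * n * g⁻¹ : Q) : X) := by
      push_cast; group
    rwa [h3] at h2
  let π : Q →* Q ⧸ B' := QuotientGroup.mk' B'
  have hπ1 : ∀ a : Q, π a = 1 ↔ (a : X) ∈ B := fun a => by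
    change (a : Q ⧸ B') = 1 ↔ _
    rw [QuotientGroup.eq_one_iff]; rfl
  have hπc : ∀ a b : Q, π a * π b = π b * π a := by
    intro a b
    rw [← map_mul, ← map_mul]
    rw [← mul_inv_eq_one, ← map_inv, ← map_mul, hπ1]
    have := hcom a a.2 b b.2
    have h3 : (a : X) * b * (a : X)⁻¹ * (b : X)⁻¹ = ((a * b * (b * a)⁻¹ : Q) : X) := by push_cast; group
    rwa [h3] at this
  -- the automorphism `w`
  let φ : Q →* Q :=
    { toFun := fun q => ⟨w * q * w⁻¹, hw q q.2⟩
      map_one' := by ext; simp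
      map_mul' := fun a b => by ext; push_cast; group }
  let f : Q →* Q ⧸ B' :=
    { toFun := fun t => π (φ t) * (π t)⁻¹
      map_one' := by simp
      map_mul' := fun a b => by
        rw [map_mul, map_mul, map_mul, mul_inv_rev]
        have h1 : (π b)⁻¹ * (π a)⁻¹ = (π a)⁻¹ * (π b)⁻¹ := by
          rw [← mul_inv_rev, ← mul_inv_rev, hπc]
        have h2 : π (φ b) * (π a)⁻¹ = (π a)⁻¹ * π (φ b) := by
          rw [← map_inv]; exact hπc _ _
        rw [h1, mul_assoc, ← mul_assoc (π (φ b)), h2, mul_assoc, ← mul_assoc] }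
  have hfapply : ∀ t : Q, f t = π (φ t) * (π t)⁻¹ := fun _ => rfl
  -- kernel
  have hker : Nat.card f.ker ≤ Nat.card K := by
    apply Nat.card_le_card_of_injective (fun t : f.ker => (⟨((t : Q) : X), by
      apply hK _ (t : Q).2
      have h1 := t.2
      rw [MonoidHom.mem_ker, hfapply, ← map_inv, ← map_mul, hπ1] at h1
      exact h1⟩ : K))
    intro a b hab
    have h1 : ((a : Q) : X) = ((b : Q) : X) := congrArg (fun q : K => (q : X)) hab
    exact Subtype.ext (Subtype.ext h1)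
  -- `B' ≤ ker`
  have hBk : B' ≤ f.ker := by
    intro b hb
    rw [MonoidHom.mem_ker, hfapply, (hπ1 b).2 hb, inv_one, mul_one, hπ1]
    exact hwB b hb
  -- range ≤ ker / B'
  have hrange : Nat.card f.range * Nat.card B' ≤ Nat.card f.ker := by
    have h1 : f.range ≤ f.ker.map π := by
      rintro _ ⟨t, rfl⟩
      refine ⟨φ t * t⁻¹, ?_, ?_⟩
      · change f (φ t * t⁻¹) = 1
        rw [map_mul, map_inv, hfapply, hfapply]
        have h2 : π (φ (φ t)) = π t := by
          rw [← mul_inv_eq_one, ← map_inv, ← map_mul, hπ1]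
          have e1 : ((φ (φ t) * t⁻¹ : Q) : X) = (w * w) * t * (w * w)⁻¹ * (t : X)⁻¹ := by
            change w * (w * t * w⁻¹) * w⁻¹ * (t : X)⁻¹ = _
            group
          rw [e1]
          exact hcom _ (hB hw2) _ t.2
        rw [h2]
        have h3 : π t * (π (φ t))⁻¹ = (π (φ t) * (π t)⁻¹)⁻¹ := by group
        rw [h3, ← mul_inv_rev, inv_eq_one, ← pow_two]
        -- squares of elements of `Q` lie in `B`
        rw [← map_inv, ← map_mul, ← map_pow, hπ1, pow_two]
        rcases E.sq _ (φ t * t⁻¹ : Q).2 with h4 | h4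
        · change ((φ t * t⁻¹ : Q) : X) * ((φ t * t⁻¹ : Q) : X) ∈ B
          rw [h4]; exact B.one_mem
        · change ((φ t * t⁻¹ : Q) : X) * ((φ t * t⁻¹ : Q) : X) ∈ B
          rw [h4]; exact hzB
      · rw [map_mul, map_inv]; rfl
    have h2 : Nat.card (f.ker.map π) * Nat.card B' = Nat.card f.ker := by
      have h3 : π.ker = B' := QuotientGroup.ker_mk' B'
      have h4 := Subgroup.relIndex_ker (K := f.ker) π
      rw [h3] at h4
      have h5 : Nat.card (B'.subgroupOf f.ker) * (B'.subgroupOf f.ker).index = Nat.card f.ker :=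
        Subgroup.card_mul_index _
      have h6 : Nat.card (B'.subgroupOf f.ker) = Nat.card B' :=
        Nat.card_congr (Subgroup.subgroupOfEquivOfLe hBk).toEquiv
      change (B'.subgroupOf f.ker).index = _ at h4
      rw [h6, h4, mul_comm] at h5
      exact h5
    calc _ ≤ Nat.card (f.ker.map π) * Nat.card B' := by
          apply Nat.mul_le_mul_right
          exact Nat.card_le_card_of_injective (Subgroup.inclusion h1) (Subgroup.inclusion_injective h1)
      _ = _ := h2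
  have hcard : Nat.card f.ker * Nat.card f.range = 2 ^ 9 := by
    rw [← E.card, ← Subgroup.index_ker, Subgroup.card_mul_index]
  have hB' : Nat.card B' = Nat.card B := by
    apply Nat.card_congr
    exact (Subgroup.subgroupOfEquivOfLe hB).toEquiv
  calc 2 ^ 9 * Nat.card B = Nat.card f.ker * (Nat.card f.range * Nat.card B') := by rw [← hcard, hB', mul_assoc]
    _ ≤ Nat.card K * Nat.card K := Nat.mul_le_mul hker (hrange.trans hker)
    _ = _ := by rw [pow_two]

end Count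

/-! ### subgroups without involutions outside `B` -/

section WStruct

variable {X : Type*} [Group X]

theorem card_le_of_cover [Finite X] {W B : Subgroup X} {n : ℕ} (g : Fin n → X)
    (h : ∀ w ∈ W, ∃ i, g i * w ∈ B) : Nat.card W ≤ n * Nat.card B := by
  classical
  choose f hf using h
  have h1 : Nat.card (Fin n × B) = n * Nat.card B := by
    rw [Nat.card_prod, Nat.card_eq_fintype_card, Fintype.card_fin]
  rw [← h1]
  apply Nat.card_le_card_of_injective (fun w : W => ((f w w.2, ⟨_, hf w w.2⟩) : Fin n × B))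
  intro a b hab
  have h2 : f a a.2 = f b b.2 := congrArg Prod.fst hab
  have h3 : g (f a a.2) * (a : X) = g (f b b.2) * b := congrArg (fun p : Fin n × B => (p.2 : X)) hab
  rw [h2] at h3
  exact Subtype.ext (mul_left_cancel h3)

variable {P W B : Subgroup X} {z : X}

/-- hypotheses: `B ≤ W ≤ P`, all elements of `W - B` have square `z`. -/
structure WHyp (P W B : Subgroup X) (z : X) : Prop where
  E : Extra P z
  zc : ∀ x : X, x * z = z * x
  BW : B ≤ W
  WP : W ≤ P
  zB : z ∈ B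
  sq : ∀ w ∈ W, w ∉ B → w * w = z

theorem WHyp.inv (H : WHyp P W B z) {w : X} (hw : w ∈ W) (hwB : w ∉ B) {b : X} (hb : b ∈ B) :
    w * b * w⁻¹ = b⁻¹ := by
  have h1 : w * b * (w * b) = z := by
    apply H.sq _ (W.mul_mem hw (H.BW hb))
    intro h
    exact hwB (by have := B.mul_mem h (B.inv_mem hb); simpa using this)
  have h2 : w * w = z := H.sq w hw hwB
  have h3 : w * b * w⁻¹ * (w * w) * b = z := by rw [← h1]; group
  rw [h2, mul_assoc (w * b * w⁻¹), ← H.zc b, ← mul_assoc] at h3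
  have h4 : w * b * w⁻¹ * b = 1 := by
    have := congrArg (· * z⁻¹) h3
    simpa using this
  exact eq_inv_of_mul_eq_one_left h4

theorem WHyp.anti (H : WHyp P W B z) {u w : X} (hu : u ∈ W) (hw : w ∈ W) (huB : u ∉ B) (hwB : w ∉ B)
    (h : u * w ∉ B) : u * w = z * (w * u) := by
  have h1 := H.sq u hu huB
  have h2 := H.sq w hw hwB
  have h3 := H.sq _ (W.mul_mem hu hw) h
  have hz2 := H.E.z2
  have e : u * w = u * w * (u * w) * (w⁻¹ * u⁻¹) := by group
  rw [e, h3]
  congr 1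
  have hu' : u⁻¹ = z * u := by
    rw [inv_eq_iff_mul_eq_one, ← mul_assoc, H.zc, mul_assoc, h1, hz2]
  have hw' : w⁻¹ = z * w := by
    rw [inv_eq_iff_mul_eq_one, ← mul_assoc, H.zc, mul_assoc, h2, hz2]
  rw [hu', hw', mul_assoc, ← mul_assoc w z, H.zc w, mul_assoc, ← mul_assoc z z, hz2, one_mul]

theorem WHyp.triple (H : WHyp P W B z) {u v w : X} (hu : u ∈ W) (hv : v ∈ W) (hw : w ∈ W)
    (huB : u ∉ B) (hvB : v ∉ B) (hwB : w ∉ B) (huv : u * v ∉ B) (huw : u * w ∉ B) (hvw : v * w ∉ B)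
    (huvw : u * v * w ∉ B) : False := by
  have h1 := H.anti hu hw huB hwB huw
  have h2 := H.anti hv hw hvB hwB hvw
  have h3 := H.sq _ (W.mul_mem (W.mul_mem hu hv) hw) huvw
  have h4 := H.sq _ (W.mul_mem hu hv) huv
  have h5 := H.sq w hw hwB
  have hz2 := H.E.z2
  -- `w` commutes with `u v`
  have h6 : u * v * w = w * (u * v) := by
    calc u * v * w = u * (v * w) := by group
      _ = u * (z * (w * v)) := by rw [h2]
      _ = (u * z) * w * v := by group
      _ = z * (u * w) * v := by rw [H.zc]; group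
      _ = (z * z) * w * u * v := by rw [h1]; group
      _ = w * (u * v) := by rw [hz2]; group
  have h7 : u * v * w * (u * v * w) = 1 := by
    calc u * v * w * (u * v * w) = u * v * (w * (u * v)) * w := by group
      _ = u * v * (u * v * w) * w := by rw [h6]
      _ = (u * v * (u * v)) * (w * w) := by group
      _ = 1 := by rw [h4, h5, hz2]
  rw [h7] at h3
  exact H.E.z1 h3.symm

theorem WHyp.comm (H : WHyp P W B z) {w : X} (hw : w ∈ W) (hwB : w ∉ B) {a b : X} (ha : a ∈ B) (hb : b ∈ B) :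
    a * b = b * a := by
  have h1 := H.inv hw hwB (B.mul_mem ha hb)
  have h2 := H.inv hw hwB ha
  have h3 := H.inv hw hwB hb
  have h4 : w * (a * b) * w⁻¹ = (w * a * w⁻¹) * (w * b * w⁻¹) := by group
  rw [h4, h2, h3] at h1
  have h5 := congrArg (·⁻¹) h1
  simp only [mul_inv_rev, inv_inv] at h5
  exact h5.symm

theorem WHyp.card_le [Finite X] (H : WHyp P W B z) :
    Nat.card W ≤ 4 * Nat.card B ∧ (2 * Nat.card B < Nat.card W → ∀ w ∈ W, ∀ b ∈ B, b * w = w * b) := by
  classical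
  by_cases hC : ∃ u ∈ W, ∃ v ∈ W, u ∉ B ∧ v ∉ B ∧ u * v ∉ B
  · obtain ⟨u, hu, v, hv, huB, hvB, huv⟩ := hC
    constructor
    · apply card_le_of_cover ![1, u, v, u * v]
      intro w hw
      by_contra hcon
      push Not at hcon
      have c0 : w ∉ B := by simpa using hcon 0
      have c1 : u * w ∉ B := by simpa using hcon 1
      have c2 : v * w ∉ B := by simpa using hcon 2
      have c3 : u * v * w ∉ B := by simpa using hcon 3
      exact H.triple hu hv hw huB hvB c0 huv c1 c2 c3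
    · intro _ w hw b hb
      -- squares in `B` are trivial
      have hb1 : b = b⁻¹ := by
        have h1 := H.inv (W.mul_mem hu hv) huv hb
        have h2 := H.inv hv hvB hb
        have h3 := H.inv hu huB (B.inv_mem hb)
        have h4 : u * v * b * (u * v)⁻¹ = u * (v * b * v⁻¹) * u⁻¹ := by group
        rw [h4, h2, h3, inv_inv] at h1
        exact h1
      by_cases hwB : w ∈ B
      · exact H.comm hu huB hb hwB
      · have h1 := H.inv hw hwB hb
        rw [← hb1, mul_inv_eq_iff_eq_mul] at h1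
        exact h1.symm
  · push Not at hC
    have h2 : Nat.card W ≤ 2 * Nat.card B := by
      by_cases hW : ∃ u ∈ W, u ∉ B
      · obtain ⟨u, hu, huB⟩ := hW
        apply card_le_of_cover ![1, u]
        intro w hw
        by_cases hwB : w ∈ B
        · exact ⟨0, by simpa using hwB⟩
        · exact ⟨1, by simpa using hC u hu w hw huB hwB⟩
      · push Not at hW
        have : Nat.card W ≤ Nat.card B :=
          Nat.card_le_card_of_injective (Subgroup.inclusion hW) (Subgroup.inclusion_injective _)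
        omega
    exact ⟨by omega, fun h => absurd h (by omega)⟩

end WStruct

/-! ### the data -/

section Data

variable {X : Type*} [Group X]

/-- The hypotheses of the closing theorem. -/
structure Data (Y Q : Subgroup X) (z : X) (D : Set X) : Prop where
  QY : Q ≤ Y
  norm : ∀ y ∈ Y, ∀ q ∈ Q, y * q * y⁻¹ ∈ Q
  zc : ∀ x : X, x * z = z * x
  zQ : z ∈ Q
  z2 : z * z = 1
  z1 : z ≠ 1
  sq : ∀ q ∈ Q, q * q = 1 ∨ q * q = z
  comm : ∀ p ∈ Q, ∀ q ∈ Q, p * q = q * p ∨ p * q = z * (q * p)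
  card : Nat.card Q = 2 ^ 9
  ext : ∀ q ∈ Q, q ≠ 1 → q ≠ z → ∃ p ∈ Q, p * q ≠ q * p
  DY : D ⊆ Y
  Dc : ∀ y ∈ Y, ∀ d ∈ D, y * d * y⁻¹ ∈ D
  D2 : ∀ d ∈ D, d * d = 1
  DQ : ∀ d ∈ D, d ∉ Q
  fix : ∀ d ∈ D, ∀ x : X, x * d * x⁻¹ ∈ Y → x ∈ Y
  inv : ∀ q ∈ Q, q * q = 1 → ∀ x : X, x * q * x⁻¹ ∈ Y → x * q * x⁻¹ ∈ Q
  NQ : ∀ x : X, (∀ q ∈ Q, x * q * x⁻¹ ∈ Q) → x ∈ Y
  EL : ∀ B : Subgroup X, z ∈ B → B ≤ Q → B ≠ Q → ∃ v ∈ D, (∀ b ∈ B, v * b * v⁻¹ ∈ B) ∧
    ((∃ q ∈ Q, v * q * v⁻¹ * q⁻¹ ∉ B) ∨ ∀ q ∈ Q, q ∉ B → ∃ b ∈ B, v * q * b ∈ D)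

variable {Y Q : Subgroup X} {z : X} {D : Set X}

/-- the conjugate of `Q` belonging to a point -/
noncomputable def Qc (Q : Subgroup X) {Y : Subgroup X} (c : X ⧸ Y) : Subgroup X :=
  Q.map (MulAut.conj (Quotient.out c)).toMonoidHom

theorem smul_mk (g x : X) : g • ((x : X) : X ⧸ Y) = ((g * x : X) : X ⧸ Y) := rfl

theorem smul_mk_eq (g x : X) : g • ((x : X) : X ⧸ Y) = (x : X ⧸ Y) ↔ x⁻¹ * g * x ∈ Y := by
  rw [smul_mk, eq_comm, QuotientGroup.eq, mul_assoc]

theorem Data.mem_Qc (h : Data Y Q z D) (x g : X) : g ∈ Qc Q (x : X ⧸ Y) ↔ x⁻¹ * g * x ∈ Q := by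
  obtain ⟨y, hy⟩ := QuotientGroup.mk_out_eq_mul Y x
  unfold Qc
  rw [Subgroup.mem_map]
  constructor
  · rintro ⟨q, hq, rfl⟩
    have e : x⁻¹ * (MulAut.conj (Quotient.out (x : X ⧸ Y))).toMonoidHom q * x = (y : X) * q * (y : X)⁻¹ := by
      simp only [MulEquiv.coe_toMonoidHom, MulAut.conj_apply]
      rw [hy]; group
    rw [e]
    exact h.norm y y.2 q hq
  · intro hg
    refine ⟨(y : X)⁻¹ * (x⁻¹ * g * x) * (y : X), ?_, ?_⟩
    · have := h.norm (y : X)⁻¹ (Y.inv_mem y.2) _ hg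
      rwa [inv_inv] at this
    · simp only [MulEquiv.coe_toMonoidHom, MulAut.conj_apply]
      rw [hy]; group

theorem Data.conj_mem (h : Data Y Q z D) (n g : X) (c : X ⧸ Y) (hg : g ∈ Qc Q c) :
    n * g * n⁻¹ ∈ Qc Q (n • c) := by
  obtain ⟨x, rfl⟩ := QuotientGroup.mk_surjective c
  rw [smul_mk, h.mem_Qc]
  rw [h.mem_Qc] at hg
  have : (n * x)⁻¹ * (n * g * n⁻¹) * (n * x) = x⁻¹ * g * x := by group
  rw [this]; exact hg

theorem Data.fixes (h : Data Y Q z D) {g : X} {c : X ⧸ Y} (hg : g ∈ Qc Q c) : g • c = c := by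
  obtain ⟨x, rfl⟩ := QuotientGroup.mk_surjective c
  rw [smul_mk_eq]
  rw [h.mem_Qc] at hg
  exact h.QY hg

theorem Data.extra (h : Data Y Q z D) (c : X ⧸ Y) : Extra (Qc Q c) z := by
  obtain ⟨x, rfl⟩ := QuotientGroup.mk_surjective c
  have hz : x⁻¹ * z * x = z := by rw [h.zc, mul_assoc, inv_mul_cancel, mul_one]
  constructor
  · intro q _; exact h.zc q
  · rw [h.mem_Qc, hz]; exact h.zQ
  · exact h.z2
  · exact h.z1
  · intro q hq
    rw [h.mem_Qc] at hq
    rcases h.sq _ hq with h1 | h1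
    · left
      have h2 : x⁻¹ * (q * q) * x = 1 := by rw [← h1]; group
      have h3 : q * q = x * (x⁻¹ * (q * q) * x) * x⁻¹ := by group
      rw [h3, h2]; group
    · right
      have h2 : x⁻¹ * (q * q) * x = z := by rw [← h1]; group
      have h3 : q * q = x * (x⁻¹ * (q * q) * x) * x⁻¹ := by group
      rw [h3, h2, h.zc]; group
  · intro p hp q hq
    rw [h.mem_Qc] at hp hq
    rcases h.comm _ hp _ hq with h1 | h1
    · left
      have h2 : x⁻¹ * (p * q) * x = x⁻¹ * (q * p) * x := by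
        calc x⁻¹ * (p * q) * x = x⁻¹ * p * x * (x⁻¹ * q * x) := by group
          _ = _ := by rw [h1]; group
      exact mul_left_cancel (mul_right_cancel h2)
    · right
      have h2 : x⁻¹ * (p * q) * x = x⁻¹ * (z * (q * p)) * x := by
        calc x⁻¹ * (p * q) * x = x⁻¹ * p * x * (x⁻¹ * q * x) := by group
          _ = z * (x⁻¹ * q * x * (x⁻¹ * p * x)) := h1
          _ = (z * x⁻¹) * (q * p) * x := by group
          _ = _ := by rw [← h.zc]; group
      exact mul_left_cancel (mul_right_cancel h2)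
  · rw [← h.card]
    unfold Qc
    exact (Nat.card_congr (Q.equivMapOfInjective _ (MulAut.conj _).injective).toEquiv).symm
  · intro q hq hq1 hqz
    rw [h.mem_Qc] at hq
    obtain ⟨p, hp, hpq⟩ := h.ext _ hq (by
      intro h1; apply hq1
      have h3 : q = x * (x⁻¹ * q * x) * x⁻¹ := by group
      rw [h3, h1]; group) (by
      intro h1; apply hqz
      have h3 : q = x * (x⁻¹ * q * x) * x⁻¹ := by group
      rw [h3, h1, h.zc]; group)
    refine ⟨x * p * x⁻¹, ?_, ?_⟩
    · rw [h.mem_Qc]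
      have : x⁻¹ * (x * p * x⁻¹) * x = p := by group
      rw [this]; exact hp
    · intro h1
      apply hpq
      calc p * (x⁻¹ * q * x) = x⁻¹ * (x * p * x⁻¹ * q) * x := by group
        _ = x⁻¹ * (q * (x * p * x⁻¹)) * x := by rw [h1]
        _ = _ := by group

theorem Data.z_mem (h : Data Y Q z D) (c : X ⧸ Y) : z ∈ Qc Q c := (h.extra c).zQ

theorem Data.invol (h : Data Y Q z D) {g : X} {c d : X ⧸ Y} (hg : g ∈ Qc Q c) (h2 : g * g = 1)
    (hd : g • d = d) : g ∈ Qc Q d := by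
  obtain ⟨x, rfl⟩ := QuotientGroup.mk_surjective c
  obtain ⟨y, rfl⟩ := QuotientGroup.mk_surjective d
  rw [h.mem_Qc] at hg ⊢
  rw [smul_mk_eq] at hd
  have e : (y⁻¹ * x) * (x⁻¹ * g * x) * (y⁻¹ * x)⁻¹ = y⁻¹ * g * y := by group
  have h3 := h.inv _ hg (by
    have : x⁻¹ * g * x * (x⁻¹ * g * x) = x⁻¹ * (g * g) * x := by group
    rw [this, h2]; group) (y⁻¹ * x) (by rw [e]; exact hd)
  rw [e] at h3
  exact h3

theorem Data.eq_of_le (h : Data Y Q z D) {c d : X ⧸ Y} (hcd : Qc Q c ≤ Qc Q d) : c = d := by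
  obtain ⟨x, rfl⟩ := QuotientGroup.mk_surjective c
  obtain ⟨y, rfl⟩ := QuotientGroup.mk_surjective d
  rw [eq_comm, QuotientGroup.eq]
  apply h.NQ
  intro q hq
  have h1 : x * q * x⁻¹ ∈ Qc Q (x : X ⧸ Y) := by
    rw [h.mem_Qc]
    have : x⁻¹ * (x * q * x⁻¹) * x = q := by group
    rw [this]; exact hq
  have h2 := hcd h1
  rw [h.mem_Qc] at h2
  have e : y⁻¹ * x * q * (y⁻¹ * x)⁻¹ = y⁻¹ * (x * q * x⁻¹) * y := by group
  rw [e]; exact h2

/-- `g` is a root of the point `c` -/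
def Rt (D : Set X) {Y : Subgroup X} (c : X ⧸ Y) (g : X) : Prop :=
  ∃ x : X, (x : X ⧸ Y) = c ∧ x⁻¹ * g * x ∈ D

theorem Data.rt_mk (h : Data Y Q z D) (x g : X) : Rt D (x : X ⧸ Y) g ↔ x⁻¹ * g * x ∈ D := by
  constructor
  · rintro ⟨y, hy, hd⟩
    rw [QuotientGroup.eq] at hy
    have h1 := h.Dc _ (Y.inv_mem hy) _ hd
    have e : (y⁻¹ * x)⁻¹ * (y⁻¹ * g * y) * (y⁻¹ * x)⁻¹⁻¹ = x⁻¹ * g * x := by group
    rwa [e] at h1
  · intro hd; exact ⟨x, rfl, hd⟩

theorem Data.rt_conj (h : Data Y Q z D) {c : X ⧸ Y} {g : X} (hg : Rt D c g) (n : X) :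
    Rt D (n • c) (n * g * n⁻¹) := by
  obtain ⟨x, rfl, hx⟩ := hg
  rw [smul_mk, h.rt_mk]
  have e : (n * x)⁻¹ * (n * g * n⁻¹) * (n * x) = x⁻¹ * g * x := by group
  rw [e]; exact hx

theorem Data.rt_fix (h : Data Y Q z D) {c : X ⧸ Y} {g : X} (hg : Rt D c g) : g • c = c := by
  obtain ⟨x, rfl, hx⟩ := hg
  rw [smul_mk_eq]; exact h.DY hx

theorem Data.rt_unique (h : Data Y Q z D) {c d : X ⧸ Y} {g : X} (hg : Rt D c g) (hd : g • d = d) : d = c := by
  obtain ⟨x, rfl, hx⟩ := hg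
  obtain ⟨y, rfl⟩ := QuotientGroup.mk_surjective d
  rw [smul_mk_eq] at hd
  rw [QuotientGroup.eq]
  apply h.fix _ hx
  have e : y⁻¹ * x * (x⁻¹ * g * x) * (y⁻¹ * x)⁻¹ = y⁻¹ * g * y := by group
  rw [e]; exact hd

theorem Data.rt_sq (h : Data Y Q z D) {c : X ⧸ Y} {g : X} (hg : Rt D c g) : g * g = 1 := by
  obtain ⟨x, rfl, hx⟩ := hg
  have h1 := h.D2 _ hx
  have h2 : x⁻¹ * (g * g) * x = 1 := by rw [← h1]; group
  have h3 : g * g = x * (x⁻¹ * (g * g) * x) * x⁻¹ := by group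
  rw [h3, h2]; group

theorem Data.rt_notin (h : Data Y Q z D) {c : X ⧸ Y} {g : X} (hg : Rt D c g) : g ∉ Qc Q c := by
  obtain ⟨x, rfl, hx⟩ := hg
  rw [h.mem_Qc]; exact h.DQ _ hx

end Data

/-! ### the main proof -/

section Main

variable {X : Type*} [Group X] [Finite X] {Y Q : Subgroup X} {z : X} {D : Set X}

/-- `B` is a largest intersection of two different `Qc`. -/
structure MaxB (Q : Subgroup X) (Y : Subgroup X) (B : Subgroup X) : Prop where
  ex : ∃ a c : X ⧸ Y, a ≠ c ∧ Qc Q a ⊓ Qc Q c = B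
  mx : ∀ a c : X ⧸ Y, a ≠ c → Nat.card (Qc Q a ⊓ Qc Q c : Subgroup X) ≤ Nat.card B

variable {B : Subgroup X}

theorem MaxB.P1 (M : MaxB Q Y B) {d e : X ⧸ Y} (hde : d ≠ e) (hd : B ≤ Qc Q d) (he : B ≤ Qc Q e) :
    Qc Q d ⊓ Qc Q e = B :=
  (Subgroup.eq_of_le_of_card_ge (le_inf hd he) (M.mx d e hde)).symm

omit [Finite X] in
theorem MaxB.zB (h : Data Y Q z D) (M : MaxB Q Y B) : z ∈ B := by
  obtain ⟨a, c, _, h1⟩ := M.ex
  rw [← h1]
  exact ⟨h.z_mem a, h.z_mem c⟩

theorem MaxB.P2 (h : Data Y Q z D) (M : MaxB Q Y B) {d : X ⧸ Y} {U : Subgroup X} (hBU : B ≤ U) (hU : U ≤ Qc Q d)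
    {w : X} (hw : w ∈ U) (hwB : w ∉ B) {t : X} (ht : ∀ u ∈ U, t⁻¹ * u * t ∈ U) : t • d = d := by
  by_contra hne
  have hU2 : U ≤ Qc Q (t • d) := by
    intro u hu
    have h1 := h.conj_mem t _ d (hU (ht u hu))
    have e : t * (t⁻¹ * u * t) * t⁻¹ = u := by group
    rwa [e] at h1
  have h1 := M.P1 (fun h => hne h.symm) (hBU.trans hU) (hBU.trans hU2)
  exact hwB (by rw [← h1]; exact ⟨hU hw, hU2 hw⟩)

omit [Finite X] in
theorem MaxB.norm (h : Data Y Q z D) (M : MaxB Q Y B) {d : X ⧸ Y} (hd : B ≤ Qc Q d) {q : X} (hq : q ∈ Qc Q d)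
    {b : X} (hb : b ∈ B) : q * b * q⁻¹ ∈ B := by
  rcases (h.extra d).comm q hq b (hd hb) with h1 | h1
  · rw [h1, mul_assoc, mul_inv_cancel, mul_one]; exact hb
  · rw [h1]
    have : z * (b * q) * q⁻¹ = z * b := by group
    rw [this]; exact B.mul_mem (M.zB h) hb

omit [Finite X] in
theorem MaxB.sqB (h : Data Y Q z D) (M : MaxB Q Y B) {d : X ⧸ Y} {q : X} (hq : q ∈ Qc Q d) : q * q ∈ B := by
  rcases (h.extra d).sq q hq with h1 | h1
  · rw [h1]; exact B.one_mem
  · rw [h1]; exact M.zB h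

theorem MaxB.whyp (h : Data Y Q z D) (M : MaxB Q Y B) {d e : X ⧸ Y} (hde : d ≠ e) (hd : B ≤ Qc Q d)
    (he : B ≤ Qc Q e) : WHyp (Qc Q d) (Qc Q d ⊓ MulAction.stabilizer X e) B z where
  E := h.extra d
  zc := h.zc
  BW := le_inf hd fun b hb => h.fixes (he hb)
  WP := inf_le_left
  zB := M.zB h
  sq := by
    rintro w ⟨hw, hwe⟩ hwB
    rcases (h.extra d).sq w hw with h1 | h1
    · exfalso
      apply hwB
      rw [← M.P1 hde hd he]
      exact ⟨hw, h.invol hw h1 hwe⟩
    · exact h1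

theorem MaxB.control (h : Data Y Q z D) (M : MaxB Q Y B) {d e : X ⧸ Y} (hde : d ≠ e) (hd : B ≤ Qc Q d)
    (he : B ≤ Qc Q e) {w : X} (hw : w ∈ Qc Q d) (hwe : w • e = e) : w ∈ B := by
  by_contra hwB
  have H1 := M.whyp h hde hd he
  have H2 := M.whyp h hde.symm he hd
  have hzB := M.zB h
  have habel : ∀ a ∈ B, ∀ b ∈ B, a * b = b * a := fun a ha b hb =>
    H1.comm (w := w) ⟨hw, hwe⟩ hwB ha hb
  obtain ⟨c1, c2⟩ := H2.card_le
  have c3 : 2 ^ 9 * Nat.card B ≤ Nat.card (Qc Q e ⊓ MulAction.stabilizer X d : Subgroup X) ^ 2 := by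
    apply (h.extra e).card_fixed he hzB (w := w)
    · intro q hq
      have := h.conj_mem w q e hq
      rwa [hwe] at this
    · intro b hb
      exact M.norm h hd hw hb
    · exact M.sqB h hw
    · intro t ht htB
      refine ⟨ht, ?_⟩
      change t • d = d
      have hwU : w ∈ B ⊔ Subgroup.zpowers w := Subgroup.mem_sup_right (Subgroup.mem_zpowers w)
      apply M.P2 h (U := B ⊔ Subgroup.zpowers w) le_sup_left (sup_le hd (by rwa [Subgroup.zpowers_le])) hwU hwB
      intro u hu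
      -- conjugation by `t⁻¹`
      have h1 : (B ⊔ Subgroup.zpowers w).map (MulAut.conj t⁻¹).toMonoidHom ≤ B ⊔ Subgroup.zpowers w := by
        rw [Subgroup.map_sup, sup_le_iff]
        constructor
        · rintro _ ⟨b, hb, rfl⟩
          apply Subgroup.mem_sup_left
          simp only [MulEquiv.coe_toMonoidHom, MulAut.conj_apply]
          exact M.norm h he ((Qc Q e).inv_mem ht) hb
        · rw [MonoidHom.map_zpowers, Subgroup.zpowers_le]
          simp only [MulEquiv.coe_toMonoidHom, MulAut.conj_apply]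
          have e1 : t⁻¹ * w * t⁻¹⁻¹ = t⁻¹ * (w * t * w⁻¹ * t⁻¹) * t⁻¹⁻¹ * w := by group
          rw [e1]
          apply Subgroup.mul_mem _ _ hwU
          apply Subgroup.mem_sup_left
          exact M.norm h he ((Qc Q e).inv_mem ht) htB
      have h2 := h1 (Subgroup.mem_map_of_mem _ hu)
      simp only [MulEquiv.coe_toMonoidHom, MulAut.conj_apply, inv_inv] at h2
      exact h2
  have c4 : Nat.card B * Nat.card B ≤ 2 ^ 10 := (h.extra d).card_mul_card_le hd hd hzB habel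
  have c5 : 2 * Nat.card B < Nat.card (Qc Q e ⊓ MulAction.stabilizer X d : Subgroup X) →
      Nat.card B * Nat.card (Qc Q e ⊓ MulAction.stabilizer X d : Subgroup X) ≤ 2 ^ 10 := by
    intro hlt
    apply (h.extra e).card_mul_card_le he inf_le_left hzB
    intro b hb c hc
    exact c2 hlt c hc b hb
  have hpos : 0 < Nat.card B := Nat.card_pos
  generalize Nat.card (Qc Q e ⊓ MulAction.stabilizer X d : Subgroup X) = k at *
  generalize Nat.card B = b at *
  have hb32 : b ≤ 32 := by nlinarith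
  rcases Nat.lt_or_ge (2 * b) k with hlt | hge
  · have h5 := c5 hlt
    have h6 : 128 ≤ k := by
      by_contra hk
      push Not at hk
      nlinarith
    have h7 : 32 ≤ b := by omega
    nlinarith
  · have h6 : 256 ≤ k := by
      by_contra hk
      push Not at hk
      nlinarith
    omega

omit [Finite X] in
theorem MaxB.normalizer_smul (h : Data Y Q z D) {n : X} (hn : n ∈ Subgroup.normalizer (B : Set X)) {d : X ⧸ Y}
    (hd : B ≤ Qc Q d) : B ≤ Qc Q (n • d) := by
  intro b hb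
  have h1 : n⁻¹ * b * n ∈ B := by
    have := (Subgroup.mem_normalizer_iff.1 ((Subgroup.normalizer (B : Set X)).inv_mem hn) b).1 hb
    rwa [inv_inv] at this
  have h2 := h.conj_mem n _ d (hd h1)
  have e : n * (n⁻¹ * b * n) * n⁻¹ = b := by group
  rwa [e] at h2

omit [Finite X] in
theorem conj_mem_of_normalizer {n b : X} (hn : n ∈ Subgroup.normalizer (B : Set X)) (hb : b ∈ B) :
    n * b * n⁻¹ ∈ B := (Subgroup.mem_normalizer_iff.1 hn b).1 hb

omit [Finite X] in
theorem conj_mem_of_normalizer' {n b : X} (hn : n ∈ Subgroup.normalizer (B : Set X)) (hb : b ∈ B) :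
    n⁻¹ * b * n ∈ B := by
  have := conj_mem_of_normalizer ((Subgroup.normalizer (B : Set X)).inv_mem hn) hb
  rwa [inv_inv] at this

omit [Finite X] in
theorem mem_of_conj {n b : X} (hn : n ∈ Subgroup.normalizer (B : Set X)) (hb : n * b * n⁻¹ ∈ B) :
    b ∈ B := (Subgroup.mem_normalizer_iff.1 hn b).2 hb

/-- The step: `v` a root of `a` normalising `B`, `q ∈ Q_c - B`. -/
theorem MaxB.step (h : Data Y Q z D) (M : MaxB Q Y B) {a c : X ⧸ Y} (hac : a ≠ c) (ha : B ≤ Qc Q a)
    (hc : B ≤ Qc Q c) {v : X} (hv : Rt D a v) (hvN : v ∈ Subgroup.normalizer (B : Set X)) {q : X}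
    (hq : q ∈ Qc Q c) (hqB : q ∉ B) :
    ∃ w ∈ Subgroup.normalizer (B : Set X), w • c = c ∧ v * w ∈ Qc Q a ∧ v * w ∉ B ∧
      (∃ b ∈ B, w * q = q * w * b) ∧
      (∃ n ∈ Subgroup.normalizer (B : Set X), ∃ b ∈ B, n • a = c ∧ n * v * n⁻¹ = q * w * b) := by
  have hqN : q ∈ Subgroup.normalizer (B : Set X) :=
    Subgroup.mem_normalizer_fintype fun b hb => M.norm h hc hq hb
  have hv2 : v * v ∈ B := by rw [h.rt_sq hv]; exact B.one_mem
  have hva : v • a = a := h.rt_fix hv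
  have hqc : q • c = c := h.fixes hq
  have hBa : ∀ b ∈ B, b • a = a := fun b hb => h.fixes (ha hb)
  have hBc : ∀ b ∈ B, b • c = c := fun b hb => h.fixes (hc hb)
  rcases dihedral_mod B hqN hvN (M.sqB h hq) hv2 with ⟨n, hn, b, hb, h1⟩ |
    ⟨w, hwN, hwB, ⟨b1, hb1, h1⟩, ⟨b2, hb2, h2⟩, hAB⟩
  · exfalso
    have hnc : B ≤ Qc Q (n • c) := MaxB.normalizer_smul h hn hc
    have h3 : v ∈ Qc Q (n • c) := by
      have h4 := h.conj_mem n q c hq
      rw [h1] at h4
      have h5 := (Qc Q (n • c)).mul_mem h4 ((Qc Q (n • c)).inv_mem (hnc hb))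
      rwa [mul_assoc, mul_inv_cancel, mul_one] at h5
    have h4 : n • c = a := h.rt_unique hv (h.fixes h3)
    rw [h4] at h3
    exact h.rt_notin hv h3
  · -- `w` fixes `a`
    have hwa : w • a = a := by
      apply h.rt_unique hv
      have h3 : v * w = w * v * b2⁻¹ := by rw [h2]; group
      rw [← mul_smul, h3, mul_smul, hBa _ (B.inv_mem hb2), mul_smul, hva]
    have hwc : w • c = c := by
      by_contra hne
      apply hqB
      apply M.control h (d := c) (e := w • c) (fun h => hne h.symm) hc (MaxB.normalizer_smul h hwN hc) hq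
      have h3 : q * w = w * q * b1⁻¹ := by rw [h1]; group
      rw [← mul_smul, h3, mul_smul, hBc _ (B.inv_mem hb1), mul_smul, hqc]
    rcases hAB with ⟨⟨n, hn, b3, hb3, h3⟩, _⟩ | ⟨⟨n, hn, b3, hb3, h3⟩, ⟨n', hn', b4, hb4, h4⟩⟩
    · exfalso
      have hfix : (n * q * n⁻¹) • c = c := by
        rw [h3, mul_smul, hBc _ hb3, mul_smul, hwc, hqc]
      have hmem := h.conj_mem n q c hq
      have hnc : n • c = c := by
        by_contra hne
        apply hqB
        apply mem_of_conj hn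
        exact M.control h hne (MaxB.normalizer_smul h hn hc) hc hmem hfix
      rw [hnc, h3] at hmem
      have hwm : w ∈ Qc Q c := by
        have h5 := (Qc Q c).mul_mem ((Qc Q c).inv_mem hq) ((Qc Q c).mul_mem hmem ((Qc Q c).inv_mem (hc hb3)))
        have e : q⁻¹ * (q * w * b3 * b3⁻¹) = w := by group
        rwa [e] at h5
      exact hwB (M.control h hac.symm hc ha hwm hwa)
    · have hna : n • a = c := by
        have h5 := h.rt_conj hv n
        rw [h3] at h5
        refine (h.rt_unique h5 ?_).symm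
        rw [mul_smul, hBc _ hb3, mul_smul, hwc, hqc]
      have hmem := h.conj_mem n' q c hq
      have hfix : (n' * q * n'⁻¹) • a = a := by
        rw [h4, mul_smul, hBa _ hb4, mul_smul, hwa, hva]
      have hnB : n' * q * n'⁻¹ ∉ B := fun hh => hqB (mem_of_conj hn' hh)
      have hn'c : n' • c = a := by
        by_contra hne
        exact hnB (M.control h hne (MaxB.normalizer_smul h hn' hc) ha hmem hfix)
      rw [hn'c, h4] at hmem
      rw [h4] at hnB
      refine ⟨w, hwN, hwc, ?_, ?_, ⟨b1, hb1, h1⟩, n, hn, b3, hb3, hna, h3⟩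
      · have h5 := (Qc Q a).mul_mem hmem ((Qc Q a).inv_mem (ha hb4))
        rwa [mul_assoc, mul_inv_cancel, mul_one] at h5
      · intro hh
        exact hnB (B.mul_mem hh hb4)

theorem MaxB.step2 (h : Data Y Q z D) (M : MaxB Q Y B) {a c : X ⧸ Y} (hac : a ≠ c) (ha : B ≤ Qc Q a)
    (hc : B ≤ Qc Q c) {v : X} (hv : Rt D a v) (hvN : v ∈ Subgroup.normalizer (B : Set X)) :
    (∀ p ∈ Qc Q a, v * p * v⁻¹ * p⁻¹ ∈ B) ∧
      ∃ x ∈ Qc Q a, x ∉ B ∧ ∀ b ∈ B, ¬ Rt D a (v * x * b) := by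
  obtain ⟨q, hq, hqB⟩ : ∃ q ∈ Qc Q c, q ∉ B := by
    by_contra hcon
    push Not at hcon
    exact hac (h.eq_of_le (c := c) (d := a) fun x hx => ha (hcon x hx)).symm
  obtain ⟨w, hwN, hwc, hvw, hvwB, _, n, hn, b, hb, hna, hnv⟩ := M.step h hac ha hc hv hvN hq hqB
  have hBc : ∀ b ∈ B, b • c = c := fun b hb => h.fixes (hc hb)
  -- `w` commutes with all `q'` modulo `B`
  have hcw : ∀ q' ∈ Qc Q c, ∃ b' ∈ B, w * q' = q' * w * b' := by
    intro q' hq'
    by_cases hq'B : q' ∈ B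
    · refine ⟨w⁻¹ * q'⁻¹ * w * q', ?_, by group⟩
      exact B.mul_mem (conj_mem_of_normalizer' hwN (B.inv_mem hq'B)) hq'B
    · obtain ⟨w', hwN', hwc', hvw', hvwB', ⟨b', hb', hc'⟩, _⟩ := M.step h hac ha hc hv hvN hq' hq'B
      have h1 : w'⁻¹ * w ∈ B := by
        apply M.control h hac ha hc
        · have h2 := (Qc Q a).mul_mem ((Qc Q a).inv_mem hvw') hvw
          have e : (v * w')⁻¹ * (v * w) = w'⁻¹ * w := by group
          rwa [e] at h2
        · rw [mul_smul, hwc]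
          exact inv_smul_eq_iff.2 hwc'.symm
      -- w = w' b'' 
      refine ⟨w⁻¹ * (q'⁻¹ * (w * q')), ?_, by group⟩
      have e : w⁻¹ * (q'⁻¹ * (w * q')) =
          (w'⁻¹ * w)⁻¹ * (w'⁻¹ * q'⁻¹ * (w' * q')) * (q'⁻¹ * (w'⁻¹ * w) * q') := by group
      rw [e, hc']
      have e2 : w'⁻¹ * q'⁻¹ * (q' * w' * b') = b' := by group
      rw [e2]
      refine B.mul_mem (B.mul_mem (B.inv_mem h1) hb') ?_
      have h3 := M.norm h hc ((Qc Q c).inv_mem hq') h1
      rwa [inv_inv] at h3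
  constructor
  · intro p hp
    have hnp := h.conj_mem n p a hp
    rw [hna] at hnp
    set p' := n * p * n⁻¹ with hp'
    apply mem_of_conj hn
    have e1 : n * (v * p * v⁻¹ * p⁻¹) * n⁻¹ = (n * v * n⁻¹) * p' * (n * v * n⁻¹)⁻¹ * p'⁻¹ := by
      rw [hp']; group
    rw [e1, hnv]
    obtain ⟨b', hb', h1⟩ := hcw p' hnp
    -- `q w b p' b⁻¹ w⁻¹ q⁻¹ p'⁻¹`
    have hzB := M.zB h
    have hE := h.extra c
    have com : ∀ x ∈ Qc Q c, ∀ y ∈ Qc Q c, x * y * x⁻¹ * y⁻¹ ∈ B := by
      intro x hx y hy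
      rcases hE.comm x hx y hy with h2 | h2
      · rw [h2]; simp
      · rw [h2]
        have : z * (y * x) * x⁻¹ * y⁻¹ = z := by group
        rw [this]; exact hzB
    have e2 : q * w * b * p' * (q * w * b)⁻¹ * p'⁻¹ =
        q * (w * (b * p' * b⁻¹ * p'⁻¹) * w⁻¹) * q⁻¹ * (q * (w * p' * w⁻¹ * p'⁻¹) * q⁻¹) *
          (q * p' * q⁻¹ * p'⁻¹) := by group
    rw [e2]
    refine B.mul_mem (B.mul_mem ?_ ?_) (com q hq p' hnp)
    · exact M.norm h hc hq (conj_mem_of_normalizer hwN (com b (hc hb) p' hnp))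
    · refine M.norm h hc hq ?_
      rw [h1]
      have e3 : p' * w * b' * w⁻¹ * p'⁻¹ = p' * (w * b' * w⁻¹) * p'⁻¹ := by group
      rw [e3]
      exact M.norm h hc hnp (conj_mem_of_normalizer hwN hb')
  · refine ⟨v * w, hvw, hvwB, ?_⟩
    intro b hb hr
    have e : v * (v * w) * b = w * b := by
      rw [← mul_assoc, h.rt_sq hv, one_mul]
    rw [e] at hr
    have h1 : c = a := h.rt_unique hr (by rw [mul_smul, hBc b hb, hwc])
    exact hac h1.symm

/-- **The closing by roots.** -/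
theorem Data.eq_top (h : Data Y Q z D) : Y = ⊤ := by
  classical
  by_contra hY
  -- two points
  have hne : ∃ p : (X ⧸ Y) × (X ⧸ Y), p.1 ≠ p.2 := by
    by_contra hcon
    push Not at hcon
    apply hY
    rw [Subgroup.eq_top_iff']
    intro x
    have h1 := hcon ((1 : X), (x : X))
    have h2 : ((1 : X) : X ⧸ Y) = (x : X ⧸ Y) := h1
    rw [QuotientGroup.eq] at h2
    simpa using h2
  have : Fintype ((X ⧸ Y) × (X ⧸ Y)) := Fintype.ofFinite _
  obtain ⟨p, hp, hmax⟩ := Finset.exists_max_image (Finset.univ.filter fun p : (X ⧸ Y) × (X ⧸ Y) => p.1 ≠ p.2)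
    (fun p => Nat.card (Qc Q p.1 ⊓ Qc Q p.2 : Subgroup X)) (by
      obtain ⟨p, hp⟩ := hne
      exact ⟨p, by simpa using hp⟩)
  obtain ⟨a, c⟩ := p
  have hac : a ≠ c := by simpa using hp
  let B := Qc Q a ⊓ Qc Q c
  have M : MaxB Q Y B := by
    refine ⟨⟨a, c, hac, rfl⟩, ?_⟩
    intro d e hde
    exact hmax (d, e) (by simpa using hde)
  have ha : B ≤ Qc Q a := inf_le_left
  have hc : B ≤ Qc Q c := inf_le_right
  clear hmax
  obtain ⟨x₀, hx₀⟩ := QuotientGroup.mk_surjective a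
  -- `B₀`
  let B₀ : Subgroup X := B.map (MulAut.conj x₀⁻¹).toMonoidHom
  have hB₀ : ∀ g, g ∈ B₀ ↔ x₀ * g * x₀⁻¹ ∈ B := by
    intro g
    change g ∈ B.map (MulAut.conj x₀⁻¹).toMonoidHom ↔ _
    rw [Subgroup.mem_map]
    constructor
    · rintro ⟨b, hb, rfl⟩
      have e : x₀ * (MulAut.conj x₀⁻¹).toMonoidHom b * x₀⁻¹ = b := by
        simp only [MulEquiv.coe_toMonoidHom, MulAut.conj_apply]; group
      rw [e]; exact hb
    · intro hg
      refine ⟨_, hg, ?_⟩
      simp only [MulEquiv.coe_toMonoidHom, MulAut.conj_apply]; group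
  have hzx : x₀ * z * x₀⁻¹ = z := by rw [h.zc, mul_assoc, mul_inv_cancel, mul_one]
  have hQa : ∀ g, g ∈ Qc Q a ↔ x₀⁻¹ * g * x₀ ∈ Q := by
    intro g; rw [← hx₀]; exact h.mem_Qc x₀ g
  obtain ⟨v, hvD, hvB, hv⟩ := h.EL B₀ (by rw [hB₀, hzx]; exact M.zB h) (by
    intro g hg
    rw [hB₀] at hg
    have := (hQa _).1 (ha hg)
    have e : x₀⁻¹ * (x₀ * g * x₀⁻¹) * x₀ = g := by group
    rwa [e] at this) (by
    intro hBQ
    apply hac
    apply h.eq_of_le (c := a) (d := c)
    intro g hg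
    apply hc
    have h1 := (hQa g).1 hg
    rw [← hBQ, hB₀] at h1
    have e : x₀ * (x₀⁻¹ * g * x₀) * x₀⁻¹ = g := by group
    rwa [e] at h1)
  have hr : Rt D a (x₀ * v * x₀⁻¹) := by
    rw [← hx₀, h.rt_mk]
    have e : x₀⁻¹ * (x₀ * v * x₀⁻¹) * x₀ = v := by group
    rw [e]; exact hvD
  have hN : x₀ * v * x₀⁻¹ ∈ Subgroup.normalizer (B : Set X) := by
    apply Subgroup.mem_normalizer_fintype
    intro b hb
    have h1 : x₀⁻¹ * b * x₀ ∈ B₀ := by
      rw [hB₀]
      have e : x₀ * (x₀⁻¹ * b * x₀) * x₀⁻¹ = b := by group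
      rw [e]; exact hb
    have h2 := hvB _ h1
    rw [hB₀] at h2
    have e : x₀ * (v * (x₀⁻¹ * b * x₀) * v⁻¹) * x₀⁻¹ = x₀ * v * x₀⁻¹ * b * (x₀ * v * x₀⁻¹)⁻¹ := by group
    rwa [e] at h2
  obtain ⟨s1, x, hx, hxB, s2⟩ := M.step2 h hac ha hc hr hN
  rcases hv with ⟨q, hq, hqB⟩ | hv
  · apply hqB
    rw [hB₀]
    have h1 := s1 (x₀ * q * x₀⁻¹) (by
      rw [hQa]
      have e : x₀⁻¹ * (x₀ * q * x₀⁻¹) * x₀ = q := by group
      rw [e]; exact hq)
    have e : x₀ * v * x₀⁻¹ * (x₀ * q * x₀⁻¹) * (x₀ * v * x₀⁻¹)⁻¹ * (x₀ * q * x₀⁻¹)⁻¹ =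
      x₀ * (v * q * v⁻¹ * q⁻¹) * x₀⁻¹ := by group
    rwa [e] at h1
  · obtain ⟨b, hb, hvb⟩ := hv (x₀⁻¹ * x * x₀) ((hQa x).1 hx) (by
      rw [hB₀]
      have e : x₀ * (x₀⁻¹ * x * x₀) * x₀⁻¹ = x := by group
      rw [e]; exact hxB)
    apply s2 (x₀ * b * x₀⁻¹) ((hB₀ b).1 hb)
    rw [← hx₀, h.rt_mk]
    have e : x₀⁻¹ * (x₀ * v * x₀⁻¹ * x * (x₀ * b * x₀⁻¹)) * x₀ = v * (x₀⁻¹ * x * x₀) * b := by group
    rw [e]; exact hvb

end Main

end Cfsg.Agent.StdG24.RootClosing
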