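import Cfsg.Agent.StdG24.CloNQ
import Cfsg.Agent.StdG24.RootClosing

/-!
# The bridge (closing of S1767): from facts in `K` to `C_G(z) ≤ N`

`π : N →* K` surjective with kernel of odd order commuting with the elements `x` of `N` with
`x^4 = 1`; `Q ≤ C_K(z)` extraspecial of order `2^9`, facts `QFacts`.
-/

set_option autoImplicit false
set_option linter.unusedSectionVars false

namespace Cfsg.Agent.StdG24.CloBridge

open Cfsg.Agent.StdG24.CloFus

variable {G K : Type*} [Group G] [Group K] {N : Subgroup G}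

theorem p4 {M : Type*} [Monoid M] (x : M) : x ^ 4 = (x * x) * (x * x) := by
  rw [← pow_two, ← pow_two, ← pow_mul]

/-- Covers whose kernel commutes with the elements `x`, `x ^ 4 = 1`. -/
structure Cover4 (π : N →* K) : Prop extends Cover π where
  comm4 : ∀ k : N, π k = 1 → ∀ x : N, x ^ 4 = 1 → k * x = x * k

namespace Cover4

variable {π : N →* K} (hπ : Cover4 π)

include hπ

theorem eq_one_of_pow4 {k : N} (hk : π k = 1) (h4 : k ^ 4 = 1) : k = 1 := by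
  have h1 : k * k = 1 := by
    apply hπ.eq_one_of_sq (k := k * k) (by rw [map_mul, hk, one_mul])
    rw [← pow_two, ← pow_two, ← pow_mul]; exact h4
  exact hπ.eq_one_of_sq hk h1

theorem uniq4 {x y : N} (hx : x ^ 4 = 1) (hy : y ^ 4 = 1) (h : π x = π y) : x = y := by
  have h1 : π (x⁻¹ * y) = 1 := by rw [map_mul, map_inv, h, inv_mul_cancel]
  have h2 : (x⁻¹ * y) * x = x * (x⁻¹ * y) := hπ.comm4 _ h1 x hx
  have h3 : Commute x (x⁻¹ * y) := h2.symm
  have h4 : (x⁻¹ * y) ^ 4 = 1 := by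
    have h5 : y = x * (x⁻¹ * y) := by group
    have h6 : (x * (x⁻¹ * y)) ^ 4 = x ^ 4 * (x⁻¹ * y) ^ 4 := h3.mul_pow 4
    rw [← h5, hy, hx, one_mul] at h6
    exact h6.symm
  have h7 := hπ.eq_one_of_pow4 h1 h4
  exact inv_mul_eq_one.1 h7

theorem lift4 {a : K} (ha : a ^ 4 = 1) : ∃ x : N, x ^ 4 = 1 ∧ π x = a := by
  obtain ⟨y, rfl⟩ := hπ.surj a
  have h1 : π (y ^ 4) = 1 := by rw [map_pow, ha]
  have h2 := hπ.pow_odd h1
  obtain ⟨m, hm⟩ := hπ.odd
  refine ⟨y ^ (Nat.card π.ker * Nat.card π.ker), ?_, ?_⟩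
  · have h3 : Nat.card π.ker * Nat.card π.ker * 4 = 4 * Nat.card π.ker * Nat.card π.ker := by ring
    rw [← pow_mul, h3, pow_mul, pow_mul, h2, one_pow]
  · have h3 : Nat.card π.ker * Nat.card π.ker = 4 * (m * m + m) + 1 := by rw [hm]; ring
    rw [map_pow, h3, pow_succ, pow_mul, ha, one_pow, one_mul]

theorem conj_eq4 {x y h : N} (hx : x ^ 4 = 1) (hy : y ^ 4 = 1)
    (hh : π h * π x * (π h)⁻¹ = π y) : h * x * h⁻¹ = y := by
  apply hπ.uniq4 _ hy
  · rw [map_mul, map_mul, map_inv, hh]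
  · rw [conj_pow, hx]; group

theorem commute4 {x y : N} (hy : y ^ 4 = 1) (h : π x * π y = π y * π x) : x * y = y * x := by
  have h1 := hπ.conj_eq4 (h := x) hy hy (by rw [h, mul_inv_cancel_right])
  calc x * y = x * y * x⁻¹ * x := by group
    _ = y * x := by rw [h1]

end Cover4

/-- Facts in `K` on the extraspecial group `Q`. -/
structure QFacts (K : Type*) [Group K] (r z : K) (Q : Subgroup K) : Prop where
  zQ : z ∈ Q
  Qz : ∀ q ∈ Q, q * z = z * q
  Qn : ∀ y, y * z = z * y → ∀ q ∈ Q, y * q * y⁻¹ ∈ Q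
  Qsq : ∀ q ∈ Q, q * q = 1 ∨ q * q = z
  Qcomm : ∀ p ∈ Q, ∀ q ∈ Q, p * q = q * p ∨ p * q = z * (q * p)
  Qcard : Nat.card Q = 2 ^ 9
  Qext : ∀ q ∈ Q, q ≠ 1 → q ≠ z → ∃ p ∈ Q, p * q ≠ q * p
  DQ : ∀ q ∈ Q, ¬ IsConj r q
  Q2A : ∀ q ∈ Q, q * q = 1 → q ≠ 1 → q ≠ z → IsConj z q
  F1c : ∀ q ∈ Q, q * q = 1 → ∃ u, IsConj r u ∧ u * z = z * u ∧ u * q = q * u
  T3 : ∀ y, y * y = 1 → y * z = z * y → IsConj z y → IsConj z (y * z) →
    y ∈ Q ∨ ∃ u, IsConj r u ∧ u * z = z * u ∧ u * y = y * u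
  four : ∃ v w, IsConj r v ∧ IsConj r w ∧ IsConj r (v * w) ∧ v * w = w * v ∧ v * z = z * v ∧
    w * z = z * w
  CQ : ∀ k, (∀ q ∈ Q, k * q = q * k) → k = 1 ∨ k = z
  ab : ∃ a ∈ Q, ∃ b ∈ Q, a * a = z ∧ b * b = z ∧ a * b = b * a ∧ b ≠ a ∧ b ≠ a * z
  R2 : ∀ a ∈ Q, ∀ b ∈ Q, a * a = z → b * b = z → a * b = b * a → b ≠ a → b ≠ a * z →
    ∃ v, IsConj r v ∧ v * z = z * v ∧ ∀ x ∈ Q, ∃ i j e : ℕ, i < 2 ∧ j < 2 ∧
      (i = 0 ↔ x * a = a * x) ∧ (j = 0 ↔ x * b = b * x) ∧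
        v * x * v⁻¹ = x * a ^ i * b ^ j * z ^ e
  EL : ∀ B : Subgroup K, z ∈ B → B ≤ Q → B ≠ Q → ∃ v, IsConj r v ∧ v * z = z * v ∧
    (∀ b ∈ B, v * b * v⁻¹ ∈ B) ∧
      ((∃ q ∈ Q, v * q * v⁻¹ * q⁻¹ ∉ B) ∨ ∀ q ∈ Q, q ∉ B → ∃ b ∈ B, IsConj r (v * q * b))


theorem QFacts.pow4 {r z : K} {Q : Subgroup K} (H : QFacts K r z Q) (hz2 : z * z = 1) {q : K}
    (hq : q ∈ Q) : q ^ 4 = 1 := by
  rw [p4]
  rcases H.Qsq q hq with h | h
  · rw [h, one_mul]
  · rw [h, hz2]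

section Lift

variable {π : N →* K} (hπ : Cover4 π) {r z : K} {Q : Subgroup K} (H : QFacts K r z Q)
  (hz2 : z * z = 1) {zt : N} (hzt : zt * zt = 1) (hztz : π zt = z)

include hπ H hz2 hzt hztz

theorem pow4_of_sq {x : N} (h : x * x = 1) : x ^ 4 = 1 := by
  rw [p4, h, one_mul]

theorem sq_lift {x : N} (hx : x ^ 4 = 1) (hxQ : π x ∈ Q) : x * x = 1 ∨ x * x = zt := by
  have h4 : (x * x) ^ 4 = 1 := by
    rw [← pow_two, ← pow_mul, mul_comm, pow_mul, hx, one_pow]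
  rcases H.Qsq _ hxQ with h | h
  · left
    apply hπ.uniq4 h4 (one_pow 4)
    rw [map_mul, h, map_one]
  · right
    apply hπ.uniq4 h4 (pow4_of_sq hπ H hz2 hzt hztz hzt)
    rw [map_mul, h, hztz]

/-- `z~` commutes with the elements of `N` over `C_K(z)`. -/
theorem zt_comm {x : N} (h : π x * z = z * π x) : x * zt = zt * x :=
  hπ.commute4 (pow4_of_sq hπ H hz2 hzt hztz hzt) (by rw [hztz]; exact h)

theorem comm_lift {x y : N} (_hx : x ^ 4 = 1) (hxQ : π x ∈ Q) (hy : y ^ 4 = 1) (hyQ : π y ∈ Q) :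
    x * y = y * x ∨ x * y = zt * (y * x) := by
  have hzy : zt * y = y * zt := (zt_comm hπ H hz2 hzt hztz (H.Qz _ hyQ)).symm
  have hzt4 : zt ^ 4 = 1 := pow4_of_sq hπ H hz2 hzt hztz hzt
  rcases H.Qcomm _ hxQ _ hyQ with h | h
  · left
    exact hπ.commute4 hy h
  · right
    have h1 : x * y * x⁻¹ = zt * y := by
      apply hπ.conj_eq4 hy
      · have hc : Commute zt y := hzy
        rw [hc.mul_pow, hzt4, hy, one_mul]
      · rw [h, map_mul, hztz, mul_assoc, mul_assoc, mul_inv_cancel, mul_one]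
    calc x * y = x * y * x⁻¹ * x := by group
      _ = zt * (y * x) := by rw [h1, mul_assoc]

theorem mul_lift {x y : N} (hx : x ^ 4 = 1) (hxQ : π x ∈ Q) (hy : y ^ 4 = 1) (hyQ : π y ∈ Q) :
    (x * y) ^ 4 = 1 := by
  have hzx : zt * x = x * zt := (zt_comm hπ H hz2 hzt hztz (H.Qz _ hxQ)).symm
  have hzy : zt * y = y * zt := (zt_comm hπ H hz2 hzt hztz (H.Qz _ hyQ)).symm
  rcases comm_lift hπ H hz2 hzt hztz hx hxQ hy hyQ with h | h
  · have hc : Commute x y := h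
    rw [hc.mul_pow, hx, hy, one_mul]
  · -- y x = z x y
    have h1 : y * x = zt * (x * y) := by rw [h, ← mul_assoc, hzt, one_mul]
    have h2 : (x * y) * (x * y) = zt * ((x * x) * (y * y)) := by
      calc (x * y) * (x * y) = x * (y * x) * y := by group
        _ = x * (zt * (x * y)) * y := by rw [h1]
        _ = (x * zt) * (x * y) * y := by group
        _ = (zt * x) * (x * y) * y := by rw [hzx]
        _ = zt * ((x * x) * (y * y)) := by group
    have h3 : (x * y) * (x * y) = 1 ∨ (x * y) * (x * y) = zt := by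
      rw [h2]
      rcases sq_lift hπ H hz2 hzt hztz hx hxQ with hxx | hxx <;>
      rcases sq_lift hπ H hz2 hzt hztz hy hyQ with hyy | hyy <;> rw [hxx, hyy]
      · right; simp
      · left; rw [one_mul, hzt]
      · left; rw [mul_one, hzt]
      · right; rw [hzt, mul_one]
    rw [p4]
    rcases h3 with h3 | h3 <;> rw [h3]
    · rw [one_mul]
    · exact hzt

omit hzt hztz in
theorem inv_lift {x : N} (hx : x ^ 4 = 1) : (x⁻¹) ^ 4 = 1 := by rw [inv_pow, hx, inv_one]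

end Lift

/-- The lift of `Q`. -/
def liftQ {π : N →* K} (hπ : Cover4 π) {r z : K} {Q : Subgroup K} (H : QFacts K r z Q)
    (hz2 : z * z = 1) {zt : N} (hzt : zt * zt = 1) (hztz : π zt = z) : Subgroup G where
  carrier := {x | ∃ h : x ∈ N, x ^ 4 = 1 ∧ π ⟨x, h⟩ ∈ Q}
  one_mem' := ⟨N.one_mem, one_pow 4, by
    have h4 : π ⟨1, N.one_mem⟩ = 1 := map_one π
    rw [h4]; exact Q.one_mem⟩
  mul_mem' := by
    rintro a b ⟨ha, ha4, haQ⟩ ⟨hb, hb4, hbQ⟩
    have ha4' : (⟨a, ha⟩ : N) ^ 4 = 1 := Subtype.ext ha4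
    have hb4' : (⟨b, hb⟩ : N) ^ 4 = 1 := Subtype.ext hb4
    refine ⟨N.mul_mem ha hb, ?_, ?_⟩
    · exact congrArg (fun t : N => (t : G)) (mul_lift hπ H hz2 hzt hztz ha4' haQ hb4' hbQ)
    · have h7 : (⟨a * b, N.mul_mem ha hb⟩ : N) = ⟨a, ha⟩ * ⟨b, hb⟩ := rfl
      rw [h7, map_mul]
      exact Q.mul_mem haQ hbQ
  inv_mem' := by
    rintro a ⟨ha, ha4, haQ⟩
    refine ⟨N.inv_mem ha, ?_, ?_⟩
    · rw [inv_pow, ha4, inv_one]
    · have h7 : (⟨a⁻¹, N.inv_mem ha⟩ : N) = (⟨a, ha⟩)⁻¹ := rfl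
      rw [h7, map_inv]
      exact Q.inv_mem haQ


/-- A finite subgroup mapped into itself by a conjugation. -/
theorem conj_inv_mem {X : Type*} [Group X] [Finite X] {Q : Subgroup X} {n : X}
    (hn : ∀ q ∈ Q, n * q * n⁻¹ ∈ Q) : ∀ q ∈ Q, n⁻¹ * q * n ∈ Q := by
  let f : Q → Q := fun q => ⟨n * q * n⁻¹, hn q q.2⟩
  have hf : Function.Injective f := by
    intro a b h
    have h1 : n * (a : X) * n⁻¹ = n * (b : X) * n⁻¹ := congrArg Subtype.val h
    exact Subtype.ext (mul_left_cancel (mul_right_cancel h1))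
  have hs := Finite.surjective_of_injective hf
  intro q hq
  obtain ⟨p, hp⟩ := hs ⟨q, hq⟩
  have h1 : n * (p : X) * n⁻¹ = q := congrArg Subtype.val hp
  rw [← h1]
  have h2 : n⁻¹ * (n * (p : X) * n⁻¹) * n = p := by group
  rw [h2]
  exact p.2

section Data

variable [Finite G] {π : N →* K} (hπ : Cover4 π) {r z c : K} {E : Subgroup K}
  (F : Facts K r z c E) {Q : Subgroup K} (H : QFacts K r z Q)
  {zt : N} (hzt : zt * zt = 1) (hztz : π zt = z)

local notation "XX" => Subgroup.centralizer ({(zt : G)} : Set G)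
local notation "QQ" => liftQ hπ H (Facts.z2 F) hzt hztz

theorem mem_QQ (x : G) : x ∈ QQ ↔ ∃ h : x ∈ N, x ^ 4 = 1 ∧ π ⟨x, h⟩ ∈ Q := Iff.rfl

include hπ F H hzt hztz

theorem over_X (x : G) (h : x ∈ N) (hx : x ∈ XX) : π ⟨x, h⟩ * z = z * π ⟨x, h⟩ := by
  have h1 : (⟨x, h⟩ : N) * zt = zt * ⟨x, h⟩ :=
    Subtype.ext (Subgroup.mem_centralizer_singleton_iff.1 hx)
  rw [← hztz, ← map_mul, h1, map_mul]

theorem mem_X (x : N) (hx : π x * z = z * π x) : (x : G) ∈ XX := by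
  rw [Subgroup.mem_centralizer_singleton_iff]
  exact congrArg (fun t : N => (t : G)) (zt_comm hπ H F.z2 hzt hztz hx)

theorem QQ_le_X : QQ ≤ XX := by
  rintro x ⟨h, h4, hq⟩
  exact mem_X hπ F H hzt hztz ⟨x, h⟩ (H.Qz _ hq)

theorem exists_lift {q : K} (hq : q ∈ Q) : ∃ x : N, x ^ 4 = 1 ∧ π x = q ∧ (x : G) ∈ QQ := by
  obtain ⟨x, hx, rfl⟩ := hπ.lift4 (H.pow4 F.z2 hq)
  exact ⟨x, hx, rfl, x.2, congrArg (fun t : N => (t : G)) hx, hq⟩

theorem zt_mem : (zt : G) ∈ QQ :=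
  ⟨zt.2, congrArg (fun t : N => (t : G)) (pow4_of_sq hπ H F.z2 hzt hztz hzt), by
    show π zt ∈ Q
    rw [hztz]; exact H.zQ⟩

theorem eq_of_mem {x y : G} (hx : x ∈ QQ) (hy : y ∈ QQ) (h : π ⟨x, hx.1⟩ = π ⟨y, hy.1⟩) :
    x = y := by
  exact congrArg (fun t : N => (t : G))
    (hπ.uniq4 (x := ⟨x, hx.1⟩) (y := ⟨y, hy.1⟩) (Subtype.ext hx.2.1) (Subtype.ext hy.2.1) h)

theorem exists_root {u : K} (hu : IsConj r u) (huz : u * z = z * u) :
    ∃ x : N, x * x = 1 ∧ π x = u ∧ (x : G) ∈ XX ∧ (x : G) ∈ Over π r := by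
  have hu2 : u * u = 1 := by
    obtain ⟨b, rfl⟩ := isConj_iff.1 hu
    have : b * r * b⁻¹ * (b * r * b⁻¹) = b * (r * r) * b⁻¹ := by group
    rw [this, F.r2]; group
  obtain ⟨x, hx, rfl⟩ := hπ.lift hu2
  exact ⟨x, hx, rfl, mem_X hπ F H hzt hztz x huz, x.2, congrArg (fun t : N => (t : G)) hx, hu⟩

theorem norm_QQ {y : G} (hyN : y ∈ N) (hyX : y ∈ XX) {q : G} (hq : q ∈ QQ) :
    y * q * y⁻¹ ∈ QQ := by
  obtain ⟨hq, hq4, hqQ⟩ := hq
  refine ⟨N.mul_mem (N.mul_mem hyN hq) (N.inv_mem hyN), ?_, ?_⟩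
  · rw [conj_pow, hq4]; group
  · have h1 := H.Qn _ (over_X hπ F H hzt hztz y hyN hyX) _ hqQ
    rw [← map_inv, ← map_mul, ← map_mul] at h1
    exact h1

theorem sq_QQ {q : G} (hq : q ∈ QQ) : q * q = 1 ∨ q * q = zt := by
  obtain ⟨hq, hq4, hqQ⟩ := hq
  rcases sq_lift hπ H F.z2 hzt hztz (x := ⟨q, hq⟩) (Subtype.ext hq4) hqQ with h | h
  · exact Or.inl (congrArg (fun t : N => (t : G)) h)
  · exact Or.inr (congrArg (fun t : N => (t : G)) h)

theorem comm_QQ {p q : G} (hp : p ∈ QQ) (hq : q ∈ QQ) :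
    p * q = q * p ∨ p * q = zt * (q * p) := by
  obtain ⟨hp, hp4, hpQ⟩ := hp
  obtain ⟨hq, hq4, hqQ⟩ := hq
  rcases comm_lift hπ H F.z2 hzt hztz (x := ⟨p, hp⟩) (y := ⟨q, hq⟩) (Subtype.ext hp4) hpQ
    (Subtype.ext hq4) hqQ with h | h
  · exact Or.inl (congrArg (fun t : N => (t : G)) h)
  · exact Or.inr (congrArg (fun t : N => (t : G)) h)

theorem comm_iff {p q : G} (hp : p ∈ QQ) (hq : q ∈ QQ) :
    p * q = q * p ↔ π ⟨p, hp.1⟩ * π ⟨q, hq.1⟩ = π ⟨q, hq.1⟩ * π ⟨p, hp.1⟩ := by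
  constructor
  · intro h
    rw [← map_mul, ← map_mul]
    exact congrArg π (Subtype.ext h)
  · intro h
    exact congrArg (fun t : N => (t : G)) (hπ.commute4 (x := ⟨p, hp.1⟩) (y := ⟨q, hq.1⟩)
      (Subtype.ext hq.2.1) h)

theorem card_QQ : Nat.card (QQ) = 2 ^ 9 := by
  rw [← H.Qcard]
  let f : QQ → Q := fun x => ⟨π ⟨x, x.2.1⟩, x.2.2.2⟩
  refine Nat.card_congr (Equiv.ofBijective f ⟨?_, ?_⟩)
  · intro x y h
    exact Subtype.ext (eq_of_mem hπ F H hzt hztz x.2 y.2 (congrArg Subtype.val h))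
  · rintro ⟨q, hq⟩
    obtain ⟨x, -, hx, hxQ⟩ := exists_lift hπ F H hzt hztz hq
    exact ⟨⟨x, hxQ⟩, Subtype.ext hx⟩

theorem ne_one_of_root (hr : r ≠ 1) {u : K} (hu : IsConj r u) : u ≠ 1 := by
  rintro rfl
  rw [isConj_one_left] at hu
  exact hr hu

/-- The lift of `R2`. -/
theorem R2_QQ {a b : G} (ha : a ∈ QQ) (hb : b ∈ QQ) (haz : a * a = zt) (hbz : b * b = zt)
    (hab : a * b = b * a) (hne : b ≠ a) (hne' : b ≠ a * zt) :
    ∃ v ∈ Over π r, v ∈ XX ∧ ∀ x ∈ QQ, ∃ i j e : ℕ, i < 2 ∧ j < 2 ∧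
      (i = 0 ↔ x * a = a * x) ∧ (j = 0 ↔ x * b = b * x) ∧
        v * x * v⁻¹ = x * a ^ i * b ^ j * (zt : G) ^ e := by
  have hzm := zt_mem hπ F H hzt hztz
  obtain ⟨u, hu, huz, hux⟩ := H.R2 _ ha.2.2 _ hb.2.2
    (by rw [← map_mul, ← hztz]; exact congrArg π (Subtype.ext haz))
    (by rw [← map_mul, ← hztz]; exact congrArg π (Subtype.ext hbz))
    ((comm_iff hπ F H hzt hztz ha hb).1 hab)
    (fun h => hne (eq_of_mem hπ F H hzt hztz hb ha h))
    (fun h => hne' (eq_of_mem hπ F H hzt hztz hb ((QQ).mul_mem ha hzm) (by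
      have e : π ⟨a * zt, ((QQ).mul_mem ha hzm).1⟩ = π ⟨a, ha.1⟩ * π zt := by
        rw [← map_mul]; rfl
      exact h.trans ((congrArg (fun t => π ⟨a, ha.1⟩ * t) hztz.symm).trans e.symm))))
  obtain ⟨v, hv, rfl, hvX, hvR⟩ := exists_root hπ F H hzt hztz hu huz
  refine ⟨v, hvR, hvX, fun x hx => ?_⟩
  obtain ⟨i, j, e, hi, hj, hi', hj', h⟩ := hux _ hx.2.2
  refine ⟨i, j, e, hi, hj, ?_, ?_, ?_⟩
  · rw [hi', comm_iff hπ F H hzt hztz hx ha]
  · rw [hj', comm_iff hπ F H hzt hztz hx hb]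
  · apply eq_of_mem hπ F H hzt hztz (norm_QQ hπ F H hzt hztz v.2 hvX hx)
      ((QQ).mul_mem ((QQ).mul_mem ((QQ).mul_mem hx ((QQ).pow_mem ha i)) ((QQ).pow_mem hb j))
        ((QQ).pow_mem hzm e))
    rw [← map_inv, ← map_mul, ← map_mul] at h
    rw [← hztz, ← map_pow, ← map_pow, ← map_pow, ← map_mul, ← map_mul, ← map_mul] at h
    exact h

/-- The lift of `EL`. -/
theorem EL_QQ (B : Subgroup G) (hzB : (zt : G) ∈ B) (hBQ : B ≤ QQ) (hne : B ≠ QQ) :
    ∃ v ∈ Over π r, v ∈ XX ∧ (∀ b ∈ B, v * b * v⁻¹ ∈ B) ∧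
      ((∃ q ∈ QQ, v * q * v⁻¹ * q⁻¹ ∉ B) ∨ ∀ q ∈ QQ, q ∉ B → ∃ b ∈ B, v * q * b ∈ Over π r) := by
  have hBN : B ≤ N := fun b hb => (hBQ hb).1
  let B' : Subgroup K := (B.subgroupOf N).map π
  have hB' : ∀ k, k ∈ B' ↔ ∃ b : N, (b : G) ∈ B ∧ π b = k := by
    intro k
    constructor
    · rintro ⟨b, hb, rfl⟩; exact ⟨b, Subgroup.mem_subgroupOf.1 hb, rfl⟩
    · rintro ⟨b, hb, rfl⟩; exact ⟨b, Subgroup.mem_subgroupOf.2 hb, rfl⟩
  have key : ∀ x (hx : x ∈ QQ), π ⟨x, hx.1⟩ ∈ B' → x ∈ B := by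
    intro x hx h
    obtain ⟨b, hb, hbx⟩ := (hB' _).1 h
    have h1 : (b : G) = x := eq_of_mem hπ F H hzt hztz (hBQ hb) hx hbx
    rw [← h1]; exact hb
  have key' : ∀ x (hx : x ∈ N), x ∈ B → π ⟨x, hx⟩ ∈ B' := fun x hx h => (hB' _).2 ⟨⟨x, hx⟩, h, rfl⟩
  obtain ⟨u, hu, huz, hunorm, hu2⟩ := H.EL B' ((hB' z).2 ⟨zt, hzB, hztz⟩) (by
    intro k hk
    obtain ⟨b, hb, rfl⟩ := (hB' k).1 hk
    exact (hBQ hb).2.2) (by
    intro h
    apply hne
    apply le_antisymm hBQ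
    intro x hx
    apply key x hx
    rw [h]
    exact hx.2.2)
  obtain ⟨v, hv2, rfl, hvX, hvR⟩ := exists_root hπ F H hzt hztz hu huz
  have hvQ : ∀ q ∈ QQ, (v : G) * q * (v : G)⁻¹ ∈ QQ := fun q hq =>
    norm_QQ hπ F H hzt hztz v.2 hvX hq
  refine ⟨v, hvR, hvX, ?_, ?_⟩
  · intro b hb
    apply key _ (hvQ b (hBQ hb))
    have h1 := hunorm _ (key' b (hBQ hb).1 hb)
    rw [← map_inv, ← map_mul, ← map_mul] at h1
    exact h1
  · rcases hu2 with ⟨q, hq, hqB⟩ | hu2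
    · left
      obtain ⟨q', -, rfl, hq'⟩ := exists_lift hπ F H hzt hztz hq
      refine ⟨q', hq', fun h => hqB ?_⟩
      have h1 := key' _ (hBN h) h
      rw [← map_inv, ← map_inv, ← map_mul, ← map_mul, ← map_mul]
      exact h1
    · right
      intro q hq hqB
      obtain ⟨b, hb, hub⟩ := hu2 _ hq.2.2 (fun h => hqB (key q hq h))
      obtain ⟨b', hb', rfl⟩ := (hB' b).1 hb
      refine ⟨b', hb', ?_⟩
      have hs : q * b' ∈ QQ := (QQ).mul_mem hq (hBQ hb')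
      have hv1 : (v : G) * v = 1 := congrArg (fun t : N => (t : G)) hv2
      have hvi : (v : G)⁻¹ = v := inv_eq_of_mul_eq_one_right hv1
      have h1 : (v : G) * q * b' * (v * q * b') = (v * (q * b') * (v : G)⁻¹) * (q * b') := by
        rw [hvi]; group
      have h2 : (v : G) * q * b' * (v * q * b') ∈ QQ := by
        rw [h1]; exact (QQ).mul_mem (hvQ _ hs) hs
      have hN : (v : G) * q * b' ∈ N := N.mul_mem (N.mul_mem v.2 hq.1) b'.2
      have h3 : π ⟨(v : G) * q * b', hN⟩ = π v * π ⟨q, hq.1⟩ * π b' := by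
        rw [← map_mul, ← map_mul]; rfl
      refine ⟨hN, ?_, by rw [h3]; exact hub⟩
      apply eq_of_mem hπ F H hzt hztz h2 (QQ).one_mem
      have h4 : π ⟨(v : G) * q * b' * (v * q * b'), h2.1⟩ =
          π ⟨(v : G) * q * b', hN⟩ * π ⟨(v : G) * q * b', hN⟩ := by
        rw [← map_mul]; rfl
      have h5 : π ⟨1, ((QQ).one_mem).1⟩ = 1 := map_one π
      rw [h4, h5, h3]
      obtain ⟨t, ht⟩ := isConj_iff.1 hub
      rw [← ht]
      have : t * r * t⁻¹ * (t * r * t⁻¹) = t * (r * r) * t⁻¹ := by group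
      rw [this, F.r2]; group

variable (fixR : ∀ d ∈ Over π r, ∀ g : G, g * d * g⁻¹ ∈ N → g ∈ N) (hz1 : z ≠ 1)

include fixR hz1

/-- Fusion control in `X = C_G(z~)` for involutions of `Q~`. -/
theorem inv_QQ {q x : G} (hq : q ∈ QQ) (hq2 : q * q = 1) (hx : x ∈ XX)
    (hxq : x * q * x⁻¹ ∈ N) : x * q * x⁻¹ ∈ QQ := by
  have hzm := zt_mem hπ F H hzt hztz
  by_cases hq1 : q = 1
  · rw [hq1, mul_one, mul_inv_cancel]; exact (QQ).one_mem
  by_cases hqz : q = zt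
  · have h1 : x * (zt : G) = zt * x := Subgroup.mem_centralizer_singleton_iff.1 hx
    rw [hqz, h1, mul_inv_cancel_right]; exact hzm
  have h1 : ∀ p ∈ QQ, p * p = 1 → p ≠ 1 → p ≠ zt → p ∈ Over π z := by
    intro p hp hp2 hp1 hpz
    refine ⟨hp.1, hp2, H.Q2A _ hp.2.2 ?_ ?_ ?_⟩
    · rw [← map_mul, ← map_one π]; exact congrArg π (Subtype.ext hp2)
    · intro h
      apply hp1
      apply eq_of_mem hπ F H hzt hztz hp (QQ).one_mem
      exact h.trans (map_one π).symm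
    · intro h
      apply hpz
      apply eq_of_mem hπ F H hzt hztz hp hzm
      exact h.trans hztz.symm
  have hzz : (zt : G) * zt = 1 := congrArg (fun t : N => (t : G)) hzt
  have hqzt : q * zt = zt * q :=
    Subgroup.mem_centralizer_singleton_iff.1 (QQ_le_X hπ F H hzt hztz hq)
  -- `p ∈ Over z`, `x p x⁻¹ ∈ N` gives `x p x⁻¹ ∈ Over z`
  have h2 : ∀ p ∈ QQ, p * p = 1 → p ≠ 1 → p ≠ zt → x * p * x⁻¹ ∈ N → x * p * x⁻¹ ∈ Over π z := by
    intro p hp hp2 hp1 hpz hxp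
    obtain ⟨h, h3, h4⟩ := control' hπ.toCover F fixR hp.1 hp2 hp1 hxp
    have h5 := Over.conj (h1 p hp hp2 hp1 hpz) h4
    have h6 : x * h * p * (x * h)⁻¹ = x * p * x⁻¹ := by
      calc x * h * p * (x * h)⁻¹ = x * (h * p) * h⁻¹ * x⁻¹ := by group
        _ = x * p * x⁻¹ := by rw [h3]; group
    rwa [h6] at h5
  have hxz : x * (zt : G) = zt * x := Subgroup.mem_centralizer_singleton_iff.1 hx
  have h3 := h2 q hq hq2 hq1 hqz hxq
  have h4 : x * (q * zt) * x⁻¹ ∈ Over π z := by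
    apply h2 (q * zt) ((QQ).mul_mem hq hzm)
    · calc q * zt * (q * zt) = q * (zt * q) * zt := by group
        _ = (q * q) * (zt * zt) := by rw [← hqzt]; group
        _ = 1 := by rw [hq2, hzz, one_mul]
    · intro h
      apply hqz
      have : q = q * zt * (zt : G)⁻¹ := by group
      rw [this, h, one_mul]
      exact inv_eq_of_mul_eq_one_right hzz
    · intro h
      apply hq1
      exact mul_eq_right.1 h
    · have : x * (q * zt) * x⁻¹ = x * q * x⁻¹ * zt := by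
        calc x * (q * zt) * x⁻¹ = x * q * (zt * x⁻¹) := by group
          _ = x * q * (x⁻¹ * zt) := by
              rw [show (zt : G) * x⁻¹ = x⁻¹ * zt from by
                calc (zt : G) * x⁻¹ = x⁻¹ * (x * zt) * x⁻¹ := by group
                  _ = x⁻¹ * (zt * x) * x⁻¹ := by rw [hxz]
                  _ = x⁻¹ * zt := by group]
          _ = x * q * x⁻¹ * zt := by group
      rw [this]
      exact N.mul_mem hxq zt.2
  -- T3
  have hyX : x * q * x⁻¹ ∈ XX := (XX).mul_mem ((XX).mul_mem hx (QQ_le_X hπ F H hzt hztz hq))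
    ((XX).inv_mem hx)
  have hyz := over_X hπ F H hzt hztz _ hxq hyX
  have hy2 : x * q * x⁻¹ * (x * q * x⁻¹) = 1 := by
    have : x * q * x⁻¹ * (x * q * x⁻¹) = x * (q * q) * x⁻¹ := by group
    rw [this, hq2]; group
  have e1 : π ⟨x * q * x⁻¹, hxq⟩ * π ⟨x * q * x⁻¹, hxq⟩ = 1 := by
    rw [← map_mul, ← map_one π]
    exact congrArg π (Subtype.ext hy2)
  have e2 : IsConj z (π ⟨x * q * x⁻¹, hxq⟩) := h3.2.2
  have e3 : IsConj z (π ⟨x * q * x⁻¹, hxq⟩ * z) := by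
    have h5 := h4.2.2
    have h6 : π ⟨x * (q * zt) * x⁻¹, h4.1⟩ = π ⟨x * q * x⁻¹, hxq⟩ * z := by
      rw [← hztz, ← map_mul]
      apply congrArg π
      apply Subtype.ext
      show x * (q * zt) * x⁻¹ = x * q * x⁻¹ * zt
      have h7 : (zt : G) * x⁻¹ = x⁻¹ * zt := by
        calc (zt : G) * x⁻¹ = x⁻¹ * (x * zt) * x⁻¹ := by group
          _ = x⁻¹ * (zt * x) * x⁻¹ := by rw [hxz]
          _ = x⁻¹ * zt := by group
      calc x * (q * zt) * x⁻¹ = x * q * (zt * x⁻¹) := by group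
        _ = x * q * (x⁻¹ * zt) := by rw [h7]
        _ = x * q * x⁻¹ * zt := by group
    rwa [h6] at h5
  rcases H.T3 _ e1 hyz e2 e3 with h5 | ⟨u, hu, huz, huy⟩
  · refine ⟨hxq, ?_, h5⟩
    rw [p4, hy2, one_mul]
  · -- both commute with roots of `Y`
    obtain ⟨u', hu'2, rfl, hu'X, hu'R⟩ := exists_root hπ F H hzt hztz hu huz
    obtain ⟨u0, hu0, hu0z, hu0q⟩ := H.F1c _ hq.2.2 (by
      rw [← map_mul, ← map_one π]; exact congrArg π (Subtype.ext hq2))
    obtain ⟨v', hv'2, rfl, hv'X, hv'R⟩ := exists_root hπ F H hzt hztz hu0 hu0z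
    let Y : Subgroup XX := N.subgroupOf XX
    let D : Set XX := {d | (d : G) ∈ Over π r}
    obtain ⟨h, h6, h7⟩ := control Y D (fun d hd => Subtype.ext (Over.sq hd))
      (fun d hd => Subgroup.mem_subgroupOf.2 (Over.mem hd))
      (fun d hd g hg => Subgroup.mem_subgroupOf.2 (fixR _ hd _ (Subgroup.mem_subgroupOf.1 hg)))
      (x := ⟨q, QQ_le_X hπ F H hzt hztz hq⟩) (g := ⟨x, hx⟩) (u := ⟨v', hv'X⟩) (u' := ⟨u', hu'X⟩)
      hv'R hu'R (Subtype.ext (by
        have h8 := hπ.commute (x := ⟨q, hq.1⟩) (y := v') (Subtype.ext hq2) hv'2 hu0q.symm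
        exact congrArg (fun t : N => (t : G)) h8)) (Subtype.ext (by
        have h8 := hπ.commute (x := ⟨x * q * x⁻¹, hxq⟩) (y := u') (Subtype.ext hy2) hu'2 huy.symm
        exact congrArg (fun t : N => (t : G)) h8))
    have h8 : (h : G) * q = q * h := congrArg Subtype.val h6
    have h9 : x * (h : G) ∈ N := Subgroup.mem_subgroupOf.1 h7
    have h10 := norm_QQ hπ F H hzt hztz h9 ((XX).mul_mem hx h.2) hq
    have h11 : x * (h : G) * q * (x * h)⁻¹ = x * q * x⁻¹ := by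
      calc x * (h : G) * q * (x * h)⁻¹ = x * (h * q) * (h : G)⁻¹ * x⁻¹ := by group
        _ = x * q * x⁻¹ := by rw [h8]; group
    rwa [h11] at h10

/-- The normaliser of `Q~` in `X`. -/
theorem NQ_QQ (hr1 : r ≠ 1) (hzr : ¬ IsConj z r) {n : G} (hnX : n ∈ XX)
    (hn : ∀ q ∈ QQ, n * q * n⁻¹ ∈ QQ) : n ∈ N := by
  classical
  have hzm := zt_mem hπ F H hzt hztz
  have hQX := QQ_le_X hπ F H hzt hztz
  have hzz : (zt : G) * zt = 1 := congrArg (fun t : N => (t : G)) hzt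
  have hzt1 : (zt : G) ≠ 1 := by
    intro h
    apply hz1
    rw [← hztz, ← map_one π]
    exact congrArg π (Subtype.ext h)
  let X := XX
  let Y : Subgroup X := N.subgroupOf X
  let Q' : Subgroup X := (QQ).subgroupOf X
  let D : Set X := {d | (d : G) ∈ Over π r}
  have hYm : ∀ x : X, x ∈ Y ↔ (x : G) ∈ N := fun x => Subgroup.mem_subgroupOf
  have hQm : ∀ x : X, x ∈ Q' ↔ (x : G) ∈ QQ := fun x => Subgroup.mem_subgroupOf
  let zX : X := ⟨zt, hQX hzm⟩
  have hXc : ∀ x : X, x * zX = zX * x := fun x =>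
    Subtype.ext (Subgroup.mem_centralizer_singleton_iff.1 x.2)
  -- the four-group
  obtain ⟨v0, w0, hv0, hw0, hvw0, hc0, hvz0, hwz0⟩ := H.four
  obtain ⟨v, hv2, rfl, hvX, hvR⟩ := exists_root hπ F H hzt hztz hv0 hvz0
  obtain ⟨w, hw2, rfl, hwX, hwR⟩ := exists_root hπ F H hzt hztz hw0 hwz0
  have hvwc : v * w = w * v := hπ.commute hv2 hw2 hc0
  have hvwR : (v : G) * w ∈ Over π r := by
    refine ⟨(v * w).2, ?_, by
      have : π ⟨(v : G) * w, (v * w).2⟩ = π v * π w := by rw [← map_mul]; rfl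
      rw [this]; exact hvw0⟩
    have : v * w * (v * w) = 1 := by
      calc v * w * (v * w) = v * (w * v) * w := by group
        _ = v * (v * w) * w := by rw [hvwc]
        _ = (v * v) * (w * w) := by group
        _ = 1 := by rw [hv2, hw2, one_mul]
    exact congrArg (fun t : N => (t : G)) this
  have hvQ : ∃ q ∈ Q', (⟨v, hvX⟩ : X) * q ≠ q * ⟨v, hvX⟩ := by
    by_contra hno
    push Not at hno
    have h1 : ∀ q ∈ Q, π v * q = q * π v := by
      intro q hq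
      obtain ⟨x, -, rfl, hx⟩ := exists_lift hπ F H hzt hztz hq
      have h2 := hno ⟨x, hQX hx⟩ ((hQm _).2 hx)
      have h3 : v * x = x * v := Subtype.ext (congrArg (fun t : X => (t : G)) h2)
      rw [← map_mul, h3, map_mul]
    rcases H.CQ _ h1 with h | h
    · exact ne_one_of_root (r := r) hπ F H hzt hztz hr1 hv0 h
    · rw [h] at hv0; exact hzr hv0.symm
  -- the centraliser of `Q~`
  have hCY : Nat.card (Subgroup.centralizer (Q' : Set X) ⊓ Y : Subgroup X) =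
      2 * Nat.card π.ker := by
    let A : Subgroup X := ((π.ker).map N.subtype).subgroupOf X
    have hkX : (π.ker).map N.subtype ≤ X := by
      rintro _ ⟨k, hk, rfl⟩
      apply mem_X hπ F H hzt hztz k
      have hk' : π k = 1 := hk
      rw [hk', one_mul, mul_one]
    have hAm : ∀ x : X, x ∈ A ↔ ∃ k : N, π k = 1 ∧ (k : G) = x := by
      intro x
      rw [Subgroup.mem_subgroupOf]
      constructor
      · rintro ⟨k, hk, h⟩; exact ⟨k, hk, h⟩
      · rintro ⟨k, hk, h⟩; exact ⟨k, hk, h⟩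
    have hA : Nat.card A = Nat.card π.ker := by
      rw [Nat.card_congr (Subgroup.subgroupOfEquivOfLe hkX).toEquiv]
      exact (Nat.card_congr ((π.ker).equivMapOfInjective N.subtype
        N.subtype_injective).toEquiv).symm
    rw [← hA]
    refine CloNQ.card_two (v := zX) ?_ ?_ ?_ ?_
    · intro x hx
      obtain ⟨k, hk, hkx⟩ := (hAm x).1 hx
      refine ⟨?_, (hYm x).2 (by rw [← hkx]; exact k.2)⟩
      refine Subgroup.mem_centralizer_iff.2 ?_
      intro q hq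
      obtain ⟨hqN, hq4, -⟩ := (hQm q).1 hq
      have h1 := hπ.comm4 k hk ⟨q, hqN⟩ (Subtype.ext hq4)
      apply Subtype.ext
      show (q : G) * x = x * q
      rw [← hkx]
      exact (congrArg (fun t : N => (t : G)) h1).symm
    · refine ⟨?_, (hYm zX).2 zt.2⟩
      refine Subgroup.mem_centralizer_iff.2 ?_
      intro q _
      exact hXc q
    · intro h
      obtain ⟨k, hk, hkz⟩ := (hAm zX).1 h
      have h1 : k = zt := Subtype.ext hkz
      rw [h1, hztz] at hk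
      exact hz1 hk
    · rintro b ⟨hb, hbY⟩
      replace hb := Subgroup.mem_centralizer_iff.1 hb
      have hbN : (b : G) ∈ N := (hYm b).1 hbY
      have h1 : ∀ q ∈ Q, π ⟨b, hbN⟩ * q = q * π ⟨b, hbN⟩ := by
        intro q hq
        obtain ⟨x, -, rfl, hx⟩ := exists_lift hπ F H hzt hztz hq
        have h2 := hb ⟨x, hQX hx⟩ ((hQm _).2 hx)
        have h3 : x * ⟨b, hbN⟩ = ⟨b, hbN⟩ * x := Subtype.ext (congrArg (fun t : X => (t : G)) h2)
        rw [← map_mul, ← h3, map_mul]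
      rcases H.CQ _ h1 with h | h
      · left
        exact (hAm b).2 ⟨⟨b, hbN⟩, h, rfl⟩
      · right
        refine (hAm _).2 ⟨⟨b, hbN⟩ * zt, ?_, rfl⟩
        rw [map_mul, h, hztz, F.z2]
  -- the pair of roots
  obtain ⟨a, ha, b, hb, haz, hbz, hab, hba, hbaz⟩ := H.ab
  obtain ⟨a, -, rfl, haQ⟩ := exists_lift hπ F H hzt hztz ha
  obtain ⟨b, -, rfl, hbQ⟩ := exists_lift hπ F H hzt hztz hb
  have hsqz : ∀ t : N, (t : G) ∈ QQ → π t * π t = z → (t : G) * t = zt := by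
    intro t ht h
    rcases sq_QQ hπ F H hzt hztz ht with h1 | h1
    · exfalso
      apply hz1
      rw [← h, ← map_mul, ← map_one π]
      exact congrArg π (Subtype.ext h1)
    · exact h1
  have haa := hsqz a haQ haz
  have hbb := hsqz b hbQ hbz
  have habG : (a : G) * b = b * a := (comm_iff hπ F H hzt hztz haQ hbQ).2 hab
  have hne1 : (b : G) ≠ a := fun h => hba (congrArg π (Subtype.ext h))
  have hne2 : (b : G) ≠ a * zt := by
    intro h
    apply hbaz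
    rw [← hztz, ← map_mul]
    exact congrArg π (Subtype.ext h)
  have hnz : n * (zt : G) = zt * n := Subgroup.mem_centralizer_singleton_iff.1 hnX
  have hnzt : n * (zt : G) * n⁻¹ = zt := by rw [hnz, mul_inv_cancel_right]
  obtain ⟨u, huR, huX, hu⟩ := R2_QQ hπ F H hzt hztz haQ hbQ haa hbb habG hne1 hne2
  obtain ⟨u', hu'R, hu'X, hu'⟩ := R2_QQ hπ F H hzt hztz (hn a haQ) (hn b hbQ)
    (by
      have : n * a * n⁻¹ * (n * a * n⁻¹) = n * (a * a) * n⁻¹ := by group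
      rw [this, haa, hnzt])
    (by
      have : n * b * n⁻¹ * (n * b * n⁻¹) = n * (b * b) * n⁻¹ := by group
      rw [this, hbb, hnzt])
    (by
      have e1 : n * a * n⁻¹ * (n * b * n⁻¹) = n * (a * b) * n⁻¹ := by group
      have e2 : n * b * n⁻¹ * (n * a * n⁻¹) = n * (b * a) * n⁻¹ := by group
      rw [e1, e2, habG])
    (by
      intro h
      exact hne1 (mul_left_cancel (mul_right_cancel h)))
    (by
      intro h
      apply hne2
      have e1 : n * b * n⁻¹ = n * (a * zt) * n⁻¹ := by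
        rw [h]
        have : n * (a * zt) * n⁻¹ = n * a * n⁻¹ * (n * zt * n⁻¹) := by group
        rw [this, hnzt]
      exact mul_left_cancel (mul_right_cancel e1))
  have hninv : ∀ q ∈ QQ, n⁻¹ * q * n ∈ QQ := conj_inv_mem hn
  have hpow : ∀ e : ℕ, (zt : G) ^ e = 1 ∨ (zt : G) ^ e = zt := by
    intro e
    rcases Nat.even_or_odd' e with ⟨k, hk | hk⟩
    · left; rw [hk, pow_mul, pow_two, hzz, one_pow]
    · right; rw [hk, pow_succ, pow_mul, pow_two, hzz, one_pow, one_mul]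
  have hact : ∀ x ∈ QQ, n * u * n⁻¹ * x * (n * u * n⁻¹)⁻¹ = u' * x * u'⁻¹ ∨
      n * u * n⁻¹ * x * (n * u * n⁻¹)⁻¹ = u' * x * u'⁻¹ * zt := by
    intro x hx
    obtain ⟨i, j, e, hi, hj, hi', hj', h1⟩ := hu _ (hninv x hx)
    obtain ⟨i', j', e', hi2, hj2, hi2', hj2', h2⟩ := hu' x hx
    have hcomm : ∀ t : G, (x * (n * t * n⁻¹) = n * t * n⁻¹ * x ↔
        n⁻¹ * x * n * t = t * (n⁻¹ * x * n)) := by
      intro t
      constructor
      · intro h
        calc n⁻¹ * x * n * t = n⁻¹ * (x * (n * t * n⁻¹)) * n := by group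
          _ = n⁻¹ * (n * t * n⁻¹ * x) * n := by rw [h]
          _ = t * (n⁻¹ * x * n) := by group
      · intro h
        calc x * (n * t * n⁻¹) = n * (n⁻¹ * x * n * t) * n⁻¹ := by group
          _ = n * (t * (n⁻¹ * x * n)) * n⁻¹ := by rw [h]
          _ = n * t * n⁻¹ * x := by group
    have hii : i = i' := by
      have h3 : i = 0 ↔ i' = 0 := by rw [hi', hi2', hcomm]
      omega
    have hjj : j = j' := by
      have h3 : j = 0 ↔ j' = 0 := by rw [hj', hj2', hcomm]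
      omega
    subst hii hjj
    have h3 : n * u * n⁻¹ * x * (n * u * n⁻¹)⁻¹ =
        x * (n * a * n⁻¹) ^ i * (n * b * n⁻¹) ^ j * (zt : G) ^ e := by
      have h4 : n * u * n⁻¹ * x * (n * u * n⁻¹)⁻¹ = n * (u * (n⁻¹ * x * n) * u⁻¹) * n⁻¹ := by group
      have h5 : n * (zt : G) ^ e * n⁻¹ = (zt : G) ^ e := by rw [← conj_pow, hnzt]
      rw [h4, h1, conj_pow, conj_pow]
      calc n * (n⁻¹ * x * n * (a : G) ^ i * (b : G) ^ j * (zt : G) ^ e) * n⁻¹
          = x * (n * (a : G) ^ i * n⁻¹) * (n * (b : G) ^ j * n⁻¹) * (n * (zt : G) ^ e * n⁻¹) := by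
            group
        _ = _ := by rw [h5]
    have h6 : u' * x * u'⁻¹ * (zt : G) ^ e' =
        x * (n * a * n⁻¹) ^ i * (n * b * n⁻¹) ^ j := by
      rw [h2, mul_assoc _ ((zt : G) ^ e'), ← pow_add, ← two_mul, pow_mul, pow_two, hzz, one_pow,
        mul_one]
    rw [h3, ← h6, mul_assoc, ← pow_add]
    rcases hpow (e' + e) with h | h
    · left; rw [h, mul_one]
    · right; rw [h]
  have hres := CloNQ.nq Y Q' zX D (Subtype.ext hzz) (fun h => hzt1 (congrArg Subtype.val h)) hXc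
    (fun x hx => (hYm x).2 ((hQm x).1 hx).1) ((hQm zX).2 hzm)
    (by
      intro p hp q hq
      rcases comm_QQ hπ F H hzt hztz ((hQm p).1 hp) ((hQm q).1 hq) with h | h
      · exact Or.inl (Subtype.ext h)
      · exact Or.inr (Subtype.ext h))
    (by
      intro q hq hq1 hqz
      have hq' := (hQm q).1 hq
      obtain ⟨p, hp, hpq⟩ := H.Qext _ hq'.2.2 (by
        intro h
        apply hq1
        exact Subtype.ext (eq_of_mem hπ F H hzt hztz hq' (QQ).one_mem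
          (h.trans (map_one π).symm))) (by
        intro h
        apply hqz
        exact Subtype.ext (eq_of_mem hπ F H hzt hztz hq' hzm (h.trans hztz.symm)))
      obtain ⟨p', -, rfl, hp'⟩ := exists_lift hπ F H hzt hztz hp
      refine ⟨⟨p', hQX hp'⟩, (hQm _).2 hp', fun h => hpq ?_⟩
      exact (comm_iff hπ F H hzt hztz hp' hq').1 (congrArg Subtype.val h))
    (by
      intro y hy q hq
      exact (hQm _).2 (norm_QQ hπ F H hzt hztz ((hYm y).1 hy) y.2 ((hQm q).1 hq)))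
    (fun d hd => (hYm d).2 (Over.mem hd)) (fun d hd => Subtype.ext (Over.sq hd))
    (fun d hd g hg => (hYm g).2 (fixR _ hd _ ((hYm _).1 hg)))
    ⟨v, hvX⟩ ⟨w, hwX⟩ hvR hwR hvwR (Subtype.ext (congrArg (fun t : N => (t : G)) hvwc)) hvQ
    hπ.odd hCY ⟨n, hnX⟩ (u := ⟨u, huX⟩) (u' := ⟨u', hu'X⟩) huR hu'R
    (by
      intro x hx
      rcases hact x ((hQm x).1 hx) with h | h
      · left
        apply Subtype.ext
        show u'⁻¹ * (n * u * n⁻¹) * (x : G) = x * (u'⁻¹ * (n * u * n⁻¹))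
        calc u'⁻¹ * (n * u * n⁻¹) * (x : G)
            = u'⁻¹ * (n * u * n⁻¹ * x * (n * u * n⁻¹)⁻¹) * (n * u * n⁻¹) := by group
          _ = u'⁻¹ * (u' * x * u'⁻¹) * (n * u * n⁻¹) := by rw [h]
          _ = x * (u'⁻¹ * (n * u * n⁻¹)) := by group
      · right
        apply Subtype.ext
        show u'⁻¹ * (n * u * n⁻¹) * (x : G) = zt * (x * (u'⁻¹ * (n * u * n⁻¹)))
        have hu'z : u' * (zt : G) = zt * u' := Subgroup.mem_centralizer_singleton_iff.1 hu'X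
        have hxz : (x : G) * (zt : G) = zt * x := Subgroup.mem_centralizer_singleton_iff.1 x.2
        have hiz : u'⁻¹ * (zt : G) = zt * u'⁻¹ := by
          calc u'⁻¹ * (zt : G) = u'⁻¹ * (zt * u') * u'⁻¹ := by group
            _ = u'⁻¹ * (u' * zt) * u'⁻¹ := by rw [hu'z]
            _ = zt * u'⁻¹ := by group
        calc u'⁻¹ * (n * u * n⁻¹) * (x : G)
            = u'⁻¹ * (n * u * n⁻¹ * x * (n * u * n⁻¹)⁻¹) * (n * u * n⁻¹) := by group
          _ = u'⁻¹ * (u' * x * u'⁻¹ * zt) * (n * u * n⁻¹) := by rw [h]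
          _ = x * (u'⁻¹ * zt) * (n * u * n⁻¹) := by group
          _ = (x * zt) * u'⁻¹ * (n * u * n⁻¹) := by rw [hiz]; group
          _ = zt * (x * (u'⁻¹ * (n * u * n⁻¹))) := by rw [hxz]; group)
  exact (hYm _).1 hres

/-- **The data of `RootClosing` for `X = C_G(z~)`.** -/
theorem data : Cfsg.Agent.StdG24.RootClosing.Data (N.subgroupOf XX) ((QQ).subgroupOf XX)
    (⟨(zt : G), QQ_le_X hπ F H hzt hztz (zt_mem hπ F H hzt hztz)⟩ : XX)
    {d | (d : G) ∈ Over π r} where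
  QY := fun x hx => Subgroup.mem_subgroupOf.2 (Subgroup.mem_subgroupOf.1 hx).1
  norm := fun y hy q hq => Subgroup.mem_subgroupOf.2
    (norm_QQ hπ F H hzt hztz (Subgroup.mem_subgroupOf.1 hy) y.2 (Subgroup.mem_subgroupOf.1 hq))
  zc := fun x => Subtype.ext (Subgroup.mem_centralizer_singleton_iff.1 x.2)
  zQ := Subgroup.mem_subgroupOf.2 (zt_mem hπ F H hzt hztz)
  z2 := Subtype.ext (congrArg (fun t : N => (t : G)) hzt)
  z1 := by
    intro h
    apply hz1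
    rw [← hztz, ← map_one π]
    exact congrArg π (Subtype.ext (congrArg (fun t : XX => (t : G)) h))
  sq := by
    intro q hq
    rcases sq_QQ hπ F H hzt hztz (Subgroup.mem_subgroupOf.1 hq) with h | h
    · exact Or.inl (Subtype.ext h)
    · exact Or.inr (Subtype.ext h)
  comm := by
    intro p hp q hq
    rcases comm_QQ hπ F H hzt hztz (Subgroup.mem_subgroupOf.1 hp)
      (Subgroup.mem_subgroupOf.1 hq) with h | h
    · exact Or.inl (Subtype.ext h)
    · exact Or.inr (Subtype.ext h)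
  card := by
    rw [Nat.card_congr (Subgroup.subgroupOfEquivOfLe (QQ_le_X hπ F H hzt hztz)).toEquiv]
    exact card_QQ hπ F H hzt hztz
  ext := by
    intro q hq hq1 hqz
    have hq' : (q : G) ∈ QQ := Subgroup.mem_subgroupOf.1 hq
    obtain ⟨p, hp, hpq⟩ := H.Qext _ hq'.2.2 (by
      intro h
      apply hq1
      exact Subtype.ext (eq_of_mem hπ F H hzt hztz hq' (QQ).one_mem
        (h.trans (map_one π).symm))) (by
      intro h
      apply hqz
      exact Subtype.ext (eq_of_mem hπ F H hzt hztz hq' (zt_mem hπ F H hzt hztz)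
        (h.trans hztz.symm)))
    obtain ⟨p', -, rfl, hp'⟩ := exists_lift hπ F H hzt hztz hp
    refine ⟨⟨p', QQ_le_X hπ F H hzt hztz hp'⟩, Subgroup.mem_subgroupOf.2 hp', fun h => hpq ?_⟩
    exact (comm_iff hπ F H hzt hztz hp' hq').1 (congrArg Subtype.val h)
  DY := fun d hd => Subgroup.mem_subgroupOf.2 (Over.mem hd)
  Dc := fun y hy d hd => Over.conj hd (Subgroup.mem_subgroupOf.1 hy)
  D2 := fun d hd => Subtype.ext (Over.sq hd)
  DQ := fun d hd h => H.DQ _ (Subgroup.mem_subgroupOf.1 h).2.2 hd.2.2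
  fix := fun d hd x hx => Subgroup.mem_subgroupOf.2 (fixR _ hd _ (Subgroup.mem_subgroupOf.1 hx))
  inv := fun q hq hq2 x hx => Subgroup.mem_subgroupOf.2
    (inv_QQ hπ F H hzt hztz fixR hz1 (Subgroup.mem_subgroupOf.1 hq) (congrArg Subtype.val hq2) x.2
      (Subgroup.mem_subgroupOf.1 hx))
  NQ := fun x hx => Subgroup.mem_subgroupOf.2
    (NQ_QQ hπ F H hzt hztz fixR hz1 F.r1 F.zr x.2 (fun q hq =>
      Subgroup.mem_subgroupOf.1 (hx ⟨q, QQ_le_X hπ F H hzt hztz hq⟩ (Subgroup.mem_subgroupOf.2 hq))))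
  EL := by
    intro B hzB hBQ hne
    obtain ⟨v, hvR, hvX, h1, h2⟩ := EL_QQ hπ F H hzt hztz (B.map (XX).subtype)
      ⟨_, hzB, rfl⟩ (by
        rintro _ ⟨b, hb, rfl⟩
        exact Subgroup.mem_subgroupOf.1 (hBQ hb)) (by
        intro h
        apply hne
        apply le_antisymm hBQ
        intro x hx
        have h3 : (x : G) ∈ B.map (XX).subtype := by
          rw [h]; exact Subgroup.mem_subgroupOf.1 hx
        obtain ⟨y, hy, hyx⟩ := h3
        have h4 : y = x := Subtype.ext hyx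
        rwa [← h4])
    have hmap : ∀ x : XX, (x : G) ∈ B.map (XX).subtype → x ∈ B := by
      rintro x ⟨y, hy, hyx⟩
      have h4 : y = x := Subtype.ext hyx
      rwa [← h4]
    refine ⟨⟨v, hvX⟩, hvR, fun b hb => hmap _ (h1 b ⟨b, hb, rfl⟩), ?_⟩
    rcases h2 with ⟨q, hq, hqB⟩ | h2
    · left
      refine ⟨⟨q, QQ_le_X hπ F H hzt hztz hq⟩, Subgroup.mem_subgroupOf.2 hq, fun h => hqB ?_⟩
      exact ⟨_, h, rfl⟩
    · right
      intro q hq hqB
      obtain ⟨b, ⟨b', hb', rfl⟩, hb⟩ := h2 q (Subgroup.mem_subgroupOf.1 hq)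
        (fun h => hqB (hmap q h))
      exact ⟨b', hb', hb⟩

/-- `C_G(z~) ≤ N`. -/
theorem centralizer_le : ∀ g : G, g * zt = zt * g → g ∈ N := by
  intro g hg
  have h := (data hπ F H hzt hztz fixR hz1).eq_top
  have h1 : (⟨g, Subgroup.mem_centralizer_singleton_iff.2 hg⟩ : XX) ∈ N.subgroupOf XX := by
    rw [h]; exact Subgroup.mem_top _
  exact Subgroup.mem_subgroupOf.1 h1

end Data

/-- **The closing theorem, from facts in `K`.** -/
theorem eq_top [Finite G] {π : N →* K} (hπ : Cover4 π) {r z c : K} {E : Subgroup K}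
    (F : Facts K r z c E) {Q : Subgroup K} (H : QFacts K r z Q) (hz1 : z ≠ 1) {m : ℕ}
    (hz : m ∣ Nat.card (Subgroup.centralizer ({z} : Set K)))
    (hc : m ∣ Nat.card (Subgroup.centralizer ({c} : Set K)))
    (g1 : ∀ v ∈ Over π r, ∀ g : G, g * v = v * g → g ∈ N)
    (g2 : ∀ v ∈ Over π r, ¬ m ∣ Nat.card (Subgroup.centralizer ({v} : Set G))) : N = ⊤ := by
  refine CloFus.eq_top hπ.toCover F hz1 hz hc g1 g2 ?_
  intro x hx g hg
  obtain ⟨zt, hzt, hztz⟩ := hπ.lift F.z2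
  have h1 := centralizer_le hπ F H hzt hztz (fun d hd g hg =>
    fix_root hπ.toCover F hz hc g1 g2 hd hg) hz1
  obtain ⟨n, hn, hnx⟩ := isConj_over hπ.toCover (x := (zt : G))
    ⟨zt.2, congrArg (fun t : N => (t : G)) hzt, by
      show IsConj z (π zt)
      rw [hztz]⟩ hx
  have h2 : n⁻¹ * g * n ∈ N := by
    apply h1
    have h3 : n⁻¹ * g * n * zt = n⁻¹ * (g * (n * zt * n⁻¹)) * n := by group
    rw [h3, hnx, hg, ← hnx]; group
  have h3 : g = n * (n⁻¹ * g * n) * n⁻¹ := by group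
  rw [h3]
  exact N.mul_mem (N.mul_mem hn h2) (N.inv_mem hn)

end Cfsg.Agent.StdG24.CloBridge
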