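import Cfsg.Agent.StdG24.CloFus

/-!
# A cover from a central product (S1767, closing)

`D P ≤ G`, `D` of odd order, `[D, P] = 1`, `θ : P →* K` surjective with kernel `P ∩ D`: then
`D ⊔ P` maps onto `K` with kernel `D`.
-/

set_option autoImplicit false

namespace Cfsg.Agent.StdG24.CloCover

open CloFus

variable {G K : Type*} [Group G] [Group K] {D P : Subgroup G}

/-- The product map `D × P →* D ⊔ P`. -/
def prodHom (hc : ∀ d ∈ D, ∀ p ∈ P, d * p = p * d) : D × P →* (D ⊔ P : Subgroup G) where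
  toFun x := ⟨(x.1 : G) * x.2, Subgroup.mul_mem_sup x.1.2 x.2.2⟩
  map_one' := by
    apply Subtype.ext
    show ((1 : D) : G) * ((1 : P) : G) = 1
    rw [Subgroup.coe_one, Subgroup.coe_one, mul_one]
  map_mul' x y := by
    apply Subtype.ext
    show ((x.1 : G) * y.1) * ((x.2 : G) * y.2) = (x.1 : G) * x.2 * ((y.1 : G) * y.2)
    have h := hc y.1 y.1.2 x.2 x.2.2
    calc ((x.1 : G) * y.1) * ((x.2 : G) * y.2) = x.1 * ((y.1 : G) * x.2) * y.2 := by group
      _ = x.1 * ((x.2 : G) * y.1) * y.2 := by rw [h]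
      _ = (x.1 : G) * x.2 * ((y.1 : G) * y.2) := by group

theorem coe_prodHom (hc : ∀ d ∈ D, ∀ p ∈ P, d * p = p * d) (x : D × P) :
    ((prodHom hc x : (D ⊔ P : Subgroup G)) : G) = (x.1 : G) * x.2 := rfl

theorem prodHom_surjective (hc : ∀ d ∈ D, ∀ p ∈ P, d * p = p * d) :
    Function.Surjective (prodHom hc) := by
  have h : (D ⊔ P : Subgroup G) ≤ (prodHom hc).range.map (D ⊔ P : Subgroup G).subtype := by
    rw [sup_le_iff]
    constructor
    · intro d hd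
      refine ⟨prodHom hc (⟨d, hd⟩, 1), ⟨_, rfl⟩, ?_⟩
      show d * ((1 : P) : G) = d
      rw [Subgroup.coe_one, mul_one]
    · intro p hp
      refine ⟨prodHom hc (1, ⟨p, hp⟩), ⟨_, rfl⟩, ?_⟩
      show ((1 : D) : G) * p = p
      rw [Subgroup.coe_one, one_mul]
  rintro ⟨x, hx⟩
  obtain ⟨y, ⟨z, rfl⟩, hy⟩ := h hx
  exact ⟨z, Subtype.ext hy⟩

/-- An element of `D ⊔ P` of order dividing 4 lies in `P`. -/
theorem mem_of_pow_four (hc : ∀ d ∈ D, ∀ p ∈ P, d * p = p * d) (hD : Odd (Nat.card D)) {x : G}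
    (hx : x ∈ D ⊔ P) (h4 : x ^ 4 = 1) : x ∈ P := by
  obtain ⟨⟨d, p⟩, hdp⟩ := prodHom_surjective hc ⟨x, hx⟩
  have h1 : (d : G) * p = x := congrArg Subtype.val hdp
  obtain ⟨m, hm⟩ := hD
  have hd : (d : G) ^ Nat.card D = 1 := by
    have h2 : d ^ Nat.card D = 1 := pow_card_eq_one'
    exact congrArg Subtype.val h2
  have hcom : Commute (d : G) (p : G) := hc d d.2 p p.2
  have h3 : x ^ (Nat.card D * Nat.card D) = (p : G) ^ (Nat.card D * Nat.card D) := by
    rw [← h1, hcom.mul_pow, pow_mul, hd, one_pow, one_mul]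
  have h5 : x ^ (Nat.card D * Nat.card D) = x := by
    rw [hm, show (2 * m + 1) * (2 * m + 1) = 4 * (m * m + m) + 1 by ring, pow_succ, pow_mul, h4,
      one_pow, one_mul]
  rw [← h5, h3]
  exact P.pow_mem p.2 _

theorem pow_four_of_sq {X : Type*} [Group X] {x : X} (h : x * x = 1) : x ^ 4 = 1 := by
  have h1 : x ^ 2 = 1 := by rw [pow_two, h]
  rw [show (4 : ℕ) = 2 * 2 by norm_num, pow_mul, h1, one_pow]

theorem exists_cover [Finite G] (hc : ∀ d ∈ D, ∀ p ∈ P, d * p = p * d) (hD : Odd (Nat.card D))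
    (θ : P →* K) (hθ : Function.Surjective θ) (hker : ∀ p : P, θ p = 1 ↔ (p : G) ∈ D) :
    ∃ π : (D ⊔ P : Subgroup G) →* K, Cover π ∧
      (∀ k, π k = 1 → ∀ x, x ^ 4 = 1 → k * x = x * k) ∧
      (∀ k, π k = 1 ↔ (k : G) ∈ D) ∧
      (∀ (p : G) (h : p ∈ P), π ⟨p, Subgroup.mem_sup_right h⟩ = θ ⟨p, h⟩) ∧
      ∀ k : K, ∀ x : G, x ∈ Over π k ↔ ∃ h : x ∈ P, x * x = 1 ∧ IsConj k (θ ⟨x, h⟩) := by
  let f := prodHom hc
  have hf : Function.Surjective f := prodHom_surjective hc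
  let g : D × P →* K := θ.comp (MonoidHom.snd D P)
  have hfg : f.ker ≤ g.ker := by
    rintro ⟨d, p⟩ h
    have h1 : (d : G) * p = 1 := congrArg Subtype.val (MonoidHom.mem_ker.1 h)
    rw [MonoidHom.mem_ker]
    show θ p = 1
    rw [hker, show (p : G) = (d : G)⁻¹ from eq_inv_of_mul_eq_one_right h1]
    exact D.inv_mem d.2
  let π : (D ⊔ P : Subgroup G) →* K := f.liftOfSurjective hf ⟨g, hfg⟩
  have hπ : ∀ x : D × P, π (f x) = θ x.2 := fun x =>
    MonoidHom.liftOfRightInverse_comp_apply f _ (Function.rightInverse_surjInv hf) ⟨g, hfg⟩ x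
  have hk : ∀ k, π k = 1 ↔ (k : G) ∈ D := by
    intro k
    obtain ⟨⟨d, p⟩, rfl⟩ := hf k
    rw [hπ, hker]
    show (p : G) ∈ D ↔ (d : G) * p ∈ D
    rw [D.mul_mem_cancel_left d.2]
  have hp : ∀ (p : G) (h : p ∈ P), π ⟨p, Subgroup.mem_sup_right h⟩ = θ ⟨p, h⟩ := by
    intro p h
    have h1 : (⟨p, Subgroup.mem_sup_right h⟩ : (D ⊔ P : Subgroup G)) = f (1, ⟨p, h⟩) := by
      apply Subtype.ext
      show p = ((1 : D) : G) * p
      rw [Subgroup.coe_one, one_mul]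
    rw [h1, hπ]
  have h4 : ∀ k, π k = 1 → ∀ x, x ^ 4 = 1 → k * x = x * k := by
    intro k hk1 x hx
    apply Subtype.ext
    have h5 : (x : G) ∈ P := mem_of_pow_four hc hD x.2 (congrArg Subtype.val hx)
    exact hc k ((hk k).1 hk1) x h5
  refine ⟨π, ⟨?_, ?_, ?_⟩, h4, hk, hp, ?_⟩
  · intro k
    obtain ⟨p, rfl⟩ := hθ k
    exact ⟨_, hp p p.2⟩
  · have h5 : Nat.card π.ker = Nat.card D :=
      Nat.card_congr
        { toFun := fun x => ⟨((x : (D ⊔ P : Subgroup G)) : G), (hk x).1 x.2⟩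
          invFun := fun x => ⟨⟨x, Subgroup.mem_sup_left x.2⟩, (hk _).2 x.2⟩
          left_inv := fun x => rfl
          right_inv := fun x => rfl }
    rw [h5]
    exact hD
  · intro k hk1 x hx
    apply h4 k hk1
    exact pow_four_of_sq hx
  · intro k x
    constructor
    · rintro ⟨h, h2, h3⟩
      have h5 : x ∈ P := mem_of_pow_four hc hD h (pow_four_of_sq h2)
      refine ⟨h5, h2, ?_⟩
      rw [← hp x h5]
      exact h3
    · rintro ⟨h, h2, h3⟩
      refine ⟨Subgroup.mem_sup_right h, h2, ?_⟩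
      rw [hp x h]
      exact h3

end Cfsg.Agent.StdG24.CloCover
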