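import Cfsg.Agent.StdG24.CloFus
import Cfsg.Agent.CoOneType.CoOneE
import Cfsg.Agent.CoOneType.ClosingFacts
import Cfsg.Agent.CoOneType.InvMain
import Cfsg.Agent.CoOneType.InvBridge
import Cfsg.Agent.S0361

/-!
# The closing (S1767): facts in `Co1` and the last step

`Over1 θ k` : the elements of square 1 of the domain over the class of `k`.

`eq_top` : `G` finite, `N ≤ G`, `π : N →* Co1` surjective with kernel of odd order commuting with
the elements of square 1 of `N`; `C_G(v) ≤ N` and `2^17 ∤ |C_G(v)|` for `v ∈ N` of square 1 over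
the class of `b0` (square `-1` in `Co0`) and `C_G(x) ≤ N` for `x ∈ N` of square 1 over the class of
the sign changes on octads. Then `N = G`.
-/

set_option autoImplicit false
open Cfsg

namespace Cfsg.Agent.StdG24.CloEnd

open Cfsg.Spor Cfsg.Agent.SporadicA.Co0Mono Cfsg.Agent.SporadicA.Co1Simple
open Cfsg.Agent.SporadicA.GolayBase Cfsg.Agent.SporadicA.GolayPerm
open Cfsg.Agent.SporadicStructure.M24El Cfsg.Agent.J4.M24InvolData
open Cfsg.Agent.CoOneType.SignFacts Cfsg.Agent.CoOneType.CoOneE
open Cfsg.Agent.CoOneType.ClosingFacts Cfsg.Agent.CoOneType.Thirteen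
open Cfsg.Agent.StdG24.CloFus
open scoped Pointwise

theorem a1 : A1 := Cfsg.Agent.CoOneType.InvMain.conj_sign_of_sq_one

theorem a1' : A1' := Cfsg.Agent.CoOneType.InvBridge.conj_b0

/-! ### Words commuting with `b0` -/

theorem wt_c0w : wt c0w = 12 := by
  show (support₂ (word c0)).card = 12
  rw [support₂_word, card_fin]
  decide +kernel

/-- The mask of an octad fixed by `P2`. -/
def o0 : ℕ := 10558

theorem o0_mem : word o0 ∈ golayCode := by
  rw [mem_golayCode_iff, maskW_word (by norm_num [o0])]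
  decide +kernel

/-- An octad fixed by `P2`. -/
def o0w : golayCode := ⟨word o0, o0_mem⟩

theorem wt_o0w : wt o0w = 8 := by
  show (support₂ (word o0)).card = 8
  rw [support₂_word, card_fin]
  decide +kernel

theorem perm_o0w : wordPerm (el P2) o0w = o0w := by
  have h1 : pimg P2 o0 = o0 := by decide +kernel
  have hmem : word (pimg P2 o0) ∈ golayCode := by rw [h1]; exact o0_mem
  have h2 : wordPerm (el P2) o0w = ⟨word (pimg P2 o0), hmem⟩ := wordPerm_word P2 ok_P2 o0 o0_mem hmem
  rw [h2]
  apply Subtype.ext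
  show word (pimg P2 o0) = word o0
  rw [h1]

theorem perm_c0w : wordPerm (el P2) c0w = c0w + allOne := by
  have hmem : word (pimg P2 c0) ∈ golayCode := by
    rw [mem_golayCode_iff, maskW_word (by decide +kernel)]
    decide +kernel
  have h2 : wordPerm (el P2) c0w = ⟨word (pimg P2 c0), hmem⟩ := wordPerm_word P2 ok_P2 c0 c0_mem hmem
  rw [h2]
  apply Subtype.ext
  show word (pimg P2 c0) = word c0 + 1
  rw [← word_all, ← word_xor]
  congr 1

/-- `b0` and a sign change. -/
theorem b0_comm (c : golayCode) (h : wordPerm (el P2) c = c ∨ wordPerm (el P2) c = c + allOne) :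
    mk (signCo0 c) * mk b0 = mk b0 * mk (signCo0 c) := by
  have h1 : b0 * signCo0 c = signCo0 (wordPerm (el P2) c) * b0 := by
    unfold b0
    rw [mul_assoc, perm_mul_sign, ← mul_assoc, ← signCo0_add, ← mul_assoc, ← signCo0_add, add_comm]
  rw [← mk_mul, ← mk_mul, h1, mk_eq]
  rcases h with h | h
  · left; rw [h]
  · right
    rw [h, signCo0_add, mul_assoc (signCo0 c), ← sign_allOne_comm b0]
    have h3 : signCo0 c * (b0 * signCo0 allOne) * signCo0 allOne =
      signCo0 c * b0 * (signCo0 allOne * signCo0 allOne) := by group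
    rw [h3, signCo0_mul_self, mul_one]

/-! ### The classes -/

theorem mk_b0_sq : mk b0 * mk b0 = 1 := by
  rw [← mk_mul, b0_sq, Cfsg.Agent.CoOneType.ClosingFacts.mk_eq_one]
  exact Or.inr rfl

theorem not_isConj_sign_b0 (c : golayCode) : ¬ IsConj (mk (signCo0 c)) (mk b0) := by
  intro h
  have h1 := sq_of_isConj_sign h
  rw [b0_sq] at h1
  exact allOne_ne h1

theorem mk_b0_ne_one : mk b0 ≠ 1 := by
  intro h
  apply not_isConj_sign_b0 0
  rw [h, signCo0_zero]
  exact IsConj.refl _

theorem mk_sign_sq (c : golayCode) : mk (signCo0 c) * mk (signCo0 c) = 1 := by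
  rw [← mk_mul, signCo0_mul_self]
  rfl

theorem mk_sign_ne_one {c : golayCode} (h : wt c = 8 ∨ wt c = 12) : mk (signCo0 c) ≠ 1 := by
  intro h1
  have h2 := (pr_sign_eq_one_iff c).1 h1
  omega

/-- The facts. -/
theorem facts : Facts Co1 (mk b0) (mk (signCo0 o0w)) (mk (signCo0 c0w)) E where
  r2 := mk_b0_sq
  r1 := mk_b0_ne_one
  z2 := mk_sign_sq _
  c2 := mk_sign_sq _
  c1 := mk_sign_ne_one (Or.inr wt_c0w)
  cases' := by
    intro k hk hk1
    rcases co1_cases o0w c0w a1 a1' wt_o0w wt_c0w k hk hk1 with h | h | ⟨t, rfl, g, hg⟩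
    · exact Or.inl h
    · exact Or.inr (Or.inl h)
    · exact Or.inr (Or.inr (isConj_mk g hg).symm)
  zr := not_isConj_sign_b0 _
  cr := not_isConj_sign_b0 _
  zc := not_isConj o0w c0w wt_o0w wt_c0w
  com_z := ⟨mk b0, IsConj.refl _, b0_comm _ (Or.inl perm_o0w)⟩
  com_c := ⟨mk b0, IsConj.refl _, b0_comm _ (Or.inr perm_c0w)⟩
  E2 := E_sq
  cE := ⟨c0w, rfl⟩
  Enorm := E_normal o0w wt_o0w
  Ecount := E_count o0w wt_o0w

/-! ### Orders of centralisers -/

section Card

variable {c : golayCode}

/-- The action of the monomial group by conjugation. -/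
noncomputable local instance : MulAction N Co0 :=
  MulAction.compHom Co0 ((MulAut.conj : Co0 →* MulAut Co0).comp N.subtype)

theorem smul_def' (g : N) (x : Co0) : g • x = (g : Co0) * x * (g : Co0)⁻¹ := rfl

theorem orbit_eq (h : wt c = 8 ∨ wt c = 12) :
    MulAction.orbit N (signCo0 c) = signCo0 '' {d : golayCode | wt d = wt c} := by
  ext x
  constructor
  · rintro ⟨g, rfl⟩
    obtain ⟨d, hd⟩ := N_normalises (g : Co0) g.2 c
    refine ⟨d, ?_, ?_⟩
    · show wt d = wt c
      refine (wt_eq_of_conj c d g ?_).symm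
      rw [← hd, inv_mul_cancel_right]
    · show signCo0 d = (g : Co0) * signCo0 c * (g : Co0)⁻¹
      exact hd.symm
  · rintro ⟨d, hd, rfl⟩
    have hd' : wt d = wt c := hd
    have h1 : ∃ σ : M24, σ • sup c = sup d := by
      rcases h with h | h
      · exact Cfsg.Agent.S0367.result _ _ ((sup_mem_octads c).2 h)
          ((sup_mem_octads d).2 (by omega))
      · exact Cfsg.Agent.S0368.result _ _ ((sup_mem_dodecads c).2 h)
          ((sup_mem_dodecads d).2 (by omega))
    obtain ⟨σ, hσ⟩ := h1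
    have h2 := wordPerm_support σ c d hσ
    refine ⟨⟨permCo0 σ, perm_mem_N σ⟩, ?_⟩
    show permCo0 σ * signCo0 c * (permCo0 σ)⁻¹ = signCo0 d
    rw [perm_mul_sign_mul_inv, h2]

theorem sign_inj {a b : golayCode} (h : signCo0 a = signCo0 b) : a = b := by
  have h1 : signCo0 a * permCo0 1 = signCo0 b * permCo0 1 := by rw [h]
  exact (Cfsg.Agent.CoOneType.InvMain.sp_inj h1).1

theorem ncard_wt8 : {d : golayCode | wt d = 8}.ncard = 759 := by
  rw [← Cfsg.Agent.S0360.result, ← Set.ncard_image_of_injective {d : golayCode | wt d = 8}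
    (f := sup) (fun a b h => sup_inj h)]
  congr 1
  ext s
  constructor
  · rintro ⟨d, hd, rfl⟩; exact (sup_mem_octads d).2 hd
  · intro hs
    exact ⟨wordOf s, by show wt _ = 8; unfold wt; rw [sup_wordOf hs.1]; exact hs.2,
      sup_wordOf hs.1⟩

theorem ncard_wt12 : {d : golayCode | wt d = 12}.ncard = 2576 := by
  rw [← Cfsg.Agent.S0361.result, ← Set.ncard_image_of_injective {d : golayCode | wt d = 12}
    (f := sup) (fun a b h => sup_inj h)]
  congr 1
  ext s
  constructor
  · rintro ⟨d, hd, rfl⟩; exact (sup_mem_dodecads d).2 hd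
  · intro hs
    exact ⟨wordOf s, by show wt _ = 12; unfold wt; rw [sup_wordOf hs.1]; exact hs.2,
      sup_wordOf hs.1⟩

theorem card_stabilizer_dvd (h : wt c = 8 ∨ wt c = 12) :
    2 ^ 18 ∣ Nat.card (MulAction.stabilizer N (signCo0 c)) := by
  have h1 := (MulAction.stabilizer N (signCo0 c)).card_mul_index
  rw [MulAction.index_stabilizer, orbit_eq h, Cfsg.Agent.S0399.card_N,
    Set.ncard_image_of_injective _ (fun a b h => sign_inj h)] at h1
  rcases h with h | h
  · rw [h, ncard_wt8] at h1
    have h2 : Nat.card (MulAction.stabilizer N (signCo0 c)) = 4096 * 322560 := by omega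
    rw [h2]; norm_num
  · rw [h, ncard_wt12] at h1
    have h2 : Nat.card (MulAction.stabilizer N (signCo0 c)) = 4096 * 95040 := by omega
    rw [h2]; norm_num

/-- `2 ^ 17` divides the orders of the centralisers in `Co1` of the sign changes. -/
theorem card_dvd (h : wt c = 8 ∨ wt c = 12) :
    2 ^ 17 ∣ Nat.card (Subgroup.centralizer ({mk (signCo0 c)} : Set Co1)) := by
  have : Finite Co1 := Quotient.finite _
  let S := MulAction.stabilizer N (signCo0 c)
  let f : S →* Co1 := (QuotientGroup.mk' (Subgroup.center Co0)).comp (N.subtype.comp S.subtype)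
  have hS : ∀ x : S, ((x : N) : Co0) * signCo0 c = signCo0 c * ((x : N) : Co0) := by
    intro x
    have h1 : ((x : N) : Co0) * signCo0 c * ((x : N) : Co0)⁻¹ = signCo0 c := x.2
    calc ((x : N) : Co0) * signCo0 c = ((x : N) : Co0) * signCo0 c * ((x : N) : Co0)⁻¹ * x := by
          group
      _ = _ := by rw [h1]
  have hker : Nat.card f.ker ≤ 2 := by
    have h1 : Set.MapsTo (fun x : S => ((x : N) : Co0)) (f.ker : Set S)
        ({1, signCo0 allOne} : Set Co0) := by
      intro x hx
      have h2 : mk ((x : N) : Co0) = 1 := hx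
      exact (Cfsg.Agent.CoOneType.ClosingFacts.mk_eq_one _).1 h2
    have h2 := Set.ncard_le_ncard_of_injOn _ h1
      ((Subtype.val_injective.comp Subtype.val_injective).injOn) (Set.toFinite _)
    exact (Nat.card_coe_set_eq _).trans_le (h2.trans (Set.ncard_insert_le _ _ |>.trans
      (by rw [Set.ncard_singleton])))
  have hrange : Nat.card f.range ∣ Nat.card (Subgroup.centralizer ({mk (signCo0 c)} : Set Co1)) := by
    apply Subgroup.card_dvd_of_le
    rintro _ ⟨x, rfl⟩
    rw [Subgroup.mem_centralizer_singleton_iff]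
    exact congrArg mk (hS x)
  have hmul : Nat.card f.range * Nat.card f.ker = Nat.card S := by
    rw [← Nat.card_congr (QuotientGroup.quotientKerEquivRange f).toEquiv, mul_comm]
    exact f.ker.card_mul_index
  have h1 := card_stabilizer_dvd h
  refine Dvd.dvd.trans ?_ hrange
  have h2 : 2 ^ 18 ∣ Nat.card f.range * Nat.card f.ker := by rw [hmul]; exact h1
  have h3 : 0 < Nat.card f.ker := Nat.card_pos
  have h4 : Nat.card f.ker = 1 ∨ Nat.card f.ker = 2 := by omega
  rcases h4 with h4 | h4
  · rw [h4, mul_one] at h2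
    exact dvd_trans (by norm_num) h2
  · rw [h4] at h2
    obtain ⟨k, hk⟩ := h2
    exact ⟨k, by omega⟩

end Card

/-! ### The theorem -/

/-- **The end of the closing of S1767.** -/
theorem eq_top {G : Type*} [Group G] [Finite G] {P : Subgroup G} (π : P →* Co1) (hπ : Cover π)
    (g1 : ∀ v ∈ Over π (mk b0), ∀ g : G, g * v = v * g → g ∈ P)
    (g2 : ∀ v ∈ Over π (mk b0), ¬ 2 ^ 17 ∣ Nat.card (Subgroup.centralizer ({v} : Set G)))
    (g3 : ∀ x ∈ Over π (mk (signCo0 o0w)), ∀ g : G, g * x = x * g → g ∈ P) : P = ⊤ :=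
  CloFus.eq_top hπ facts (mk_sign_ne_one (Or.inl wt_o0w)) (card_dvd (Or.inl wt_o0w))
    (card_dvd (Or.inr wt_c0w)) g1 g2 g3

end Cfsg.Agent.StdG24.CloEnd
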