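import Cfsg.Agent.SporRec.Closing249

/-!
# Fusion and the last step of the closing (S1767), abstract part

`G` finite, `N ≤ G`, `π : N →* K` surjective with kernel of odd order commuting with the elements
of square 1 of `N`.  `r`, `z`, `c` representatives of the classes of involutions of `K`.

* `fix_root` : `v ∈ N` over the class of `r`, `g v g⁻¹ ∈ N` ⟹ `g ∈ N`, if `C_G(v) ≤ N` and
  `2^k ∤ |C_G(v)|` while `2^k` divides `|C_K(z)|`, `|C_K(c)|`.
* `control` : elements of `N` of square 1 commuting with elements over the class of `r`, conjugate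
  in `G`, are conjugate in `N`.
* `eq_top` : if moreover `C_G(z') ≤ N` for all `z' ∈ N` over the class of `z`, then `N = G`.
-/

set_option autoImplicit false
set_option linter.unusedSectionVars false

namespace Cfsg.Agent.StdG24.CloFus

variable {G K : Type*} [Group G] [Group K] {N : Subgroup G}

/-- `π : N →* K` is surjective, its kernel has odd order and commutes with all elements of
square 1. -/
structure Cover (π : N →* K) : Prop where
  surj : Function.Surjective π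
  odd : Odd (Nat.card π.ker)
  comm : ∀ k : N, π k = 1 → ∀ x : N, x * x = 1 → k * x = x * k

namespace Cover

variable {π : N →* K} (hπ : Cover π)

include hπ

theorem pow_odd {k : N} (hk : π k = 1) : k ^ Nat.card π.ker = 1 := by
  have h1 : (⟨k, hk⟩ : π.ker) ^ Nat.card π.ker = 1 := pow_card_eq_one'
  exact congrArg Subtype.val h1

theorem eq_one_of_sq {k : N} (hk : π k = 1) (h2 : k * k = 1) : k = 1 := by
  obtain ⟨m, hm⟩ := hπ.odd
  have h1 := hπ.pow_odd hk
  rw [hm, pow_succ, pow_mul, pow_two, h2, one_pow, one_mul] at h1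
  exact h1

theorem uniq {x y : N} (hx : x * x = 1) (hy : y * y = 1) (h : π x = π y) : x = y := by
  have h1 : π (x * y) = 1 := by rw [map_mul, h, ← map_mul, hy, map_one]
  have h2 := hπ.comm _ h1 x hx
  have h3 : x * y = y * x := by
    have h4 : x * (y * x) = x * (x * y) := by rw [← mul_assoc, h2]
    exact (mul_left_cancel h4).symm
  have h5 : x * y * (x * y) = 1 := by
    calc x * y * (x * y) = x * y * (y * x) := by rw [h3]
      _ = x * (y * y) * x := by group
      _ = 1 := by rw [hy, mul_one, hx]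
  have h6 := hπ.eq_one_of_sq h1 h5
  calc x = x * y * y := by rw [mul_assoc, hy, mul_one]
    _ = y := by rw [h6, one_mul]

theorem lift {a : K} (ha : a * a = 1) : ∃ x : N, x * x = 1 ∧ π x = a := by
  obtain ⟨y, rfl⟩ := hπ.surj a
  have h1 : π (y * y) = 1 := by rw [map_mul, ha]
  have h2 := hπ.pow_odd h1
  obtain ⟨m, hm⟩ := hπ.odd
  refine ⟨y ^ Nat.card π.ker, ?_, ?_⟩
  · rw [← pow_add, ← two_mul, pow_mul, pow_two]; exact h2
  · rw [map_pow, hm, pow_succ, pow_mul, pow_two, ha, one_pow, one_mul]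

theorem conj_eq {x y h : N} (hx : x * x = 1) (hy : y * y = 1)
    (hh : π h * π x * (π h)⁻¹ = π y) : h * x * h⁻¹ = y := by
  apply hπ.uniq _ hy
  · rw [map_mul, map_mul, map_inv, hh]
  · have : h * x * h⁻¹ * (h * x * h⁻¹) = h * (x * x) * h⁻¹ := by group
    rw [this, hx]; group

theorem isConj {x y : N} (hx : x * x = 1) (hy : y * y = 1) (h : IsConj (π x) (π y)) :
    ∃ n : N, n * x * n⁻¹ = y := by
  obtain ⟨a, ha⟩ := isConj_iff.1 h
  obtain ⟨n, rfl⟩ := hπ.surj a
  exact ⟨n, hπ.conj_eq hx hy ha⟩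

theorem commute {x y : N} (_hx : x * x = 1) (hy : y * y = 1) (h : π x * π y = π y * π x) :
    x * y = y * x := by
  have h1 := hπ.conj_eq (h := x) hy hy (by rw [h, mul_inv_cancel_right])
  calc x * y = x * y * x⁻¹ * x := by group
    _ = y * x := by rw [h1]

theorem card_dvd [Finite G] {x : N} (hx : x * x = 1) :
    Nat.card (Subgroup.centralizer ({π x} : Set K)) ∣
      Nat.card (Subgroup.centralizer ({(x : G)} : Set G)) := by
  have h1 : (Subgroup.centralizer ({x} : Set N)).map π = Subgroup.centralizer ({π x} : Set K) := by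
    apply le_antisymm
    · rintro _ ⟨y, hy, rfl⟩
      have hy' : y * x = x * y := Subgroup.mem_centralizer_singleton_iff.1 hy
      rw [Subgroup.mem_centralizer_singleton_iff, ← map_mul, hy', map_mul]
    · intro a ha
      obtain ⟨y, rfl⟩ := hπ.surj a
      rw [Subgroup.mem_centralizer_singleton_iff] at ha
      refine ⟨y, ?_, rfl⟩
      have h2 := hπ.conj_eq (h := y) hx hx (by rw [ha, mul_inv_cancel_right])
      show y ∈ Subgroup.centralizer ({x} : Set N)
      rw [Subgroup.mem_centralizer_singleton_iff]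
      calc y * x = y * x * y⁻¹ * y := by group
        _ = x * y := by rw [h2]
  have h2 : Nat.card (Subgroup.centralizer ({π x} : Set K)) ∣
      Nat.card (Subgroup.centralizer ({x} : Set N)) := by
    rw [← h1]
    exact Subgroup.card_map_dvd _ _
  refine h2.trans ?_
  have h3 : (Subgroup.centralizer ({x} : Set N)).map N.subtype ≤
      Subgroup.centralizer ({(x : G)} : Set G) := by
    rintro _ ⟨y, hy, rfl⟩
    have hy' : y * x = x * y := Subgroup.mem_centralizer_singleton_iff.1 hy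
    rw [Subgroup.mem_centralizer_singleton_iff]
    exact congrArg Subtype.val hy'
  have h4 : Nat.card ((Subgroup.centralizer ({x} : Set N)).map N.subtype) =
      Nat.card (Subgroup.centralizer ({x} : Set N)) :=
    (Nat.card_congr ((Subgroup.centralizer ({x} : Set N)).equivMapOfInjective N.subtype
      N.subtype_injective).toEquiv).symm
  rw [← h4]
  exact Subgroup.card_dvd_of_le h3

end Cover

/-! ### Centralisers and conjugates -/

theorem card_centralizer_conj (g x : G) :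
    Nat.card (Subgroup.centralizer ({g * x * g⁻¹} : Set G)) =
      Nat.card (Subgroup.centralizer ({x} : Set G)) := by
  refine Nat.card_congr
    { toFun := fun y => ⟨g⁻¹ * y * g, ?_⟩
      invFun := fun y => ⟨g * y * g⁻¹, ?_⟩
      left_inv := fun y => Subtype.ext (by simp only; group)
      right_inv := fun y => Subtype.ext (by simp only; group) }
  · have h := Subgroup.mem_centralizer_singleton_iff.1 y.2
    rw [Subgroup.mem_centralizer_singleton_iff]
    have h1 : g⁻¹ * (y : G) * g * x = g⁻¹ * ((y : G) * (g * x * g⁻¹)) * g := by group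
    rw [h1, h]; group
  · have h := Subgroup.mem_centralizer_singleton_iff.1 y.2
    rw [Subgroup.mem_centralizer_singleton_iff]
    have h1 : g * (y : G) * g⁻¹ * (g * x * g⁻¹) = g * ((y : G) * x) * g⁻¹ := by group
    rw [h1, h]; group

/-- The permutation of the cosets of `B` induced by an element of square 1. -/
theorem toPerm_sq {C : Type*} [Group C] (B : Subgroup C) {u : C} (hu : u * u = 1) :
    (MulAction.toPerm u : Equiv.Perm (C ⧸ B)) ^ 2 ^ 1 = 1 := by
  rw [pow_one, pow_two]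
  ext x
  show u • u • x = x
  rw [smul_smul, hu, one_smul]

theorem smul_coe_eq {C : Type*} [Group C] (B : Subgroup C) (u y : C) :
    u • (y : C ⧸ B) = (y : C ⧸ B) ↔ y⁻¹ * u * y ∈ B := by
  change ((u * y : C) : C ⧸ B) = (y : C ⧸ B) ↔ _
  rw [eq_comm, QuotientGroup.eq, mul_assoc]

/-- An element of square 1 with exactly one fixed point: the index is odd. -/
theorem odd_index {C : Type*} [Group C] [Finite C] (B : Subgroup C) (u : C) (hu : u * u = 1)
    (huB : u ∈ B) (h : ∀ y : C, y * u * y⁻¹ ∈ B → y ∈ B) : ¬ 2 ∣ B.index := by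
  classical
  have : Fintype (C ⧸ B) := Fintype.ofFinite _
  have : Fact (Nat.Prime 2) := ⟨Nat.prime_two⟩
  have h1 := Equiv.Perm.card_compl_support_modEq (toPerm_sq B hu)
  have h2 : ((MulAction.toPerm u : Equiv.Perm (C ⧸ B)).support)ᶜ = {((1 : C) : C ⧸ B)} := by
    ext x
    rw [Finset.mem_compl, Equiv.Perm.notMem_support, Finset.mem_singleton]
    induction x using QuotientGroup.induction_on with
    | H y =>
      show u • (y : C ⧸ B) = (y : C ⧸ B) ↔ _
      rw [smul_coe_eq, eq_comm (a := (y : C ⧸ B)), QuotientGroup.eq, inv_one, one_mul]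
      constructor
      · intro hy
        have := h y⁻¹ (by rw [inv_inv]; exact hy)
        exact (B.inv_mem_iff).1 this
      · intro hy
        exact B.mul_mem (B.mul_mem (B.inv_mem hy) huB) hy
  rw [h2, Finset.card_singleton] at h1
  rw [Subgroup.index, Nat.card_eq_fintype_card]
  intro h3
  have h4 := (Nat.modEq_zero_iff_dvd.2 h3)
  have h5 := h1.trans h4
  exact absurd h5 (by decide)

/-- An element of square 1 has a fixed point on the cosets of a subgroup of odd index. -/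
theorem exists_conj_mem {C : Type*} [Group C] [Finite C] (B : Subgroup C) (hB : ¬ 2 ∣ B.index)
    (u : C) (hu : u * u = 1) : ∃ y : C, y⁻¹ * u * y ∈ B := by
  classical
  have : Fintype (C ⧸ B) := Fintype.ofFinite _
  have : Fact (Nat.Prime 2) := ⟨Nat.prime_two⟩
  rw [Subgroup.index, Nat.card_eq_fintype_card] at hB
  obtain ⟨x, hx⟩ := Equiv.Perm.exists_fixed_point_of_prime hB (toPerm_sq B hu)
  induction x using QuotientGroup.induction_on with
  | H y => exact ⟨y, (smul_coe_eq B u y).1 hx⟩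

/-! ### The fusion principle -/

section Fusion

variable [Finite G]

/-- The set `D` of "roots" of `N`: elements of square 1 all of whose `G`-fusion into `N` is
performed by `N`; an element `x` commuting with a root `u ∈ N`, whose conjugate `g x g⁻¹`
commutes with a root `u'` of `N`: then `g ∈ N C_G(x)`. -/
theorem control (N : Subgroup G) (D : Set G) (D2 : ∀ d ∈ D, d * d = 1) (DN : ∀ d ∈ D, d ∈ N)
    (fix : ∀ d ∈ D, ∀ g : G, g * d * g⁻¹ ∈ N → g ∈ N) {x g u u' : G} (hu : u ∈ D) (hu' : u' ∈ D)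
    (hxu : x * u = u * x) (hxu' : g * x * g⁻¹ * u' = u' * (g * x * g⁻¹)) :
    ∃ h : G, h * x = x * h ∧ g * h ∈ N := by
  let C : Subgroup G := Subgroup.centralizer ({x} : Set G)
  have hCm : ∀ y : G, y ∈ C ↔ y * x = x * y := fun y => Subgroup.mem_centralizer_singleton_iff
  let B : Subgroup C := N.subgroupOf C
  have hB : ∀ y : C, y ∈ B ↔ (y : G) ∈ N := fun y => Subgroup.mem_subgroupOf
  have huC : u ∈ C := (hCm u).2 hxu.symm
  have hodd : ¬ 2 ∣ B.index := by
    apply odd_index B ⟨u, huC⟩ (Subtype.ext (D2 u hu)) ((hB _).2 (DN u hu))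
    intro y hy
    exact (hB y).2 (fix u hu y ((hB _).1 hy))
  have hu'C : g⁻¹ * u' * g ∈ C := by
    rw [hCm]
    have h1 : g⁻¹ * u' * g * x = g⁻¹ * (u' * (g * x * g⁻¹)) * g := by group
    rw [h1, ← hxu']; group
  obtain ⟨y, hy⟩ := exists_conj_mem B hodd ⟨g⁻¹ * u' * g, hu'C⟩ (Subtype.ext (by
    show g⁻¹ * u' * g * (g⁻¹ * u' * g) = 1
    have h1 : g⁻¹ * u' * g * (g⁻¹ * u' * g) = g⁻¹ * (u' * u') * g := by group
    rw [h1, D2 u' hu']; group))
  refine ⟨y, (hCm y).1 y.2, ?_⟩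
  have h1 : (y : G)⁻¹ * (g⁻¹ * u' * g) * y ∈ N := (hB _).1 hy
  have h2 := fix u' hu' ((y : G)⁻¹ * g⁻¹) (by
    have h3 : (y : G)⁻¹ * g⁻¹ * u' * ((y : G)⁻¹ * g⁻¹)⁻¹ = (y : G)⁻¹ * (g⁻¹ * u' * g) * y := by
      group
    rw [h3]; exact h1)
  have h3 := N.inv_mem h2
  rwa [mul_inv_rev, inv_inv, inv_inv] at h3

end Fusion

/-! ### The closing -/

section Main

variable [Finite G]

/-- Facts in `K`. -/
structure Facts (K : Type*) [Group K] (r z c : K) (E : Subgroup K) : Prop where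
  r2 : r * r = 1
  r1 : r ≠ 1
  z2 : z * z = 1
  c2 : c * c = 1
  c1 : c ≠ 1
  cases' : ∀ k : K, k * k = 1 → k ≠ 1 → IsConj z k ∨ IsConj c k ∨ IsConj r k
  zr : ¬ IsConj z r
  cr : ¬ IsConj c r
  zc : ¬ IsConj z c
  com_z : ∃ u : K, IsConj r u ∧ z * u = u * z
  com_c : ∃ u : K, IsConj r u ∧ c * u = u * c
  E2 : ∀ e ∈ E, e * e = 1
  cE : c ∈ E
  Enorm : ∀ a ∈ E, a ≠ 1 → ¬ IsConj z a → ∀ h : K, h * a * h⁻¹ ∈ E → ∀ e ∈ E, h * e * h⁻¹ ∈ E
  Ecount : ∀ A : Subgroup K, A ≤ E → A ≠ ⊥ → (∀ a ∈ A, ¬ IsConj z a) →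
      ∃ u₁ ∈ E, IsConj z u₁ ∧ ∃ u₂ ∈ E, IsConj z u₂ ∧
        Nat.card {a : A // IsConj z (u₁ * (a : K))} ≠ Nat.card {a : A // IsConj z (u₂ * (a : K))}

/-- The elements of `N` of square 1 over the class of `k`. -/
def Over {N : Subgroup G} (π : N →* K) (k : K) : Set G :=
  {d | ∃ h : d ∈ N, d * d = 1 ∧ IsConj k (π ⟨d, h⟩)}

variable {π : N →* K} {r z c : K} {E : Subgroup K}

omit [Finite G] in
theorem Over.sq {k : K} {d : G} (hd : d ∈ Over π k) : d * d = 1 := hd.2.1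

omit [Finite G] in
theorem Over.mem {k : K} {d : G} (hd : d ∈ Over π k) : d ∈ N := hd.1

omit [Finite G] in
theorem Over.conj {k : K} {d n : G} (hd : d ∈ Over π k) (hn : n ∈ N) : n * d * n⁻¹ ∈ Over π k := by
  obtain ⟨h, h2, h3⟩ := hd
  refine ⟨N.mul_mem (N.mul_mem hn h) (N.inv_mem hn), ?_, ?_⟩
  · have : n * d * n⁻¹ * (n * d * n⁻¹) = n * (d * d) * n⁻¹ := by group
    rw [this, h2]; group
  · refine h3.trans ?_
    rw [isConj_iff]
    refine ⟨π ⟨n, hn⟩, ?_⟩
    rw [← map_inv, ← map_mul, ← map_mul]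
    rfl

theorem cases (hπ : Cover π) (F : Facts K r z c E) {x : G} (hx : x ∈ N) (hx2 : x * x = 1)
    (hx1 : x ≠ 1) : x ∈ Over π z ∨ x ∈ Over π c ∨ x ∈ Over π r := by
  have h2 : (⟨x, hx⟩ : N) * ⟨x, hx⟩ = 1 := Subtype.ext hx2
  have h1 : π ⟨x, hx⟩ ≠ 1 := by
    intro h
    exact hx1 (congrArg Subtype.val (hπ.eq_one_of_sq h h2))
  rcases F.cases' (π ⟨x, hx⟩) (by rw [← map_mul, h2, map_one]) h1 with h | h | h
  · exact Or.inl ⟨hx, hx2, h⟩
  · exact Or.inr (Or.inl ⟨hx, hx2, h⟩)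
  · exact Or.inr (Or.inr ⟨hx, hx2, h⟩)

/-- Two elements over the same class are conjugate in `N`. -/
theorem isConj_over (hπ : Cover π) {k : K} {x y : G} (hx : x ∈ Over π k) (hy : y ∈ Over π k) :
    ∃ n ∈ N, n * x * n⁻¹ = y := by
  obtain ⟨h, h2, h3⟩ := hx
  obtain ⟨h', h2', h3'⟩ := hy
  obtain ⟨n, hn⟩ := hπ.isConj (x := ⟨x, h⟩) (y := ⟨y, h'⟩) (Subtype.ext h2) (Subtype.ext h2')
    (h3.symm.trans h3')
  exact ⟨n, n.2, congrArg Subtype.val hn⟩

theorem not_both {k l : K} (hkl : ¬ IsConj k l) {x : G} (hx : x ∈ Over π k) : x ∉ Over π l := by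
  rintro ⟨h', h2', h3'⟩
  obtain ⟨h, h2, h3⟩ := hx
  exact hkl (h3.trans h3'.symm)

theorem exists_over (hπ : Cover π) {k : K} (hk : k * k = 1) : ∃ x, x ∈ Over π k := by
  obtain ⟨x, hx, hxk⟩ := hπ.lift hk
  refine ⟨x, x.2, congrArg Subtype.val hx, ?_⟩
  show IsConj k (π x)
  rw [hxk]

theorem card_dvd_over (hπ : Cover π) {k : K} {x : G} (hx : x ∈ Over π k) :
    Nat.card (Subgroup.centralizer ({k} : Set K)) ∣
      Nat.card (Subgroup.centralizer ({x} : Set G)) := by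
  obtain ⟨h, h2, h3⟩ := hx
  obtain ⟨a, ha⟩ := isConj_iff.1 h3
  have h4 := hπ.card_dvd (x := ⟨x, h⟩) (Subtype.ext h2)
  rw [← ha] at h4
  have h5 : Nat.card (Subgroup.centralizer ({a * k * a⁻¹} : Set K)) =
      Nat.card (Subgroup.centralizer ({k} : Set K)) := card_centralizer_conj a k
  rwa [h5] at h4

/-- Every conjugate in `N` of a root `v ∈ N` comes from `N`. -/
theorem fix_root (hπ : Cover π) (F : Facts K r z c E) {m : ℕ}
    (hz : m ∣ Nat.card (Subgroup.centralizer ({z} : Set K)))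
    (hc : m ∣ Nat.card (Subgroup.centralizer ({c} : Set K)))
    (g1 : ∀ v ∈ Over π r, ∀ g : G, g * v = v * g → g ∈ N)
    (g2 : ∀ v ∈ Over π r, ¬ m ∣ Nat.card (Subgroup.centralizer ({v} : Set G)))
    {v : G} (hv : v ∈ Over π r) {g : G} (hg : g * v * g⁻¹ ∈ N) : g ∈ N := by
  have h2 : g * v * g⁻¹ * (g * v * g⁻¹) = 1 := by
    have : g * v * g⁻¹ * (g * v * g⁻¹) = g * (v * v) * g⁻¹ := by group
    rw [this, Over.sq hv]; group
  have hv1 : v ≠ 1 := by
    rintro rfl
    obtain ⟨h, -, h3⟩ := hv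
    have h4 : π ⟨1, h⟩ = 1 := map_one π
    rw [h4, isConj_one_left] at h3
    exact F.r1 h3
  have h1 : g * v * g⁻¹ ≠ 1 := by
    intro h
    apply hv1
    have : v = g⁻¹ * (g * v * g⁻¹) * g := by group
    rw [this, h]; group
  rcases cases hπ F hg h2 h1 with h | h | h
  · exfalso
    apply g2 v hv
    rw [← card_centralizer_conj g v]
    exact hz.trans (card_dvd_over hπ h)
  · exfalso
    apply g2 v hv
    rw [← card_centralizer_conj g v]
    exact hc.trans (card_dvd_over hπ h)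
  · obtain ⟨n, hn, hnv⟩ := isConj_over hπ hv h
    have h3 : n⁻¹ * g ∈ N := by
      apply g1 v hv
      have h4 : n⁻¹ * (n * v * n⁻¹) = n⁻¹ * (g * v * g⁻¹) := by rw [hnv]
      have h5 : n⁻¹ * (n * v * n⁻¹) = v * n⁻¹ := by group
      rw [h5] at h4
      calc n⁻¹ * g * v = n⁻¹ * (g * v * g⁻¹) * g := by group
        _ = v * (n⁻¹ * g) := by rw [← h4]; group
    have h4 : g = n * (n⁻¹ * g) := by group
    rw [h4]
    exact N.mul_mem hn h3

theorem com_root_of (hπ : Cover π) {k : K} (hk : ∃ u : K, IsConj r u ∧ k * u = u * k)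
    (hr : r * r = 1) {x : G} (hx : x ∈ Over π k) : ∃ u ∈ Over π r, x * u = u * x := by
  obtain ⟨u, hu, hku⟩ := hk
  obtain ⟨h, h2, h3⟩ := hx
  obtain ⟨a, ha⟩ := isConj_iff.1 h3
  have hu2 : u * u = 1 := by
    obtain ⟨b, rfl⟩ := isConj_iff.1 hu
    have : b * r * b⁻¹ * (b * r * b⁻¹) = b * (r * r) * b⁻¹ := by group
    rw [this, hr]; group
  have hu2' : a * u * a⁻¹ * (a * u * a⁻¹) = 1 := by
    have : a * u * a⁻¹ * (a * u * a⁻¹) = a * (u * u) * a⁻¹ := by group
    rw [this, hu2]; group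
  obtain ⟨w, hw2, hw⟩ := hπ.lift hu2'
  refine ⟨w, ⟨w.2, congrArg Subtype.val hw2, ?_⟩, ?_⟩
  · show IsConj r (π w)
    rw [hw]
    exact hu.trans (isConj_iff.2 ⟨a, rfl⟩)
  · have h4 := hπ.commute (x := ⟨x, h⟩) (y := w) (Subtype.ext h2) hw2 (by
      rw [hw, ← ha]
      have e1 : a * k * a⁻¹ * (a * u * a⁻¹) = a * (k * u) * a⁻¹ := by group
      have e2 : a * u * a⁻¹ * (a * k * a⁻¹) = a * (u * k) * a⁻¹ := by group
      rw [e1, e2, hku])
    exact congrArg Subtype.val h4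

theorem com_root (hπ : Cover π) (F : Facts K r z c E) {x : G} (hx : x ∈ N) (hx2 : x * x = 1)
    (hx1 : x ≠ 1) : ∃ u ∈ Over π r, x * u = u * x := by
  rcases cases hπ F hx hx2 hx1 with h | h | h
  · exact com_root_of hπ F.com_z F.r2 h
  · exact com_root_of hπ F.com_c F.r2 h
  · exact ⟨x, h, rfl⟩

/-- Fusion of elements of square 1 of `N`. -/
theorem control' (hπ : Cover π) (F : Facts K r z c E)
    (fix : ∀ d ∈ Over π r, ∀ g : G, g * d * g⁻¹ ∈ N → g ∈ N) {x g : G} (hx : x ∈ N)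
    (hx2 : x * x = 1) (hx1 : x ≠ 1) (hg : g * x * g⁻¹ ∈ N) :
    ∃ h : G, h * x = x * h ∧ g * h ∈ N := by
  obtain ⟨u, hu, hxu⟩ := com_root hπ F hx hx2 hx1
  obtain ⟨u', hu', hxu'⟩ := com_root hπ F hg (by
    have : g * x * g⁻¹ * (g * x * g⁻¹) = g * (x * x) * g⁻¹ := by group
    rw [this, hx2]; group) (by
    intro h
    apply hx1
    have : x = g⁻¹ * (g * x * g⁻¹) * g := by group
    rw [this, h]; group)
  exact control N (Over π r) (fun d hd => Over.sq hd) (fun d hd => Over.mem hd) fix hu hu' hxu hxu'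

/-- Conjugates in `N` of `x ∈ N` with `C_G(x) ≤ N`. -/
theorem fix_of_le (hπ : Cover π) (F : Facts K r z c E)
    (fix : ∀ d ∈ Over π r, ∀ g : G, g * d * g⁻¹ ∈ N → g ∈ N) {x g : G} (hx : x ∈ N)
    (hx2 : x * x = 1) (hx1 : x ≠ 1) (hC : ∀ g : G, g * x = x * g → g ∈ N)
    (hg : g * x * g⁻¹ ∈ N) : g ∈ N := by
  obtain ⟨h, h1, h2⟩ := control' hπ F fix hx hx2 hx1 hg
  have h3 : g = g * h * h⁻¹ := by group
  rw [h3]
  exact N.mul_mem h2 (N.inv_mem (hC h h1))

theorem ne_one_of_over {k : K} (hk : k ≠ 1) {x : G} (hx : x ∈ Over π k) : x ≠ 1 := by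
  rintro rfl
  obtain ⟨h, -, h3⟩ := hx
  have h4 : π ⟨1, h⟩ = 1 := map_one π
  rw [h4, isConj_one_left] at h3
  exact hk h3

/-- The lift of the elementary abelian subgroup `E`. -/
def liftE (hπ : Cover π) (F : Facts K r z c E) : Subgroup G where
  carrier := {e | ∃ h : e ∈ N, e * e = 1 ∧ π ⟨e, h⟩ ∈ E}
  one_mem' := ⟨N.one_mem, one_mul 1, by
    have h4 : π ⟨1, N.one_mem⟩ = 1 := map_one π
    rw [h4]; exact E.one_mem⟩
  mul_mem' := by
    rintro a b ⟨ha, ha2, ha3⟩ ⟨hb, hb2, hb3⟩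
    have hcomm : π ⟨a, ha⟩ * π ⟨b, hb⟩ = π ⟨b, hb⟩ * π ⟨a, ha⟩ := by
      have h1 := F.E2 _ ha3
      have h2 := F.E2 _ hb3
      have h3 := F.E2 _ (E.mul_mem ha3 hb3)
      have h1' := inv_eq_of_mul_eq_one_right h1
      have h2' := inv_eq_of_mul_eq_one_right h2
      have h3' := inv_eq_of_mul_eq_one_right h3
      rw [← h3', mul_inv_rev, h1', h2']
    have h5 := congrArg Subtype.val
      (hπ.commute (x := ⟨a, ha⟩) (y := ⟨b, hb⟩) (Subtype.ext ha2) (Subtype.ext hb2) hcomm)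
    have h6 : a * b = b * a := h5
    refine ⟨N.mul_mem ha hb, ?_, ?_⟩
    · calc a * b * (a * b) = a * b * (b * a) := by rw [h6]
        _ = a * (b * b) * a := by group
        _ = 1 := by rw [hb2, mul_one, ha2]
    · have h7 : (⟨a * b, N.mul_mem ha hb⟩ : N) = ⟨a, ha⟩ * ⟨b, hb⟩ := rfl
      rw [h7, map_mul]
      exact E.mul_mem ha3 hb3
  inv_mem' := by
    rintro a ⟨ha, ha2, ha3⟩
    refine ⟨N.inv_mem ha, ?_, ?_⟩
    · rw [← mul_inv_rev, ha2, inv_one]
    · have h7 : (⟨a⁻¹, N.inv_mem ha⟩ : N) = (⟨a, ha⟩)⁻¹ := rfl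
      rw [h7, map_inv]
      exact E.inv_mem ha3

theorem mem_liftE (hπ : Cover π) (F : Facts K r z c E) (e : G) :
    e ∈ liftE hπ F ↔ ∃ h : e ∈ N, e * e = 1 ∧ π ⟨e, h⟩ ∈ E := Iff.rfl

/-- Centralisers of the elements over `c`. -/
theorem centralizer_c (hπ : Cover π) (F : Facts K r z c E)
    (fix : ∀ d ∈ Over π r, ∀ g : G, g * d * g⁻¹ ∈ N → g ∈ N)
    (g3 : ∀ x ∈ Over π z, ∀ g : G, g * x = x * g → g ∈ N) (hz1 : z ≠ 1) :
    ∀ x ∈ Over π c, ∀ g : G, g * x = x * g → g ∈ N := by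
  classical
  have fixZ : ∀ d ∈ Over π z, ∀ g : G, g * d * g⁻¹ ∈ N → g ∈ N := fun d hd g hg =>
    fix_of_le hπ F fix (Over.mem hd) (Over.sq hd) (ne_one_of_over hz1 hd) (g3 d hd) hg
  let D : Set G := {d | ∃ g x : G, x ∈ Over π z ∧ d = g * x * g⁻¹}
  have hDN : ∀ d ∈ D, d ∈ N → d ∈ Over π z := by
    rintro d ⟨g, x, hx, rfl⟩ hd
    exact Over.conj hx (fixZ x hx g hd)
  have hZD : ∀ d ∈ Over π z, d ∈ D := fun d hd => ⟨1, d, hd, by group⟩
  have hnorm := Cfsg.Agent.SporRec.Closing249.normalizer_le N (liftE hπ F) D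
    (by
      rintro g d ⟨a, x, hx, rfl⟩
      exact ⟨g * a, x, hx, by group⟩)
    (by
      rintro d ⟨a, x, hx, rfl⟩
      have : a * x * a⁻¹ * (a * x * a⁻¹) = a * (x * x) * a⁻¹ := by group
      rw [this, Over.sq hx]; group)
    (by
      rintro g d hd hdN hg
      exact fixZ d (hDN d hd hdN) g hg)
    (fun e he => he.1) (fun e he => he.2.1)
    (by
      rintro a ⟨ha, ha2, ha3⟩ ha1 haD h hh ⟨ha', ha2', ha3'⟩ e ⟨he, he2, he3⟩
      have h1 : π ⟨a, ha⟩ ≠ 1 := by
        intro h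
        exact ha1 (congrArg Subtype.val (hπ.eq_one_of_sq h (Subtype.ext ha2)))
      have h2 : ¬ IsConj z (π ⟨a, ha⟩) := fun h => haD (hZD a ⟨ha, ha2, h⟩)
      refine ⟨N.mul_mem (N.mul_mem hh he) (N.inv_mem hh), ?_, ?_⟩
      · have : h * e * h⁻¹ * (h * e * h⁻¹) = h * (e * e) * h⁻¹ := by group
        rw [this, he2]; group
      · have h3 := F.Enorm _ ha3 h1 h2 (π ⟨h, hh⟩) (by
          rw [← map_inv, ← map_mul, ← map_mul]; exact ha3') _ he3
        rw [← map_inv, ← map_mul, ← map_mul] at h3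
        exact h3)
    (by
      intro A hAE hA1 hAD
      have hAN : ∀ a ∈ A, a ∈ N := fun a ha => (hAE ha).1
      -- the image
      let A' : Subgroup K := (A.subgroupOf N).map π
      have hA'E : A' ≤ E := by
        rintro _ ⟨a, ha, rfl⟩
        exact (hAE (Subgroup.mem_subgroupOf.1 ha)).2.2
      have hval : ∀ a ∈ A', ∃ b : A, ∃ hb : (b : G) ∈ N, π ⟨b, hb⟩ = a := by
        rintro _ ⟨a, ha, rfl⟩
        exact ⟨⟨a, Subgroup.mem_subgroupOf.1 ha⟩, a.2, rfl⟩
      obtain ⟨u₁, hu₁, hu₁z, u₂, hu₂, hu₂z, hne⟩ := F.Ecount A' hA'E (by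
        intro h
        obtain ⟨a, ha, ha1⟩ := A.bot_or_exists_ne_one.resolve_left hA1
        have h1 : π ⟨a, hAN a ha⟩ ∈ A' := ⟨⟨a, hAN a ha⟩, ha, rfl⟩
        rw [h, Subgroup.mem_bot] at h1
        exact ha1 (congrArg Subtype.val
          (hπ.eq_one_of_sq h1 (Subtype.ext (hAE ha).2.1)))) (by
        rintro _ ⟨a, ha, rfl⟩ h
        have ha' : (a : G) ∈ A := Subgroup.mem_subgroupOf.1 ha
        exact hAD a ha' (hZD a ⟨a.2, (hAE ha').2.1, h⟩))
      obtain ⟨v₁, hv₁, rfl⟩ := hπ.lift (F.E2 _ hu₁)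
      obtain ⟨v₂, hv₂, rfl⟩ := hπ.lift (F.E2 _ hu₂)
      have hmemE : ∀ v : N, v * v = 1 → π v ∈ E → (v : G) ∈ liftE hπ F := fun v hv h =>
        ⟨v.2, congrArg Subtype.val hv, h⟩
      have hcard : ∀ v : N, v * v = 1 → π v ∈ E →
          Nat.card {a : A // (v : G) * (a : G) ∈ D} =
            Nat.card {a : A' // IsConj z (π v * (a : K))} := by
        intro v hv hvE
        let f : A → A' := fun a => ⟨π ⟨a, hAN a a.2⟩, ⟨⟨a, hAN a a.2⟩, a.2, rfl⟩⟩
        have hf : Function.Bijective f := by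
          constructor
          · intro a b hab
            have h1 : π ⟨a, hAN a a.2⟩ = π ⟨b, hAN b b.2⟩ := congrArg Subtype.val hab
            have h2 := hπ.uniq (Subtype.ext (hAE a.2).2.1) (Subtype.ext (hAE b.2).2.1) h1
            have h3 : (a : G) = (b : G) := congrArg (fun t : N => (t : G)) h2
            exact Subtype.ext h3
          · rintro ⟨a, ha⟩
            obtain ⟨b, hb, rfl⟩ := hval a ha
            exact ⟨b, rfl⟩
        refine Nat.card_congr ((Equiv.ofBijective f hf).subtypeEquiv ?_)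
        intro a
        have h1 : (v : G) * (a : G) ∈ liftE hπ F := (liftE hπ F).mul_mem (hmemE v hv hvE) (hAE a.2)
        have h2 : (⟨(v : G) * (a : G), h1.1⟩ : N) = v * ⟨a, hAN a a.2⟩ := rfl
        constructor
        · intro h
          obtain ⟨h3, -, h4⟩ := hDN _ h h1.1
          rw [h2, map_mul] at h4
          exact h4
        · intro h
          refine hZD _ ⟨h1.1, h1.2.1, ?_⟩
          rw [h2, map_mul]
          exact h
      refine ⟨v₁, hmemE v₁ hv₁ hu₁, hZD _ ⟨v₁.2, congrArg Subtype.val hv₁, hu₁z⟩, v₂,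
        hmemE v₂ hv₂ hu₂, hZD _ ⟨v₂.2, congrArg Subtype.val hv₂, hu₂z⟩, ?_⟩
      rw [hcard v₁ hv₁ hu₁, hcard v₂ hv₂ hu₂]
      exact hne)
  -- one element over `c`
  obtain ⟨c₀, hc₀2, hc₀⟩ := hπ.lift F.c2
  have hc₀c : (c₀ : G) ∈ Over π c :=
    ⟨c₀.2, congrArg Subtype.val hc₀2, by show IsConj c (π c₀); rw [hc₀]⟩
  have hc₀E : (c₀ : G) ∈ liftE hπ F :=
    ⟨c₀.2, congrArg Subtype.val hc₀2, by show π c₀ ∈ E; rw [hc₀]; exact F.cE⟩
  have hc₀1 : (c₀ : G) ≠ 1 := ne_one_of_over F.c1 hc₀c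
  have hz : ∀ x ∈ Subgroup.zpowers (c₀ : G), x = 1 ∨ x = c₀ := by
    rintro x ⟨k, rfl⟩
    have h2 : (c₀ : G) * c₀ = 1 := congrArg Subtype.val hc₀2
    have h3 : (c₀ : G) ^ (2 : ℤ) = 1 := by rw [zpow_two, h2]
    simp only
    rcases Int.even_or_odd' k with ⟨j, hj | hj⟩
    · left; rw [hj, zpow_mul, h3, one_zpow]
    · right; rw [hj, zpow_add, zpow_mul, h3, one_zpow, one_mul, zpow_one]
  have hC₀ : ∀ g : G, g * c₀ = c₀ * g → g ∈ N := by
    intro g hg
    apply hnorm (Subgroup.zpowers (c₀ : G))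
    · rw [Subgroup.zpowers_le]; exact hc₀E
    · intro h
      exact hc₀1 (Subgroup.zpowers_eq_bot.1 h)
    · intro a ha haD
      rcases hz a ha with rfl | rfl
      · obtain ⟨g, x, hx, hgx⟩ := haD
        apply ne_one_of_over hz1 hx
        have : x = g⁻¹ * (g * x * g⁻¹) * g := by group
        rw [this, ← hgx]; group
      · exact not_both F.zc (hDN _ haD c₀.2) hc₀c
    · rw [Subgroup.mem_normalizer_iff]
      intro x
      have h1 : g * c₀ * g⁻¹ = c₀ := by rw [hg, mul_inv_cancel_right]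
      constructor
      · intro hx
        rcases hz x hx with rfl | rfl
        · rw [mul_one, mul_inv_cancel]; exact Subgroup.one_mem _
        · rw [h1]; exact Subgroup.mem_zpowers _
      · intro hx
        rcases hz _ hx with h | h
        · have : x = g⁻¹ * (g * x * g⁻¹) * g := by group
          rw [this, h, mul_one, inv_mul_cancel]; exact Subgroup.one_mem _
        · have : x = g⁻¹ * (g * x * g⁻¹) * g := by group
          rw [this, h, mul_assoc, ← hg, inv_mul_cancel_left]; exact Subgroup.mem_zpowers _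
  intro x hx g hg
  obtain ⟨n, hn, hnx⟩ := isConj_over hπ hc₀c hx
  have h1 : n⁻¹ * g * n ∈ N := by
    apply hC₀
    have h2 : n⁻¹ * g * n * c₀ = n⁻¹ * (g * (n * c₀ * n⁻¹)) * n := by group
    rw [h2, hnx, hg, ← hnx]; group
  have h2 : g = n * (n⁻¹ * g * n) * n⁻¹ := by group
  rw [h2]
  exact N.mul_mem (N.mul_mem hn h1) (N.inv_mem hn)

/-- **The end of the closing.** -/
theorem eq_top (hπ : Cover π) (F : Facts K r z c E) (hz1 : z ≠ 1) {m : ℕ}
    (hz : m ∣ Nat.card (Subgroup.centralizer ({z} : Set K)))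
    (hc : m ∣ Nat.card (Subgroup.centralizer ({c} : Set K)))
    (g1 : ∀ v ∈ Over π r, ∀ g : G, g * v = v * g → g ∈ N)
    (g2 : ∀ v ∈ Over π r, ¬ m ∣ Nat.card (Subgroup.centralizer ({v} : Set G)))
    (g3 : ∀ x ∈ Over π z, ∀ g : G, g * x = x * g → g ∈ N) : N = ⊤ := by
  have fix : ∀ d ∈ Over π r, ∀ g : G, g * d * g⁻¹ ∈ N → g ∈ N := fun d hd g hg =>
    fix_root hπ F hz hc g1 g2 hd hg
  have g4 := centralizer_c hπ F fix g3 hz1
  -- all involutions
  have hall : ∀ x ∈ N, x * x = 1 → x ≠ 1 → ∀ g : G, g * x * g⁻¹ ∈ N → g ∈ N := by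
    intro x hx hx2 hx1 g hg
    refine fix_of_le hπ F fix hx hx2 hx1 ?_ hg
    rcases cases hπ F hx hx2 hx1 with h | h | h
    · exact g3 x h
    · exact g4 x h
    · exact g1 x h
  obtain ⟨s, hs⟩ := exists_over hπ F.z2
  obtain ⟨v, hv⟩ := exists_over hπ F.r2
  rw [eq_top_iff]
  intro g _
  by_contra hg
  have hv2 : g * v * g⁻¹ * (g * v * g⁻¹) = 1 := by
    have : g * v * g⁻¹ * (g * v * g⁻¹) = g * (v * v) * g⁻¹ := by group
    rw [this, Over.sq hv]; group
  rcases Cfsg.Agent.SporRec.Closing249.even_or_odd (Over.sq hs) hv2 with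
    ⟨n, hn⟩ | ⟨w, hw1, hw2, hws, hwv, -⟩
  · have h1 : n⁻¹ * g ∈ N := by
      apply fix v hv
      have h2 : n⁻¹ * g * v * (n⁻¹ * g)⁻¹ = n⁻¹ * (g * v * g⁻¹) * n := by group
      rw [h2, ← hn]
      have h3 : n⁻¹ * (n * s * n⁻¹) * n = s := by group
      rw [h3]; exact Over.mem hs
    have h4 : s ∈ Over π r := by
      have h2 : s = n⁻¹ * g * v * (n⁻¹ * g)⁻¹ := by
        have h3 : n⁻¹ * g * v * (n⁻¹ * g)⁻¹ = n⁻¹ * (g * v * g⁻¹) * n := by group
        rw [h3, ← hn]; group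
      rw [h2]
      exact Over.conj hv h1
    exact not_both F.zr hs h4
  · have hwN : w ∈ N := by
      apply g3 s hs
      calc w * s = w * s * w⁻¹ * w := by group
        _ = s * w := by rw [hws]
    have hwN' : g⁻¹ * w * g ∈ N := by
      apply g1 v hv
      have h1 : w * (g * v * g⁻¹) = g * v * g⁻¹ * w := by
        calc w * (g * v * g⁻¹) = w * (g * v * g⁻¹) * w⁻¹ * w := by group
          _ = g * v * g⁻¹ * w := by rw [hwv]
      calc g⁻¹ * w * g * v = g⁻¹ * (w * (g * v * g⁻¹)) * g := by group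
        _ = v * (g⁻¹ * w * g) := by rw [h1]; group
    apply hg
    have h5 : g⁻¹ ∈ N := hall w hwN hw2 hw1 g⁻¹ (by rw [inv_inv]; exact hwN')
    exact N.inv_mem_iff.1 h5

end Main

end Cfsg.Agent.StdG24.CloFus
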