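import Mathlib.RingTheory.IntegralDomain
import Cfsg.Agent.StdG24.CloFus
import Cfsg.Agent.Lib.KleinGen
import Cfsg.Agent.Involutions.RankThree

/-!
# The normaliser of the extraspecial group (closing of S1767)

* `duality` : `Q` with all commutators in `{1, z}`, `z` central, centre `{1, z}`; an element `w`
  with `w x w⁻¹ ∈ {x, z x}` for all `x ∈ Q` acts on `Q` as an element of `Q`.
* `cent_le` : `C_X(Q) ≤ Y`.
* `nq` : `N_X(Q) ≤ Y`.
-/

set_option autoImplicit false
set_option linter.unusedSectionVars false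

namespace Cfsg.Agent.StdG24.CloNQ

open Cfsg.Agent.StdG24.CloFus

variable {X : Type*} [Group X]

section Duality

variable (Q : Subgroup X) (z : X)

open Classical in
/-- The character `x ↦ [w, x]`. -/
noncomputable def chi (hz2 : z * z = 1) (hz1 : z ≠ 1) (hzc : ∀ x, x * z = z * x) (w : X)
    (hw : ∀ x ∈ Q, w * x = x * w ∨ w * x = z * (x * w)) : Q →* ℤ where
  toFun x := if w * (x : X) = x * w then 1 else -1
  map_one' := by simp
  map_mul' x y := by
    have hne : ∀ a : X, a ≠ z * a := fun a h => hz1 (by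
      have h1 : 1 * a = z * a := by rw [one_mul]; exact h
      exact (mul_right_cancel h1).symm)
    show (if w * ((x : X) * (y : X)) = (x : X) * (y : X) * w then (1 : ℤ) else -1) = _
    rcases hw x x.2 with hx | hx <;> rcases hw y y.2 with hy | hy
    · rw [if_pos hx, if_pos hy, if_pos, one_mul]
      rw [← mul_assoc, hx, mul_assoc, hy, mul_assoc]
    · have h1 : w * ((x : X) * y) = z * (x * y * w) := by
        rw [← mul_assoc, hx, mul_assoc, hy, ← mul_assoc (x : X) z, hzc x]; group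
      have h2 : ¬ w * (y : X) = y * w := by rw [hy]; exact (hne _).symm
      rw [if_pos hx, if_neg h2, if_neg, one_mul]
      rw [h1]; exact (hne _).symm
    · have h1 : w * ((x : X) * y) = z * (x * y * w) := by
        rw [← mul_assoc, hx, mul_assoc, mul_assoc (x : X), hy, mul_assoc (x : X)]
      have h2 : ¬ w * (x : X) = x * w := by rw [hx]; exact (hne _).symm
      rw [if_neg h2, if_pos hy, if_neg, mul_one]
      rw [h1]; exact (hne _).symm
    · have h1 : w * ((x : X) * y) = x * y * w := by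
        rw [← mul_assoc, hx, mul_assoc z, mul_assoc (x : X), hy, ← mul_assoc (x : X) z, hzc x,
          mul_assoc z, ← mul_assoc z z, hz2, one_mul, mul_assoc]
      have h2 : ¬ w * (x : X) = x * w := by rw [hx]; exact (hne _).symm
      have h3 : ¬ w * (y : X) = y * w := by rw [hy]; exact (hne _).symm
      rw [if_neg h2, if_neg h3, if_pos h1]
      norm_num

open Classical in
theorem chi_eq_one_iff (hz2 : z * z = 1) (hz1 : z ≠ 1) (hzc : ∀ x, x * z = z * x) (w : X)
    (hw : ∀ x ∈ Q, w * x = x * w ∨ w * x = z * (x * w)) (x : Q) :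
    chi Q z hz2 hz1 hzc w hw x = 1 ↔ w * (x : X) = x * w := by
  show (if w * (x : X) = x * w then (1 : ℤ) else -1) = 1 ↔ _
  split_ifs with h
  · simp [h]
  · simp [h]

open Classical in
theorem chi_cases (hz2 : z * z = 1) (hz1 : z ≠ 1) (hzc : ∀ x, x * z = z * x) (w : X)
    (hw : ∀ x ∈ Q, w * x = x * w ∨ w * x = z * (x * w)) (x : Q) :
    chi Q z hz2 hz1 hzc w hw x = 1 ∨ chi Q z hz2 hz1 hzc w hw x = -1 := by
  show (if w * (x : X) = x * w then (1 : ℤ) else -1) = 1 ∨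
    (if w * (x : X) = x * w then (1 : ℤ) else -1) = -1
  split_ifs <;> simp

variable [Finite X]

/-- An element inducing on `Q` an automorphism trivial modulo `z` acts as an element of `Q`. -/
theorem duality (hz2 : z * z = 1) (hz1 : z ≠ 1) (hzc : ∀ x, x * z = z * x) (zQ : z ∈ Q)
    (comm : ∀ p ∈ Q, ∀ q ∈ Q, p * q = q * p ∨ p * q = z * (q * p))
    (ext : ∀ q ∈ Q, q ≠ 1 → q ≠ z → ∃ p ∈ Q, p * q ≠ q * p) (w : X)
    (hw : ∀ x ∈ Q, w * x = x * w ∨ w * x = z * (x * w)) :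
    ∃ q ∈ Q, ∀ x ∈ Q, w * x * w⁻¹ = q * x * q⁻¹ := by
  classical
  have : Fintype Q := Fintype.ofFinite _
  have hcq : ∀ q : Q, ∀ x ∈ Q, (q : X) * x = x * q ∨ (q : X) * x = z * (x * q) :=
    fun q x hx => comm q q.2 x hx
  let χ : Q →* ℤ := chi Q z hz2 hz1 hzc w hw
  let ψ : Q → (Q →* ℤ) := fun q => chi Q z hz2 hz1 hzc (q : X) (hcq q)
  by_contra hno
  push Not at hno
  -- every product is non trivial
  have h1 : ∀ q : Q, ∑ x : Q, χ x * ψ q x = 0 := by
    intro q
    have h2 : χ * ψ q ≠ 1 := by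
      intro h
      obtain ⟨x, hx, hne⟩ := hno q q.2
      apply hne
      have h3 : χ ⟨x, hx⟩ * ψ q ⟨x, hx⟩ = 1 := DFunLike.congr_fun h (⟨x, hx⟩ : Q)
      rcases chi_cases Q z hz2 hz1 hzc w hw ⟨x, hx⟩ with h4 | h4
      · have h5 : ψ q ⟨x, hx⟩ = 1 := by
          have h4' : χ ⟨x, hx⟩ = 1 := h4
          rw [h4', one_mul] at h3; exact h3
        have h6 := (chi_eq_one_iff Q z hz2 hz1 hzc w hw ⟨x, hx⟩).1 h4
        have h7 := (chi_eq_one_iff Q z hz2 hz1 hzc (q : X) (hcq q) ⟨x, hx⟩).1 h5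
        have h6' : w * x = x * w := h6
        have h7' : (q : X) * x = x * q := h7
        rw [h6', h7', mul_inv_cancel_right, mul_inv_cancel_right]
      · have h4' : χ ⟨x, hx⟩ = -1 := h4
        have h5 : ψ q ⟨x, hx⟩ = -1 := by
          rw [h4'] at h3; linarith
        have h6 : w * x = z * (x * w) := by
          refine (hw x hx).resolve_left fun h => ?_
          have := (chi_eq_one_iff Q z hz2 hz1 hzc w hw ⟨x, hx⟩).2 h
          rw [this] at h4; norm_num at h4
        have h7 : (q : X) * x = z * (x * q) := by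
          refine (hcq q x hx).resolve_left fun h => ?_
          have h8 : ψ q ⟨x, hx⟩ = 1 := (chi_eq_one_iff Q z hz2 hz1 hzc (q : X) (hcq q) ⟨x, hx⟩).2 h
          rw [h8] at h5; norm_num at h5
        rw [h6, h7]; group
    have h3 := sum_hom_units_eq_zero (χ * ψ q) h2
    simpa using h3
  -- the double sum
  have h2 : ∑ x : Q, ∑ q : Q, χ x * ψ q x = 0 := by
    rw [Finset.sum_comm]
    exact Finset.sum_eq_zero fun q _ => h1 q
  have hsym : ∀ q x : Q, ψ q x = ψ x q := by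
    intro q x
    have h3 : (q : X) * x = x * q ↔ (x : X) * q = q * x := eq_comm
    show (if (q : X) * (x : X) = x * q then (1 : ℤ) else -1) =
      (if (x : X) * (q : X) = q * x then (1 : ℤ) else -1)
    by_cases h : (q : X) * x = x * q
    · rw [if_pos h, if_pos (h3.1 h)]
    · rw [if_neg h, if_neg (fun h' => h (h3.2 h'))]
  let z' : Q := ⟨z, zQ⟩
  have h3 : ∀ x : Q, x ≠ 1 → x ≠ z' → ∑ q : Q, χ x * ψ q x = 0 := by
    intro x hx1 hxz
    rw [← Finset.mul_sum]
    have h4 : ∑ q : Q, ψ q x = ∑ q : Q, ψ x q := Finset.sum_congr rfl fun q _ => hsym q x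
    rw [h4]
    have h5 : ψ x ≠ 1 := by
      intro h
      obtain ⟨p, hp, hne⟩ := ext x x.2 (fun h => hx1 (Subtype.ext h)) (fun h => hxz (Subtype.ext h))
      have h6 : ψ x ⟨p, hp⟩ = 1 := DFunLike.congr_fun h (⟨p, hp⟩ : Q)
      exact hne ((chi_eq_one_iff Q z hz2 hz1 hzc (x : X) (hcq x) ⟨p, hp⟩).1 h6).symm
    rw [sum_hom_units_eq_zero (ψ x) h5, mul_zero]
  have h4 : ∀ x : Q, (x : X) = 1 ∨ (x : X) = z → ∑ q : Q, χ x * ψ q x = Fintype.card Q := by
    intro x hx
    have h5 : ∀ y : X, y * (x : X) = x * y := by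
      intro y
      rcases hx with h | h
      · rw [h]; simp
      · rw [h]; exact hzc y
    have h6 : χ x = 1 := (chi_eq_one_iff Q z hz2 hz1 hzc w hw x).2 (h5 w)
    have h7 : ∀ q : Q, ψ q x = 1 := fun q =>
      (chi_eq_one_iff Q z hz2 hz1 hzc (q : X) (hcq q) x).2 (h5 q)
    simp [h6, h7]
  have h5 : ∑ x : Q, ∑ q : Q, χ x * ψ q x = Fintype.card Q + Fintype.card Q := by
    have hne : (1 : Q) ≠ z' := fun h => hz1 (congrArg Subtype.val h).symm
    rw [← Finset.sum_subset (Finset.subset_univ ({1, z'} : Finset Q)) (by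
      intro x _ hx
      rw [Finset.mem_insert, Finset.mem_singleton, not_or] at hx
      exact h3 x hx.1 hx.2), Finset.sum_pair hne, h4 1 (Or.inl rfl), h4 z' (Or.inr rfl)]
  rw [h2] at h5
  have h6 : 0 < Fintype.card Q := Fintype.card_pos
  have h7 : (0 : ℤ) < Fintype.card Q := by exact_mod_cast h6
  linarith

end Duality

/-! ### The odd part -/

/-- A group of order `2 m`, `m` odd, with a central involution `z` : `C = O ∪ z O`, `O` a subgroup
of odd order, the set of the elements of order dividing `m`. -/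
theorem exists_odd_part {C : Type*} [Group C] [Finite C] (z : C) (hz2 : z * z = 1) (hz1 : z ≠ 1)
    {m : ℕ} (hm : Odd m) (hC : Nat.card C = 2 * m) :
    ∃ O : Subgroup C, Nat.card O = m ∧ (∀ x, x ∈ O ↔ x ^ m = 1) ∧ ∀ x, x ∈ O ∨ z * x ∈ O := by
  obtain ⟨O, hO, hOn, hzO⟩ := Cfsg.Agent.Involutions.RankThree.exists_index_two_of_no_conj
    (⊥ : Subgroup C) hm (by rw [Subgroup.index_bot, hC]) z (by rw [pow_two, hz2]) (by
      intro g hg
      rw [Subgroup.mem_bot] at hg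
      apply hz1
      have h1 : z = g * (g⁻¹ * z * g) * g⁻¹ := by group
      rw [h1, hg]; group)
  have hcard : Nat.card O = m := by
    have h1 := O.card_mul_index
    rw [hO, hC] at h1
    omega
  have h2 : ∀ a b : C, a ∉ O → b ∉ O → a * b ∈ O := by
    intro a b ha hb
    rw [Subgroup.mul_mem_iff_of_index_two hO]
    exact ⟨fun h => absurd h ha, fun h => absurd h hb⟩
  refine ⟨O, hcard, fun x => ⟨fun hx => ?_, fun hx => ?_⟩, fun x => ?_⟩
  · have h1 : (⟨x, hx⟩ : O) ^ Nat.card O = 1 := pow_card_eq_one'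
    rw [hcard] at h1
    exact congrArg Subtype.val h1
  · by_contra hxO
    obtain ⟨k, hk⟩ := hm
    have h3 : x * x ∈ O := h2 x x hxO hxO
    have h4 : x ^ m = (x * x) ^ k * x := by rw [hk, pow_succ, pow_mul, pow_two]
    rw [hx] at h4
    apply hxO
    have h5 : x = ((x * x) ^ k)⁻¹ := by
      rw [eq_inv_iff_mul_eq_one]
      calc x * (x * x) ^ k = (x * x) ^ k * x := by
            rw [← pow_two, ← pow_mul, ← pow_succ, ← pow_succ']
        _ = 1 := h4.symm
    rw [h5]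
    exact O.inv_mem (O.pow_mem h3 k)
  · by_cases hx : x ∈ O
    · exact Or.inl hx
    · exact Or.inr (h2 z x hzO hx)

/-- The index in `L` of `L ∩ Y`, `L` containing a root, is odd. -/
theorem odd_relIndex [Finite X] (Y : Subgroup X) (D : Set X) (DY : ∀ d ∈ D, d ∈ Y)
    (D2 : ∀ d ∈ D, d * d = 1) (fix : ∀ d ∈ D, ∀ x : X, x * d * x⁻¹ ∈ Y → x ∈ Y) (L : Subgroup X)
    (d : X) (hd : d ∈ D) (hdL : d ∈ L) : ¬ 2 ∣ Y.relIndex L := by
  apply odd_index (Y.subgroupOf L) ⟨d, hdL⟩ (Subtype.ext (D2 d hd))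
    (Subgroup.mem_subgroupOf.2 (DY d hd))
  intro y hy
  exact Subgroup.mem_subgroupOf.2 (fix d hd y (Subgroup.mem_subgroupOf.1 hy))

theorem card_mul_relIndex [Finite X] {A B : Subgroup X} (h : A ≤ B) :
    Nat.card A * A.relIndex B = Nat.card B := by
  have h1 := (A.subgroupOf B).card_mul_index
  rw [Nat.card_congr (Subgroup.subgroupOfEquivOfLe h).toEquiv] at h1
  exact h1

theorem card_two [Finite X] {A B : Subgroup X} (h : A ≤ B) {v : X} (hv : v ∈ B) (hvA : v ∉ A)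
    (hB : ∀ b ∈ B, b ∈ A ∨ b * v ∈ A) : Nat.card B = 2 * Nat.card A := by
  have h1 : A.relIndex B = 2 := by
    rw [Subgroup.relIndex, Subgroup.index_eq_two_iff]
    refine ⟨⟨v, hv⟩, fun b => ?_⟩
    rw [Subgroup.mem_subgroupOf, Subgroup.mem_subgroupOf]
    show Xor ((b : X) * v ∈ A) ((b : X) ∈ A)
    rcases hB b b.2 with h | h
    · right
      refine ⟨h, fun h' => hvA ?_⟩
      have : v = (b : X)⁻¹ * ((b : X) * v) := by group
      rw [this]; exact A.mul_mem (A.inv_mem h) h'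
    · left
      refine ⟨h, fun h' => hvA ?_⟩
      have : v = (b : X)⁻¹ * ((b : X) * v) := by group
      rw [this]; exact A.mul_mem (A.inv_mem h') h
  have h2 := card_mul_relIndex h
  rw [h1] at h2
  omega

/-- `C ≤ Y` for a subgroup `C ∋ z` normalised by a root-pure four-group, with `|C ∩ Y|` twice
odd. -/
theorem cent_le [Finite X] (Y : Subgroup X) (D : Set X) (DY : ∀ d ∈ D, d ∈ Y)
    (D2 : ∀ d ∈ D, d * d = 1) (fix : ∀ d ∈ D, ∀ x : X, x * d * x⁻¹ ∈ Y → x ∈ Y) (z : X)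
    (hz2 : z * z = 1) (hz1 : z ≠ 1) (zY : z ∈ Y) (C : Subgroup X) (zC : z ∈ C)
    (v w : X) (hv : v ∈ D) (hw : w ∈ D) (hvw : v * w ∈ D)
    (hc : v * w = w * v) (hvC : ∀ x ∈ C, v * x * v⁻¹ ∈ C) (hwC : ∀ x ∈ C, w * x * w⁻¹ ∈ C)
    (hvnC : v ∉ C) {k : ℕ} (hk : Odd k) (hCY : Nat.card (C ⊓ Y : Subgroup X) = 2 * k) : C ≤ Y := by
  classical
  have cen : ∀ d ∈ D, ∀ g : X, g * d = d * g → g ∈ Y := by
    intro d hd g hg
    apply fix d hd
    rw [hg, mul_inv_cancel_right]
    exact DY d hd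
  have hv2 := D2 v hv
  have hvi : v⁻¹ = v := inv_eq_of_mul_eq_one_right hv2
  have hvY := DY v hv
  -- the group C ∪ C v
  let L : Subgroup X :=
    { carrier := {x | x ∈ C ∨ x * v ∈ C}
      one_mem' := Or.inl C.one_mem
      mul_mem' := by
        rintro a b (ha | ha) (hb | hb)
        · exact Or.inl (C.mul_mem ha hb)
        · right
          rw [mul_assoc]; exact C.mul_mem ha hb
        · right
          have : a * b * v = (a * v) * (v * b * v⁻¹) := by
            rw [hvi]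
            calc a * b * v = a * (v * v) * b * v := by rw [hv2, mul_one]
              _ = _ := by group
          rw [this]
          exact C.mul_mem ha (hvC b hb)
        · left
          have : a * b = (a * v) * (v * (b * v) * v⁻¹) := by
            rw [hvi]
            calc a * b = a * (v * v) * b * (v * v) := by rw [hv2, mul_one, mul_one]
              _ = _ := by group
          rw [this]
          exact C.mul_mem ha (hvC _ hb)
      inv_mem' := by
        rintro a (ha | ha)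
        · exact Or.inl (C.inv_mem ha)
        · right
          have : a⁻¹ * v = v * (a * v)⁻¹ * v⁻¹ := by
            rw [mul_inv_rev, hvi]
            calc a⁻¹ * v = (v * v) * a⁻¹ * v := by rw [hv2, one_mul]
              _ = _ := by group
          change a⁻¹ * v ∈ C
          rw [this]
          exact hvC _ (C.inv_mem ha) }
  have hLmem : ∀ x, x ∈ L ↔ x ∈ C ∨ x * v ∈ C := fun x => Iff.rfl
  have hCL : C ≤ L := fun x hx => Or.inl hx
  have hvL : v ∈ L := Or.inr (by rw [hv2]; exact C.one_mem)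
  have hL2 : Nat.card L = 2 * Nat.card C := card_two hCL hvL hvnC (fun b hb => hb)
  have hLY : Nat.card (L ⊓ Y : Subgroup X) = 2 * Nat.card (C ⊓ Y : Subgroup X) := by
    refine card_two (inf_le_inf_right Y hCL) (v := v) ⟨hvL, hvY⟩ (fun h => hvnC h.1) ?_
    rintro b ⟨hb, hbY⟩
    rcases hb with hb | hb
    · exact Or.inl ⟨hb, hbY⟩
    · exact Or.inr ⟨hb, Y.mul_mem hbY hvY⟩
  have hodd := odd_relIndex Y D DY D2 fix L v hv hvL
  have h1 : Nat.card (L ⊓ Y : Subgroup X) * Y.relIndex L = Nat.card L := by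
    have h2 := card_mul_relIndex (inf_le_left : L ⊓ Y ≤ L)
    rwa [Subgroup.inf_relIndex_left] at h2
  rw [hL2, hLY, hCY] at h1
  have hC : Nat.card C = 2 * (k * Y.relIndex L) := by
    have h3 : 2 * (2 * (k * Y.relIndex L)) = 2 * Nat.card C := by rw [← h1]; ring
    omega
  have hm : Odd (k * Y.relIndex L) := by
    refine hk.mul ?_
    rw [← Nat.not_even_iff_odd, even_iff_two_dvd]
    exact hodd
  obtain ⟨O, hO, hOm, hOz⟩ := exists_odd_part (⟨z, zC⟩ : C) (Subtype.ext hz2)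
    (fun h => hz1 (congrArg Subtype.val h)) hm hC
  have hOX : Nat.card (O.map C.subtype) = k * Y.relIndex L := by
    rw [← hO]
    exact (Nat.card_congr (O.equivMapOfInjective C.subtype C.subtype_injective).toEquiv).symm
  have hmem : ∀ x : X, x ∈ O.map C.subtype ↔ x ∈ C ∧ x ^ (k * Y.relIndex L) = 1 := by
    intro x
    constructor
    · rintro ⟨y, hy, rfl⟩
      exact ⟨y.2, congrArg Subtype.val ((hOm y).1 hy)⟩
    · rintro ⟨hx, hx1⟩
      exact ⟨⟨x, hx⟩, (hOm _).2 (Subtype.ext hx1), rfl⟩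
  have hinv : ∀ u : X, (∀ x ∈ C, u * x * u⁻¹ ∈ C) →
      ∀ x ∈ O.map C.subtype, u * x * u⁻¹ ∈ O.map C.subtype := by
    intro u hu x hx
    rw [hmem] at hx ⊢
    refine ⟨hu x hx.1, ?_⟩
    rw [conj_pow, hx.2]; group
  have hOY : O.map C.subtype ≤ Y := by
    apply Cfsg.Agent.Lib.KleinGen.le_of_klein (O.map C.subtype) Y (by rw [hOX]; exact hm) v w
      hv2 (D2 w hw) hc (hinv v hvC) (hinv w hwC)
    · rintro x ⟨-, hx⟩
      exact cen v hv x (Subgroup.mem_centralizer_singleton_iff.1 hx)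
    · rintro x ⟨-, hx⟩
      exact cen w hw x (Subgroup.mem_centralizer_singleton_iff.1 hx)
    · rintro x ⟨-, hx⟩
      exact cen (v * w) hvw x (Subgroup.mem_centralizer_singleton_iff.1 hx)
  intro x hx
  rcases hOz ⟨x, hx⟩ with h | h
  · exact hOY ⟨_, h, rfl⟩
  · have h2 : z * x ∈ Y := hOY ⟨_, h, rfl⟩
    have h3 : x = z⁻¹ * (z * x) := by group
    rw [h3]
    exact Y.mul_mem (Y.inv_mem zY) h2

/-- **`N_X(Q) ≤ Y`.** -/
theorem nq [Finite X] (Y Q : Subgroup X) (z : X) (D : Set X) (hz2 : z * z = 1) (hz1 : z ≠ 1)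
    (hzc : ∀ x, x * z = z * x) (QY : Q ≤ Y) (zQ : z ∈ Q)
    (comm : ∀ p ∈ Q, ∀ q ∈ Q, p * q = q * p ∨ p * q = z * (q * p))
    (ext : ∀ q ∈ Q, q ≠ 1 → q ≠ z → ∃ p ∈ Q, p * q ≠ q * p)
    (norm : ∀ y ∈ Y, ∀ q ∈ Q, y * q * y⁻¹ ∈ Q)
    (DY : ∀ d ∈ D, d ∈ Y) (D2 : ∀ d ∈ D, d * d = 1)
    (fix : ∀ d ∈ D, ∀ x : X, x * d * x⁻¹ ∈ Y → x ∈ Y)
    (v w : X) (hv : v ∈ D) (hw : w ∈ D) (hvw : v * w ∈ D) (hc : v * w = w * v)
    (hvQ : ∃ q ∈ Q, v * q ≠ q * v)
    {k : ℕ} (hk : Odd k)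
    (hCY : Nat.card (Subgroup.centralizer (Q : Set X) ⊓ Y : Subgroup X) = 2 * k)
    (n : X) {u u' : X} (hu : u ∈ D) (hu' : u' ∈ D)
    (huu : ∀ x ∈ Q, u'⁻¹ * (n * u * n⁻¹) * x = x * (u'⁻¹ * (n * u * n⁻¹)) ∨
      u'⁻¹ * (n * u * n⁻¹) * x = z * (x * (u'⁻¹ * (n * u * n⁻¹)))) : n ∈ Y := by
  have hCm : ∀ x, x ∈ Subgroup.centralizer (Q : Set X) ↔ ∀ q ∈ Q, q * x = x * q := fun x =>
    Subgroup.mem_centralizer_iff
  have hCn : ∀ y ∈ Y, ∀ x ∈ Subgroup.centralizer (Q : Set X),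
      y * x * y⁻¹ ∈ Subgroup.centralizer (Q : Set X) := by
    intro y hy x hx
    rw [hCm] at hx ⊢
    intro q hq
    have h1 := hx (y⁻¹ * q * y) (by
      have := norm y⁻¹ (Y.inv_mem hy) q hq
      rwa [inv_inv] at this)
    calc q * (y * x * y⁻¹) = y * (y⁻¹ * q * y * x) * y⁻¹ := by group
      _ = y * (x * (y⁻¹ * q * y)) * y⁻¹ := by rw [h1]
      _ = y * x * y⁻¹ * q := by group
  have hC : Subgroup.centralizer (Q : Set X) ≤ Y := by
    apply cent_le Y D DY D2 fix z hz2 hz1 (QY zQ) _ ((hCm z).2 fun q _ => hzc q)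
      v w hv hw hvw hc (hCn v (DY v hv)) (hCn w (DY w hw)) ?_ hk hCY
    intro h
    obtain ⟨q, hq, hne⟩ := hvQ
    exact hne (((hCm v).1 h) q hq).symm
  obtain ⟨q, hq, hqx⟩ := duality Q z hz2 hz1 hzc zQ comm ext (u'⁻¹ * (n * u * n⁻¹)) huu
  have h1 : q⁻¹ * (u'⁻¹ * (n * u * n⁻¹)) ∈ Subgroup.centralizer (Q : Set X) := by
    rw [hCm]
    intro x hx
    have h2 := hqx x hx
    revert h2
    generalize u'⁻¹ * (n * u * n⁻¹) = e
    intro h2
    have h3 : e * x = q * x * q⁻¹ * e := by rw [← h2]; group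
    calc x * (q⁻¹ * e) = q⁻¹ * (q * x * q⁻¹ * e) := by group
      _ = q⁻¹ * (e * x) := by rw [← h3]
      _ = q⁻¹ * e * x := by group
  have h2 := hC h1
  apply fix u hu
  have h3 : n * u * n⁻¹ = u' * q * (q⁻¹ * (u'⁻¹ * (n * u * n⁻¹))) := by group
  rw [h3]
  exact Y.mul_mem (Y.mul_mem (DY u' hu') (QY hq)) h2

end Cfsg.Agent.StdG24.CloNQ
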