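import Cfsg.Agent.StdG24.Ax6
import Cfsg.Agent.StdG24.Facts

/-!
# The structure of the centraliser of `v` and of `⟨w ^ C(v)⟩`
-/

set_option autoImplicit false
set_option linter.constructorNameAsVariable false
set_option linter.unusedVariables false

namespace Cfsg.Agent.StdG24.Cv6

open Cfsg.Agent.SporRec
open Cfsg.Agent.SporRec.GF4
open Cfsg.Agent.SporRec.G24Code (app ofBits)
open Cfsg.Agent.SporRec.G24Orb (allb allb_spec)
open Cfsg.Agent.StdG24.Mod6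
open Cfsg.Agent.StdG24.Ord6
open Cfsg.Agent.StdG24.Al6
open Cfsg.Agent.StdG24.Cent6
open Cfsg.Agent.StdG24.Inv6
open Cfsg.Agent.StdG24.Cls6
open Cfsg.Agent.StdG24.Ax6

/-- an optional letter -/
def opt (r : Fin 12) : ℕ → Wd
  | 0 => []
  | k + 1 => [(r, Fin.ofNat 3 k)]

/-- the elements of `X₁₀ X₁₁` -/
def rw2 (s t : ℕ) : Wd := opt 10 s ++ opt 11 t

/-- the elements of `X₉` -/
def opt9 : ℕ → Wd
  | 0 => []
  | 1 => [(9, 0)]
  | 2 => [(9, 2)]
  | _ => [(9, 1)]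

/-- the elements of `X₉ X₁₀ X₁₁` -/
def rw3 (c s t : ℕ) : Wd := opt9 c ++ rw2 s t

theorem rw3_check : ∀ c < 4, ∀ s < 4, ∀ t < 4, app (cw (rw3 c s t)) 1 = 1 ∧
    app (cw (rw3 c s t)) 1024 = 1024 + (c + (16 * s + 4 * t)) := by decide +kernel

theorem mod_check : allb (fun m => !(!(Nat.testBit m 6) && (!(Nat.testBit m 7) && (!(Nat.testBit m 8) &&
    (!(Nat.testBit m 9) && ((Nat.testBit m 10) && !(Nat.testBit m 11)))))) || Nat.beq (m / 64) 16) 4096 = true := by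
  decide +kernel

theorem ofBits_zero : ∀ a b : Bool, ofBits a b = 0 → a = false ∧ b = false := by decide
theorem ofBits_one : ∀ a b : Bool, ofBits a b = 1 → a = true ∧ b = false := by decide

theorem e1_34 : e1 3 = 0 ∧ e1 4 = 0 := by decide +kernel

theorem Cv_e1_code {g : GL6} (hg : g ∈ Cv) :
    ∃ c < 4, ∃ s < 4, ∃ t < 4, act g e1 = dec (1024 + (c + (16 * s + 4 * t))) := by
  obtain ⟨a, ha, h3, h4, h5⟩ := Cv_e1 hg
  obtain ⟨m, hm, hme⟩ := exists_dec (act g e1)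
  have k3 : (dec m) 3 = 0 := by
    rw [hme, ha]
    change e1 3 + a 3 = 0
    rw [h3, e1_34.1, add_zero]
  have k4 : (dec m) 4 = 0 := by
    rw [hme, ha]
    change e1 4 + a 4 = 0
    rw [h4, e1_34.2, add_zero]
  have k5 : (dec m) 5 = 1 := by
    rw [hme, ha]
    change e1 5 + a 5 = 1
    rw [h5, e1_5, add_zero]
  obtain ⟨b6, b7⟩ := ofBits_zero _ _ k3
  obtain ⟨b8, b9⟩ := ofBits_zero _ _ k4
  obtain ⟨b10, b11⟩ := ofBits_one _ _ k5
  have h := allb_spec mod_check m hm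
  have b6' : m.testBit 6 = false := b6
  have b7' : m.testBit 7 = false := b7
  have b8' : m.testBit 8 = false := b8
  have b9' : m.testBit 9 = false := b9
  have b10' : m.testBit 10 = true := b10
  have b11' : m.testBit 11 = false := b11
  simp only [b6', b7', b8', b9', b10', b11', Bool.not_false, Bool.and_true, Bool.not_true,
    Bool.false_or] at h
  have h1 : m / 64 = 16 := Nat.eq_of_beq_eq_true h
  refine ⟨m % 4, by omega, (m / 16) % 4, by omega, (m / 4) % 4, by omega, ?_⟩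
  rw [← hme]
  congr 1
  omega

theorem rw3_e0 {c s t : ℕ} (hc : c < 4) (hs : s < 4) (ht : t < 4) : act (ev (rw3 c s t)) e0 = e0 :=
  ((isCode_ev _).app_eq_iff (by norm_num) (by norm_num)).2 (rw3_check c hc s hs t ht).1

theorem rw3_e1 {c s t : ℕ} (hc : c < 4) (hs : s < 4) (ht : t < 4) :
    act (ev (rw3 c s t)) e1 = dec (1024 + (c + (16 * s + 4 * t))) :=
  ((isCode_ev _).app_eq_iff (by norm_num) (by omega)).2 (rw3_check c hc s hs t ht).2

theorem Cv_split {g : GL6} (hg : g ∈ Cv) :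
    ∃ c < 4, ∃ s < 4, ∃ t < 4, ∃ b ∈ Al, g = ev (rw3 c s t) * b ∧
      act g e1 = dec (1024 + (c + (16 * s + 4 * t))) := by
  obtain ⟨c, hc, s, hs, t, ht, h⟩ := Cv_e1_code hg
  refine ⟨c, hc, s, hs, t, ht, (ev (rw3 c s t))⁻¹ * g, mem_Al_iff.2
    ⟨⟨L.mul_mem (L.inv_mem (ev_mem _)) hg.1, ?_⟩, ?_⟩, (mul_inv_cancel_left _ _).symm, h⟩
  · rw [act_mul, Cv_e0 hg]
    exact (act_eq_iff.1 (rw3_e0 hc hs ht)).symm
  · rw [act_mul, h, ← rw3_e1 hc hs ht, act_inv_act]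

theorem chi_check : ∀ c < 4, ∀ s < 4, ∀ t < 4, formC (1024 + (c + (16 * s + 4 * t))) 1024 = 0 → c = 0 := by
  decide +kernel

theorem Wv_split {g : GL6} (hg : g ∈ Wv) :
    ∃ s < 4, ∃ t < 4, ∃ b ∈ Al, g = ev (rw2 s t) * b := by
  obtain ⟨c, hc, s, hs, t, ht, b, hb, h1, h2⟩ := Cv_split hg.1
  have h3 := hg.2
  rw [chi, h2] at h3
  have h4 := chi_check c hc s hs t ht h3
  subst h4
  exact ⟨s, hs, t, ht, b, hb, h1⟩

/-! ### The involutions of `Wv` -/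

def qOk (Y : List ℕ) : Bool := !(eqC (mulC Y Y) idC) ||
  (List.range 6).all fun i => decide (formC (4 ^ i) (app Y (4 ^ i)) = 0)

def qAll : Bool := (List.range 4).all fun s => (List.range 4).all fun t => (fun R =>
  ALT.all fun e => qOk (mulC R e.1)) (cw (rw2 s t))

theorem q_check : qAll = true := by decide +kernel

theorem Wv_inv {g : GL6} (hg : g ∈ Wv) (hgg : g * g = 1) : ∃ l ∈ L, l * g * l⁻¹ ∈ Al := by
  obtain ⟨s, hs, t, ht, b, hb, rfl⟩ := Wv_split hg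
  obtain ⟨e, he, hbe⟩ := exists_cod_Al hb
  have hc : IsCode ((ev (rw2 s t) * b : GL6) : Mat) (mulC (cw (rw2 s t)) e.1) :=
    isCode_mul' (isCode_ev _) hbe.1
  have c := List.all_eq_true.1 (List.all_eq_true.1 (List.all_eq_true.1 q_check s (List.mem_range.2 hs)) t
    (List.mem_range.2 ht)) e he
  rw [qOk, Bool.or_eq_true, Bool.not_eq_true'] at c
  have h1 := (eq_one_iff (isCode_mul' hc hc)).1 hgg
  rcases c with c | c
  · rw [h1] at c
    exact absurd c (by decide)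
  · apply conj_Al hg.1.1 hgg
    apply q_of_basis hg.1.1 hgg
    intro i hi
    have h2 := of_decide_eq_true (List.all_eq_true.1 c i (List.mem_range.2 hi))
    have h3 : (4 : ℕ) ^ i < 4096 := by
      calc (4 : ℕ) ^ i < 4 ^ 6 := Nat.pow_lt_pow_right (by norm_num) hi
        _ = 4096 := by norm_num
    rw [formC, hc.spec _ h3] at h2
    exact h2

/-! ### `Wof w v` -/

theorem wE_chi : chi wE = 0 := by rw [chi, fixw_e1, form_self]

theorem wE_Cv : wE ∈ Cv := ⟨Al_le wE_mem, comm_Al_As wE_mem vE_mem⟩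

theorem Al_le_Cv : Al ≤ Cv := fun a ha => ⟨Al_le ha, comm_Al_As ha vE_mem⟩

theorem Wof_le {y : L} (hy : y ∈ Wof lw lv) : (y : GL6) ∈ Wv := by
  induction hy using Subgroup.closure_induction with
  | mem y hy =>
    obtain ⟨x, hx, rfl⟩ := hy
    have hx' : (x : GL6) ∈ Cv := ⟨x.2, congrArg Subtype.val hx⟩
    refine ⟨Cv.mul_mem (Cv.mul_mem hx' wE_Cv) (Cv.inv_mem hx'), ?_⟩
    change chi ((x : GL6) * wE * (x : GL6)⁻¹) = 0
    rw [chi_mul (Cv.mul_mem hx' wE_Cv) (Cv.inv_mem hx'), chi_mul hx' wE_Cv, chi_inv hx', wE_chi,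
      add_zero, F4_add_self]
  | one => exact Wv.one_mem
  | mul b c _ _ hb hc => exact Wv.mul_mem hb hc
  | inv b _ hb => exact Wv.inv_mem hb

/-- `x_r(t) = [r, w]` for `r` in `X₁₀ X₁₁` -/
theorem comm_check' : ∀ t : Fin 3, (∃ a < 4, ∃ b < 4, cw [(10, t)] =
    cw (rw2 a b ++ [(5, 0), (6, 1)] ++ (rw2 a b).reverse ++ [(6, 1), (5, 0)])) ∧
    (∃ a < 4, ∃ b < 4, cw [(11, t)] =
    cw (rw2 a b ++ [(5, 0), (6, 1)] ++ (rw2 a b).reverse ++ [(6, 1), (5, 0)])) := by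
  decide +kernel

theorem wE_inv : wE⁻¹ = ev [(6, 1), (5, 0)] := (ev_reverse [(5, 0), (6, 1)]).symm

theorem exists_comm (t : Fin 3) : (∃ a < 4, ∃ b < 4, gx 10 t =
    ev (rw2 a b) * wE * (ev (rw2 a b))⁻¹ * wE⁻¹) ∧ (∃ a < 4, ∃ b < 4, gx 11 t =
    ev (rw2 a b) * wE * (ev (rw2 a b))⁻¹ * wE⁻¹) := by
  obtain ⟨⟨a, ha, b, hb, h⟩, ⟨c, hc, d, hd, h'⟩⟩ := comm_check' t
  refine ⟨⟨a, ha, b, hb, ?_⟩, ⟨c, hc, d, hd, ?_⟩⟩
  · have h1 := ev_eq_of h
    rw [ev_singleton, ev_append, ev_append, ev_append, ev_reverse] at h1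
    rw [wE_inv]; exact h1
  · have h1 := ev_eq_of h'
    rw [ev_singleton, ev_append, ev_append, ev_append, ev_reverse] at h1
    rw [wE_inv]; exact h1

theorem comm9_check : ∀ t : Fin 3, ∀ c : Fin 3, (cw [(10, t), (9, c)] = cw [(9, c), (10, t)] ∧
    cw [(11, t), (9, c)] = cw [(9, c), (11, t)]) := by decide +kernel

/-- elements of `X₁₀ X₁₁` -/
theorem rw2_mem {K : Subgroup GL6} (h10 : ∀ t, gx 10 t ∈ K) (h11 : ∀ t, gx 11 t ∈ K) (s t : ℕ) :
    ev (rw2 s t) ∈ K := by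
  rw [rw2, ev_append]
  refine K.mul_mem ?_ ?_
  · cases s with
    | zero => exact K.one_mem
    | succ s => rw [opt, ev_singleton]; exact h10 _
  · cases t with
    | zero => exact K.one_mem
    | succ t => rw [opt, ev_singleton]; exact h11 _

/-- `X₁₀ X₁₁` centralises `v` -/
theorem rw2_Cv (s t : ℕ) : ev (rw2 s t) ∈ Cv :=
  rw2_mem (K := Cv) (fun t => ⟨gx_mem _ _, gx_comm _ _ _ _ (comm9_check t 0).1⟩)
    (fun t => ⟨gx_mem _ _, gx_comm _ _ _ _ (comm9_check t 0).2⟩) s t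

/-- `X₉` commutes with `X₁₀ X₁₁` -/
theorem rw2_comm9 (s t : ℕ) (c : Fin 3) : ev (rw2 s t) * gx 9 c = gx 9 c * ev (rw2 s t) := by
  have h : ev (rw2 s t) ∈ Subgroup.centralizer ({gx 9 c} : Set GL6) := by
    refine rw2_mem (fun t => ?_) (fun t => ?_) s t
    · rw [Subgroup.mem_centralizer_singleton_iff]
      exact gx_comm _ _ _ _ (comm9_check t c).1
    · rw [Subgroup.mem_centralizer_singleton_iff]
      exact gx_comm _ _ _ _ (comm9_check t c).2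
  exact Subgroup.mem_centralizer_singleton_iff.1 h

theorem opt9_cases (c : ℕ) : opt9 c = [] ∨ ∃ t, opt9 c = [(9, t)] := by
  match c with
  | 0 => exact Or.inl rfl
  | 1 => exact Or.inr ⟨0, rfl⟩
  | 2 => exact Or.inr ⟨2, rfl⟩
  | c + 3 => exact Or.inr ⟨1, rfl⟩

theorem opt9_mem (c : ℕ) : ev (opt9 c) ∈ As := by
  rcases opt9_cases c with h | ⟨t, h⟩
  · rw [h]; exact As.one_mem
  · rw [h, ev_singleton]; exact gx9_mem _

theorem opt9_comm (s t c : ℕ) : ev (rw2 s t) * ev (opt9 c) = ev (opt9 c) * ev (rw2 s t) := by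
  rcases opt9_cases c with h | ⟨i, h⟩
  · rw [h, ev_nil, mul_one, one_mul]
  · rw [h, ev_singleton]; exact rw2_comm9 _ _ _

/-- Let `P` be a set of elements of `L` such that all `x w x⁻¹` (`x ∈ P`) lie in `K`. If `P` contains
`Al` and `X₁₀ X₁₁` then `K` contains `Al`, `X₁₀ X₁₁`, and all conjugates of `w` under `C(v)`. -/
theorem conj_mem {K : Subgroup GL6} (h1 : ∀ a ∈ Al, a * wE * a⁻¹ ∈ K)
    (h2 : ∀ s < 4, ∀ t < 4, ev (rw2 s t) * wE * (ev (rw2 s t))⁻¹ ∈ K) :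
    Al ≤ K ∧ (∀ s t, ev (rw2 s t) ∈ K) ∧ ∀ g ∈ Cv, g * wE * g⁻¹ ∈ K := by
  have hA : Al ≤ K := Al_le_of_conj h1
  have hR : ∀ s t, ev (rw2 s t) ∈ K := by
    refine rw2_mem (fun t => ?_) (fun t => ?_)
    · obtain ⟨⟨a, ha, b, hb, h⟩, -⟩ := exists_comm t
      rw [h]
      exact K.mul_mem (h2 a ha b hb) (K.inv_mem (hA wE_mem))
    · obtain ⟨-, ⟨a, ha, b, hb, h⟩⟩ := exists_comm t
      rw [h]
      exact K.mul_mem (h2 a ha b hb) (K.inv_mem (hA wE_mem))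
  refine ⟨hA, hR, fun g hg => ?_⟩
  obtain ⟨c, hc, s, hs, t, ht, b, hb, rfl, -⟩ := Cv_split hg
  have e1 : ev (rw3 c s t) * b * wE * (ev (rw3 c s t) * b)⁻¹ =
      ev (rw2 s t) * (b * wE * b⁻¹) * (ev (rw2 s t))⁻¹ := by
    have k1 : ev (rw2 s t) * ev (opt9 c) = ev (opt9 c) * ev (rw2 s t) := opt9_comm s t c
    have k2 : (b * wE * b⁻¹) * ev (opt9 c) = ev (opt9 c) * (b * wE * b⁻¹) :=
      comm_Al_As (Al.mul_mem (Al.mul_mem hb wE_mem) (Al.inv_mem hb)) (opt9_mem c)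
    rw [rw3, ev_append, ← k1]
    calc ev (rw2 s t) * ev (opt9 c) * b * wE * (ev (rw2 s t) * ev (opt9 c) * b)⁻¹
        = ev (rw2 s t) * (ev (opt9 c) * (b * wE * b⁻¹)) * (ev (opt9 c))⁻¹ * (ev (rw2 s t))⁻¹ := by group
      _ = ev (rw2 s t) * ((b * wE * b⁻¹) * ev (opt9 c)) * (ev (opt9 c))⁻¹ * (ev (rw2 s t))⁻¹ := by rw [k2]
      _ = _ := by group
  rw [e1]
  exact K.mul_mem (K.mul_mem (hR s t) (K.mul_mem (K.mul_mem (hA hb) (hA wE_mem)) (K.inv_mem (hA hb))))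
    (K.inv_mem (hR s t))

end Cfsg.Agent.StdG24.Cv6
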