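import Cfsg.Agent.StdG24.GenJ

/-!
# `J_L = ⟨s, t, x, y, q, r⟩`
-/

set_option autoImplicit false
set_option maxRecDepth 20000

namespace Cfsg.Agent.StdG24.GenJL

open Cfsg.Agent.StdG24.Words Cfsg.Agent.StdG24.PWords Cfsg.Agent.StdG24.CentX Cfsg.Agent.StdG24.GenJ

/-- the generators of `J_L` as words in `s, t, x, y, q, r` (letters of `PWords.pl`) -/
def jlw : List (List ℕ) := [[0, 4, 3, 5, 10, 6, 10, 10, 5, 3, 5, 10], [2, 4, 3, 10, 5, 7, 4, 3, 7, 10],
  [2, 6, 4, 2, 10, 6, 3, 5, 3, 10, 10], [5, 7, 3, 4, 10, 10, 6, 3, 4, 10, 10],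
  [2, 7, 2, 5, 2, 10, 10, 5, 2, 10, 10], [2, 6, 5, 10, 10, 5, 3, 6, 10, 10, 5, 10, 10], [0]]

theorem jlw_chk : ((List.range 7).all fun i => eqc (jg.getD i []) (gw pg (jlw.getD i []))) = true := by
  decide +kernel

theorem jlw_lt : ∀ i < 7, ∀ c ∈ jlw.getD i [], c < 11 ∧ c ≠ 8 ∧ c ≠ 9 := by decide +kernel

/-- the words of `jg` lie in `⟨s, t, x, y, q, r⟩` -/
theorem jg_mem_closure : ∀ a ∈ jg, E a ∈ Subgroup.closure ({s, t, x, y, q, r} : Set L0) := by
  have hg : ∀ c, c < 11 ∧ c ≠ 8 ∧ c ≠ 9 → pl c ∈ Subgroup.closure ({s, t, x, y, q, r} : Set L0) := by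
    rintro c ⟨hc, h8, h9⟩
    have hm : ∀ a ∈ ({s, t, x, y, q, r} : Set L0), a ∈ Subgroup.closure ({s, t, x, y, q, r} : Set L0) :=
      fun a ha => Subgroup.subset_closure ha
    interval_cases c
    · exact hm s (by simp)
    · exact hm t (by simp)
    · exact hm x (by simp)
    · exact Subgroup.inv_mem _ (hm x (by simp))
    · exact hm y (by simp)
    · exact Subgroup.inv_mem _ (hm y (by simp))
    · exact hm q (by simp)
    · exact Subgroup.inv_mem _ (hm q (by simp))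
    · exact absurd rfl h8
    · exact absurd rfl h9
    · exact hm r (by simp)
  intro a ha
  obtain ⟨i, hi, rfl⟩ := List.getElem_of_mem ha
  have hi6 : i < 7 := hi
  have h1 := List.all_eq_true.1 jlw_chk i (List.mem_range.2 hi6)
  have h2 : E (jg.getD i []) = pp (jlw.getD i []) := by rw [pp_eq_E]; exact E_eq h1
  rw [List.getD_eq_getElem _ _ hi] at h2
  rw [h2]
  refine Subgroup.list_prod_mem _ fun z hz => ?_
  obtain ⟨c, hc, rfl⟩ := List.mem_map.1 hz
  exact hg c (jlw_lt i hi6 c hc)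

/-- `J_L ≤ ⟨s, t, x, y, q, r⟩` -/
theorem JL_le : JL ≤ Subgroup.closure ({s, t, x, y, q, r} : Set L0) := by
  have h : ∀ a ∈ jg, E a ∈ Subgroup.closure ({s, t, x, y, q, r} : Set L0) := jg_mem_closure
  refine sup_le ?_ ?_
  · rw [As, Subgroup.closure_le]
    intro a ha
    simp only [Set.mem_insert_iff, Set.mem_singleton_iff] at ha
    rcases ha with rfl | rfl | rfl | rfl | rfl | rfl
    · exact h [xr 2 0] (by simp [jg])
    · exact h [xr 2 1] (by simp [jg])
    · exact h [xr 2 2] (by simp [jg])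
    · exact h [xr 9 0] (by simp [jg])
    · exact h [xr 9 1] (by simp [jg])
    · exact h [xr 9 2] (by simp [jg])
  · rw [Subgroup.closure_le]
    intro a ha
    rw [Set.mem_singleton_iff] at ha
    rw [ha]
    exact h nW (by simp [jg])

end Cfsg.Agent.StdG24.GenJL
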