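import Cfsg.Agent.StdG24.EightSix
import Cfsg.Agent.StdG24.AutX
import Cfsg.Agent.StdG24.P957Of
import Cfsg.Agent.StdG24.Basic
import Cfsg.Agent.StdG24.AutL
import Cfsg.Agent.StdG24.GenJL

/-!
# Step 8 of S1767: the presentation `P957`

`j : L₀ → Γ` an embedding of `G₂(4)` with `C(j L₀) ≅ A₄`, `V = O₂(C(j L₀))`, such that the centralisers of
the involutions of `V` normalise `j L₀`, and `B = C(j J_L) ≅ A₅`. Then `⟨B, B^v⟩ ≅ A₆` and we find
`w₀, d, e` with the relations of `P957`.
-/

set_option autoImplicit false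

namespace Cfsg.Agent.StdG24.Eight

open Subgroup Cfsg.Agent.StdG24.Words Cfsg.Agent.StdG24.PWords Cfsg.Agent.StdG24.CentX
  Cfsg.Agent.StdG24.GenJ Cfsg.Agent.StdG24.AutX Cfsg.Agent.CoOneType

open scoped commutatorElement

variable {G : Type*} [Group G]

/-- The input of step 8. -/
structure In (j : L0 →* G) (V B : Subgroup G) : Prop where
  inj : Function.Injective j
  V4 : Nat.card V = 4
  sq : ∀ v ∈ V, v * v = 1
  Vj : V ≤ KK j
  cent : ∀ v ∈ V, v ≠ 1 → ∀ g, g * v = v * g → g ∈ MM j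
  self : ∀ v ∈ V, v ≠ 1 → ∀ k ∈ KK j, k * v = v * k → k ∈ V
  K12 : Nat.card (KK j) = 12
  KV : ∀ k ∈ KK j, ∀ v ∈ V, k * v * k⁻¹ ∈ V
  BA : Nonempty (B ≃* alternatingGroup (Fin 5))
  mem_B : ∀ g, g ∈ B ↔ ∀ l ∈ JL, g * j l = j l * g

/-- The output of step 8. -/
structure Out (j : L0 →* G) (V B : Subgroup G) (w d e : G) : Prop where
  w_mem : w ∈ V
  w_ne : w ≠ 1
  d_mem : d ∈ B
  e_mem : e ∈ MM j
  e_not : e ∉ KK j
  w2 : w * w = 1
  d2 : d * d = 1
  e2 : e * e = 1
  wd : (w * d) ^ 3 = 1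
  de : (d * e) ^ 3 = 1
  we : Commute w e
  es : Commute e (j s)
  et : Commute e (j t)
  ex : Commute e (j x)
  ey : Commute e (j y)
  eq : Commute e (j q)
  ev : e * j v * e = (j v)⁻¹
  df : Commute d (j v * e)

/-- the automorphism of `L` induced by an element of `M` -/
theorem exists_aut {L : Type*} [Group L] {j : L →* G} (hj : Function.Injective j) {m : G} (hm : m ∈ MM j) :
    ∃ α : L ≃* L, ∀ x, j (α x) = m * j x * m⁻¹ := by
  obtain ⟨h1, h2⟩ := mem_MM.1 hm
  choose f hf using h1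
  choose f' hf' using h2
  refine ⟨{ toFun := f, invFun := f', left_inv := fun x => hj ?_, right_inv := fun x => hj ?_,
            map_mul' := fun x y => hj ?_ }, fun x => (hf x).symm⟩
  · rw [← hf', ← hf]; group
  · rw [← hf, ← hf']; group
  · rw [map_mul, ← hf, ← hf, ← hf, map_mul]; group

namespace In

variable {j : L0 →* G} {V B : Subgroup G} (h : In j V B)
include h

theorem KB : KK j ≤ B := by
  intro k hk
  rw [h.mem_B]
  intro l _
  exact mem_KK.1 hk l

theorem VB : V ≤ B := h.Vj.trans h.KB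

/-- the subgroup `⟨B, B^v⟩` -/
noncomputable def Y (_ : In j V B) : Subgroup G := B ⊔ B.map (MulAut.conj (j v)⁻¹).toMonoidHom

theorem BY : B ≤ h.Y := le_sup_left

theorem mem_conj {b : G} (hb : b ∈ B) : (j v)⁻¹ * b * j v ∈ h.Y := by
  refine (le_sup_right : _ ≤ h.Y) ⟨b, hb, ?_⟩
  simp

/-- `Y` centralises `s, t, x, y, q` -/
theorem Y_cent {g : G} (hg : g ∈ h.Y) {l : L0} (hl : l ∈ JL) (hl' : v * l * v⁻¹ ∈ JL) :
    g * j l = j l * g := by
  have h1 : h.Y ≤ centralizer {j l} := by
    refine sup_le ?_ ?_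
    · intro b hb
      rw [mem_centralizer_singleton_iff]
      exact (h.mem_B b).1 hb l hl
    · rintro _ ⟨b, hb, rfl⟩
      rw [mem_centralizer_singleton_iff]
      show (j v)⁻¹ * b * (j v)⁻¹⁻¹ * j l = j l * ((j v)⁻¹ * b * (j v)⁻¹⁻¹)
      have h2 := (h.mem_B b).1 hb _ hl'
      rw [map_mul, map_mul, map_inv] at h2
      calc (j v)⁻¹ * b * (j v)⁻¹⁻¹ * j l = (j v)⁻¹ * (b * (j v * j l * (j v)⁻¹)) * j v := by group
        _ = (j v)⁻¹ * (j v * j l * (j v)⁻¹ * b) * j v := by rw [h2]
        _ = _ := by group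
  exact mem_centralizer_singleton_iff.1 (h1 hg)

omit [Group G] h in
theorem _root_.Cfsg.Agent.StdG24.Eight.conj_of_comm {a : L0} (ha : a ∈ JL) (hc : v * a = a * v) : v * a * v⁻¹ ∈ JL := by
  rw [hc, mul_inv_cancel_right]; exact ha

theorem Ys {g : G} (hg : g ∈ h.Y) : g * j s = j s * g := h.Y_cent hg s_mem (conj_of_comm s_mem vs')
theorem Yt {g : G} (hg : g ∈ h.Y) : g * j t = j t * g := h.Y_cent hg t_mem (conj_of_comm t_mem vt')
theorem Yx {g : G} (hg : g ∈ h.Y) : g * j x = j x * g := h.Y_cent hg x_mem (conj_of_comm x_mem vx')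
theorem Yy {g : G} (hg : g ∈ h.Y) : g * j y = j y * g := h.Y_cent hg y_mem (conj_of_comm y_mem vy')
theorem Yq {g : G} (hg : g ∈ h.Y) : g * j q = j q * g := h.Y_cent hg q_mem vqv_mem

theorem comm_B : B ≤ ⁅B, B⁆ := by
  obtain ⟨a⟩ := h.BA
  have h1 := AutL.comm_top a
  have h2 := Subgroup.map_subtype_commutator B
  rw [h1] at h2
  rw [← h2, ← MonoidHom.range_eq_map, Subgroup.range_subtype]

theorem comm_Y : h.Y ≤ ⁅h.Y, h.Y⁆ := by
  refine sup_le ?_ ?_
  · exact h.comm_B.trans (commutator_mono h.BY h.BY)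
  · have h1 : B.map (MulAut.conj (j v)⁻¹).toMonoidHom ≤ h.Y := le_sup_right
    refine (Subgroup.map_mono h.comm_B).trans ?_
    rw [Subgroup.map_commutator]
    exact commutator_mono h1 h1

theorem perf : commutator h.Y = ⊤ := by
  have h2 := Subgroup.map_subtype_commutator h.Y
  have h3 : (commutator h.Y).map h.Y.subtype = (⊤ : Subgroup h.Y).map h.Y.subtype := by
    rw [h2, ← MonoidHom.range_eq_map, Subgroup.range_subtype]
    refine le_antisymm ?_ h.comm_Y
    rw [Subgroup.commutator_le]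
    intro a ha b hb
    rw [commutatorElement_def]
    exact h.Y.mul_mem (h.Y.mul_mem (h.Y.mul_mem ha hb) (h.Y.inv_mem ha)) (h.Y.inv_mem hb)
  exact Subgroup.map_injective h.Y.subtype_injective h3

theorem cardB : Nat.card B = 60 := by
  obtain ⟨a⟩ := h.BA
  rw [Nat.card_congr a.toEquiv]
  have h1 := card_alternatingGroup (α := Fin 5)
  rw [Nat.card_eq_fintype_card, h1, Fintype.card_fin]
  decide

/-- `B` is not all of `Y` -/
theorem ne : B.subgroupOf h.Y ≠ ⊤ := by
  intro htop
  have hYB : h.Y ≤ B := subgroupOf_eq_top.1 htop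
  have hfin : Finite B := Nat.finite_of_card_ne_zero (by rw [h.cardB]; norm_num)
  -- conjugation by `v` maps `B` to itself
  have h1 : ∀ b ∈ B, (j v)⁻¹ * b * j v ∈ B := fun b hb => hYB (h.mem_conj hb)
  have h2 : ∀ b ∈ B, j v * b * (j v)⁻¹ ∈ B := by
    have hinj : Function.Injective (fun b : B => (⟨_, h1 b b.2⟩ : B)) := by
      intro a b hab
      have := congrArg Subtype.val hab
      apply Subtype.ext
      simpa using this
    have hsur := Finite.surjective_of_injective hinj
    intro b hb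
    obtain ⟨c, hc⟩ := hsur ⟨b, hb⟩
    have hc' : (j v)⁻¹ * (c : G) * j v = b := congrArg Subtype.val hc
    rw [← hc', show j v * ((j v)⁻¹ * (c : G) * j v) * (j v)⁻¹ = c by group]
    exact c.2
  have h3 : ∀ b ∈ B, (centralizer {b}).comap j = ⊤ := by
    intro b hb
    refine eq_top_of_JL ?_ ?_
    · intro l hl
      rw [mem_comap, mem_centralizer_singleton_iff]
      exact ((h.mem_B b).1 hb l hl).symm
    · intro l hl
      rw [mem_comap, mem_centralizer_singleton_iff]
      have h4 := (h.mem_B _).1 (h2 b hb) l hl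
      rw [map_mul, map_mul, map_inv]
      calc (j v)⁻¹ * j l * j v * b = (j v)⁻¹ * (j l * (j v * b * (j v)⁻¹)) * j v := by group
        _ = (j v)⁻¹ * (j v * b * (j v)⁻¹ * j l) * j v := by rw [h4]
        _ = _ := by group
  have h4 : B ≤ KK j := by
    intro b hb
    rw [mem_KK]
    intro l
    have h5 : l ∈ (centralizer {b}).comap j := by rw [h3 b hb]; trivial
    rw [mem_comap, mem_centralizer_singleton_iff] at h5
    exact h5.symm
  have h5 := h.cardB
  have h6 : B = KK j := le_antisymm h4 h.KB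
  rw [h6, h.K12] at h5
  norm_num at h5

/-- the elements of `K` of order at most 2 lie in `V` -/
theorem mem_V {k : G} (hk : k ∈ KK j) (k2 : k * k = 1) : k ∈ V := by
  obtain ⟨u, hu, hu1⟩ : ∃ u ∈ V, u ≠ 1 := by
    by_contra hcon
    push Not at hcon
    have h5 : V = ⊥ := by rw [eq_bot_iff]; intro x hx; rw [mem_bot]; exact hcon x hx
    have h6 := h.V4
    rw [h5, card_bot] at h6
    norm_num at h6
  have inv : ∀ {a : G}, a ∈ V → a⁻¹ = a := fun ha => inv_eq_of_mul_eq_one_left (h.sq _ ha)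
  have hcm : ∀ {a b : G}, a ∈ V → b ∈ V → a * b = b * a := by
    intro a b ha hb
    have := inv (V.mul_mem ha hb)
    rw [mul_inv_rev, inv ha, inv hb] at this
    exact this.symm
  have ki : k⁻¹ = k := inv_eq_of_mul_eq_one_left k2
  have hu' := h.KV k hk u hu
  have hw := V.mul_mem hu hu'
  by_cases h1 : u * (k * u * k⁻¹) = 1
  · apply h.self u hu hu1 k hk
    have h2 : k * u * k⁻¹ = u := by
      rw [← inv hu]
      exact (inv_eq_of_mul_eq_one_right (by rw [inv hu]; exact h1)).symm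
    calc k * u = k * u * k⁻¹ * k := by group
      _ = u * k := by rw [h2]
  · apply h.self _ hw h1 k hk
    have h2 := hcm hu hu'
    calc k * (u * (k * u * k⁻¹)) = (k * u * k⁻¹) * (k * k) * u * k⁻¹ := by group
      _ = (k * u * k⁻¹) * u * k⁻¹ := by rw [k2]; group
      _ = u * (k * u * k⁻¹) * k⁻¹ := by rw [h2]
      _ = u * (k * u * k⁻¹) * k := by rw [ki]

/-- an element of `M` in `Y` acts on `L₀` trivially or as the involution inverting `v` -/
theorem aut {a : G} (haY : a ∈ h.Y) (haM : a ∈ MM j) : ∃ α : L0 ≃* L0, (∀ l, j (α l) = a * j l * a⁻¹) ∧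
    (∀ l ∈ ({s, t, x, y, q} : Set L0), α l = l) ∧ (a ∉ KK j → α v = v⁻¹ ∧ ∀ g, α (α g) = g) := by
  obtain ⟨α, hα⟩ := exists_aut h.inj haM
  have hf : ∀ {l : L0}, a * j l = j l * a → α l = l := by
    intro l hl
    apply h.inj
    rw [hα, hl, mul_inv_cancel_right]
  have hs := hf (h.Ys haY)
  have ht := hf (h.Yt haY)
  have hx := hf (h.Yx haY)
  have hy := hf (h.Yy haY)
  have hq := hf (h.Yq haY)
  refine ⟨α, hα, ?_, ?_⟩
  · intro l hl
    simp only [Set.mem_insert_iff, Set.mem_singleton_iff] at hl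
    rcases hl with rfl | rfl | rfl | rfl | rfl <;> assumption
  · intro haK
    rcases aut_X α hs ht hx hy hq with h1 | h1
    · exfalso
      apply haK
      rw [mem_KK]
      intro l
      have h2 := hα l
      rw [h1] at h2
      calc a * j l = a * j l * a⁻¹ * a := by group
        _ = j l * a := by rw [← h2]
    · exact h1

/-- `|N : K| ≤ 2` -/
theorem N2 {a b : G} (haY : a ∈ h.Y) (haM : a ∈ MM j) (hbY : b ∈ h.Y) (hbM : b ∈ MM j)
    (haK : a ∉ KK j) (hbK : b ∉ KK j) : a * b ∈ KK j := by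
  obtain ⟨α, hα, fα, iα⟩ := h.aut haY haM
  obtain ⟨β, hβ, fβ, iβ⟩ := h.aut hbY hbM
  have h1 := aut_X_unique α β fα fβ (iα haK).1 (iβ hbK).1
  rw [mem_KK]
  intro l
  have h2 : a * b * j l * (a * b)⁻¹ = j l := by
    calc a * b * j l * (a * b)⁻¹ = a * (b * j l * b⁻¹) * a⁻¹ := by group
      _ = a * j (α l) * a⁻¹ := by rw [← hβ, h1]
      _ = j l := by rw [← hα, (iα haK).2]
  calc a * b * j l = a * b * j l * (a * b)⁻¹ * (a * b) := by group
    _ = _ := by rw [h2]

/-- the abstract hypotheses for `Y` -/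
theorem hyp : EightAbs.Hyp (V.subgroupOf h.Y) ((KK j).subgroupOf h.Y) (B.subgroupOf h.Y)
    ((MM j).subgroupOf h.Y) where
  perf := h.perf
  V4 := by rw [Nat.card_congr (subgroupOfEquivOfLe (h.VB.trans h.BY)).toEquiv]; exact h.V4
  sq := fun v hv => Subtype.ext (h.sq v hv)
  VK := fun v hv => h.Vj hv
  KB := fun v hv => h.KB hv
  K12 := by rw [Nat.card_congr (subgroupOfEquivOfLe (h.KB.trans h.BY)).toEquiv]; exact h.K12
  KV := fun k hk v hv => h.KV k hk v hv
  self := fun v hv hv1 k hk hkv =>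
    h.self v hv (fun hcon => hv1 (Subtype.ext hcon)) k hk (congrArg Subtype.val hkv)
  BA := by
    obtain ⟨a⟩ := h.BA
    exact ⟨(subgroupOfEquivOfLe h.BY).trans a⟩
  ne := h.ne
  KN := fun k hk => KK_le_MM j hk
  N2 := fun a ha b hb haK hbK => h.N2 a.2 ha b.2 hb haK hbK
  NV := by
    intro a ha v hv
    refine h.mem_V (Emb.conj_KK ha (h.Vj hv)) ?_
    calc (a : G) * v * (a : G)⁻¹ * (a * v * (a : G)⁻¹) = a * (v * v) * (a : G)⁻¹ := by group
      _ = 1 := by rw [h.sq v hv]; group
  cent := fun v hv hv1 y hy =>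
    h.cent v hv (fun hcon => hv1 (Subtype.ext hcon)) y (congrArg Subtype.val hy)

/-- **Step 8**: the elements `w, d, e`. -/
theorem main [Finite G] : ∃ w d e, Out j V B w d e := by
  obtain ⟨⟨w, hwY⟩, ⟨d, hdY⟩, ⟨e, heY⟩, o⟩ := h.hyp.main
  have hd : d ∈ B := o.d_mem
  have hw : w ∈ V := o.w_mem
  have heM : e ∈ MM j := o.e_mem
  have heK : e ∉ KK j := o.e_not
  have e2 : e * e = 1 := congrArg Subtype.val o.e2
  have ei : e⁻¹ = e := inv_eq_of_mul_eq_one_left e2
  obtain ⟨α, hα, fα, iα⟩ := h.aut heY heM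
  obtain ⟨hαv, -⟩ := iα heK
  have ev : e * j v * e = (j v)⁻¹ := by
    have h1 := hα v
    rw [hαv, map_inv, ei] at h1
    exact h1.symm
  have hαs := fα s (by simp)
  have hαt := fα t (by simp)
  have hαx := fα x (by simp)
  have hαy := fα y (by simp)
  have hαq := fα q (by simp)
  have hαr := aut_r α hαs hαt hαx hαy hαq hαv
  -- the involution `f = v e`
  obtain ⟨f, hf⟩ : ∃ f, f = j v * e := ⟨_, rfl⟩
  have f2 : f * f = 1 := by
    rw [hf]
    calc j v * e * (j v * e) = j v * (e * j v * e) := by group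
      _ = 1 := by rw [ev, mul_inv_cancel]
  have fi : f⁻¹ = f := inv_eq_of_mul_eq_one_left f2
  have hfl : ∀ l, f * j l * f⁻¹ = j (v * α l * v⁻¹) := by
    intro l
    rw [map_mul, map_mul, map_inv, hα, hf]
    group
  -- `f` maps `J_L` to `J_L`
  have hJ : ∀ l ∈ JL, v * α l * v⁻¹ ∈ JL := by
    have h1 : JL ≤ JL.comap ((MulAut.conj v).toMonoidHom.comp α.toMonoidHom) := by
      refine GenJL.JL_le.trans ?_
      rw [closure_le]
      intro a ha
      show v * α a * v⁻¹ ∈ JL
      simp only [Set.mem_insert_iff, Set.mem_singleton_iff] at ha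
      rcases ha with rfl | rfl | rfl | rfl | rfl | rfl
      · rw [hαs]; exact conj_of_comm s_mem vs'
      · rw [hαt]; exact conj_of_comm t_mem vt'
      · rw [hαx]; exact conj_of_comm x_mem vx'
      · rw [hαy]; exact conj_of_comm y_mem vy'
      · rw [hαq]; exact vqv_mem
      · rw [hαr]
        have h2 : v⁻¹ = v * v := inv_eq_of_mul_eq_one_left v3'
        have h3 : v * (r * v⁻¹) * v⁻¹ = r⁻¹ := by
          have h4 : v⁻¹ * v⁻¹ = v := by
            rw [h2]
            calc v * v * (v * v) = v * v * v * v := by group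
              _ = v := by rw [v3', one_mul]
          have h5 : v * r * v * r = 1 := by
            have h6 := rv2'
            calc v * r * v * r = r⁻¹ * (r * v * r * v) * r := by group
              _ = 1 := by rw [h6]; group
          calc v * (r * v⁻¹) * v⁻¹ = v * r * (v⁻¹ * v⁻¹) := by group
            _ = v * r * v := by rw [h4]
            _ = v * r * v * r * r⁻¹ := by group
            _ = r⁻¹ := by rw [h5, one_mul]
        rw [h3]
        exact JL.inv_mem r_mem
    exact fun l hl => h1 hl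
  -- `f` normalises `B`
  have hfB : ∀ b ∈ B, f * b * f⁻¹ ∈ B := by
    intro b hb
    rw [h.mem_B]
    intro l hl
    have h1 := (h.mem_B b).1 hb _ (hJ l hl)
    rw [← hfl l, fi] at h1
    have h2 : f * (b * (f * j l * f)) * f = f * (f * j l * f * b) * f := by rw [h1]
    have h3 : f * (b * (f * j l * f)) * f = f * b * f * j l := by
      calc f * (b * (f * j l * f)) * f = f * b * f * j l * (f * f) := by group
        _ = _ := by rw [f2, mul_one]
    have h4 : f * (f * j l * f * b) * f = j l * (f * b * f) := by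
      calc f * (f * j l * f * b) * f = (f * f) * j l * (f * b * f) := by group
        _ = _ := by rw [f2, one_mul]
    rw [fi, ← h3, h2, h4]
  -- rigidity
  have hfd : f * d * f⁻¹ = d := by
    obtain ⟨β, hβ⟩ : ∃ β : B.subgroupOf h.Y ≃* B.subgroupOf h.Y,
        ∀ b, (((β b : B.subgroupOf h.Y) : h.Y) : G) = f * ((b : h.Y) : G) * f⁻¹ := by
      refine ⟨{ toFun := fun b => ⟨⟨f * ((b : h.Y) : G) * f⁻¹, h.BY (hfB _ b.2)⟩, hfB _ b.2⟩
                invFun := fun b => ⟨⟨f * ((b : h.Y) : G) * f⁻¹, h.BY (hfB _ b.2)⟩, hfB _ b.2⟩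
                left_inv := ?_, right_inv := ?_, map_mul' := ?_ }, fun b => rfl⟩
      · intro b
        refine Subtype.ext (Subtype.ext ?_)
        show f * (f * ((b : h.Y) : G) * f⁻¹) * f⁻¹ = b
        rw [fi]
        calc f * (f * ((b : h.Y) : G) * f) * f = (f * f) * b * (f * f) := by group
          _ = _ := by rw [f2]; group
      · intro b
        refine Subtype.ext (Subtype.ext ?_)
        show f * (f * ((b : h.Y) : G) * f⁻¹) * f⁻¹ = b
        rw [fi]
        calc f * (f * ((b : h.Y) : G) * f) * f = (f * f) * b * (f * f) := by group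
          _ = _ := by rw [f2]; group
      · intro a b
        refine Subtype.ext (Subtype.ext ?_)
        show f * (((a : h.Y) : G) * b) * f⁻¹ = f * a * f⁻¹ * (f * b * f⁻¹)
        group
    have h1 := o.rigid β (by
      intro k hkB hk
      apply Subtype.ext
      rw [hβ]
      show f * (k : G) * f⁻¹ = e * k * e⁻¹
      have hk' : e * (k : G) * e⁻¹ ∈ KK j := Emb.conj_KK heM hk
      rw [hf]
      calc j v * e * (k : G) * (j v * e)⁻¹ = j v * (e * k * e⁻¹) * (j v)⁻¹ := by group
        _ = e * k * e⁻¹ * j v * (j v)⁻¹ := by rw [mem_KK.1 hk' v]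
        _ = _ := by group) hd
    have h2 := congrArg Subtype.val h1
    rw [hβ] at h2
    exact h2
  refine ⟨w, d, e, ?_⟩
  have cm : ∀ {a b : G}, a * b = b * a → Commute a b := fun h => h
  exact {
    w_mem := hw
    w_ne := fun hcon => o.w_ne (Subtype.ext hcon)
    d_mem := hd
    e_mem := heM
    e_not := heK
    w2 := h.sq w hw
    d2 := congrArg Subtype.val o.d2
    e2 := e2
    wd := congrArg Subtype.val o.wd
    de := congrArg Subtype.val o.de
    we := congrArg Subtype.val o.we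
    es := h.Ys heY
    et := h.Yt heY
    ex := h.Yx heY
    ey := h.Yy heY
    eq := h.Yq heY
    ev := ev
    df := by
      rw [← hf]
      show d * f = f * d
      calc d * f = f * d * f⁻¹ * f := by rw [hfd]
        _ = f * d := by group }

/-- elements of `B` commute with `j J_L` -/
theorem B_comm {d : G} (hd : d ∈ B) {l : L0} (hl : l ∈ JL) : Commute d (j l) := (h.mem_B d).1 hd l hl

/-- **Step 8**: the presentation `P957`. -/
theorem p957 {w d e : G} (o : Out j V B w d e) :
    P957 (j s) (j t) (j x) (j y) w d e (j v * e) (j r * (j v * e)) ((j q)⁻¹ * (j r * (j v * e))) :=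
  P957Of.p957 j o.e2 o.es o.et o.ex o.ey o.eq o.ev o.w2 o.d2 o.wd o.de
    (fun l => mem_KK.1 (h.Vj o.w_mem) l) o.we (h.B_comm o.d_mem s_mem) (h.B_comm o.d_mem t_mem)
    (h.B_comm o.d_mem x_mem) (h.B_comm o.d_mem y_mem) (h.B_comm o.d_mem q_mem) (h.B_comm o.d_mem r_mem) o.df

end In

end Cfsg.Agent.StdG24.Eight
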