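import Mathlib
import Cfsg.Agent.StdG24.Basic
import Cfsg.Agent.StdG24.Facts
import Cfsg.Agent.StdG24.F.CountOf

/-!
# Step 8, first half, (8A2): the setting of Lemma F in `C(As)`

`EightA.In D Z j V b`: `j : L → Γ`, `V` a four-group of `C(jL)`, `b` the element of `C(u)` with `V ≠ V^b ≤ V Z`.
`hyp_cAs`: for `ρ ∈ C(jL)` acting nontrivially on `V`, the conjugate `b ρ b⁻¹` commutes with `As` and gives
the setting of Lemma F in `C(As)`.
`moves`: an element of order 5 of `Al` has a centralizer in `C(As)` not normalising `V`.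
-/

set_option autoImplicit false

namespace Cfsg.Agent.StdG24.EightA

open Subgroup

variable {L : Type*} [Group L] {G : Type*} [Group G]

/-- the input of step 8, first half -/
structure In (D : Data L) (Z : Subgroup L) (j : L →* G) (V : Subgroup G) (b : G) : Prop where
  inj : Function.Injective j
  V4 : Nat.card V = 4
  sq : ∀ v ∈ V, v * v = 1
  Vj : V ≤ KK j
  cent : ∀ v ∈ V, v ≠ 1 → ∀ g, g * v = v * g → g ∈ MM j
  self : ∀ v ∈ V, v ≠ 1 → ∀ k ∈ KK j, k * v = v * k → k ∈ V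
  bu : b * j D.u = j D.u * b
  bV : ∀ v ∈ V, ∃ v' ∈ V, ∃ x ∈ Z, b * v * b⁻¹ = v' * j x
  bn : ∃ v ∈ V, b * v * b⁻¹ ∉ V
  bZ : ∀ x ∈ Z, ∃ a ∈ D.Al, j x = b * j a * b⁻¹

theorem exists_aut {j : L →* G} (hj : Function.Injective j) {m : G} (hm : m ∈ MM j) :
    ∃ α : L ≃* L, ∀ x, j (α x) = m * j x * m⁻¹ := by
  obtain ⟨h1, h2⟩ := mem_MM.1 hm
  choose f hf using h1
  choose f' hf' using h2
  refine ⟨{ toFun := f, invFun := f', left_inv := fun x => ?_, right_inv := fun x => ?_, map_mul' := fun x y => ?_ },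
    fun x => (hf x).symm⟩
  · apply hj
    rw [← hf', ← hf]; group
  · apply hj
    rw [← hf, ← hf']; group
  · apply hj
    rw [map_mul, ← hf, ← hf, ← hf, map_mul]; group

namespace In

variable {D : Data L} {Z : Subgroup L} {j : L →* G} {V : Subgroup G} {b : G}

theorem commV (h : In D Z j V b) {v v' : G} (hv : v ∈ V) (hv' : v' ∈ V) : v * v' = v' * v := by
  have h1 := h.sq _ (mul_mem hv hv')
  have h2 := h.sq _ hv
  have h3 := h.sq _ hv'
  calc v * v' = (v * v')⁻¹ := eq_inv_of_mul_eq_one_left h1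
    _ = v'⁻¹ * v⁻¹ := mul_inv_rev v v'
    _ = v' * v := by rw [inv_eq_of_mul_eq_one_left h2, inv_eq_of_mul_eq_one_left h3]

theorem disj (F : Facts D) (h : In D Z j V b) {a : L} (ha : a ∈ D.Al) (hk : j a ∈ KK j) : a = 1 :=
  F.centAl a ha fun c _ => h.inj (by rw [map_mul, map_mul]; exact mem_KK.1 hk c)

/-- `C(v) ∩ C(u) = V × ⟨u⟩ × Al` -/
theorem cent_u (F : Facts D) (h : In D Z j V b) {v : G} (hv : v ∈ V) (hv1 : v ≠ 1) {g : G} (hg : g * v = v * g)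
    (hgu : g * j D.u = j D.u * g) : ∃ v' ∈ V, ∃ i : ℕ, ∃ c ∈ D.Al, g = v' * j (D.u ^ i * c) := by
  obtain ⟨α, hα⟩ := exists_aut h.inj (h.cent v hv hv1 g hg)
  obtain ⟨i, c, hc, h1⟩ := F.aut_u α (h.inj (by rw [hα, hgu]; group))
  have h2 : g * (j (D.u ^ i * c))⁻¹ ∈ KK j := by
    rw [mem_KK]
    intro x
    have h3 := hα ((D.u ^ i * c)⁻¹ * x * (D.u ^ i * c))
    rw [h1, show D.u ^ i * c * ((D.u ^ i * c)⁻¹ * x * (D.u ^ i * c)) * (D.u ^ i * c)⁻¹ = x by group] at h3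
    calc g * (j (D.u ^ i * c))⁻¹ * j x
        = g * j ((D.u ^ i * c)⁻¹ * x * (D.u ^ i * c)) * g⁻¹ * (g * (j (D.u ^ i * c))⁻¹) := by
          simp only [map_mul, map_inv]; group
      _ = j x * (g * (j (D.u ^ i * c))⁻¹) := by rw [← h3]
  have h4 := mem_KK.1 (h.Vj hv) (D.u ^ i * c)
  refine ⟨_, h.self v hv hv1 _ h2 ?_, i, c, hc, by group⟩
  calc g * (j (D.u ^ i * c))⁻¹ * v = g * ((j (D.u ^ i * c))⁻¹ * (v * j (D.u ^ i * c)) * (j (D.u ^ i * c))⁻¹) := by group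
    _ = g * v * (j (D.u ^ i * c))⁻¹ := by rw [h4]; group
    _ = v * (g * (j (D.u ^ i * c))⁻¹) := by rw [hg]; group

/-- `C(v) ∩ C(As) = V × Al` -/
theorem cent_As (F : Facts D) (h : In D Z j V b) {v : G} (hv : v ∈ V) (hv1 : v ≠ 1) {g : G} (hg : g * v = v * g)
    (hgA : ∀ a ∈ D.As, g * j a = j a * g) : ∃ v' ∈ V, ∃ c ∈ D.Al, g = v' * j c := by
  obtain ⟨v', hv', i, c, hc, rfl⟩ := h.cent_u F hv hv1 hg (hgA _ F.uAs)
  have h1 : D.u ^ i = 1 := by
    refine F.centAs _ (pow_mem F.uAs i) fun a ha => ?_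
    have h2 := hgA a ha
    have h3 := mem_KK.1 (h.Vj hv') a
    have h4 : j (D.u ^ i * c * a) = j (a * (D.u ^ i * c)) := by
      rw [map_mul j _ a, map_mul j a]
      calc j (D.u ^ i * c) * j a = v'⁻¹ * (v' * j (D.u ^ i * c) * j a) := by group
        _ = v'⁻¹ * (j a * (v' * j (D.u ^ i * c))) := by rw [h2]
        _ = v'⁻¹ * (j a * v') * j (D.u ^ i * c) := by group
        _ = j a * j (D.u ^ i * c) := by rw [← h3]; group
    have h5 := h.inj h4
    have h6 := F.comm a ha c hc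
    have h7 : D.u ^ i * a * c = a * D.u ^ i * c := by
      rw [mul_assoc, h6, ← mul_assoc, h5, mul_assoc]
    exact mul_right_cancel h7
  exact ⟨v', hv', c, hc, by rw [h1, one_mul]⟩

/-- `V ∩ b V b⁻¹ = 1` -/
theorem inf_b (F : Facts D) (h : In D Z j V b) (hZ : Z ≤ D.Al) {v : G} (hv : v ∈ V) (hb : b * v * b⁻¹ ∈ V) : v = 1 := by
  by_contra hv1
  obtain ⟨r0, hr0, hr0n⟩ := h.bn
  apply hr0n
  obtain ⟨v', hv', x, hx, h1⟩ := h.bV r0 hr0
  have hx1 : x = 1 := by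
    refine F.centAl x (hZ hx) fun c hc => h.inj ?_
    -- `b⁻¹ c b` commutes with `v` and `u`
    have hcs : j c * (b * v * b⁻¹) = b * v * b⁻¹ * j c := (mem_KK.1 (h.Vj hb) c).symm
    have h2 : b⁻¹ * j c * b * v = v * (b⁻¹ * j c * b) := by
      calc b⁻¹ * j c * b * v = b⁻¹ * (j c * (b * v * b⁻¹)) * b := by group
        _ = v * (b⁻¹ * j c * b) := by rw [hcs]; group
    have hcu : j c * j D.u = j D.u * j c := by
      rw [← map_mul, ← map_mul, F.comm D.u F.uAs c hc]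
    have h3 : b⁻¹ * j c * b * j D.u = j D.u * (b⁻¹ * j c * b) := by
      calc b⁻¹ * j c * b * j D.u = b⁻¹ * (j c * (j D.u * b)) := by rw [← h.bu]; group
        _ = b⁻¹ * (j c * j D.u * b) := by group
        _ = b⁻¹ * (j D.u * j c * b) := by rw [hcu]
        _ = b⁻¹ * (j D.u * b) * b⁻¹ * j c * b := by group
        _ = j D.u * (b⁻¹ * j c * b) := by rw [← h.bu]; group
    obtain ⟨s, hs, i, d, hd, h4⟩ := h.cent_u F hv hv1 h2 h3
    have h5 : b⁻¹ * j c * b * r0 = r0 * (b⁻¹ * j c * b) := by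
      rw [h4]
      have h6 := mem_KK.1 (h.Vj hr0) (D.u ^ i * d)
      calc s * j (D.u ^ i * d) * r0 = s * (j (D.u ^ i * d) * r0) := by group
        _ = s * r0 * j (D.u ^ i * d) := by rw [← h6]; group
        _ = r0 * (s * j (D.u ^ i * d)) := by rw [h.commV hs hr0]; group
    have h7 : j c * (b * r0 * b⁻¹) = b * r0 * b⁻¹ * j c := by
      calc j c * (b * r0 * b⁻¹) = b * (b⁻¹ * j c * b * r0) * b⁻¹ := by group
        _ = b * r0 * b⁻¹ * j c := by rw [h5]; group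
    rw [h1] at h7
    have h8 := mem_KK.1 (h.Vj hv') c
    rw [map_mul, map_mul]
    calc j x * j c = v'⁻¹ * (v' * j x * j c) := by group
      _ = v'⁻¹ * (j c * v') * j x := by rw [← h7]; group
      _ = j c * j x := by rw [← h8]; group
  rw [h1, hx1, map_one, mul_one]
  exact hv'

theorem inf_Z (F : Facts D) (h : In D Z j V b) {v : G} (hv : v ∈ V) {x : L} (hx : x ∈ Z) (hb : b * v * b⁻¹ = j x) :
    v = 1 := by
  obtain ⟨a, ha, h1⟩ := h.bZ x hx
  have h2 : v = j a := by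
    calc v = b⁻¹ * (b * v * b⁻¹) * b := by group
      _ = j a := by rw [hb, h1]; group
  have h3 := h.disj F ha (by rw [← h2]; exact h.Vj hv)
  rw [h2, h3, map_one]

/-- `V ≤ V^b Z` -/
theorem lift (F : Facts D) (h : In D Z j V b) {v : G} (hv : v ∈ V) : ∃ s ∈ V, ∃ x ∈ Z, b * s * b⁻¹ = v * j x := by
  choose! f hf g hg hfg using h.bV
  have : Finite V := Nat.finite_of_card_ne_zero (by rw [h.V4]; norm_num)
  let φ : V → V := fun s => ⟨f s, hf s s.2⟩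
  have hφ : Function.Injective φ := by
    intro s t hst
    have h1 : f s = f t := congrArg Subtype.val hst
    have h2 : b * ((s : G) * (t : G)⁻¹) * b⁻¹ = j (g s * (g t)⁻¹) := by
      have hs := hfg s s.2
      have ht := hfg t t.2
      have hk := mem_KK.1 (h.Vj (hf t t.2)) (g s * (g t)⁻¹)
      calc b * ((s : G) * (t : G)⁻¹) * b⁻¹ = (b * s * b⁻¹) * (b * t * b⁻¹)⁻¹ := by group
        _ = f t * (j (g s) * (j (g t))⁻¹) * (f t)⁻¹ := by rw [hs, ht, h1]; group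
        _ = j (g s * (g t)⁻¹) := by
            rw [← map_inv, ← map_mul, hk]; group
    have h3 := h.inf_Z F (mul_mem s.2 (inv_mem t.2)) (mul_mem (hg s s.2) (inv_mem (hg t t.2))) h2
    exact Subtype.ext (mul_inv_eq_one.1 h3)
  obtain ⟨s, hs⟩ := (Finite.injective_iff_surjective.1 hφ) ⟨v, hv⟩
  have h1 : f s = v := congrArg Subtype.val hs
  exact ⟨s, s.2, g s, hg s s.2, by rw [hfg s s.2, h1]⟩

/-- `Z ≤ V V^b` -/
theorem lift_Z (F : Facts D) (h : In D Z j V b) (hZ : Z ≤ D.Al) (hZ4 : Nat.card Z = 4) {x : L} (hx : x ∈ Z) :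
    ∃ s ∈ V, ∃ v ∈ V, b * s * b⁻¹ = v * j x := by
  choose! f hf g hg hfg using h.bV
  have : Finite V := Nat.finite_of_card_ne_zero (by rw [h.V4]; norm_num)
  have : Finite Z := Nat.finite_of_card_ne_zero (by rw [hZ4]; norm_num)
  let φ : V → Z := fun s => ⟨g s, hg s s.2⟩
  have hφ : Function.Injective φ := by
    intro s t hst
    have h1 : g s = g t := congrArg Subtype.val hst
    have h2 : b * ((s : G) * (t : G)⁻¹) * b⁻¹ = f s * (f t)⁻¹ := by
      have hs := hfg s s.2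
      have ht := hfg t t.2
      calc b * ((s : G) * (t : G)⁻¹) * b⁻¹ = (b * s * b⁻¹) * (b * t * b⁻¹)⁻¹ := by group
        _ = f s * (f t)⁻¹ := by rw [hs, ht, h1]; group
    have h3 := h.inf_b F hZ (mul_mem s.2 (inv_mem t.2)) (by rw [h2]; exact mul_mem (hf s s.2) (inv_mem (hf t t.2)))
    exact Subtype.ext (mul_inv_eq_one.1 h3)
  have hbij := hφ.bijective_of_nat_card_le (by rw [h.V4, hZ4])
  obtain ⟨s, hs⟩ := hbij.2 ⟨x, hx⟩
  have h1 : g s = x := congrArg Subtype.val hs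
  exact ⟨s, s.2, f s, hf s s.2, by rw [hfg s s.2, h1]⟩

/-- `As ≤ L^b` -/
theorem As_le (F : Facts D) (h : In D Z j V b) (eAs : Nonempty (D.As ≃* alternatingGroup (Fin 5))) (hZ : Z ≤ D.Al)
    (hZ4 : Nat.card Z = 4) (hz : D.z ∈ Z) : ∀ a ∈ D.As, ∃ y, j a = b * j y * b⁻¹ := by
  have hM : ∀ x : L, x * D.z = D.z * x → b⁻¹ * j x * b ∈ MM j := by
    intro x hx
    obtain ⟨s, hs, v, hv, h1⟩ := h.lift_Z F hZ hZ4 hz
    have hs1 : s ≠ 1 := by
      rintro rfl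
      have h2 : v * j D.z = 1 := by rw [← h1]; group
      have h3 : j D.z ∈ KK j := by
        rw [show j D.z = v⁻¹ by rw [eq_inv_iff_mul_eq_one, mem_KK.1 (h.Vj hv)] at *; exact h2]
        exact h.Vj (inv_mem hv)
      exact F.z1 (h.disj F F.zAl h3)
    refine h.cent s hs hs1 _ ?_
    have h2 : j x * (b * s * b⁻¹) = b * s * b⁻¹ * j x := by
      rw [h1]
      have h3 := mem_KK.1 (h.Vj hv) x
      calc j x * (v * j D.z) = v * (j x * j D.z) := by rw [← mul_assoc, ← h3, mul_assoc]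
        _ = v * j D.z * j x := by rw [← map_mul, hx, map_mul]; group
    calc b⁻¹ * j x * b * s = b⁻¹ * (j x * (b * s * b⁻¹)) * b := by group
      _ = s * (b⁻¹ * j x * b) := by rw [h2]; group
  -- conjugates of `u`
  have hu : ∀ x : L, x * D.z = D.z * x → ∃ y, j (x * D.u * x⁻¹) = b * j y * b⁻¹ := by
    intro x hx
    obtain ⟨y, hy⟩ := (mem_MM.1 (hM x hx)).1 D.u
    refine ⟨y, ?_⟩
    rw [← hy]
    have h1 : b⁻¹ * j D.u * b = j D.u := by rw [mul_assoc, ← h.bu]; group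
    calc j (x * D.u * x⁻¹) = j x * j D.u * (j x)⁻¹ := by rw [map_mul, map_mul, map_inv]
      _ = j x * (b * j D.u * b⁻¹) * (j x)⁻¹ := by rw [h.bu]; group
      _ = b * (b⁻¹ * j x * b * j D.u * (b⁻¹ * j x * b)⁻¹) * b⁻¹ := by group
  have hs : IsSimpleGroup D.As := by
    obtain ⟨φ⟩ := eAs
    have : IsSimpleGroup (alternatingGroup (Fin 5)) := alternatingGroup.isSimpleGroup (by simp)
    exact φ.isSimpleGroup
  set T : Subgroup D.As := ((cjh b j).range.comap j).subgroupOf D.As with hT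
  have hle : normalClosure {(⟨D.u, F.uAs⟩ : D.As)} ≤ T := by
    rw [normalClosure, closure_le]
    intro y hy
    rw [Group.mem_conjugatesOfSet_iff] at hy
    obtain ⟨a, ha, hay⟩ := hy
    rw [Set.mem_singleton_iff] at ha
    obtain ⟨x, hx⟩ := isConj_iff.1 hay
    obtain ⟨y', hy'⟩ := hu x (F.comm x x.2 _ F.zAl)
    have h1 : (y : L) = x * D.u * (x : L)⁻¹ := by
      rw [← hx, ha]; rfl
    refine ⟨y', ?_⟩
    change b * j y' * b⁻¹ = j y
    rw [← hy', h1]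
  have htop : T = ⊤ := by
    rcases (normalClosure_normal (s := {(⟨D.u, F.uAs⟩ : D.As)})).eq_bot_or_eq_top with h1 | h1
    · exfalso
      have h2 : (⟨D.u, F.uAs⟩ : D.As) ∈ normalClosure {(⟨D.u, F.uAs⟩ : D.As)} := subset_normalClosure rfl
      rw [h1, mem_bot] at h2
      exact F.u1 (congrArg Subtype.val h2)
    · rw [h1] at hle
      exact top_le_iff.1 hle
  intro a ha
  have h1 : (⟨a, ha⟩ : D.As) ∈ T := by rw [htop]; trivial
  obtain ⟨y, hy⟩ := h1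
  exact ⟨y, hy.symm⟩

/-- `K^b` commutes with `As` -/
theorem comm_As (F : Facts D) (h : In D Z j V b) (eAs : Nonempty (D.As ≃* alternatingGroup (Fin 5))) (hZ : Z ≤ D.Al)
    (hZ4 : Nat.card Z = 4) (hz : D.z ∈ Z) {k : G} (hk : k ∈ KK j) {a : L} (ha : a ∈ D.As) :
    b * k * b⁻¹ * j a = j a * (b * k * b⁻¹) := by
  obtain ⟨y, hy⟩ := h.As_le F eAs hZ hZ4 hz a ha
  rw [hy]
  have h1 := mem_KK.1 hk y
  calc b * k * b⁻¹ * (b * j y * b⁻¹) = b * (k * j y) * b⁻¹ := by group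
    _ = b * j y * b⁻¹ * (b * k * b⁻¹) := by rw [h1]; group

/-- `K^b` commutes with `Z` -/
theorem comm_Z (h : In D Z j V b) {k : G} (hk : k ∈ KK j) {a : L} (ha : a ∈ Z) :
    b * k * b⁻¹ * j a = j a * (b * k * b⁻¹) := by
  obtain ⟨y, -, hy⟩ := h.bZ a ha
  rw [hy]
  have h1 := mem_KK.1 hk y
  calc b * k * b⁻¹ * (b * j y * b⁻¹) = b * (k * j y) * b⁻¹ := by group
    _ = b * j y * b⁻¹ * (b * k * b⁻¹) := by rw [h1]; group

/-- the subgroup `C(As)` -/
def cAs (D : Data L) (j : L →* G) : Subgroup G := centralizer (D.As.map j : Set G)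

theorem mem_cAs {g : G} : g ∈ cAs D j ↔ ∀ a ∈ D.As, g * j a = j a * g := by
  rw [cAs, mem_centralizer_iff]
  constructor
  · intro h a ha
    exact (h _ ⟨a, ha, rfl⟩).symm
  · rintro h _ ⟨a, ha, rfl⟩
    exact (h a ha).symm

theorem Al_le (F : Facts D) : D.Al.map j ≤ cAs D j := by
  rintro _ ⟨c, hc, rfl⟩
  rw [mem_cAs]
  intro a ha
  rw [← map_mul, ← map_mul, F.comm a ha c hc]

theorem V_le (h : In D Z j V b) : V ≤ cAs D j := fun v hv => mem_cAs.2 fun a _ => mem_KK.1 (h.Vj hv) a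

/-- **the setting of Lemma F in `C(As)`** -/
theorem hyp_cAs (F : Facts D) (h : In D Z j V b) (eAs : Nonempty (D.As ≃* alternatingGroup (Fin 5)))
    (eAl : Nonempty (D.Al ≃* alternatingGroup (Fin 5))) (hZ : Z ≤ D.Al) (hZ4 : Nat.card Z = 4) (hz : D.z ∈ Z)
    {ρ : G} (hρ : ρ ∈ KK j) (hρV : ∀ v ∈ V, ρ * v * ρ⁻¹ ∈ V) (hρ1 : ∃ v ∈ V, ρ * v * ρ⁻¹ ≠ v) :
    ∃ σ τ : cAs D j, StdG24.F.Hyp (V.subgroupOf (cAs D j)) ((D.Al.map j).subgroupOf (cAs D j))
      ((Z.map j).subgroupOf (cAs D j)) σ τ := by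
  obtain ⟨φ⟩ := eAl
  -- a group of order 4
  have hZfin : Finite Z := Nat.finite_of_card_ne_zero (by rw [hZ4]; norm_num)
  have sqZ : ∀ x ∈ Z, x * x = 1 := by
    intro x hx
    refine StdG24.F.A5.sq_of_pow_four φ (hZ hx) ?_
    have h1 : (⟨x, hx⟩ : Z) ^ Nat.card Z = 1 := pow_card_eq_one'
    rw [hZ4] at h1
    exact congrArg Subtype.val h1
  have commZ : ∀ x ∈ Z, ∀ y ∈ Z, x * y = y * x := by
    intro x hx y hy
    have h1 := sqZ _ (mul_mem hx hy)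
    calc x * y = (x * y)⁻¹ := eq_inv_of_mul_eq_one_left h1
      _ = y⁻¹ * x⁻¹ := mul_inv_rev x y
      _ = y * x := by rw [inv_eq_of_mul_eq_one_left (sqZ x hx), inv_eq_of_mul_eq_one_left (sqZ y hy)]
  -- another element of `Z`
  obtain ⟨y, hy, hy1, hyz⟩ : ∃ y ∈ Z, y ≠ 1 ∧ y ≠ D.z := by
    by_contra hno
    push Not at hno
    have h1 : (Z : Set L) ⊆ {1, D.z} := by
      intro y hy
      by_cases h2 : y = 1
      · left; exact h2
      · right; exact hno y hy h2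
    have h2 := Set.ncard_le_ncard h1 (Set.toFinite _)
    have h3 : Set.ncard (Z : Set L) = 4 := hZ4
    have h4 : Set.ncard ({1, D.z} : Set L) ≤ 2 := (Set.ncard_insert_le _ _).trans (by simp)
    omega
  obtain ⟨σ, hσ, hσ3, hσz, hσy⟩ := StdG24.F.A5.exists_three φ (hZ hz) F.z1 F.z2 (hZ hy) hy1 (sqZ y hy)
    (commZ y hy D.z hz) hyz
  have four : ∀ x ∈ Z, x = 1 ∨ x = D.z ∨ x = y ∨ x = D.z * y := by
    intro x hx
    by_contra hcon
    push Not at hcon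
    obtain ⟨c1, c2, c3, c4⟩ := hcon
    have hzy := Z.mul_mem hz hy
    have n1 : D.z * y ≠ 1 := by
      intro h1
      apply hyz
      rw [mul_eq_one_iff_eq_inv, inv_eq_of_mul_eq_one_left (sqZ y hy)] at h1
      exact h1.symm
    have n2 : D.z * y ≠ D.z := fun h1 => hy1 (by simpa using h1)
    have n3 : D.z * y ≠ y := fun h1 => F.z1 (by simpa using h1)
    classical
    have hsub : (({1, D.z, y, D.z * y, x} : Finset L) : Set L) ⊆ Z := by
      intro t ht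
      simp only [Finset.coe_insert, Finset.coe_singleton, Set.mem_insert_iff, Set.mem_singleton_iff] at ht
      rcases ht with rfl | rfl | rfl | rfl | rfl
      · exact one_mem _
      · exact hz
      · exact hy
      · exact hzy
      · exact hx
    have h2 := Set.ncard_le_ncard hsub (Set.toFinite _)
    have h3 : Set.ncard (Z : Set L) = 4 := hZ4
    rw [h3, Set.ncard_coe_finset, Finset.card_insert_of_notMem, Finset.card_insert_of_notMem,
      Finset.card_insert_of_notMem, Finset.card_insert_of_notMem, Finset.card_singleton] at h2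
    · omega
    · simp only [Finset.mem_singleton]
      exact fun h => c4 h.symm
    · simp only [Finset.mem_insert, Finset.mem_singleton, not_or]
      exact ⟨fun h => n3 h.symm, fun h => c3 h.symm⟩
    · simp only [Finset.mem_insert, Finset.mem_singleton, not_or]
      exact ⟨fun h => hyz h.symm, fun h => n2 h.symm, fun h => c2 h.symm⟩
    · simp only [Finset.mem_insert, Finset.mem_singleton, not_or]
      exact ⟨fun h => F.z1 h.symm, fun h => hy1 h.symm, fun h => n1 h.symm, fun h => c1 h.symm⟩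
  have hσzy : σ * (D.z * y) * σ⁻¹ = D.z := by
    calc σ * (D.z * y) * σ⁻¹ = (σ * D.z * σ⁻¹) * (σ * y * σ⁻¹) := by group
      _ = y * (D.z * y) := by rw [hσz, hσy]
      _ = D.z * (y * y) := by rw [← mul_assoc, commZ y hy D.z hz, mul_assoc]
      _ = D.z := by rw [sqZ y hy, mul_one]
  have hσZ : ∀ x ∈ Z, σ * x * σ⁻¹ ∈ Z := by
    intro x hx
    rcases four x hx with rfl | rfl | rfl | rfl
    · rw [mul_one, mul_inv_cancel]; exact one_mem _
    · rw [hσz]; exact hy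
    · rw [hσy]; exact Z.mul_mem hz hy
    · rw [hσzy]; exact hz
  have hσfix : ∀ x ∈ Z, σ * x * σ⁻¹ = x → x = 1 := by
    intro x hx hfix
    rcases four x hx with h1 | h1 | h1 | h1
    · exact h1
    · rw [h1, hσz] at hfix; exact absurd hfix hyz
    · rw [h1, hσy] at hfix
      exact absurd (by simpa using hfix) F.z1
    · rw [h1, hσzy] at hfix
      exact absurd (by simpa using hfix) hy1
  have hAl := Al_le (j := j) F
  have hVl := h.V_le
  have hτ : b * ρ * b⁻¹ ∈ cAs D j := mem_cAs.2 fun a ha => h.comm_As F eAs hZ hZ4 hz hρ ha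
  have hcard : ∀ {S : Subgroup G}, S ≤ cAs D j → Nat.card (S.subgroupOf (cAs D j)) = Nat.card S := fun hS =>
    Nat.card_congr (subgroupOfEquivOfLe hS).toEquiv
  have hZl : Z.map j ≤ cAs D j := (map_mono hZ).trans hAl
  refine ⟨⟨j σ, hAl ⟨σ, hσ, rfl⟩⟩, ⟨_, hτ⟩, ?_⟩
  refine
    { cardR := by rw [hcard hVl, h.V4]
      sqR := fun r hr => Subtype.ext (h.sq _ hr)
      comm := ?_
      cent := ?_
      eA := ?_
      B_le := fun x hx => ?_
      cardB := ?_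
      ρA := ⟨σ, hσ, rfl⟩
      ρ3 := Subtype.ext (show j σ ^ 3 = 1 by rw [← map_pow, hσ3, map_one])
      ρB := ?_
      ρfix := ?_
      bR := ?_
      bn := ?_
      bB := ?_ }
  · rintro r hr a ⟨c, hc, hca⟩
    apply Subtype.ext
    change (r : G) * (a : G) = (a : G) * (r : G)
    have hca' : j c = (a : G) := hca
    rw [← hca']
    exact mem_KK.1 (h.Vj hr) c
  · intro r hr hr1 g hg
    have h1 : (g : G) * r = r * g := congrArg Subtype.val hg
    obtain ⟨v', hv', c, hc, h2⟩ := h.cent_As F hr (fun h3 => hr1 (Subtype.ext h3)) h1 (mem_cAs.1 g.2)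
    exact ⟨⟨v', hVl hv'⟩, hv', ⟨j c, hAl ⟨c, hc, rfl⟩⟩, ⟨c, hc, rfl⟩, Subtype.ext h2⟩
  · exact ⟨(subgroupOfEquivOfLe hAl).trans ((D.Al.equivMapOfInjective j h.inj).symm.trans φ)⟩
  · obtain ⟨c, hc, hcx⟩ := hx
    exact ⟨c, hZ hc, hcx⟩
  · rw [hcard hZl, ← hZ4]
    exact (Nat.card_congr (Z.equivMapOfInjective j h.inj).toEquiv).symm
  · rintro x ⟨c, hc, hcx⟩
    refine ⟨σ * c * σ⁻¹, hσZ c hc, ?_⟩
    rw [map_mul, map_mul, map_inv, hcx]
    rfl
  · rintro x ⟨c, hc, hcx⟩ hfix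
    have h1 : j σ * (x : G) * (j σ)⁻¹ = x := congrArg Subtype.val hfix
    have hcx' : j c = (x : G) := hcx
    have h2 : c = 1 := hσfix c hc (h.inj (by rw [map_mul, map_mul, map_inv, hcx', h1]))
    apply Subtype.ext
    rw [← hcx', h2, map_one]
    rfl
  · intro r hr
    obtain ⟨s, hs, x, hx, h1⟩ := h.lift F (v := (r : G)) hr
    obtain ⟨v', hv', x', hx', h2⟩ := h.bV _ (hρV s hs)
    refine ⟨⟨v', hVl hv'⟩, hv', ⟨j (x' * x⁻¹), hZl ⟨_, Z.mul_mem hx' (Z.inv_mem hx), rfl⟩⟩,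
      ⟨_, Z.mul_mem hx' (Z.inv_mem hx), rfl⟩, Subtype.ext ?_⟩
    change b * ρ * b⁻¹ * (r : G) * (b * ρ * b⁻¹)⁻¹ = v' * j (x' * x⁻¹)
    have h3 := h.comm_Z hρ hx
    have h4 : (r : G) = b * s * b⁻¹ * (j x)⁻¹ := by rw [h1]; group
    have h5 : (j x)⁻¹ * (b * ρ * b⁻¹)⁻¹ = (b * ρ * b⁻¹)⁻¹ * (j x)⁻¹ := by
      rw [← mul_inv_rev, ← mul_inv_rev, h3]
    calc b * ρ * b⁻¹ * (r : G) * (b * ρ * b⁻¹)⁻¹ = b * ρ * b⁻¹ * (b * s * b⁻¹) * ((j x)⁻¹ * (b * ρ * b⁻¹)⁻¹) := by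
          rw [h4]; group
      _ = b * (ρ * s * ρ⁻¹) * b⁻¹ * (j x)⁻¹ := by rw [h5]; group
      _ = v' * j (x' * x⁻¹) := by rw [h2, map_mul, map_inv]; group
  · obtain ⟨s, hs, hρs⟩ := hρ1
    obtain ⟨v, hv, x, hx, h1⟩ := h.bV s hs
    refine ⟨⟨v, hVl hv⟩, hv, fun h2 => hρs ?_⟩
    have h2' : b * ρ * b⁻¹ * v * (b * ρ * b⁻¹)⁻¹ ∈ V := h2
    have h3 := h.comm_Z hρ hx
    have h5 : j x * (b * ρ * b⁻¹)⁻¹ = (b * ρ * b⁻¹)⁻¹ * j x := by
      rw [eq_inv_mul_iff_mul_eq, ← mul_assoc, h3]; group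
    have h6 : b * (ρ * s * ρ⁻¹) * b⁻¹ = (b * ρ * b⁻¹ * v * (b * ρ * b⁻¹)⁻¹) * j x := by
      calc b * (ρ * s * ρ⁻¹) * b⁻¹ = b * ρ * b⁻¹ * (b * s * b⁻¹) * (b * ρ * b⁻¹)⁻¹ := by group
        _ = b * ρ * b⁻¹ * v * (j x * (b * ρ * b⁻¹)⁻¹) := by rw [h1]; group
        _ = _ := by rw [h5]; group
    have h7 : b * (ρ * s * ρ⁻¹ * s⁻¹) * b⁻¹ ∈ V := by
      have h8 : b * (ρ * s * ρ⁻¹ * s⁻¹) * b⁻¹ = (b * ρ * b⁻¹ * v * (b * ρ * b⁻¹)⁻¹) * v⁻¹ := by
        calc b * (ρ * s * ρ⁻¹ * s⁻¹) * b⁻¹ = (b * (ρ * s * ρ⁻¹) * b⁻¹) * (b * s * b⁻¹)⁻¹ := by group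
          _ = _ := by rw [h6, h1]; group
      rw [h8]
      exact mul_mem h2' (inv_mem hv)
    exact mul_inv_eq_one.1 (h.inf_b F hZ (mul_mem (hρV s hs) (inv_mem hs)) h7)
  · rintro x ⟨c, hc, hcx⟩
    have hcx' : j c = (x : G) := hcx
    have h3 := h.comm_Z hρ hc
    refine ⟨c, hZ hc, ?_⟩
    change j c = (b * ρ * b⁻¹)⁻¹ * (x : G) * (b * ρ * b⁻¹)
    rw [← hcx', mul_assoc, ← h3]; group

/-- **(8A2)** the centralizer in `C(As)` of a 5-element of `Al` moves `V`. -/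
theorem moves [Finite G] (F : Facts D) (h : In D Z j V b) (eAs : Nonempty (D.As ≃* alternatingGroup (Fin 5)))
    (eAl : Nonempty (D.Al ≃* alternatingGroup (Fin 5))) (hZ : Z ≤ D.Al) (hZ4 : Nat.card Z = 4) (hz : D.z ∈ Z)
    {ρ : G} (hρ : ρ ∈ KK j) (hρV : ∀ v ∈ V, ρ * v * ρ⁻¹ ∈ V) (hρ1 : ∃ v ∈ V, ρ * v * ρ⁻¹ ≠ v)
    (lemF : ∀ (R A B : Subgroup (cAs D j)) (σ τ : cAs D j), StdG24.F.Hyp R A B σ τ → 25 ∣ Nat.card (cAs D j))
    {w : L} (hw : w ∈ D.Al) (w1 : w ≠ 1) (w5 : w ^ 5 = 1) :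
    ∃ g : G, (∀ a ∈ D.As, g * j a = j a * g) ∧ g * j w = j w * g ∧ ∃ v ∈ V, g * v * g⁻¹ ∉ V := by
  obtain ⟨σ, τ, H⟩ := h.hyp_cAs F eAs eAl hZ hZ4 hz hρ hρV hρ1
  obtain ⟨g, hg, v, hv, hgv⟩ := StdG24.F.CountFive.exists_moves (StdG24.F.CountOf.hyp H)
    (w := ⟨j w, Al_le F ⟨w, hw, rfl⟩⟩) ⟨w, hw, rfl⟩
    (fun h1 => w1 (h.inj (by rw [map_one]; exact congrArg Subtype.val h1)))
    (Subtype.ext (show j w ^ 5 = 1 by rw [← map_pow, w5, map_one])) (lemF _ _ _ _ _ H)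
  exact ⟨g, mem_cAs.1 g.2, congrArg Subtype.val hg, v, hv, hgv⟩

end In

end Cfsg.Agent.StdG24.EightA
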