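import Mathlib
import Cfsg.Agent.StdG24.EightA2
import Cfsg.Agent.StdG24.F.QuotMain

/-!
# Step 8, first half, (8A1): `C(jL) ≅ A₄`

From the two outputs of Lemma F in `C(u)/⟨u⟩`: `|KK j| = 12`, `V` is normal in `KK j` and `KK j` acts nontrivially on `V`.
-/

set_option autoImplicit false

namespace Cfsg.Agent.StdG24.EightA

open Subgroup
open scoped commutatorElement

variable {L : Type*} [Group L] {G : Type*} [Group G]

namespace In

variable {D : Data L} {Z : Subgroup L} {j : L →* G} {V : Subgroup G} {b : G}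

/-- squares of elements of `MM j` lie in `KK j · j(L)` -/
theorem sq_mem (F : Facts D) (h : In D Z j V b) {m : G} (hm : m ∈ MM j) :
    ∃ k ∈ KK j, ∃ c : L, m * m = k * j c := by
  obtain ⟨α, hα⟩ := exists_aut h.inj hm
  obtain ⟨c, hc⟩ := F.sq α
  refine ⟨_, Emb.mem_of_aut (m := m * m) (t := c) fun x => ?_, c, by group⟩
  rw [← hc, hα, hα]; group

/-- if `k` normalises `V` then `k j(x) k⁻¹ ∈ V j(L)` -/
theorem conj_mem (F : Facts D) (h : In D Z j V b) {k : G} (hk : ∀ v ∈ V, k⁻¹ * v * k ∈ V) (x : L) :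
    ∃ v ∈ V, ∃ c : L, k * j x * k⁻¹ = v * j c := by
  have hcomm : ∀ x : L, ∀ v ∈ V, k * j x * k⁻¹ * v = v * (k * j x * k⁻¹) := by
    intro x v hv
    have h1 := mem_KK.1 (h.Vj (hk v hv)) x
    calc k * j x * k⁻¹ * v = k * (j x * (k⁻¹ * v * k)) * k⁻¹ := by group
      _ = v * (k * j x * k⁻¹) := by rw [← h1]; group
  obtain ⟨v0, hv0, hv01⟩ : ∃ v ∈ V, v ≠ 1 := by
    by_contra hno
    push Not at hno
    have h1 : V = ⊥ := (eq_bot_iff_forall V).2 hno
    have h2 := h.V4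
    rw [h1] at h2
    simp at h2
  have hMM : ∀ x : L, k * j x * k⁻¹ ∈ MM j := fun x => h.cent v0 hv0 hv01 _ (hcomm x v0 hv0)
  -- the subgroup of the `x` with `k j(x) k⁻¹ ∈ KK j · j(L)`
  let T : Subgroup L :=
    { carrier := {x | ∃ κ ∈ KK j, ∃ c : L, k * j x * k⁻¹ = κ * j c}
      mul_mem' := by
        rintro x y ⟨κ, hκ, c, hc⟩ ⟨κ', hκ', c', hc'⟩
        refine ⟨κ * κ', mul_mem hκ hκ', c * c', ?_⟩
        have h1 := mem_KK.1 hκ' c
        calc k * j (x * y) * k⁻¹ = (k * j x * k⁻¹) * (k * j y * k⁻¹) := by rw [map_mul]; group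
          _ = κ * (j c * κ') * j c' := by rw [hc, hc']; group
          _ = κ * κ' * j (c * c') := by rw [← h1, map_mul]; group
      one_mem' := ⟨1, one_mem _, 1, by simp⟩
      inv_mem' := by
        rintro x ⟨κ, hκ, c, hc⟩
        refine ⟨κ⁻¹, inv_mem hκ, c⁻¹, ?_⟩
        have h1 := mem_KK.1 (inv_mem hκ) c⁻¹
        calc k * j x⁻¹ * k⁻¹ = (k * j x * k⁻¹)⁻¹ := by rw [map_inv]; group
          _ = j c⁻¹ * κ⁻¹ := by rw [hc, mul_inv_rev, map_inv]
          _ = κ⁻¹ * j c⁻¹ := h1.symm }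
  have hsq : ∀ x : L, x * x ∈ T := by
    intro x
    obtain ⟨κ, hκ, c, hc⟩ := h.sq_mem F (hMM x)
    exact ⟨κ, hκ, c, by rw [← hc, map_mul]; group⟩
  have hT : T = ⊤ := by
    rw [← top_le_iff, ← F.perf, commutator_def, commutator_le]
    intro a _ c _
    have h1 : ⁅a, c⁆ = (a * a) * ((a⁻¹ * c) * (a⁻¹ * c)) * ((c⁻¹) * (c⁻¹)) := by
      rw [commutatorElement_def]; group
    rw [h1]
    exact mul_mem (mul_mem (hsq a) (hsq _)) (hsq _)
  obtain ⟨κ, hκ, c, hc⟩ : x ∈ T := by rw [hT]; trivial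
  refine ⟨κ, h.self v0 hv0 hv01 κ hκ ?_, c, hc⟩
  have h1 := hcomm x v0 hv0
  rw [hc] at h1
  have h2 := mem_KK.1 (h.Vj hv0) c
  have h3 : κ * v0 * j c = v0 * κ * j c := by
    calc κ * v0 * j c = κ * (v0 * j c) := by group
      _ = κ * j c * v0 := by rw [h2]; group
      _ = v0 * κ * j c := by rw [h1]; group
  exact mul_right_cancel h3

/-- if `k` normalises `V` then `k j(L) k⁻¹ ≤ j(L)` -/
theorem conj_range (F : Facts D) (h : In D Z j V b) {k : G} (hk : ∀ v ∈ V, k⁻¹ * v * k ∈ V) (x : L) :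
    ∃ c : L, k * j x * k⁻¹ = j c := by
  let T : Subgroup L :=
    { carrier := {x | ∃ c : L, k * j x * k⁻¹ = j c}
      mul_mem' := by
        rintro x y ⟨c, hc⟩ ⟨c', hc'⟩
        refine ⟨c * c', ?_⟩
        calc k * j (x * y) * k⁻¹ = (k * j x * k⁻¹) * (k * j y * k⁻¹) := by rw [map_mul]; group
          _ = j (c * c') := by rw [hc, hc', map_mul]
      one_mem' := ⟨1, by simp⟩
      inv_mem' := by
        rintro x ⟨c, hc⟩
        refine ⟨c⁻¹, ?_⟩
        calc k * j x⁻¹ * k⁻¹ = (k * j x * k⁻¹)⁻¹ := by rw [map_inv]; group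
          _ = j c⁻¹ := by rw [hc, map_inv] }
  have hT : T = ⊤ := by
    rw [← top_le_iff, ← F.perf, commutator_def, commutator_le]
    intro a _ c _
    obtain ⟨v, hv, a', ha⟩ := h.conj_mem F hk a
    obtain ⟨w, hw, c', hc⟩ := h.conj_mem F hk c
    refine ⟨⁅a', c'⁆, ?_⟩
    have h1 : k * j ⁅a, c⁆ * k⁻¹ = ⁅k * j a * k⁻¹, k * j c * k⁻¹⁆ := by
      rw [map_commutatorElement, commutatorElement_def, commutatorElement_def]; group
    rw [h1, ha, hc, map_commutatorElement, commutatorElement_def, commutatorElement_def]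
    have e1 : Commute v w := h.commV hv hw
    have e2 : Commute v (j a') := mem_KK.1 (h.Vj hv) a'
    have e3 : Commute v (j c') := mem_KK.1 (h.Vj hv) c'
    have e4 : Commute w (j a') := mem_KK.1 (h.Vj hw) a'
    have e5 : Commute w (j c') := mem_KK.1 (h.Vj hw) c'
    have f1 : v * j a' * (w * j c') = (v * w) * (j a' * j c') := by
      calc v * j a' * (w * j c') = v * (j a' * w) * j c' := by group
        _ = v * w * (j a' * j c') := by rw [← e4.eq]; group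
    have f2 : (v * j a')⁻¹ * (w * j c')⁻¹ = (j a')⁻¹ * (j c')⁻¹ * (v * w)⁻¹ := by
      rw [e2.eq, e5.eq, mul_inv_rev, mul_inv_rev]
      have e6 : Commute v⁻¹ (j a')⁻¹ := (e2.inv_left).inv_right
      have e7 : Commute (w⁻¹) (j c')⁻¹ := (e5.inv_left).inv_right
      have e8 : Commute v⁻¹ (j c')⁻¹ := (e3.inv_left).inv_right
      calc v⁻¹ * (j a')⁻¹ * (w⁻¹ * (j c')⁻¹) = (v⁻¹ * (j a')⁻¹) * (w⁻¹ * (j c')⁻¹) := rfl
        _ = ((j a')⁻¹ * v⁻¹) * ((j c')⁻¹ * w⁻¹) := by rw [e6.eq, e7.eq]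
        _ = (j a')⁻¹ * (v⁻¹ * (j c')⁻¹) * w⁻¹ := by group
        _ = (j a')⁻¹ * ((j c')⁻¹ * v⁻¹) * w⁻¹ := by rw [e8.eq]
        _ = (j a')⁻¹ * (j c')⁻¹ * (v⁻¹ * w⁻¹) := by group
        _ = (j a')⁻¹ * (j c')⁻¹ * (v * w)⁻¹ := by rw [e1.eq, mul_inv_rev]
    have f3 : Commute (v * w) (j a' * j c' * ((j a')⁻¹ * (j c')⁻¹)) := by
      have g1 : Commute (v * w) (j a') := e2.mul_left e4
      have g2 : Commute (v * w) (j c') := e3.mul_left e5
      exact (g1.mul_right g2).mul_right (g1.inv_right.mul_right g2.inv_right)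
    calc v * j a' * (w * j c') * (v * j a')⁻¹ * (w * j c')⁻¹
        = v * j a' * (w * j c') * ((v * j a')⁻¹ * (w * j c')⁻¹) := by group
      _ = v * w * (j a' * j c' * ((j a')⁻¹ * (j c')⁻¹)) * (v * w)⁻¹ := by rw [f1, f2]; group
      _ = j a' * j c' * ((j a')⁻¹ * (j c')⁻¹) := by rw [f3.eq]; group
      _ = j a' * j c' * (j a')⁻¹ * (j c')⁻¹ := by group
  have h1 : x ∈ T := by rw [hT]; trivial
  exact h1

/-- `N(V) ≤ N(jL)` -/
theorem norm_mem (F : Facts D) (h : In D Z j V b) {k : G} (hk : ∀ v ∈ V, k * v * k⁻¹ ∈ V)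
    (hk' : ∀ v ∈ V, k⁻¹ * v * k ∈ V) : k ∈ MM j := by
  rw [mem_MM]
  refine ⟨h.conj_range F hk', fun x => ?_⟩
  obtain ⟨c, hc⟩ := h.conj_range F (k := k⁻¹) (by simpa using hk) x
  exact ⟨c, by rw [← hc, inv_inv]⟩

theorem inv_of_conj [Finite G] {V : Subgroup G} {k : G} (hk : ∀ v ∈ V, k * v * k⁻¹ ∈ V) : ∀ v ∈ V, k⁻¹ * v * k ∈ V := by
  intro v hv
  let φ : V → V := fun v => ⟨k * v * k⁻¹, hk v v.2⟩
  have hφ : Function.Injective φ := by
    intro s t hst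
    have h1 : k * (s : G) * k⁻¹ = k * t * k⁻¹ := congrArg Subtype.val hst
    exact Subtype.ext (by simpa using h1)
  obtain ⟨s, hs⟩ := (Finite.injective_iff_surjective.1 hφ) ⟨v, hv⟩
  have h1 : k * (s : G) * k⁻¹ = v := congrArg Subtype.val hs
  rw [← h1, show k⁻¹ * (k * (s : G) * k⁻¹) * k = s by group]
  exact s.2

/-- an element of `C(u)` normalising `V` acts on `V` as an element of `KK j` -/
theorem exists_kk [Finite G] (F : Facts D) (h : In D Z j V b) {k : G} (hku : k * j D.u = j D.u * k)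
    (hk : ∀ v ∈ V, k * v * k⁻¹ ∈ V) : ∃ ρ ∈ KK j, ∀ v ∈ V, ρ * v * ρ⁻¹ = k * v * k⁻¹ := by
  have hm := h.norm_mem F hk (inv_of_conj hk)
  obtain ⟨α, hα⟩ := exists_aut h.inj hm
  obtain ⟨i, c, hc, h1⟩ := F.aut_u α (h.inj (by rw [hα, hku]; group))
  refine ⟨_, Emb.mem_of_aut (m := k) (t := D.u ^ i * c) fun x => ?_, fun v hv => ?_⟩
  · rw [← h1, hα]
  · have h2 := mem_KK.1 (h.Vj hv) (D.u ^ i * c)
    calc k * (j (D.u ^ i * c))⁻¹ * v * (k * (j (D.u ^ i * c))⁻¹)⁻¹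
        = k * ((j (D.u ^ i * c))⁻¹ * (v * j (D.u ^ i * c))) * k⁻¹ := by group
      _ = k * v * k⁻¹ := by rw [h2]; group

/-- the elements of square 1 of `KK j` lie in `V` -/
theorem mem_V [Finite G] (F : Facts D) (h : In D Z j V b)
    (h4 : ∀ k ∈ closure {y : G | y * y = 1 ∧ y * j D.u = j D.u * y ∧ ∀ x ∈ Z.map j, y * x = x * y},
      k ^ 4 ∈ zpowers (j D.u)) {y : G} (hy : y ∈ KK j) (hy2 : y * y = 1) : y ∈ V := by
  set Q : Subgroup G := closure {y : G | y ∈ KK j ∧ y * y = 1} with hQ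
  have hQK : Q ≤ KK j := by
    rw [hQ, closure_le]
    intro y hy
    exact hy.1
  have hQ4 : ∀ q ∈ Q, q ^ 4 = 1 := by
    intro q hq
    have h1 : q ^ 4 ∈ zpowers (j D.u) := by
      refine h4 q (closure_mono ?_ hq)
      rintro y ⟨hy, hy2⟩
      refine ⟨hy2, mem_KK.1 hy _, ?_⟩
      rintro _ ⟨x, -, rfl⟩
      exact mem_KK.1 hy x
    obtain ⟨n, hn⟩ := mem_zpowers_iff.1 h1
    have h2 : D.u ^ n = 1 := by
      refine F.centAs _ (zpow_mem F.uAs n) fun a _ => h.inj ?_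
      rw [map_mul, map_mul, map_zpow, hn]
      exact mem_KK.1 (pow_mem (hQK hq) 4) a
    rw [← hn, ← map_zpow, h2, map_one]
  have hVQ : V ≤ Q := fun v hv => subset_closure ⟨h.Vj hv, h.sq v hv⟩
  have hQp : IsPGroup 2 Q := fun g => ⟨2, Subtype.ext (by simpa using hQ4 g g.2)⟩
  obtain ⟨v0, hv0, hv01⟩ : ∃ v ∈ V, v ≠ 1 := by
    by_contra hno
    push Not at hno
    have h1 : V = ⊥ := (eq_bot_iff_forall V).2 hno
    have h2 := h.V4
    rw [h1] at h2
    simp at h2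
  have : Nontrivial Q := ⟨⟨⟨v0, hVQ hv0⟩, 1, fun h1 => hv01 (congrArg Subtype.val h1)⟩⟩
  have : Fact (Nat.Prime 2) := ⟨Nat.prime_two⟩
  have := hQp.center_nontrivial
  obtain ⟨⟨c, hc⟩, hc1⟩ := exists_ne (1 : center Q)
  have hc1' : (c : G) ≠ 1 := fun h1 => hc1 (Subtype.ext (Subtype.ext h1))
  have hcc : ∀ q ∈ Q, q * (c : G) = c * q := fun q hq =>
    congrArg Subtype.val (mem_center_iff.1 hc ⟨q, hq⟩)
  have hcV : (c : G) ∈ V := h.self v0 hv0 hv01 c (hQK c.2) (hcc v0 (hVQ hv0)).symm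
  have hyQ : y ∈ Q := subset_closure ⟨hy, hy2⟩
  exact h.self c hcV hc1' y hy (hcc y hyQ)

/-- **(8A1)** from the outputs of Lemma F in `C(u)/⟨u⟩` -/
theorem core [Finite G] (F : Facts D) (h : In D Z j V b)
    (h2 : ∃ k : G, k * j D.u = j D.u * k ∧ (∀ v ∈ V, k * v * k⁻¹ ∈ V) ∧ ∀ v ∈ V, k * v * k⁻¹ = v → v = 1)
    (h4 : ∀ k ∈ closure {y : G | y * y = 1 ∧ y * j D.u = j D.u * y ∧ ∀ x ∈ Z.map j, y * x = x * y},
      k ^ 4 ∈ zpowers (j D.u)) :
    Nat.card (KK j) = 12 ∧ (∀ k ∈ KK j, ∀ v ∈ V, k * v * k⁻¹ ∈ V) ∧ ∃ ρ ∈ KK j, ∃ v ∈ V, ρ * v * ρ⁻¹ ≠ v := by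
  obtain ⟨k, hku, hkV, hkf⟩ := h2
  obtain ⟨ρ, hρ, hρk⟩ := h.exists_kk F hku hkV
  have hρV : ∀ v ∈ V, ρ * v * ρ⁻¹ ∈ V := fun v hv => by rw [hρk v hv]; exact hkV v hv
  have hρf : ∀ v ∈ V, ρ * v * ρ⁻¹ = v → v = 1 := fun v hv h1 => hkf v hv (by rw [← hρk v hv]; exact h1)
  have hnorm : ∀ k ∈ KK j, ∀ v ∈ V, k * v * k⁻¹ ∈ V := by
    intro k hk v hv
    refine h.mem_V F h4 (mul_mem (mul_mem hk (h.Vj hv)) (inv_mem hk)) ?_
    calc k * v * k⁻¹ * (k * v * k⁻¹) = k * (v * v) * k⁻¹ := by group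
      _ = 1 := by rw [h.sq v hv]; group
  obtain ⟨v, hv, hv1⟩ : ∃ v ∈ V, v ≠ 1 := by
    by_contra hno
    push Not at hno
    have h1 : V = ⊥ := (eq_bot_iff_forall V).2 hno
    have h2 := h.V4
    rw [h1] at h2
    simp at h2
  refine ⟨?_, hnorm, ρ, hρ, v, hv, fun h1 => hv1 (hρf v hv h1)⟩
  -- the orbit of `v` under `KK j`
  classical
  letI : MulAction (KK j) V :=
    { smul := fun k v => ⟨(k : G) * v * (k : G)⁻¹, hnorm k k.2 v v.2⟩
      one_smul := fun v => Subtype.ext (by change (1 : G) * v * (1 : G)⁻¹ = v; group)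
      mul_smul := fun a c v => Subtype.ext (by
        change (a : G) * c * v * ((a : G) * c)⁻¹ = (a : G) * ((c : G) * v * (c : G)⁻¹) * (a : G)⁻¹
        group) }
  have hsm : ∀ (k : KK j) (v : V), ((k • v : V) : G) = (k : G) * v * (k : G)⁻¹ := fun _ _ => rfl
  set v0 : V := ⟨v, hv⟩ with hv0
  have hstab : MulAction.stabilizer (KK j) v0 = V.subgroupOf (KK j) := by
    ext k
    rw [MulAction.mem_stabilizer_iff, mem_subgroupOf]
    constructor
    · intro h1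
      have h2 : (k : G) * v * (k : G)⁻¹ = v := congrArg Subtype.val h1
      refine h.self v hv hv1 k k.2 ?_
      calc (k : G) * v = (k : G) * v * (k : G)⁻¹ * k := by group
        _ = v * k := by rw [h2]
    · intro h1
      apply Subtype.ext
      rw [hsm]
      change (k : G) * v * (k : G)⁻¹ = v
      rw [h.commV h1 hv]; group
  have hst4 : Nat.card (MulAction.stabilizer (KK j) v0) = 4 := by
    rw [hstab, Nat.card_congr (subgroupOfEquivOfLe h.Vj).toEquiv, h.V4]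
  have horb := MulAction.index_stabilizer (KK j) v0
  have hmul := (MulAction.stabilizer (KK j) v0).card_mul_index
  rw [hst4, horb] at hmul
  -- the upper bound
  have hVfin : Finite V := inferInstance
  have hle : (MulAction.orbit (KK j) v0).ncard ≤ 3 := by
    have h1 : MulAction.orbit (KK j) v0 ⊆ ({1} : Set V)ᶜ := by
      rintro _ ⟨k, rfl⟩ h1
      have h2 : (k : G) * v * (k : G)⁻¹ = 1 := congrArg Subtype.val (Set.mem_singleton_iff.1 h1)
      apply hv1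
      calc v = (k : G)⁻¹ * ((k : G) * v * (k : G)⁻¹) * k := by group
        _ = 1 := by rw [h2]; group
    have h2 := Set.ncard_le_ncard h1 (Set.toFinite _)
    have h3 : ({1} : Set V).ncard + (({1} : Set V)ᶜ).ncard = Nat.card V := Set.ncard_add_ncard_compl _
    rw [Set.ncard_singleton, h.V4] at h3
    omega
  -- the lower bound
  set r : KK j := ⟨ρ, hρ⟩ with hr
  have hne : ∀ w : V, w ≠ 1 → r • w ≠ w := by
    intro w hw h1
    apply hw
    exact Subtype.ext (hρf w w.2 (congrArg Subtype.val h1))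
  have hv01 : v0 ≠ 1 := fun h1 => hv1 (congrArg Subtype.val h1)
  have hinj : ∀ a c : V, r • a = r • c → a = c := fun a c h1 => by simpa using h1
  have hr0 : r • v0 ≠ v0 := hne v0 hv01
  have hr01 : r • v0 ≠ 1 := by
    intro h1
    apply hv01
    apply hinj
    rw [h1]
    exact (Subtype.ext (by rw [hsm]; simp)).symm
  have hr1 : r • r • v0 ≠ r • v0 := hne _ hr01
  have hr2 : r • r • v0 ≠ v0 := by
    intro h1
    have h2 : r • (v0 * r • v0) = v0 * r • v0 := by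
      apply Subtype.ext
      have h3 : ((r • r • v0 : V) : G) = v := congrArg Subtype.val h1
      rw [hsm, hsm] at h3
      rw [hsm]
      simp only [coe_mul, hsm]
      change ρ * (v * (ρ * v * ρ⁻¹)) * ρ⁻¹ = v * (ρ * v * ρ⁻¹)
      calc ρ * (v * (ρ * v * ρ⁻¹)) * ρ⁻¹ = ρ * v * ρ⁻¹ * (ρ * (ρ * v * ρ⁻¹) * ρ⁻¹) := by group
        _ = ρ * v * ρ⁻¹ * v := by rw [show ρ * (ρ * v * ρ⁻¹) * ρ⁻¹ = v from h3]
        _ = v * (ρ * v * ρ⁻¹) := h.commV (hρV v hv) hv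
    by_cases h3 : v0 * r • v0 = 1
    · apply hr0
      have h4 : v0 * v0 = 1 := Subtype.ext (h.sq v hv)
      calc r • v0 = v0⁻¹ * (v0 * r • v0) := by group
        _ = v0 := by rw [h3, mul_one]; exact inv_eq_of_mul_eq_one_left h4
    · exact hne _ h3 h2
  have hge : 3 ≤ (MulAction.orbit (KK j) v0).ncard := by
    have h1 : (({v0, r • v0, r • r • v0} : Finset V) : Set V) ⊆ MulAction.orbit (KK j) v0 := by
      intro t ht
      simp only [Finset.coe_insert, Finset.coe_singleton, Set.mem_insert_iff, Set.mem_singleton_iff] at ht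
      rcases ht with rfl | rfl | rfl
      · exact MulAction.mem_orbit_self _
      · exact MulAction.mem_orbit _ _
      · exact ⟨r * r, mul_smul _ _ _⟩
    have h2 := Set.ncard_le_ncard h1 (Set.toFinite _)
    rw [Set.ncard_coe_finset, Finset.card_insert_of_notMem, Finset.card_insert_of_notMem,
      Finset.card_singleton] at h2
    · exact h2
    · rw [Finset.mem_singleton]
      exact fun h3 => hr1 h3.symm
    · rw [Finset.mem_insert, Finset.mem_singleton, not_or]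
      exact ⟨fun h3 => hr0 h3.symm, fun h3 => hr2 h3.symm⟩
  have h5 : (MulAction.orbit (KK j) v0).ncard = 3 := le_antisymm hle hge
  rw [h5] at hmul
  omega

/-- the setting of Lemma F in `C(u)/⟨u⟩` -/
theorem dhyp (F : Facts D) (h : In D Z j V b) (eAl : Nonempty (D.Al ≃* alternatingGroup (Fin 5)))
    (hZ : Z ≤ D.Al) (hZ4 : Nat.card Z = 4) :
    StdG24.F.Quot.DHyp (j D.u) V (D.Al.map j) (Z.map j) b where
  d5 := by rw [← map_pow, F.u5, map_one]
  dR := fun r hr => mem_KK.1 (h.Vj hr) D.u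
  dA := by
    rintro _ ⟨a, ha, rfl⟩
    rw [← map_mul, ← map_mul, F.comm D.u F.uAs a ha]
  db := h.bu
  cardR := h.V4
  sqR := h.sq
  comm := by
    rintro r hr _ ⟨a, -, rfl⟩
    exact mem_KK.1 (h.Vj hr) a
  cent := by
    intro r hr hr1 g hg hgu
    obtain ⟨v', hv', i, c, hc, rfl⟩ := h.cent_u F hr hr1 hg hgu
    refine ⟨v', hv', j c, ⟨c, hc, rfl⟩, i, ?_⟩
    have h1 : D.u ^ i * c = c * D.u ^ i := F.comm _ (pow_mem F.uAs i) c hc
    rw [h1, map_mul, map_pow, zpow_natCast, mul_assoc]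
  eA := by
    obtain ⟨φ⟩ := eAl
    exact ⟨(D.Al.equivMapOfInjective j h.inj).symm.trans φ⟩
  B_le := map_mono hZ
  cardB := by rw [card_map_of_injective h.inj, hZ4]
  bR := by
    intro r hr
    obtain ⟨v', hv', x, hx, h1⟩ := h.bV r hr
    exact ⟨v', hv', j x, ⟨x, hx, rfl⟩, h1⟩
  bn := h.bn
  bB := by
    rintro _ ⟨x, hx, rfl⟩
    obtain ⟨a, ha, h1⟩ := h.bZ x hx
    refine ⟨a, ha, ?_⟩
    rw [h1]; group

/-- **(8A1)**: `C(jL) ≅ A₄` (order 12, `V` is normal in it and it acts nontrivially on `V`) -/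
theorem kk12 [Finite G] (F : Facts D) (h : In D Z j V b) (eAl : Nonempty (D.Al ≃* alternatingGroup (Fin 5)))
    (hZ : Z ≤ D.Al) (hZ4 : Nat.card Z = 4) :
    Nat.card (KK j) = 12 ∧ (∀ k ∈ KK j, ∀ v ∈ V, k * v * k⁻¹ ∈ V) ∧ ∃ ρ ∈ KK j, ∃ v ∈ V, ρ * v * ρ⁻¹ ≠ v := by
  have H := h.dhyp F eAl hZ hZ4
  obtain ⟨k, h1, h2, h3, -⟩ := H.exists_rho
  exact h.core F ⟨k, h1, h2, h3⟩ fun k hk => H.pow_four_mem hk

end In

end Cfsg.Agent.StdG24.EightA
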