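import Cfsg.Agent.StdG24.EightA3a
import Cfsg.Agent.StdG24.FiveL
import Cfsg.Agent.StdG24.Basic

/-!
# Step 8 of S1767, first half (A3): `C(j J_L) ≅ A₅` (helper963)
-/

set_option autoImplicit false
set_option linter.style.haveILetI false

namespace Cfsg.Agent.StdG24.EightA3

open Subgroup Cfsg.Agent.StdG24.AutL
open scoped commutatorElement

variable {L : Type*} [Group L] {G : Type*} [Group G]

theorem exists_aut {j : L →* G} (hj : Function.Injective j) {m : G} (hm : m ∈ MM j) :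
    ∃ α : MulAut L, ∀ x, j (α x) = m * j x * m⁻¹ := by
  obtain ⟨h1, h2⟩ := mem_MM.1 hm
  choose f hf using h1
  choose f' hf' using h2
  refine ⟨{ toFun := f, invFun := f', left_inv := fun x => ?_, right_inv := fun x => ?_, map_mul' := fun x y => ?_ },
    fun x => (hf x).symm⟩
  · apply hj
    rw [← hf', ← hf]; group
  · apply hj
    rw [← hf, ← hf']; group
  · apply hj
    rw [map_mul, ← hf, ← hf, ← hf, map_mul]; group

section El

variable {E : El L}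

/-- the Sylow 5-subgroup `⟨w, u⟩` -/
def S0 (A : Ax E) : Subgroup L where
  carrier := {x | ∃ a b : ℕ, x = E.w ^ a * E.u ^ b}
  one_mem' := ⟨0, 0, by simp⟩
  mul_mem' := by
    rintro _ _ ⟨a, b, rfl⟩ ⟨c, d, rfl⟩
    exact ⟨a + c, b + d, A.qmul a b c d⟩
  inv_mem' := by
    rintro _ ⟨a, b, rfl⟩
    refine ⟨4 * a, 4 * b, ?_⟩
    apply inv_eq_of_mul_eq_one_right
    rw [A.qmul, A.qmod]
    have h1 : (a + 4 * a) % 5 = 0 := by omega
    have h2 : (b + 4 * b) % 5 = 0 := by omega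
    rw [h1, h2]; simp

theorem mem_S0 {A : Ax E} {x : L} : x ∈ S0 A ↔ ∃ a b : ℕ, x = E.w ^ a * E.u ^ b := Iff.rfl

variable (A : Ax E)
include A

theorem w_conj : E.i₂ * E.n * E.w * (E.i₂ * E.n)⁻¹ = E.w ^ 3 * E.u ^ 2 := by
  have h1 : E.i₂ * E.n * E.w * (E.i₂ * E.n)⁻¹ = E.i₂ * (E.n * E.w * E.n⁻¹) * E.i₂⁻¹ := by group
  have h2 : E.i₂ * (E.w ^ 2 * E.u ^ 2) * E.i₂⁻¹ = (E.i₂ * E.w * E.i₂⁻¹) ^ 2 * (E.i₂ * E.u * E.i₂⁻¹) ^ 2 := by
    rw [conj_pow, conj_pow]; group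
  have h3 : E.i₂ * E.w * E.i₂⁻¹ = E.w ^ 4 := by
    rw [A.i₂inv, A.i₂w]
    apply inv_eq_of_mul_eq_one_right
    rw [← pow_succ', A.w5]
  have h4 : E.i₂ * E.u * E.i₂⁻¹ = E.u := by rw [A.i₂u]; group
  rw [h1, A.nw, h2, h3, h4, ← pow_mul]
  have := A.qmod (4 * 2) 2
  rw [this]

theorem u_conj : E.i₂ * E.n * E.u * (E.i₂ * E.n)⁻¹ = E.w ^ 1 * E.u ^ 2 := by
  have h1 : E.i₂ * E.n * E.u * (E.i₂ * E.n)⁻¹ = E.i₂ * (E.n * E.u * E.n⁻¹) * E.i₂⁻¹ := by group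
  have h2 : E.i₂ * (E.w ^ 4 * E.u ^ 2) * E.i₂⁻¹ = (E.i₂ * E.w * E.i₂⁻¹) ^ 4 * (E.i₂ * E.u * E.i₂⁻¹) ^ 2 := by
    rw [conj_pow, conj_pow]; group
  have h3 : E.i₂ * E.w * E.i₂⁻¹ = E.w ^ 4 := by
    rw [A.i₂inv, A.i₂w]
    apply inv_eq_of_mul_eq_one_right
    rw [← pow_succ', A.w5]
  have h4 : E.i₂ * E.u * E.i₂⁻¹ = E.u := by rw [A.i₂u]; group
  rw [h1, A.nu, h2, h3, h4, ← pow_mul]
  have := A.qmod (4 * 4) 2
  rw [this]

theorem s_conj (a b : ℕ) : E.i₂ * E.n * (E.w ^ a * E.u ^ b) * (E.i₂ * E.n)⁻¹ =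
    E.w ^ (3 * a + 1 * b) * E.u ^ (2 * a + 2 * b) := by
  have h1 : E.i₂ * E.n * (E.w ^ a * E.u ^ b) * (E.i₂ * E.n)⁻¹ =
      (E.i₂ * E.n * E.w * (E.i₂ * E.n)⁻¹) ^ a * (E.i₂ * E.n * E.u * (E.i₂ * E.n)⁻¹) ^ b := by
    rw [conj_pow, conj_pow]; group
  rw [h1, w_conj A, u_conj A, A.qpow, A.qpow, A.qmul]

theorem w_conj' : (E.i₂ * E.n)⁻¹ * E.w * (E.i₂ * E.n) = E.w ^ 3 * E.u ^ 2 := by
  have h1 := s_conj A 3 2
  rw [A.qmod (3 * 3 + 1 * 2) (2 * 3 + 2 * 2)] at h1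
  have h2 : E.w ^ ((3 * 3 + 1 * 2) % 5) * E.u ^ ((2 * 3 + 2 * 2) % 5) = E.w := by norm_num
  rw [h2] at h1
  nth_rewrite 1 [← h1]
  group

theorem u_conj' : (E.i₂ * E.n)⁻¹ * E.u * (E.i₂ * E.n) = E.w ^ 1 * E.u ^ 2 := by
  have h1 := s_conj A 1 2
  rw [A.qmod (3 * 1 + 1 * 2) (2 * 1 + 2 * 2)] at h1
  have h2 : E.w ^ ((3 * 1 + 1 * 2) % 5) * E.u ^ ((2 * 1 + 2 * 2) % 5) = E.u := by norm_num
  rw [h2] at h1
  nth_rewrite 1 [← h1]
  group

/-- `C_{⟨w, u⟩}(J) = 1` -/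
theorem eq_one_of_comm {s : L} (hs : s ∈ S0 A) (h1 : s * E.i₁ = E.i₁ * s)
    (h2 : s * (E.i₂ * E.n) = E.i₂ * E.n * s) : s = 1 := by
  obtain ⟨a, b, rfl⟩ := hs
  have h3 : E.i₁ * (E.w ^ a * E.u ^ b) * E.i₁⁻¹ = E.w ^ a * E.u ^ (4 * b) := by
    have e1 : E.i₁ * (E.w ^ a * E.u ^ b) * E.i₁⁻¹ = (E.i₁ * E.w * E.i₁⁻¹) ^ a * (E.i₁ * E.u * E.i₁⁻¹) ^ b := by
      rw [conj_pow, conj_pow]; group
    have e2 : E.i₁ * E.w * E.i₁⁻¹ = E.w := by rw [A.i₁w]; group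
    have e3 : E.i₁ * E.u * E.i₁⁻¹ = E.u ^ 4 := by
      rw [A.i₁inv, A.i₁u]
      apply inv_eq_of_mul_eq_one_right
      rw [← pow_succ', A.u5]
    rw [e1, e2, e3, ← pow_mul]
  have h4 : E.i₁ * (E.w ^ a * E.u ^ b) * E.i₁⁻¹ = E.w ^ a * E.u ^ b := by rw [← h1]; group
  have h5 : E.u ^ (4 * b) = E.u ^ b := mul_left_cancel (h3.symm.trans h4)
  have h6 : E.w ^ 0 * E.u ^ (3 * b) = 1 := by
    rw [pow_zero, one_mul]
    have e4 : E.u ^ (4 * b) = E.u ^ b * E.u ^ (3 * b) := by rw [← pow_add]; congr 1; ring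
    rw [e4] at h5
    exact mul_eq_left.1 h5
  have h7 := (FiveL.indep A _ _ h6).2
  have h8 : b % 5 = 0 := by omega
  have h9 := s_conj A a b
  have h10 : E.i₂ * E.n * (E.w ^ a * E.u ^ b) * (E.i₂ * E.n)⁻¹ = E.w ^ a * E.u ^ b := by rw [← h2]; group
  rw [h9] at h10
  have h11 : E.w ^ a * E.u ^ b * (E.w ^ (2 * a + b) * E.u ^ (2 * a + b)) =
      E.w ^ (3 * a + 1 * b) * E.u ^ (2 * a + 2 * b) := by
    rw [A.qmul]; congr 2 <;> ring
  rw [← h11] at h10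
  have h12 := (FiveL.indep A _ _ (mul_eq_left.1 h10)).1
  have h13 : a % 5 = 0 := by omega
  rw [A.qmod, h8, h13]; simp

end El

/-- the hypothesis -/
structure In3 (E : El L) (j : L →* G) (V : Subgroup G) (g : G) : Prop where
  inj : Function.Injective j
  V4 : Nat.card V = 4
  sq : ∀ v ∈ V, v * v = 1
  Vj : V ≤ KK j
  cent : ∀ v ∈ V, v ≠ 1 → ∀ g, g * v = v * g → g ∈ MM j
  self : ∀ v ∈ V, v ≠ 1 → ∀ k ∈ KK j, k * v = v * k → k ∈ V
  K12 : Nat.card (KK j) = 12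
  KV : ∀ k ∈ KK j, ∀ v ∈ V, k * v * k⁻¹ ∈ V
  gA : ∀ a ∈ E.As, g * j a = j a * g
  gw : g * j E.w = j E.w * g
  gV : ∃ v ∈ V, g * v * g⁻¹ ∉ V

/-- the subgroup `T = C(j⟨u, w⟩)` -/
def TT (E : El L) (j : L →* G) : Subgroup G := centralizer {j E.u, j E.w}

theorem mem_TT {E : El L} {j : L →* G} {g : G} :
    g ∈ TT E j ↔ g * j E.u = j E.u * g ∧ g * j E.w = j E.w * g := by
  rw [TT, mem_centralizer_iff]
  constructor
  · intro h
    exact ⟨(h _ (by simp)).symm, (h _ (by simp)).symm⟩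
  · rintro ⟨h1, h2⟩ x hx
    rcases hx with rfl | rfl
    · exact h1.symm
    · exact h2.symm

namespace In3

variable {E : El L} (A : Ax E) {j : L →* G} {V : Subgroup G} {g : G} (h : In3 E j V g)
include h

omit h in
theorem Kj : KK j ≤ TT E j := fun _ hk => mem_TT.2 ⟨mem_KK.1 hk _, mem_KK.1 hk _⟩

omit h in
theorem comm_S0 {x : G} (hx : x ∈ TT E j) (a b : ℕ) : x * j (E.w ^ a * E.u ^ b) = j (E.w ^ a * E.u ^ b) * x := by
  obtain ⟨h1, h2⟩ := mem_TT.1 hx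
  rw [map_mul, map_pow, map_pow]
  exact ((show Commute x (j E.w) from h2).pow_right a).mul_right ((show Commute x (j E.u) from h1).pow_right b)

include A in
theorem ht : HT (((S0 A).map j).subgroupOf (TT E j)) (V.subgroupOf (TT E j))
    ⟨g, mem_TT.2 ⟨h.gA _ A.uAs, h.gw⟩⟩ where
  SZ := by
    rintro s ⟨_, ⟨a, b, rfl⟩, hs⟩ x
    apply Subtype.ext
    show (x : G) * s = s * x
    have hs' : j (E.w ^ a * E.u ^ b) = (s : G) := hs
    rw [← hs']
    exact comm_S0 x.2 a b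
  s5 := by
    rintro s ⟨_, ⟨a, b, rfl⟩, hs⟩
    apply Subtype.ext
    have hs' : j (E.w ^ a * E.u ^ b) = (s : G) := hs
    show (s : G) ^ 5 = 1
    rw [← hs', ← map_pow, FiveL.q5 A, map_one]
  V4 := by
    rw [← h.V4]
    exact Nat.card_congr (subgroupOfEquivOfLe (h.Vj.trans Kj)).toEquiv
  sq := fun v hv => Subtype.ext (h.sq v hv)
  cV := by
    intro v hv hv1 x hx
    have hv1' : (v : G) ≠ 1 := fun e => hv1 (Subtype.ext e)
    have hvV : (v : G) ∈ V := hv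
    have hx' : (x : G) * v = v * x := congrArg Subtype.val hx
    obtain ⟨α, hα⟩ := exists_aut h.inj (h.cent v hvV hv1' x hx')
    obtain ⟨hxu, hxw⟩ := mem_TT.1 x.2
    obtain ⟨i, c, -, h1⟩ := A.aut_w α (h.inj (by rw [hα, hxw]; group))
    set d := E.w ^ i * c with hd
    have hdw : d * E.w = E.w * d := by
      have h2 : α E.w = E.w := h.inj (by rw [hα, hxw]; group)
      rw [h1] at h2
      exact mul_inv_eq_iff_eq_mul.1 h2
    have hdu : d * E.u = E.u * d := by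
      have h2 : α E.u = E.u := h.inj (by rw [hα, hxu]; group)
      rw [h1] at h2
      exact mul_inv_eq_iff_eq_mul.1 h2
    obtain ⟨a, b, hab⟩ := A.cuw hdw hdu
    have h2 : (x : G) * (j d)⁻¹ ∈ KK j := by
      rw [mem_KK]
      intro y
      have h3 := hα (d⁻¹ * y * d)
      rw [h1, show d * (d⁻¹ * y * d) * d⁻¹ = y by group] at h3
      calc (x : G) * (j d)⁻¹ * j y
          = x * j (d⁻¹ * y * d) * (x : G)⁻¹ * (x * (j d)⁻¹) := by
            simp only [map_mul, map_inv]; group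
        _ = j y * (x * (j d)⁻¹) := by rw [← h3]
    have h4 := mem_KK.1 (h.Vj hvV) d
    have h5 : (x : G) * (j d)⁻¹ ∈ V := by
      apply h.self v hvV hv1' _ h2
      calc (x : G) * (j d)⁻¹ * v = x * ((j d)⁻¹ * (v * j d) * (j d)⁻¹) := by group
        _ = x * v * (j d)⁻¹ := by rw [h4]; group
        _ = v * (x * (j d)⁻¹) := by rw [hx']; group
    have hdT : j d ∈ TT E j := by
      rw [mem_TT]
      constructor
      · rw [← map_mul, ← map_mul, hdu]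
      · rw [← map_mul, ← map_mul, hdw]
    refine ⟨⟨x * (j d)⁻¹, (TT E j).mul_mem x.2 ((TT E j).inv_mem hdT)⟩, h5, ⟨j d, hdT⟩, ?_, ?_⟩
    · exact ⟨d, ⟨a, b, hab⟩, rfl⟩
    · apply Subtype.ext
      show (x : G) = x * (j d)⁻¹ * j d
      group
  mov := by
    obtain ⟨v, hv, hg⟩ := h.gV
    exact ⟨⟨v, (h.Vj.trans Kj) hv⟩, hv, fun h1 => hg h1⟩

variable [Finite G]

include A in
theorem KB : KK j ≤ ⁅TT E j, TT E j⁆ := by
  intro k hk
  have hH := h.ht A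
  have h1 : (⟨k, Kj hk⟩ : TT E j) ∈ commutator (TT E j) := by
    apply hH.mem_of_pow
    apply Subtype.ext
    have h2 : (⟨k, hk⟩ : KK j) ^ Nat.card (KK j) = 1 := pow_card_eq_one'
    rw [h.K12] at h2
    have h3 : k ^ 12 = 1 := congrArg Subtype.val h2
    exact h3
  rw [← map_subtype_commutator]
  exact ⟨_, h1, rfl⟩

/-- `j (i₂ n)` normalises `T` -/
theorem conj_T {x : G} (A : Ax E) : x ∈ TT E j ↔ j (E.i₂ * E.n) * x * (j (E.i₂ * E.n))⁻¹ ∈ TT E j := by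
  set m := E.i₂ * E.n with hm
  have key : ∀ (n c : L) (x : G), (∃ a b : ℕ, n⁻¹ * c * n = E.w ^ a * E.u ^ b) → x ∈ TT E j →
      j n * x * (j n)⁻¹ * j c = j c * (j n * x * (j n)⁻¹) := by
    rintro n c x ⟨a, b, e⟩ hx
    have h1 := comm_S0 hx a b
    rw [← e] at h1
    calc j n * x * (j n)⁻¹ * j c = j n * (x * j (n⁻¹ * c * n)) * (j n)⁻¹ := by
          simp only [map_mul, map_inv]; group
      _ = j n * (j (n⁻¹ * c * n) * x) * (j n)⁻¹ := by rw [h1]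
      _ = j c * (j n * x * (j n)⁻¹) := by simp only [map_mul, map_inv]; group
  constructor
  · intro hx
    rw [mem_TT]
    exact ⟨key m E.u x ⟨1, 2, u_conj' A⟩ hx, key m E.w x ⟨3, 2, w_conj' A⟩ hx⟩
  · intro hx
    have h1 := key m⁻¹ E.u _ ⟨1, 2, by rw [inv_inv]; exact u_conj A⟩ hx
    have h2 := key m⁻¹ E.w _ ⟨3, 2, by rw [inv_inv]; exact w_conj A⟩ hx
    have e : j m⁻¹ * (j m * x * (j m)⁻¹) * (j m⁻¹)⁻¹ = x := by rw [map_inv]; group
    rw [e] at h1 h2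
    exact mem_TT.2 ⟨h1, h2⟩

theorem map_T (A : Ax E) : (TT E j).map (MulAut.conj (j (E.i₂ * E.n))).toMonoidHom = TT E j := by
  ext x
  constructor
  · rintro ⟨y, hy, rfl⟩
    exact (h.conj_T A).1 hy
  · intro hx
    refine ⟨(j (E.i₂ * E.n))⁻¹ * x * j (E.i₂ * E.n), ?_, ?_⟩
    · apply (h.conj_T A).2
      have : j (E.i₂ * E.n) * ((j (E.i₂ * E.n))⁻¹ * x * j (E.i₂ * E.n)) * (j (E.i₂ * E.n))⁻¹ = x := by group
      rw [this]; exact hx
    · show j (E.i₂ * E.n) * ((j (E.i₂ * E.n))⁻¹ * x * j (E.i₂ * E.n)) * (j (E.i₂ * E.n))⁻¹ = x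
      group

theorem conj_B (A : Ax E) {x : G} : x ∈ ⁅TT E j, TT E j⁆ ↔
    j (E.i₂ * E.n) * x * (j (E.i₂ * E.n))⁻¹ ∈ ⁅TT E j, TT E j⁆ := by
  have h1 : (⁅TT E j, TT E j⁆).map (MulAut.conj (j (E.i₂ * E.n))).toMonoidHom = ⁅TT E j, TT E j⁆ := by
    rw [map_commutator, h.map_T A]
  constructor
  · intro hx
    rw [← h1]
    exact ⟨x, hx, rfl⟩
  · intro hx
    rw [← h1] at hx
    obtain ⟨y, hy, e⟩ := hx
    have e' : j (E.i₂ * E.n) * y * (j (E.i₂ * E.n))⁻¹ = j (E.i₂ * E.n) * x * (j (E.i₂ * E.n))⁻¹ := e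
    have : y = x := mul_left_cancel (mul_right_cancel e')
    rw [← this]; exact hy

include A in
theorem equiv : Nonempty (↥(⁅TT E j, TT E j⁆ : Subgroup G) ≃* alternatingGroup (Fin 5)) := by
  obtain ⟨e⟩ := (h.ht A).equiv_comm
  rw [← map_subtype_commutator]
  exact ⟨((commutator (TT E j)).equivMapOfInjective _ (TT E j).subtype_injective).symm.trans e⟩

include A in
theorem comm_As {b : G} (hb : b ∈ ⁅TT E j, TT E j⁆) {a : L} (ha : a ∈ E.As) : b * j a = j a * b := by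
  rw [← map_subtype_commutator] at hb
  obtain ⟨b, hb, rfl⟩ := hb
  have h1 : commutator (TT E j) ≤ (centralizer ((E.As.map j : Subgroup G) : Set G)).subgroupOf (TT E j) := by
    refine (h.ht A).comm_le (K := (KK j).subgroupOf (TT E j)) ?_ ?_ ?_ ?_
    · rw [← h.K12]
      exact Nat.card_congr (subgroupOfEquivOfLe Kj).toEquiv
    · intro k hk v hv
      exact h.KV k hk v hv
    · intro k hk
      rw [mem_subgroupOf, mem_centralizer_iff]
      rintro _ ⟨a, -, rfl⟩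
      exact (mem_KK.1 hk a).symm
    · rw [mem_subgroupOf, mem_centralizer_iff]
      rintro _ ⟨a, ha, rfl⟩
      exact (h.gA a ha).symm
  have h2 := h1 hb
  rw [mem_subgroupOf, mem_centralizer_iff] at h2
  exact (h2 (j a) ⟨a, ha, rfl⟩).symm

theorem exists_ab : ∃ a b : G, a ∈ V ∧ b ∈ V ∧ a ≠ 1 ∧ b ≠ 1 ∧ a ≠ b := by
  classical
  have hV : Finite V := inferInstance
  have hc := h.V4
  obtain ⟨a, ha⟩ : ∃ a : V, a ≠ 1 := by
    by_contra hcon
    push Not at hcon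
    have : Subsingleton V := ⟨fun x y => (hcon x).trans (hcon y).symm⟩
    have := Nat.card_of_subsingleton (1 : V)
    omega
  obtain ⟨b, hb⟩ : ∃ b : V, b ≠ 1 ∧ b ≠ a := by
    by_contra hcon
    push Not at hcon
    have := Fintype.ofFinite V
    have h1 : (Finset.univ : Finset V) ⊆ {1, a} := by
      intro x _
      rw [Finset.mem_insert, Finset.mem_singleton]
      by_cases hx : x = 1
      · exact Or.inl hx
      · exact Or.inr (hcon x hx)
    have h2 := Finset.card_le_card h1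
    have h3 : ({1, a} : Finset V).card ≤ 2 := Finset.card_le_two
    rw [Finset.card_univ, ← Nat.card_eq_fintype_card, hc] at h2
    omega
  exact ⟨a, b, a.2, b.2, fun e => ha (Subtype.ext e), fun e => hb.1 (Subtype.ext e),
    fun e => hb.2 (Subtype.ext e).symm⟩

include A in
/-- `B` centralises `j (i₂ n)` (rigidity of `A₄ ≤ A₅`) -/
theorem comm_m {b : G} (hb : b ∈ ⁅TT E j, TT E j⁆) : b * j (E.i₂ * E.n) = j (E.i₂ * E.n) * b := by
  obtain ⟨eB⟩ := h.equiv A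
  set g' := j (E.i₂ * E.n) with hg'
  have hg : ∀ x, x ∈ ⁅TT E j, TT E j⁆ ↔ g' * x * g'⁻¹ ∈ ⁅TT E j, TT E j⁆ := fun x => h.conj_B A
  set B := ⁅TT E j, TT E j⁆ with hB
  set α : MulAut B :=
    { toFun := fun x => ⟨g' * x * g'⁻¹, (hg x).1 x.2⟩
      invFun := fun x => ⟨g'⁻¹ * x * g', (hg _).2 (by
        rw [show g' * (g'⁻¹ * (x : G) * g') * g'⁻¹ = x by group]; exact x.2)⟩
      left_inv := fun x => Subtype.ext (by
        show g'⁻¹ * (g' * (x : G) * g'⁻¹) * g' = x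
        group)
      right_inv := fun x => Subtype.ext (by
        show g' * (g'⁻¹ * (x : G) * g') * g'⁻¹ = x
        group)
      map_mul' := fun x y => Subtype.ext (by
        show g' * ((x : G) * y) * g'⁻¹ = g' * x * g'⁻¹ * (g' * y * g'⁻¹)
        group) } with hα
  have hαx : ∀ x : B, ((α x : B) : G) = g' * x * g'⁻¹ := fun x => rfl
  obtain ⟨a, b', ha, hb', ha1, hb1, hne⟩ := h.exists_ab
  have hVB : V ≤ B := h.Vj.trans (h.KB A)
  have hfix : ∀ k ∈ KK j, g' * k * g'⁻¹ = k := by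
    intro k hk
    rw [hg', ← mem_KK.1 hk]; group
  obtain ⟨v, hv, hvx⟩ := AutA5.conj_of_fix_four eB α (a := ⟨a, hVB ha⟩) (b := ⟨b', hVB hb'⟩)
    (fun e => ha1 (congrArg Subtype.val e)) (fun e => hb1 (congrArg Subtype.val e))
    (Subtype.ext (h.sq a ha)) (Subtype.ext (h.sq b' hb')) (fun e => hne (congrArg Subtype.val e))
    (Subtype.ext (by
      show a * b' = b' * a
      have h1 := h.sq _ (V.mul_mem ha hb')
      have h2 := h.sq _ ha
      have h3 := h.sq _ hb'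
      calc a * b' = (a * b')⁻¹ := eq_inv_of_mul_eq_one_left h1
        _ = b'⁻¹ * a⁻¹ := mul_inv_rev a b'
        _ = b' * a := by rw [inv_eq_of_mul_eq_one_left h2, inv_eq_of_mul_eq_one_left h3]))
    (Subtype.ext (by rw [hαx]; exact hfix a (h.Vj ha)))
    (Subtype.ext (by rw [hαx]; exact hfix b' (h.Vj hb')))
  have hvV : (v : G) ∈ V := by
    rcases hv with e | e | e | e
    · rw [e]; exact V.one_mem
    · rw [e]; exact ha
    · rw [e]; exact hb'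
    · rw [e]; exact V.mul_mem ha hb'
  -- `k ∈ K - V`
  obtain ⟨k, hk, hkV⟩ : ∃ k ∈ KK j, k ∉ V := by
    by_contra hcon
    push Not at hcon
    have h1 : KK j ≤ V := hcon
    have h2 := card_dvd_of_le h1
    rw [h.K12, h.V4] at h2
    omega
  have hv1 : (v : G) = 1 := by
    by_contra hv1
    apply hkV
    apply h.self v hvV hv1 k hk
    have h1 := congrArg Subtype.val (hvx ⟨k, h.KB A hk⟩)
    rw [hαx] at h1
    have h2 : g' * k * g'⁻¹ = v * k * (v : G)⁻¹ := h1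
    rw [hfix k hk] at h2
    calc k * (v : G) = (v * k * (v : G)⁻¹) * v := by rw [← h2]
      _ = v * k := by group
  have h1 := congrArg Subtype.val (hvx ⟨b, hb⟩)
  have hv2 : v = 1 := Subtype.ext hv1
  rw [hαx, hv2] at h1
  have h2 : g' * b * g'⁻¹ = 1 * b * (1 : G)⁻¹ := h1
  have h3 : g' * b * g'⁻¹ = b := by rw [h2]; group
  calc b * g' = (g' * b * g'⁻¹) * g' := by rw [h3]
    _ = g' * b := by group

include A in
/-- **(A3)**: `C(j J) = T' ≅ A₅` for `J = ⟨As, i₂ n⟩` -/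
theorem mem_B (x : G) : x ∈ ⁅TT E j, TT E j⁆ ↔
    ∀ l ∈ E.As ⊔ closure {E.i₂ * E.n}, x * j l = j l * x := by
  have key : ∀ b ∈ ⁅TT E j, TT E j⁆, ∀ l ∈ E.As ⊔ closure {E.i₂ * E.n}, b * j l = j l * b := by
    intro b hb
    have h1 : E.As ⊔ closure {E.i₂ * E.n} ≤ (centralizer {b}).comap j := by
      refine sup_le ?_ ?_
      · intro a ha
        exact mem_centralizer_singleton_iff.2 (h.comm_As A hb ha).symm
      · rw [closure_le]
        intro a ha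
        rw [Set.mem_singleton_iff] at ha
        rw [ha]
        exact mem_centralizer_singleton_iff.2 (h.comm_m A hb).symm
    intro l hl
    exact (mem_centralizer_singleton_iff.1 (h1 hl)).symm
  refine ⟨key x, fun hx => ?_⟩
  have hm : E.i₂ * E.n ∈ E.As ⊔ closure {E.i₂ * E.n} := mem_sup_right (subset_closure rfl)
  have hu : E.u ∈ E.As ⊔ closure {E.i₂ * E.n} := mem_sup_left A.uAs
  have hw : E.w ∈ E.As ⊔ closure {E.i₂ * E.n} := by
    have h1 := u_conj A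
    have h2 : E.w = E.i₂ * E.n * E.u * (E.i₂ * E.n)⁻¹ * (E.u ^ 2)⁻¹ := by rw [h1, pow_one]; group
    rw [h2]
    exact mul_mem (mul_mem (mul_mem hm hu) (inv_mem hm)) (inv_mem (pow_mem hu 2))
  have hxT : x ∈ TT E j := mem_TT.2 ⟨hx _ hu, hx _ hw⟩
  obtain ⟨b, hb, s, hs, e⟩ := (h.ht A).decomp ⟨x, hxT⟩
  have hb' : (b : G) ∈ ⁅TT E j, TT E j⁆ := by
    rw [← map_subtype_commutator]; exact ⟨b, hb, rfl⟩
  obtain ⟨s₀, hs₀, hs₁⟩ := hs
  have hs₁' : j s₀ = (s : G) := hs₁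
  have e' : x = b * j s₀ := by rw [hs₁']; exact congrArg Subtype.val e
  have hcomm : ∀ l ∈ E.As ⊔ closure {E.i₂ * E.n}, s₀ * l = l * s₀ := by
    intro l hl
    apply h.inj
    rw [map_mul, map_mul]
    have h1 := key b hb' l hl
    have h2 := hx l hl
    have h3 : j s₀ = (b : G)⁻¹ * x := by rw [e']; group
    rw [h3]
    calc (b : G)⁻¹ * x * j l = (b : G)⁻¹ * (x * j l) := by group
      _ = (b : G)⁻¹ * (j l * x) := by rw [h2]
      _ = (b : G)⁻¹ * (j l * b) * (b : G)⁻¹ * x := by group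
      _ = (b : G)⁻¹ * (b * j l) * (b : G)⁻¹ * x := by rw [h1]
      _ = j l * ((b : G)⁻¹ * x) := by group
  have h4 := eq_one_of_comm A hs₀ (hcomm _ (mem_sup_left A.i₁As)) (hcomm _ hm)
  rw [e', h4, map_one, mul_one]
  exact hb'

end In3

end Cfsg.Agent.StdG24.EightA3
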