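import Cfsg.Agent.J2Type.FourSelfCent
import Cfsg.Agent.OddOrderLocal.FreeAction
import Cfsg.Agent.StdG24.AutL

/-!
# Step 8 of S1767, first half (A3): the group `T = C(S₅)` (helper963)

Abstract part: `S` is a central subgroup of exponent 5 of the finite group `T`, `V` a four-group with
`C_T(v) = V × S`, not normalised by `g`. Then `T = T' × S` with `T' ≅ A₅`.
-/

set_option autoImplicit false
set_option linter.style.haveILetI false

namespace Cfsg.Agent.StdG24.EightA3

open Subgroup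
open scoped commutatorElement

variable {T : Type*} [Group T]

/-- the hypothesis -/
structure HT (S V : Subgroup T) (g : T) : Prop where
  SZ : ∀ s ∈ S, ∀ x : T, x * s = s * x
  s5 : ∀ s ∈ S, s ^ 5 = 1
  V4 : Nat.card V = 4
  sq : ∀ v ∈ V, v * v = 1
  cV : ∀ v ∈ V, v ≠ 1 → ∀ x : T, x * v = v * x → ∃ y ∈ V, ∃ s ∈ S, x = y * s
  mov : ∃ v ∈ V, g * v * g⁻¹ ∉ V

theorem eq_one_of_two_five {s : T} (h2 : s * s = 1) (h5 : s ^ 5 = 1) : s = 1 := by
  have : s ^ 5 = s * s * (s * s) * s := by
    simp only [pow_succ, pow_zero, one_mul, mul_assoc]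
  rw [h2, one_mul, one_mul] at this
  rw [← this, h5]

namespace HT

variable {S V : Subgroup T} {g : T} (h : HT S V g)
include h

theorem normal : S.Normal := ⟨fun s hs x => by
  rw [h.SZ s hs x, mul_inv_cancel_right]; exact hs⟩

theorem disj {x : T} (hx : x ∈ V) (hs : x ∈ S) : x = 1 := eq_one_of_two_five (h.sq x hx) (h.s5 x hs)

/-- a conjugate of an involution that is congruent to an involution mod `S` equals it -/
theorem eq_of_mul {v w s : T} (hv : v * v = 1) (hw : w * w = 1) (hs : s ∈ S) (e : v = w * s) : v = w := by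
  have h1 : s * s = 1 := by
    have h2 : w * s * (w * s) = w * w * (s * s) := by
      calc w * s * (w * s) = w * (s * w) * s := by group
        _ = w * (w * s) * s := by rw [h.SZ s hs w]
        _ = w * w * (s * s) := by group
    rw [← e, hv, hw, one_mul] at h2
    exact h2.symm
  rw [e, eq_one_of_two_five h1 (h.s5 s hs), mul_one]

omit h in
theorem conj_sq {v x : T} (hv : v * v = 1) : x * v * x⁻¹ * (x * v * x⁻¹) = 1 := by
  calc x * v * x⁻¹ * (x * v * x⁻¹) = x * (v * v) * x⁻¹ := by group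
    _ = 1 := by rw [hv]; group

/-- the image of `V` in `T / S` -/
def Vb (_ : HT S V g) [S.Normal] : Subgroup (T ⧸ S) := ((QuotientGroup.mk' S).comp V.subtype).range

theorem mem_Vb [S.Normal] {x : T} : (QuotientGroup.mk' S x) ∈ h.Vb ↔ ∃ y ∈ V, ∃ s ∈ S, x = y * s := by
  constructor
  · rintro ⟨y, hy⟩
    have h1 : (QuotientGroup.mk (y : T) : T ⧸ S) = QuotientGroup.mk x := hy
    rw [QuotientGroup.eq] at h1
    exact ⟨y, y.2, _, h1, by group⟩
  · rintro ⟨y, hy, s, hs, rfl⟩
    refine ⟨⟨y, hy⟩, ?_⟩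
    show (QuotientGroup.mk y : T ⧸ S) = QuotientGroup.mk (y * s)
    rw [QuotientGroup.eq]
    have : y⁻¹ * (y * s) = s := by group
    rw [this]; exact hs

theorem hyp [S.Normal] : J2Type.FourSelfCent.Hyp h.Vb where
  card4 := by
    have hinj : Function.Injective ((QuotientGroup.mk' S).comp V.subtype) := by
      rw [injective_iff_map_eq_one]
      intro x hx
      have h1 : (QuotientGroup.mk (x : T) : T ⧸ S) = 1 := hx
      rw [QuotientGroup.eq_one_iff] at h1
      exact Subtype.ext (h.disj x.2 h1)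
    rw [← h.V4]
    exact (Nat.card_congr (MonoidHom.ofInjective hinj).toEquiv).symm
  sq := by
    rintro _ ⟨x, rfl⟩
    rw [← map_mul]
    have : x * x = 1 := Subtype.ext (h.sq x x.2)
    rw [this, map_one]
  cent := by
    rintro _ ⟨v, rfl⟩ hv x hx
    obtain ⟨x, rfl⟩ := QuotientGroup.mk_surjective x
    have hv1 : (v : T) ≠ 1 := by
      intro e
      apply hv
      rw [show v = 1 from Subtype.ext e, map_one]
    have h1 : (QuotientGroup.mk (x * v) : T ⧸ S) = QuotientGroup.mk (v * x) := hx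
    rw [QuotientGroup.eq] at h1
    -- `v x = x v s`
    have h2 : (v : T) = (x * v * x⁻¹) * ((x * v)⁻¹ * (v * x)) := by
      have h3 := h.SZ _ h1 x
      calc (v : T) = (v * x) * x⁻¹ := by group
        _ = x * v * ((x * v)⁻¹ * (v * x)) * x⁻¹ := by group
        _ = x * v * (x⁻¹ * x) * ((x * v)⁻¹ * (v * x)) * x⁻¹ := by group
        _ = x * v * x⁻¹ * (x * ((x * v)⁻¹ * (v * x))) * x⁻¹ := by group
        _ = x * v * x⁻¹ * (((x * v)⁻¹ * (v * x)) * x) * x⁻¹ := by rw [h3]
        _ = _ := by group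
    have h3 := h.eq_of_mul (h.sq v v.2) (conj_sq (h.sq v v.2)) h1 h2
    have h4 : x * v = v * x := by
      nth_rewrite 2 [h3]
      group
    exact h.mem_Vb.2 (h.cV v v.2 hv1 x h4)

variable [Finite T]

theorem card60 [S.Normal] : Nat.card (T ⧸ S) = 60 := by
  have hH := h.hyp
  have key : h.Vb.Normal → False := by
    intro hn
    obtain ⟨v, hv, hg⟩ := h.mov
    apply hg
    have h1 : QuotientGroup.mk' S (g * v * g⁻¹) ∈ h.Vb := by
      rw [map_mul, map_mul, map_inv]
      exact hn.conj_mem _ (h.mem_Vb.2 ⟨v, hv, 1, S.one_mem, (mul_one v).symm⟩) _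
    obtain ⟨y, hy, s, hs, e⟩ := h.mem_Vb.1 h1
    rw [h.eq_of_mul (conj_sq (h.sq v hv)) (h.sq y hy) hs e]
    exact hy
  rcases hH.card_cases with h1 | h1 | h1
  · exfalso
    have h2 : h.Vb = ⊤ := Subgroup.eq_top_of_card_eq _ (by rw [hH.card4, h1])
    exact key (by rw [h2]; infer_instance)
  · exfalso
    rcases hH.card_normalizer with h2 | h2
    · have := hH.card_eq_four h2
      omega
    · have h3 : normalizer (h.Vb : Set (T ⧸ S)) = ⊤ := Subgroup.eq_top_of_card_eq _ (by rw [h2, h1])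
      exact key (normalizer_eq_top_iff.1 h3)
  · exact h1

theorem equiv [S.Normal] : Nonempty ((T ⧸ S) ≃* alternatingGroup (Fin 5)) :=
  h.hyp.equiv_of_card_60 h.card60

theorem sup_eq_top [S.Normal] : commutator T ⊔ S = ⊤ := by
  obtain ⟨e⟩ := h.equiv
  have h1 : (commutator T).map (QuotientGroup.mk' S) = ⊤ := by
    rw [_root_.commutator_def, map_commutator, ← MonoidHom.range_eq_map,
      MonoidHom.range_eq_top.2 (QuotientGroup.mk'_surjective S), ← _root_.commutator_def]
    exact AutL.comm_top e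
  have h2 := comap_map_eq (QuotientGroup.mk' S) (commutator T)
  rw [h1, comap_top, QuotientGroup.ker_mk'] at h2
  exact h2.symm

theorem inf_eq_bot {z : T} (hz : z ∈ S) (hc : z ∈ commutator T) : z = 1 := by
  have hn := h.normal
  have : Fact (Nat.Prime 5) := ⟨by norm_num⟩
  have hS5 : IsPGroup 5 S := fun x => ⟨1, Subtype.ext (by
    rw [pow_one]; exact h.s5 x x.2)⟩
  obtain ⟨P, hP⟩ := hS5.exists_le_sylow
  refine OddOrderLocal.FreeAction.eq_one_of_mem_sylow_center_commutator P ?_ (hP hz)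
    (mem_center_iff.2 fun x => h.SZ z hz x) hc
  let f : P →* T ⧸ S := (QuotientGroup.mk' S).comp (P : Subgroup T).subtype
  have hcyc : IsCyclic f.range := by
    have h5 : IsPGroup 5 f.range := P.2.of_surjective f.rangeRestrict f.rangeRestrict_surjective
    obtain ⟨k, hk⟩ := IsPGroup.iff_card.1 h5
    have h6 : Nat.card f.range ∣ 60 := by
      rw [← h.card60]; exact card_subgroup_dvd_card _
    rw [hk] at h6
    have hk1 : k < 2 := by
      by_contra hk2
      push Not at hk2
      have h7 : 5 ^ 2 ∣ 60 := (pow_dvd_pow 5 hk2).trans h6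
      omega
    interval_cases k
    · have : Subsingleton f.range := (Nat.card_eq_one_iff_unique.1 (by rw [hk, pow_zero])).1
      exact isCyclic_of_subsingleton
    · exact isCyclic_of_prime_card (p := 5) (by rw [hk, pow_one])
  have hker : f.rangeRestrict.ker ≤ center P := by
    intro x hx
    rw [MonoidHom.ker_rangeRestrict] at hx
    have h1 : (QuotientGroup.mk (x : T) : T ⧸ S) = 1 := hx
    rw [QuotientGroup.eq_one_iff] at h1
    rw [mem_center_iff]
    intro y
    exact Subtype.ext (h.SZ x h1 y)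
  exact MonoidHom.isMulCommutative_of_isCyclic_of_ker_le_center f.rangeRestrict hker

theorem equiv_comm : Nonempty (commutator T ≃* alternatingGroup (Fin 5)) := by
  have hn := h.normal
  obtain ⟨e⟩ := h.equiv
  let f : commutator T →* T ⧸ S := (QuotientGroup.mk' S).comp (commutator T).subtype
  have hinj : Function.Injective f := by
    rw [injective_iff_map_eq_one]
    intro x hx
    have h1 : (QuotientGroup.mk (x : T) : T ⧸ S) = 1 := hx
    rw [QuotientGroup.eq_one_iff] at h1
    exact Subtype.ext (h.inf_eq_bot h1 x.2)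
  have hsur : Function.Surjective f := by
    intro y
    obtain ⟨x, rfl⟩ := QuotientGroup.mk_surjective y
    have h1 : x ∈ commutator T ⊔ S := by rw [h.sup_eq_top]; trivial
    obtain ⟨a, ha, s, hs, rfl⟩ := mem_sup_of_normal_right.1 h1
    refine ⟨⟨a, ha⟩, ?_⟩
    show (QuotientGroup.mk a : T ⧸ S) = QuotientGroup.mk (a * s)
    rw [QuotientGroup.eq]
    have : a⁻¹ * (a * s) = s := by group
    rw [this]; exact hs
  exact ⟨(MulEquiv.ofBijective f ⟨hinj, hsur⟩).trans e⟩

/-- decomposition -/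
theorem decomp (x : T) : ∃ b ∈ commutator T, ∃ s ∈ S, x = b * s := by
  have hn := h.normal
  have h1 : x ∈ commutator T ⊔ S := by rw [h.sup_eq_top]; trivial
  obtain ⟨a, ha, s, hs, rfl⟩ := mem_sup_of_normal_right.1 h1
  exact ⟨a, ha, s, hs, rfl⟩

/-- elements of order prime to 5 lie in `T'` -/
theorem mem_of_pow {x : T} (hx : x ^ 12 = 1) : x ∈ commutator T := by
  obtain ⟨b, hb, s, hs, rfl⟩ := h.decomp x
  have hc : Commute b s := h.SZ s hs b
  rw [hc.mul_pow] at hx
  have h1 : s ^ 12 = 1 := by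
    apply h.inf_eq_bot (S.pow_mem hs 12)
    have h2 : s ^ 12 = (b ^ 12)⁻¹ := (inv_eq_of_mul_eq_one_right hx).symm
    rw [h2]
    exact inv_mem (pow_mem hb 12)
  have h5 := h.s5 s hs
  have h3 : s * s = 1 := by
    have h4 : s ^ 12 = (s ^ 5) ^ 2 * (s * s) := by
      simp only [pow_succ, pow_zero, one_mul, mul_assoc]
    rw [h5, one_pow, one_mul] at h4
    rw [← h4, h1]
  rw [eq_one_of_two_five h3 h5, mul_one]
  exact hb

/-- a subgroup containing `K ≅ A₄` (with `V ⊴ K`) and `g` contains `T'` -/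
theorem comm_le {K T₁ : Subgroup T} (K12 : Nat.card K = 12)
    (KV : ∀ k ∈ K, ∀ v ∈ V, k * v * k⁻¹ ∈ V) (hK : K ≤ T₁) (hg : g ∈ T₁) : commutator T ≤ T₁ := by
  have hn := h.normal
  have hKS : ∀ x ∈ K, x ∈ S → x = 1 := by
    intro x hx hs
    have h1 : x ^ 12 = 1 := by
      have h2 : (⟨x, hx⟩ : K) ^ Nat.card K = 1 := pow_card_eq_one'
      rw [K12] at h2
      exact congrArg Subtype.val h2
    have h5 := h.s5 x hs
    have h3 : x * x = 1 := by
      have h4 : x ^ 12 = (x ^ 5) ^ 2 * (x * x) := by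
        simp only [pow_succ, pow_zero, one_mul, mul_assoc]
      rw [h5, one_pow, one_mul] at h4
      rw [← h4, h1]
    exact eq_one_of_two_five h3 h5
  let f : K →* T ⧸ S := (QuotientGroup.mk' S).comp K.subtype
  have hinj : Function.Injective f := by
    rw [injective_iff_map_eq_one]
    intro x hx
    have h1 : (QuotientGroup.mk (x : T) : T ⧸ S) = 1 := hx
    rw [QuotientGroup.eq_one_iff] at h1
    exact Subtype.ext (hKS x x.2 h1)
  have hK12 : Nat.card f.range = 12 := by
    rw [← K12]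
    exact (Nat.card_congr (MonoidHom.ofInjective hinj).toEquiv).symm
  set I : Subgroup (T ⧸ S) := T₁.map (QuotientGroup.mk' S) with hI
  have hle : f.range ≤ I := by
    rintro _ ⟨x, rfl⟩
    exact ⟨x, hK x.2, rfl⟩
  have h12 : 12 ∣ Nat.card I := by
    rw [← hK12]; exact card_dvd_of_le hle
  have h60 : Nat.card I ∣ 60 := by
    rw [← h.card60]; exact card_subgroup_dvd_card _
  have hne : Nat.card I ≠ 12 := by
    intro h1
    have h2 : f.range = I := Subgroup.eq_of_le_of_card_ge hle (by rw [h1, hK12])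
    have h3 : QuotientGroup.mk' S g ∈ f.range := by
      rw [h2]; exact ⟨g, hg, rfl⟩
    obtain ⟨k, hk⟩ := h3
    have h4 : (QuotientGroup.mk (k : T) : T ⧸ S) = QuotientGroup.mk g := hk
    rw [QuotientGroup.eq] at h4
    obtain ⟨v, hv, hgv⟩ := h.mov
    apply hgv
    have h5 : g * v * g⁻¹ = k * v * (k : T)⁻¹ := by
      have h6 := h.SZ _ h4 v
      calc g * v * g⁻¹ = k * (((k : T)⁻¹ * g) * v) * g⁻¹ := by group
        _ = k * (v * ((k : T)⁻¹ * g)) * g⁻¹ := by rw [h6]
        _ = k * v * (k : T)⁻¹ := by group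
    rw [h5]
    exact KV k k.2 v hv
  have hI60 : Nat.card I = 60 := by
    obtain ⟨m, hm⟩ := h12
    rw [hm] at h60 hne ⊢
    have h1 : m ∣ 5 := by
      have : 12 * m ∣ 12 * 5 := h60
      exact (Nat.mul_dvd_mul_iff_left (by norm_num)).1 this
    rcases (Nat.dvd_prime (by norm_num)).1 h1 with rfl | rfl
    · exact absurd rfl hne
    · rfl
  have hItop : I = ⊤ := Subgroup.eq_top_of_card_eq _ (by rw [hI60, h.card60])
  have hdec : ∀ x : T, ∃ a ∈ T₁, ∃ s ∈ S, x = a * s := by
    intro x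
    have h1 : QuotientGroup.mk' S x ∈ I := by rw [hItop]; trivial
    obtain ⟨a, ha, e⟩ := h1
    have h4 : (QuotientGroup.mk a : T ⧸ S) = QuotientGroup.mk x := e
    rw [QuotientGroup.eq] at h4
    exact ⟨a, ha, _, h4, by group⟩
  rw [_root_.commutator_def, commutator_le]
  intro x _ y _
  obtain ⟨a, ha, s, hs, rfl⟩ := hdec x
  obtain ⟨b, hb, r, hr, rfl⟩ := hdec y
  have e : ⁅a * s, b * r⁆ = ⁅a, b⁆ := by
    rw [commutatorElement_def, commutatorElement_def]
    have h1 := h.SZ s hs
    have h2 := h.SZ r hr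
    have c1 : Commute s (b * r) := ((h1 (b * r)).symm : s * (b * r) = b * r * s)
    have c2 : Commute r a⁻¹ := ((h2 a⁻¹).symm : r * a⁻¹ = a⁻¹ * r)
    calc a * s * (b * r) * (a * s)⁻¹ * (b * r)⁻¹
        = a * (s * (b * r)) * s⁻¹ * a⁻¹ * (b * r)⁻¹ := by group
      _ = a * (b * r * s) * s⁻¹ * a⁻¹ * (b * r)⁻¹ := by rw [c1.eq]
      _ = a * b * (r * a⁻¹) * r⁻¹ * b⁻¹ := by group
      _ = a * b * (a⁻¹ * r) * r⁻¹ * b⁻¹ := by rw [c2.eq]
      _ = a * b * a⁻¹ * b⁻¹ := by group
  rw [e, commutatorElement_def]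
  exact T₁.mul_mem (T₁.mul_mem (T₁.mul_mem ha hb) (T₁.inv_mem ha)) (T₁.inv_mem hb)

end HT

end Cfsg.Agent.StdG24.EightA3
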