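import Cfsg.Agent.StdG24.EightPerm
import Cfsg.Agent.S0848
import Cfsg.Agent.SporadicB.DihedralLift
import Cfsg.Agent.J2Type.FourSelfCent
import Cfsg.Agent.GTwoFour.TransferTL
import Cfsg.Agent.GTwoFour.Tools

/-!
# The centraliser of `U₃(3)` in step 8 of S1767

Abstract form: `Y` is a perfect finite group, `V ≤ K ≤ B < Y` with `B ≅ A₅`, `K ≅ A₄`, `V = O₂(K)`, and the
centralisers of the involutions of `V` lie in a group `N` with `|N : K| ≤ 2`. Then `Y ≅ A₆` and we find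
elements with the relations of `P957`.
-/

set_option autoImplicit false

namespace Cfsg.Agent.StdG24.EightAbs

open Subgroup

variable {Y : Type*} [Group Y]

/-- The setting. -/
structure Hyp (V K B N : Subgroup Y) : Prop where
  perf : commutator Y = ⊤
  V4 : Nat.card V = 4
  sq : ∀ v ∈ V, v * v = 1
  VK : V ≤ K
  KB : K ≤ B
  K12 : Nat.card K = 12
  KV : ∀ k ∈ K, ∀ v ∈ V, k * v * k⁻¹ ∈ V
  self : ∀ v ∈ V, v ≠ 1 → ∀ k ∈ K, k * v = v * k → k ∈ V
  BA : Nonempty (B ≃* alternatingGroup (Fin 5))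
  ne : B ≠ ⊤
  KN : K ≤ N
  N2 : ∀ a ∈ N, ∀ b ∈ N, a ∉ K → b ∉ K → a * b ∈ K
  NV : ∀ a ∈ N, ∀ v ∈ V, a * v * a⁻¹ ∈ V
  cent : ∀ v ∈ V, v ≠ 1 → ∀ y, y * v = v * y → y ∈ N

/-- elements of a Klein four-group -/
theorem four {V : Subgroup Y} (V4 : Nat.card V = 4) (sq : ∀ v ∈ V, v * v = 1) {v1 v2 : Y}
    (h1 : v1 ∈ V) (h2 : v2 ∈ V) (n1 : v1 ≠ 1) (n2 : v2 ≠ 1) (n12 : v2 ≠ v1) :
    ∀ w ∈ V, w = 1 ∨ w = v1 ∨ w = v2 ∨ w = v1 * v2 := by
  classical
  have n3 : v1 * v2 ≠ 1 := by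
    intro h
    apply n12
    have := inv_eq_of_mul_eq_one_right h
    rw [← this]
    exact (inv_eq_of_mul_eq_one_left (sq v1 h1))
  have n4 : v1 * v2 ≠ v1 := fun h => n2 (mul_eq_left.1 h)
  have n5 : v1 * v2 ≠ v2 := fun h => n1 (mul_eq_right.1 h)
  have hfin : Finite V := Nat.finite_of_card_ne_zero (by rw [V4]; norm_num)
  have hcard : ((({1, v1, v2, v1 * v2} : Finset Y) : Set Y)).ncard = 4 := by
    rw [Set.ncard_coe_finset]
    rw [Finset.card_insert_of_notMem, Finset.card_insert_of_notMem, Finset.card_insert_of_notMem,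
      Finset.card_singleton]
    · simp only [Finset.mem_singleton]; exact n5.symm
    · simp only [Finset.mem_insert, Finset.mem_singleton, not_or]
      exact ⟨n12.symm, n4.symm⟩
    · simp only [Finset.mem_insert, Finset.mem_singleton, not_or]
      exact ⟨n1.symm, n2.symm, n3.symm⟩
  have hsub : (({1, v1, v2, v1 * v2} : Finset Y) : Set Y) ⊆ (V : Set Y) := by
    intro x hx
    simp only [Finset.coe_insert, Finset.coe_singleton, Set.mem_insert_iff, Set.mem_singleton_iff] at hx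
    rcases hx with rfl | rfl | rfl | rfl
    · exact V.one_mem
    · exact h1
    · exact h2
    · exact V.mul_mem h1 h2
  have heq : (({1, v1, v2, v1 * v2} : Finset Y) : Set Y) = (V : Set Y) := by
    apply Set.eq_of_subset_of_ncard_le hsub
    · rw [hcard]
      have : (V : Set Y).ncard = 4 := by
        rw [← V4]; rfl
      rw [this]
  intro z hz
  have hz' : z ∈ (({1, v1, v2, v1 * v2} : Finset Y) : Set Y) := by rw [heq]; exact hz
  simpa only [Finset.coe_insert, Finset.coe_singleton, Set.mem_insert_iff, Set.mem_singleton_iff]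
    using hz'

namespace Hyp

variable {V K B N : Subgroup Y} (h : Hyp V K B N)
include h

theorem comm {u v : Y} (hu : u ∈ V) (hv : v ∈ V) : u * v = v * u := by
  have h1 := inv_eq_of_mul_eq_one_left (h.sq _ (V.mul_mem hu hv))
  have h2 := inv_eq_of_mul_eq_one_left (h.sq _ hu)
  have h3 := inv_eq_of_mul_eq_one_left (h.sq _ hv)
  rw [← h1, mul_inv_rev, h2, h3]

theorem exists_ne : ∃ v ∈ V, v ≠ 1 := by
  by_contra hcon
  push Not at hcon
  have h5 : V = ⊥ := by rw [eq_bot_iff]; intro x hx; rw [mem_bot]; exact hcon x hx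
  have h6 := h.V4
  rw [h5, card_bot] at h6
  norm_num at h6

/-- two distinct involutions of `V` -/
theorem exists_snd {v1 : Y} (hv1 : v1 ∈ V) : ∃ v2 ∈ V, v2 ≠ 1 ∧ v2 ≠ v1 := by
  classical
  by_contra hcon
  push Not at hcon
  have hfin : Finite V := Nat.finite_of_card_ne_zero (by rw [h.V4]; norm_num)
  have : Nat.card V ≤ 2 := by
    have hf : Function.Surjective (fun i : Fin 2 => if i = 0 then (1 : V) else ⟨v1, hv1⟩) := by
      intro y
      by_cases hy : y = 1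
      · exact ⟨0, by simp [hy]⟩
      · refine ⟨1, ?_⟩
        have h1 := hcon y y.2 (fun h => hy (Subtype.ext h))
        simp only [Fin.isValue, one_ne_zero, if_false]
        exact Subtype.ext h1.symm
    have := Nat.card_le_card_of_surjective _ hf
    simpa using this
  have := h.V4
  omega

variable [Finite Y]

theorem exists_rho : ∃ ρ ∈ K, ρ ∉ V ∧ ρ ^ 3 = 1 := by
  have : Fact (Nat.Prime 3) := ⟨Nat.prime_three⟩
  have h3 : 3 ∣ Nat.card K := by rw [h.K12]; norm_num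
  obtain ⟨x, hx⟩ := exists_prime_orderOf_dvd_card' 3 h3
  refine ⟨x, x.2, ?_, ?_⟩
  · intro hxV
    have h1 := h.sq _ hxV
    have h2 : orderOf (x : Y) = 3 := by rw [Subgroup.orderOf_coe, hx]
    have h4 : orderOf (x : Y) ∣ 2 := orderOf_dvd_of_pow_eq_one (by rw [pow_two]; exact h1)
    rw [h2] at h4
    norm_num at h4
  · rw [← SubmonoidClass.coe_pow, ← hx, pow_orderOf_eq_one, OneMemClass.coe_one]

omit [Finite Y] in
theorem card_B : Nat.card B = 60 := by
  obtain ⟨e⟩ := h.BA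
  rw [Nat.card_congr e.toEquiv, nat_card_alternatingGroup, Nat.card_eq_fintype_card, Fintype.card_fin]
  rfl

/-- Case 1 is impossible. -/
theorem case_one (h1 : ∀ v ∈ V, v ≠ 1 → ∀ y, y * v = v * y → y ∈ V) : False := by
  have hH : Cfsg.Agent.J2Type.FourSelfCent.Hyp V := ⟨h.V4, h.sq, h1⟩
  have hB := h.card_B
  have hle : Nat.card B ≤ Nat.card Y := Subgroup.card_le_card_group B
  rcases hH.card_cases with hc | hc | hc
  · omega
  · omega
  · apply h.ne
    apply Subgroup.eq_top_of_card_eq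
    rw [hB, hc]

omit [Finite Y] in
theorem hom_eq_one (f : Y →* ℤˣ) (y : Y) : f y = 1 := by
  have h1 : y ∈ commutator Y := by rw [h.perf]; trivial
  exact Abelianization.commutator_subset_ker f h1

/-- Case 2a: an element of `N - K` centralises `V`. -/
theorem case_two_a {a : Y} (haN : a ∈ N) (haK : a ∉ K) (haV : ∀ v ∈ V, a * v = v * a) : False := by
  classical
  have hp2 : Fact (Nat.Prime 2) := ⟨Nat.prime_two⟩
  have hp3 : Fact (Nat.Prime 3) := ⟨Nat.prime_three⟩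
  obtain ⟨ρ, hρK, hρV, hρ3⟩ := h.exists_rho
  obtain ⟨v0, hv0, hv0n⟩ := h.exists_ne
  have hρN := h.KN hρK
  -- `ρ a ρ⁻¹` commutes with `V`
  have c1 : ∀ v ∈ V, (ρ * a * ρ⁻¹) * v = v * (ρ * a * ρ⁻¹) := by
    intro v hv
    have h2 : ρ⁻¹ * v * ρ ∈ V := by
      have := h.KV _ (K.inv_mem hρK) v hv
      rwa [inv_inv] at this
    have h3 := haV _ h2
    calc ρ * a * ρ⁻¹ * v = ρ * (a * (ρ⁻¹ * v * ρ)) * ρ⁻¹ := by group
      _ = ρ * ((ρ⁻¹ * v * ρ) * a) * ρ⁻¹ := by rw [h3]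
      _ = v * (ρ * a * ρ⁻¹) := by group
  have c2 : ∀ v ∈ V, a⁻¹ * v = v * a⁻¹ := by
    intro v hv
    calc a⁻¹ * v = a⁻¹ * (v * a) * a⁻¹ := by group
      _ = a⁻¹ * (a * v) * a⁻¹ := by rw [haV v hv]
      _ = v * a⁻¹ := by group
  have h1 : a⁻¹ * (ρ * a * ρ⁻¹) ∈ V := by
    apply h.self v0 hv0 hv0n
    · apply h.N2 _ (N.inv_mem haN) _ (N.mul_mem (N.mul_mem hρN haN) (N.inv_mem hρN))
      · intro hc; exact haK (by simpa using K.inv_mem hc)
      · intro hc
        apply haK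
        have := K.mul_mem (K.mul_mem (K.inv_mem hρK) hc) hρK
        have e : ρ⁻¹ * (ρ * a * ρ⁻¹) * ρ = a := by group
        rwa [e] at this
    · rw [mul_assoc, c1 v0 hv0, ← mul_assoc, c2 v0 hv0, mul_assoc]
  obtain ⟨q, hq, hc⟩ := Cfsg.Agent.GTwoFour.Tools.exists_comm_coset (p := 3) (Q := V) (f := ρ) (y := a)
    (k := 1) (by rw [pow_one]; exact hρ3) (fun q hq => h.KV ρ hρK q hq)
    (by rw [h.V4]; norm_num) h1
  obtain ⟨e, he⟩ : ∃ e, e = a * q := ⟨_, rfl⟩
  rw [← he] at hc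
  have heN : e ∈ N := by rw [he]; exact N.mul_mem haN (h.KN (h.VK hq))
  have heK : e ∉ K := by
    intro hcon
    apply haK
    have := K.mul_mem hcon (K.inv_mem (h.VK hq))
    rwa [he, mul_inv_cancel_right] at this
  have heV : ∀ v ∈ V, e * v = v * e := by
    intro v hv
    rw [he, mul_assoc, h.comm hq hv, ← mul_assoc, haV v hv, mul_assoc]
  have hρe : ρ * e = e * ρ := hc
  have hee : e * e = 1 := by
    have h2 : e * e ∈ V := by
      apply h.self v0 hv0 hv0n _ (h.N2 _ heN _ heN heK heK)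
      rw [mul_assoc, heV v0 hv0, ← mul_assoc, heV v0 hv0, mul_assoc]
    by_contra hne
    exact hρV (h.self _ h2 hne ρ hρK (by rw [← mul_assoc, hρe, mul_assoc, hρe, ← mul_assoc]))
  have hei : e⁻¹ = e := inv_eq_of_mul_eq_one_left hee
  have hnorm : ∀ q ∈ V, e * q * e⁻¹ ∈ V := by
    intro q hq; rw [heV q hq, mul_inv_cancel_right]; exact hq
  have heVn : e ∉ V := fun hcon => heK (h.VK hcon)
  set P := Cfsg.Agent.GTwoFour.Tools.ext e hee V hnorm with hP
  have hPc : Nat.card P = 8 := by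
    rw [hP, Cfsg.Agent.GTwoFour.Tools.card_ext heVn, h.V4]
  have memP : ∀ x, x ∈ P ↔ x ∈ V ∨ e * x ∈ V := fun x => Cfsg.Agent.GTwoFour.Tools.mem_ext
  have VP : V ≤ P := Cfsg.Agent.GTwoFour.Tools.le_ext
  have eP : e ∈ P := (memP e).2 (Or.inr (by rw [hee]; exact V.one_mem))
  -- `P = C(v)`
  have centP : ∀ v ∈ V, v ≠ 1 → ∀ y, y * v = v * y → y ∈ P := by
    intro v hv hvn y hy
    rw [memP]
    have hyN := h.cent v hv hvn y hy
    by_cases hyK : y ∈ K
    · exact Or.inl (h.self v hv hvn y hyK hy)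
    · right
      apply h.self v hv hvn _ (h.N2 _ heN _ hyN heK hyK)
      rw [mul_assoc, hy, ← mul_assoc, heV v hv, mul_assoc]
  have PV : ∀ x ∈ P, ∀ v ∈ V, x * v = v * x := by
    intro x hx v hv
    rcases (memP x).1 hx with h2 | h2
    · exact h.comm h2 hv
    · have h3 := h.comm h2 hv
      have h4 : x = e * (e * x) := by rw [← mul_assoc, hee, one_mul]
      rw [h4, mul_assoc, h3, ← mul_assoc, heV v hv, mul_assoc]
  have Pe : ∀ x ∈ P, x * e = e * x := by
    intro x hx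
    rcases (memP x).1 hx with h2 | h2
    · exact (heV x h2).symm
    · have h3 := heV _ h2
      have h4 : x = e * (e * x) := by rw [← mul_assoc, hee, one_mul]
      rw [h4]
      calc e * (e * x) * e = e * ((e * x) * e) := by group
        _ = e * (e * (e * x)) := by rw [← h3]
  have PP : ∀ x ∈ P, ∀ y ∈ P, x * y = y * x := by
    intro x hx y hy
    rcases (memP y).1 hy with h2 | h2
    · exact PV x hx y h2
    · have h4 : y = e * (e * y) := by rw [← mul_assoc, hee, one_mul]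
      have h5 := PV x hx _ h2
      rw [h4]
      calc x * (e * (e * y)) = (x * e) * (e * y) := by group
        _ = e * (x * (e * y)) := by rw [Pe x hx]; group
        _ = e * ((e * y) * x) := by rw [h5]
        _ = e * (e * y) * x := by group
  have prodP : ∀ x ∈ P, ∀ y ∈ P, x ∉ V → y ∉ V → x * y ∈ V := by
    intro x hx y hy hxV hyV
    have h2 : e * x ∈ V := ((memP x).1 hx).resolve_left hxV
    have h3 : e * y ∈ V := ((memP y).1 hy).resolve_left hyV
    have h4 := V.mul_mem h2 h3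
    have h5 : e * x * (e * y) = x * y := by
      calc e * x * (e * y) = e * (x * e) * y := by group
        _ = (e * e) * (x * y) := by rw [Pe x hx]; group
        _ = x * y := by rw [hee, one_mul]
    rwa [h5] at h4
  -- elements of order two of `N(P)/P`
  have lemS : ∀ τ : Y, (∀ x ∈ P, τ * x * τ⁻¹ ∈ P) → τ * τ ∈ P → τ ∈ P := by
    intro τ hτ hττ
    by_contra hτP
    have nofix : ∀ v ∈ V, τ * v = v * τ → v = 1 := by
      intro v hv hc
      by_contra hvn
      exact hτP (centP v hv hvn τ hc)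
    have gcomm : ∀ v ∈ V, τ * (v * (τ * v * τ⁻¹)) = (v * (τ * v * τ⁻¹)) * τ := by
      intro v hv
      have h2 : (τ * τ) * v = v * (τ * τ) := PV _ hττ v hv
      have h3 := PP v (VP hv) _ (hτ v (VP hv))
      calc τ * (v * (τ * v * τ⁻¹)) = (τ * v * τ⁻¹) * ((τ * τ) * v) * τ⁻¹ := by group
        _ = (τ * v * τ⁻¹) * v * τ := by rw [h2]; group
        _ = (v * (τ * v * τ⁻¹)) * τ := by rw [h3]
    have gne : ∀ v ∈ V, v ≠ 1 → v * (τ * v * τ⁻¹) ∉ V := by
      intro v hv hvn hcon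
      have h2 := nofix _ hcon (gcomm v hv)
      apply hvn
      apply nofix v hv
      have h3 : τ * v * τ⁻¹ = v := by
        rw [← inv_eq_of_mul_eq_one_right h2]
        exact inv_eq_of_mul_eq_one_left (h.sq v hv)
      calc τ * v = (τ * v * τ⁻¹) * τ := by group
        _ = v * τ := by rw [h3]
    obtain ⟨v2, hv2, hv2n, hv20⟩ := h.exists_snd hv0
    have h12 : v0 * v2 ≠ 1 := by
      intro hcon
      apply hv20
      rw [← inv_eq_of_mul_eq_one_right hcon]
      exact inv_eq_of_mul_eq_one_left (h.sq v0 hv0)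
    have g0 := P.mul_mem (VP hv0) (hτ _ (VP hv0))
    have g2 := P.mul_mem (VP hv2) (hτ _ (VP hv2))
    have h3 := prodP _ g0 _ g2 (gne v0 hv0 hv0n) (gne v2 hv2 hv2n)
    apply gne _ (V.mul_mem hv0 hv2) h12
    have h4 := PP _ (hτ _ (VP hv0)) v2 (VP hv2)
    have h5 : v0 * v2 * (τ * (v0 * v2) * τ⁻¹) = v0 * (τ * v0 * τ⁻¹) * (v2 * (τ * v2 * τ⁻¹)) := by
      calc v0 * v2 * (τ * (v0 * v2) * τ⁻¹)
          = v0 * (v2 * (τ * v0 * τ⁻¹)) * (τ * v2 * τ⁻¹) := by group
        _ = v0 * ((τ * v0 * τ⁻¹) * v2) * (τ * v2 * τ⁻¹) := by rw [h4]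
        _ = v0 * (τ * v0 * τ⁻¹) * (v2 * (τ * v2 * τ⁻¹)) := by group
    rw [h5]
    exact h3
  -- `P` is a Sylow subgroup
  have h16 : ¬ 16 ∣ Nat.card Y := by
    intro hdvd
    have h2 := Sylow.prime_dvd_card_quotient_normalizer (p := 2) (n := 3) (G := Y)
      (by norm_num; exact hdvd) (H := P) (by rw [hPc]; norm_num)
    have hnor : (P.subgroupOf (normalizer (P : Set Y))).Normal := Subgroup.normal_in_normalizer
    change 2 ∣ Nat.card (↥(normalizer (P : Set Y)) ⧸ P.subgroupOf (normalizer (P : Set Y))) at h2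
    obtain ⟨x, hx⟩ := exists_prime_orderOf_dvd_card' 2 h2
    obtain ⟨τ, rfl⟩ := QuotientGroup.mk_surjective x
    have h3 : (τ : Y) ∉ P := by
      intro hcon
      have : (QuotientGroup.mk τ : ↥(normalizer (P : Set Y)) ⧸ P.subgroupOf (normalizer (P : Set Y))) = 1 := by
        rw [QuotientGroup.eq_one_iff, mem_subgroupOf]; exact hcon
      rw [this, orderOf_one] at hx
      norm_num at hx
    have h4 : (τ : Y) * τ ∈ P := by
      have h5 : (QuotientGroup.mk τ : ↥(normalizer (P : Set Y)) ⧸ P.subgroupOf (normalizer (P : Set Y))) ^ 2 = 1 := by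
        rw [← hx, pow_orderOf_eq_one]
      rw [← QuotientGroup.mk_pow, QuotientGroup.eq_one_iff, mem_subgroupOf, pow_two] at h5
      exact h5
    apply h3
    apply lemS _ _ h4
    intro x hx
    exact (mem_normalizer_iff.1 τ.2 x).1 hx
  have odd_of : ∀ C : Subgroup Y, P ≤ C → Odd (P.relIndex C) := by
    intro C hC
    rw [← Nat.not_even_iff_odd]
    intro hev
    apply h16
    have h2 := Subgroup.relIndex_mul_relIndex ⊥ P C bot_le hC
    rw [relIndex_bot_left, relIndex_bot_left, hPc] at h2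
    obtain ⟨k, hk⟩ := even_iff_two_dvd.1 hev
    have h3 : 16 ∣ Nat.card C := ⟨k, by rw [← h2, hk]; ring⟩
    exact h3.trans (Subgroup.card_subgroup_dvd_card C)
  have hVP2 : V.relIndex P = 2 := by
    have h2 := Subgroup.relIndex_mul_relIndex ⊥ V P bot_le VP
    rw [relIndex_bot_left, relIndex_bot_left, hPc, h.V4] at h2
    omega
  have hPce : P ≤ centralizer {e} := by
    intro x hx
    rw [mem_centralizer_singleton_iff]
    exact Pe x hx
  obtain ⟨g, hg1, hg2, -, hg4⟩ := Cfsg.Agent.GTwoFour.TransferTL.exists_extremal_two P V hVP2 e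
    (fun f => h.hom_eq_one f e) hee eP heVn (odd_of _ hPce)
  have hne : g⁻¹ * e * g ≠ e := by
    have := hg4 1 P.one_mem
    simpa using this
  have hPp : IsPGroup 2 P := IsPGroup.of_card (n := 3) (by rw [hPc]; norm_num)
  have hidx : ¬ 2 ∣ P.index := by
    have h2 := odd_of ⊤ le_top
    rw [relIndex_top_right] at h2
    exact fun hcon => (Nat.not_even_iff_odd.2 h2) (even_iff_two_dvd.2 hcon)
  let S : Sylow 2 Y := hPp.toSylow hidx
  have hSP : (S : Subgroup Y) = P := rfl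
  have hScomm : IsMulCommutative S := ⟨⟨fun x y => Subtype.ext (PP x x.2 y y.2)⟩⟩
  obtain ⟨n, hn, hne2⟩ := Sylow.conj_eq_normalizer_conj_of_mem S e g eP hg1
  rw [hne2] at hg1 hg2 hne
  -- `m = n⁻¹`, `m e m⁻¹ = e w`
  have hew : e * (n⁻¹ * e * n) ∈ V := ((memP _).1 hg1).resolve_left hg2
  obtain ⟨w, hw⟩ : ∃ w, w = e * (n⁻¹ * e * n) := ⟨_, rfl⟩
  rw [← hw] at hew
  have hwn : w ≠ 1 := by
    intro hcon
    apply hne
    have : n⁻¹ * e * n = e⁻¹ * w := by rw [hw]; group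
    rw [this, hcon, mul_one, hei]
  have hmP : ∀ x ∈ P, n⁻¹ * x * n⁻¹⁻¹ ∈ P := by
    intro x hx
    have := (mem_normalizer_iff.1 (inv_mem hn) x).1 hx
    exact this
  have hρP : ∀ x ∈ P, ρ * x * ρ⁻¹ ∈ P := by
    intro x hx
    rw [memP] at hx ⊢
    rcases hx with hx | hx
    · exact Or.inl (h.KV ρ hρK x hx)
    · right
      have := h.KV ρ hρK _ hx
      have e1 : ρ * (e * x) * ρ⁻¹ = e * (ρ * x * ρ⁻¹) := by
        rw [← mul_assoc, hρe]; group
      rwa [e1] at this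
  have hρρP : ∀ k : ℕ, ∀ x ∈ P, ρ ^ k * x * (ρ ^ k)⁻¹ ∈ P := by
    intro k
    induction k with
    | zero => intro x hx; simpa using hx
    | succ k ih =>
      intro x hx
      have e1 : ρ ^ (k + 1) * x * (ρ ^ (k + 1))⁻¹ = ρ ^ k * (ρ * x * ρ⁻¹) * (ρ ^ k)⁻¹ := by
        rw [pow_succ]; group
      rw [e1]
      exact ih _ (hρP x hx)
  have hρi : ρ⁻¹ = ρ ^ 2 := by
    rw [inv_eq_iff_mul_eq_one, ← pow_succ']; exact hρ3
  -- fixed point freeness of `ρ`
  have hρf : ∀ v ∈ V, ρ * v = v * ρ → v = 1 := by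
    intro v hv hc
    by_contra hvn
    exact hρV (h.self v hv hvn ρ hρK hc)
  let σ : Fin 3 → Y := ![1, n⁻¹, ρ * n⁻¹ * ρ⁻¹]
  let wv : Fin 3 → Y := ![1, w, ρ * w * ρ⁻¹]
  have σe : ∀ i, σ i * e * (σ i)⁻¹ = e * wv i := by
    have h1e : n⁻¹ * e * n⁻¹⁻¹ = e * w := by
      rw [hw, ← mul_assoc e e, hee, one_mul, inv_inv]
    have hρe' : ρ⁻¹ * e * ρ = e := by
      rw [mul_assoc, ← hρe, inv_mul_cancel_left]
    intro i
    fin_cases i
    · show 1 * e * 1⁻¹ = e * 1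
      group
    · exact h1e
    · show ρ * n⁻¹ * ρ⁻¹ * e * (ρ * n⁻¹ * ρ⁻¹)⁻¹ = e * (ρ * w * ρ⁻¹)
      calc ρ * n⁻¹ * ρ⁻¹ * e * (ρ * n⁻¹ * ρ⁻¹)⁻¹
          = ρ * (n⁻¹ * (ρ⁻¹ * e * ρ) * n⁻¹⁻¹) * ρ⁻¹ := by group
        _ = ρ * (e * w) * ρ⁻¹ := by rw [hρe', h1e]
        _ = (ρ * e) * w * ρ⁻¹ := by group
        _ = e * (ρ * w * ρ⁻¹) := by rw [hρe]; group
  have σP : ∀ i, ∀ x ∈ P, σ i * x * (σ i)⁻¹ ∈ P := by
    intro i x hx
    fin_cases i
    · show 1 * x * 1⁻¹ ∈ P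
      simpa using hx
    · exact hmP x hx
    · show ρ * n⁻¹ * ρ⁻¹ * x * (ρ * n⁻¹ * ρ⁻¹)⁻¹ ∈ P
      have e1 : ρ * n⁻¹ * ρ⁻¹ * x * (ρ * n⁻¹ * ρ⁻¹)⁻¹ =
          ρ * (n⁻¹ * (ρ⁻¹ * x * ρ⁻¹⁻¹) * n⁻¹⁻¹) * ρ⁻¹ := by group
      rw [e1]
      apply hρP
      apply hmP
      rw [hρi]
      exact hρρP 2 x hx
  have wV : ∀ i, wv i ∈ V := by
    intro i
    fin_cases i
    · exact V.one_mem
    · exact hew
    · exact h.KV ρ hρK w hew
  have winj : Function.Injective wv := by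
    have n1 : (1 : Y) ≠ w := hwn.symm
    have n2 : (1 : Y) ≠ ρ * w * ρ⁻¹ := by
      intro hcon
      apply hwn
      have : w = ρ⁻¹ * (ρ * w * ρ⁻¹) * ρ := by group
      rw [this, ← hcon]; group
    have n3 : w ≠ ρ * w * ρ⁻¹ := by
      intro hcon
      apply hwn
      apply hρf w hew
      calc ρ * w = (ρ * w * ρ⁻¹) * ρ := by group
        _ = w * ρ := by rw [← hcon]
    intro i j hij
    fin_cases i <;> fin_cases j
    · rfl
    · exact absurd hij n1
    · exact absurd hij n2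
    · exact absurd hij.symm n1
    · rfl
    · exact absurd hij n3
    · exact absurd hij.symm n2
    · exact absurd hij.symm n3
    · rfl
  let f : Fin 3 × Fin 3 → P := fun p =>
    ⟨σ p.1 * ρ ^ (p.2 : ℕ) * w * (σ p.1 * ρ ^ (p.2 : ℕ))⁻¹, by
      have e1 : σ p.1 * ρ ^ (p.2 : ℕ) * w * (σ p.1 * ρ ^ (p.2 : ℕ))⁻¹ =
          σ p.1 * (ρ ^ (p.2 : ℕ) * w * (ρ ^ (p.2 : ℕ))⁻¹) * (σ p.1)⁻¹ := by group
      rw [e1]
      exact σP _ _ (hρρP _ _ (VP hew))⟩
  have finj : Function.Injective f := by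
    rintro ⟨i, k⟩ ⟨j, l⟩ hfe
    have h2 : σ i * ρ ^ (k : ℕ) * w * (σ i * ρ ^ (k : ℕ))⁻¹ =
        σ j * ρ ^ (l : ℕ) * w * (σ j * ρ ^ (l : ℕ))⁻¹ := congrArg Subtype.val hfe
    set A := σ i * ρ ^ (k : ℕ) with hA
    set C := σ j * ρ ^ (l : ℕ) with hC
    have h3 : (C⁻¹ * A) * w = w * (C⁻¹ * A) := by
      calc C⁻¹ * A * w = C⁻¹ * (A * w * A⁻¹) * A := by group
        _ = C⁻¹ * (C * w * C⁻¹) * A := by rw [h2]
        _ = w * (C⁻¹ * A) := by group
    have h4 := centP w hew hwn _ h3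
    have h5 := Pe _ h4
    have hρke : ∀ m : ℕ, ρ ^ m * e * (ρ ^ m)⁻¹ = e := by
      intro m
      have : Commute (ρ ^ m) e := Commute.pow_left hρe m
      rw [this.eq, mul_inv_cancel_right]
    have h6 : A * e * A⁻¹ = C * e * C⁻¹ := by
      calc A * e * A⁻¹ = C * ((C⁻¹ * A) * e) * A⁻¹ := by group
        _ = C * (e * (C⁻¹ * A)) * A⁻¹ := by rw [h5]
        _ = C * e * C⁻¹ := by group
    have h7 : A * e * A⁻¹ = e * wv i := by
      rw [hA, ← σe i]
      calc σ i * ρ ^ (k : ℕ) * e * (σ i * ρ ^ (k : ℕ))⁻¹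
          = σ i * (ρ ^ (k : ℕ) * e * (ρ ^ (k : ℕ))⁻¹) * (σ i)⁻¹ := by group
        _ = σ i * e * (σ i)⁻¹ := by rw [hρke]
    have h8 : C * e * C⁻¹ = e * wv j := by
      rw [hC, ← σe j]
      calc σ j * ρ ^ (l : ℕ) * e * (σ j * ρ ^ (l : ℕ))⁻¹
          = σ j * (ρ ^ (l : ℕ) * e * (ρ ^ (l : ℕ))⁻¹) * (σ j)⁻¹ := by group
        _ = σ j * e * (σ j)⁻¹ := by rw [hρke]
    rw [h7, h8] at h6
    have hij : i = j := winj (mul_left_cancel h6)
    subst hij
    have h9 : C⁻¹ * A = (ρ ^ (l : ℕ))⁻¹ * ρ ^ (k : ℕ) := by rw [hA, hC]; group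
    rw [h9] at h3
    have h10 : (ρ ^ (l : ℕ))⁻¹ * ρ ^ (k : ℕ) ∈ V :=
      h.self w hew hwn _ (K.mul_mem (K.inv_mem (K.pow_mem hρK _)) (K.pow_mem hρK _)) h3
    have h11 : ∀ m : ℕ, m < 3 → ρ ^ m ∈ V → m = 0 := by
      intro m hm hmV
      interval_cases m
      · rfl
      · rw [pow_one] at hmV; exact absurd hmV hρV
      · rw [← hρi] at hmV
        exact absurd (by simpa using V.inv_mem hmV) hρV
    have hkl : (k : ℕ) = l := by
      rcases le_total (l : ℕ) (k : ℕ) with hle | hle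
      · have h12 : (ρ ^ (l : ℕ))⁻¹ * ρ ^ (k : ℕ) = ρ ^ ((k : ℕ) - l) := by
          rw [inv_mul_eq_iff_eq_mul, ← pow_add, Nat.add_sub_cancel' hle]
        rw [h12] at h10
        have := h11 _ (by omega) h10
        omega
      · have h12 : ((ρ ^ (l : ℕ))⁻¹ * ρ ^ (k : ℕ))⁻¹ = ρ ^ ((l : ℕ) - k) := by
          rw [mul_inv_rev, inv_inv, inv_mul_eq_iff_eq_mul, ← pow_add, Nat.add_sub_cancel' hle]
        have h13 := V.inv_mem h10
        rw [h12] at h13
        have := h11 _ (by omega) h13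
        omega
    have hkl' : k = l := Fin.ext hkl
    rw [hkl']
  have hfinP : Finite P := Nat.finite_of_card_ne_zero (by rw [hPc]; norm_num)
  have := Nat.card_le_card_of_injective f finj
  rw [hPc, Nat.card_prod] at this
  simp only [Nat.card_eq_fintype_card, Fintype.card_fin] at this
  omega

end Hyp

end Cfsg.Agent.StdG24.EightAbs
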