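import Cfsg.Agent.StdG24.Eight
import Cfsg.Agent.StdG24.AutA5

/-!
# Step 8 of S1767: generation of `B` by `V` and `d`, transitivity of `K` on the involutions of `V`
-/

set_option autoImplicit false

namespace Cfsg.Agent.StdG24.EightGen

open Subgroup Cfsg.Agent.StdG24.Words Cfsg.Agent.StdG24.AutA5

theorem a5' : ∀ d : P, Equiv.Perm.sign d = 1 → d * d = 1 → d ∉ [1, a0, b0, a0 * b0] →
    ∃ g ∈ [a0, b0, a0 * b0], (g * d) ^ 5 = 1 := by decide +kernel

theorem a5 (d : P) (hd : Equiv.Perm.sign d = 1) (d2 : d * d = 1) (h1 : d ≠ 1) (h2 : d ≠ a0) (h3 : d ≠ b0)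
    (h4 : d ≠ a0 * b0) : (a0 * d) ^ 5 = 1 ∨ (b0 * d) ^ 5 = 1 ∨ (a0 * b0 * d) ^ 5 = 1 := by
  obtain ⟨g, hg, h⟩ := a5' d hd d2 (by simp [h1, h2, h3, h4])
  simp only [List.mem_cons, List.not_mem_nil, or_false] at hg
  rcases hg with rfl | rfl | rfl
  · exact Or.inl h
  · exact Or.inr (Or.inl h)
  · exact Or.inr (Or.inr h)

/-- two commuting involutions `a, b` of `A₅` and an involution `d` outside `⟨a, b⟩` -/
theorem exists_five {A : Type*} [Group A] (f : A ≃* alternatingGroup (Fin 5)) {a b d : A} (ha : a ≠ 1)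
    (a2 : a * a = 1) (hb : b ≠ 1) (b2 : b * b = 1) (hba : b ≠ a) (hab : a * b = b * a) (d2 : d * d = 1)
    (hd : d ≠ 1) (hda : d ≠ a) (hdb : d ≠ b) (hdc : d ≠ a * b) :
    (a * d) ^ 5 = 1 ∨ (b * d) ^ 5 = 1 ∨ (a * b * d) ^ 5 = 1 := by
  have ne : ∀ {s : P} {y z : A}, y ≠ z → emb f s y ≠ emb f s z := fun h1 h2 => h1 (emb_injective f _ h2)
  have ne1 : ∀ {s : P} {y : A}, y ≠ 1 → emb f s y ≠ 1 := by
    intro s y h1 h2
    exact h1 (emb_injective f s (by rw [h2, map_one]))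
  obtain ⟨s1, hs1⟩ := normV (emb f 1 a) (sign_emb f 1 a) (ne1 ha) (by rw [← map_mul, a2, map_one])
  have hE1 : ∀ y, s1 * emb f 1 y * s1⁻¹ = emb f s1 y := by
    intro y; rw [emb_apply, emb_apply]; group
  rw [hE1] at hs1
  obtain ⟨s2, hs2, hs2'⟩ := normV2 (emb f s1 b) (sign_emb f s1 b) (ne1 hb) (by rw [← map_mul, b2, map_one])
    (by rw [← hs1]; exact ne hba) (by rw [← hs1, ← map_mul, ← map_mul, hab])
  have hE2 : ∀ y, s2 * emb f s1 y * s2⁻¹ = emb f (s2 * s1) y := by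
    intro y; rw [emb_apply, emb_apply]; group
  have ea : emb f (s2 * s1) a = a0 := by rw [← hE2, hs1, hs2]
  have eb : emb f (s2 * s1) b = b0 := by rw [← hE2, hs2']
  have h := a5 (emb f (s2 * s1) d) (sign_emb f _ d) (by rw [← map_mul, d2, map_one]) (ne1 hd)
    (by rw [← ea]; exact ne hda) (by rw [← eb]; exact ne hdb)
    (by rw [← ea, ← eb, ← map_mul]; exact ne hdc)
  have inj : ∀ {y : A}, emb f (s2 * s1) y = 1 → y = 1 := fun h1 =>
    emb_injective f _ (by rw [h1, map_one])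
  rcases h with h | h | h
  · left; apply inj; rw [map_pow, map_mul, ea]; exact h
  · right; left; apply inj; rw [map_pow, map_mul, eb]; exact h
  · right; right; apply inj; rw [map_pow, map_mul, map_mul, ea, eb]; exact h

/-- a subgroup of order divisible by 60 of a group of order 60 -/
theorem top_of_dvd {G : Type*} [Group G] {B D : Subgroup G} (hB : Nat.card B = 60) (hDB : D ≤ B)
    (h4 : 4 ∣ Nat.card D) (h3 : 3 ∣ Nat.card D) (h5 : 5 ∣ Nat.card D) : D = B := by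
  have hfin : Finite B := Nat.finite_of_card_ne_zero (by rw [hB]; norm_num)
  have h12 : 4 * 3 ∣ Nat.card D := Nat.Coprime.mul_dvd_of_dvd_of_dvd (by norm_num) h4 h3
  have h60 : 4 * 3 * 5 ∣ Nat.card D := Nat.Coprime.mul_dvd_of_dvd_of_dvd (by norm_num) h12 h5
  have h1 : Nat.card D ∣ Nat.card B := card_dvd_of_le hDB
  refine eq_of_le_of_card_ge hDB ?_
  rw [hB] at h1 ⊢
  have hpos : 0 < Nat.card D := by
    have hD : Finite D := Finite.of_injective (inclusion hDB) (inclusion_injective hDB)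
    exact Nat.card_pos
  exact Nat.le_of_dvd hpos h60

variable {G : Type*} [Group G] {j : L0 →* G} {V B : Subgroup G} {w d e : G}

theorem d_not (h : Eight.In j V B) (o : Eight.Out j V B w d e) : d ∉ V := by
  intro hd
  have hwd := V.mul_mem o.w_mem hd
  have h1 : w * d = 1 := by
    have h2 := o.wd
    rw [pow_succ, pow_two, h.sq _ hwd, one_mul] at h2
    exact h2
  have h3 : d = w := by
    have := inv_eq_of_mul_eq_one_right h1
    rw [← this]; exact inv_eq_of_mul_eq_one_left o.w2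
  have h4 := o.de
  have h5 : (d * e) * (d * e) = 1 := by
    rw [h3]
    calc w * e * (w * e) = w * (e * w) * e := by group
      _ = w * (w * e) * e := by rw [o.we.eq]
      _ = (w * w) * (e * e) := by group
      _ = 1 := by rw [o.w2, o.e2, one_mul]
  rw [pow_succ, pow_two, h5, one_mul] at h4
  apply o.e_not
  have h6 : e = d := by
    have := inv_eq_of_mul_eq_one_right h4
    rw [← this]; exact inv_eq_of_mul_eq_one_left o.d2
  rw [h6, h3]
  exact h.Vj o.w_mem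

/-- `V` and `d` generate `B ≅ A₅` -/
theorem le_closure (h : Eight.In j V B) (o : Eight.Out j V B w d e) :
    B ≤ closure ((V : Set G) ∪ {d}) := by
  have hVD : V ≤ closure ((V : Set G) ∪ {d}) := fun v hv => subset_closure (Or.inl hv)
  have hdD : d ∈ closure ((V : Set G) ∪ {d}) := subset_closure (Or.inr rfl)
  have hDB : closure ((V : Set G) ∪ {d}) ≤ B := by
    rw [closure_le]
    rintro g (hg | hg)
    · exact h.VB hg
    · rw [Set.mem_singleton_iff.1 hg]; exact o.d_mem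
  have hdV := d_not h o
  have hfinB : Finite B := Nat.finite_of_card_ne_zero (by rw [h.cardB]; norm_num)
  have hfin : Finite (closure ((V : Set G) ∪ {d}) : Subgroup G) :=
    Finite.of_injective (inclusion hDB) (inclusion_injective hDB)
  have ord : ∀ {g : G} {p : ℕ}, p.Prime → g ∈ closure ((V : Set G) ∪ {d}) → g ≠ 1 → g ^ p = 1 →
      p ∣ Nat.card (closure ((V : Set G) ∪ {d}) : Subgroup G) := by
    intro g p hp hg hg1 hgp
    have : Fact p.Prime := ⟨hp⟩
    have h1 : orderOf (⟨g, hg⟩ : (closure ((V : Set G) ∪ {d}) : Subgroup G)) = p :=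
      orderOf_eq_prime (Subtype.ext hgp) (fun hcon => hg1 (congrArg Subtype.val hcon))
    rw [← h1]; exact orderOf_dvd_natCard _
  have hvd : ∀ {v : G}, v ∈ V → v * d ≠ 1 := by
    intro v hv hcon
    apply hdV
    have := inv_eq_of_mul_eq_one_right hcon
    rw [← this]; exact V.inv_mem hv
  -- two involutions of `V`
  obtain ⟨v2, hv2, n2, n12⟩ : ∃ v2 ∈ V, v2 ≠ 1 ∧ v2 ≠ w := by
    obtain ⟨v2, hv2, h2⟩ := h.hyp.exists_snd (v1 := ⟨w, h.BY (h.VB o.w_mem)⟩) o.w_mem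
    exact ⟨v2, hv2, fun hcon => h2.1 (Subtype.ext hcon), fun hcon => h2.2 (Subtype.ext hcon)⟩
  have hcm : w * v2 = v2 * w :=
    congrArg Subtype.val (h.hyp.comm (u := ⟨w, h.BY (h.VB o.w_mem)⟩) (v := ⟨v2, h.BY (h.VB hv2)⟩) o.w_mem hv2)
  obtain ⟨f⟩ := h.BA
  have h5 : ∃ v ∈ V, (v * d) ^ 5 = 1 := by
    have h6 := exists_five f (a := ⟨w, h.VB o.w_mem⟩) (b := ⟨v2, h.VB hv2⟩) (d := ⟨d, o.d_mem⟩)
      (fun hcon => o.w_ne (congrArg Subtype.val hcon)) (Subtype.ext o.w2)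
      (fun hcon => n2 (congrArg Subtype.val hcon)) (Subtype.ext (h.sq _ hv2))
      (fun hcon => n12 (congrArg Subtype.val hcon)) (Subtype.ext hcm) (Subtype.ext o.d2)
      (fun hcon => hdV (by
        have h7 : d = 1 := congrArg Subtype.val hcon
        rw [h7]; exact V.one_mem))
      (fun hcon => hdV (by
        have h7 : d = w := congrArg Subtype.val hcon
        rw [h7]; exact o.w_mem))
      (fun hcon => hdV (by
        have h7 : d = v2 := congrArg Subtype.val hcon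
        rw [h7]; exact hv2))
      (fun hcon => hdV (by
        have h7 : d = w * v2 := congrArg Subtype.val hcon
        rw [h7]; exact V.mul_mem o.w_mem hv2))
    rcases h6 with h6 | h6 | h6
    · exact ⟨w, o.w_mem, congrArg Subtype.val h6⟩
    · exact ⟨v2, hv2, congrArg Subtype.val h6⟩
    · exact ⟨w * v2, V.mul_mem o.w_mem hv2, congrArg Subtype.val h6⟩
  obtain ⟨v, hv, h5⟩ := h5
  refine (top_of_dvd h.cardB hDB ?_ ?_ ?_).ge
  · rw [← h.V4]; exact card_dvd_of_le hVD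
  · exact ord (by norm_num) (mul_mem (hVD o.w_mem) hdD) (hvd o.w_mem) o.wd
  · exact ord (by norm_num) (mul_mem (hVD hv) hdD) (hvd hv) h5

/-- `K` is transitive on the involutions of `V` -/
theorem exists_conj (h : Eight.In j V B) {v w : G} (hv : v ∈ V) (hv1 : v ≠ 1) (hw : w ∈ V) (hw1 : w ≠ 1) :
    ∃ ρ ∈ KK j, ρ * v * ρ⁻¹ = w := by
  have hfin : Finite (KK j) := Nat.finite_of_card_ne_zero (by rw [h.K12]; norm_num)
  have : Fact (Nat.Prime 3) := ⟨by norm_num⟩
  obtain ⟨⟨ρ, hρ⟩, hρ3⟩ := exists_prime_orderOf_dvd_card' (G := KK j) 3 (by rw [h.K12]; norm_num)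
  have h3 : ρ ^ 3 = 1 := by
    have := pow_orderOf_eq_one (⟨ρ, hρ⟩ : KK j)
    rw [hρ3] at this
    exact congrArg Subtype.val this
  have hρ1 : ρ ≠ 1 := by
    rintro rfl
    have h1 : (⟨1, hρ⟩ : KK j) = 1 := rfl
    rw [h1, orderOf_one] at hρ3
    norm_num at hρ3
  have hρV : ρ ∉ V := by
    intro hcon
    apply hρ1
    have h1 := h.sq _ hcon
    rw [pow_succ, pow_two, h1, one_mul] at h3
    exact h3
  have hnc : ∀ u ∈ V, u ≠ 1 → ρ * u * ρ⁻¹ ≠ u := by
    intro u hu hu1 hcon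
    apply hρV
    refine h.self u hu hu1 ρ hρ ?_
    calc ρ * u = ρ * u * ρ⁻¹ * ρ := by group
      _ = u * ρ := by rw [hcon]
  have hv' := h.KV ρ hρ v hv
  have hv'' := h.KV ρ hρ _ hv'
  have hc1 : ∀ {g : G}, g ≠ 1 → ρ * g * ρ⁻¹ ≠ 1 := by
    intro g hg hcon
    apply hg
    calc g = ρ⁻¹ * (ρ * g * ρ⁻¹) * ρ := by group
      _ = 1 := by rw [hcon]; group
  have n1 := hnc v hv hv1
  have n2 := hnc _ hv' (hc1 hv1)
  have n3 : ρ * (ρ * v * ρ⁻¹) * ρ⁻¹ ≠ v := by
    intro hcon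
    have h4 : ρ * (ρ * (ρ * v * ρ⁻¹) * ρ⁻¹) * ρ⁻¹ = v := by
      calc ρ * (ρ * (ρ * v * ρ⁻¹) * ρ⁻¹) * ρ⁻¹ = ρ ^ 3 * v * (ρ ^ 3)⁻¹ := by
            simp only [pow_succ, pow_zero, one_mul, mul_inv_rev, mul_assoc]
        _ = v := by rw [h3]; group
    rw [hcon] at h4
    exact n1 h4
  rcases EightAbs.four h.V4 h.sq hv hv' hv1 (hc1 hv1) n1 w hw with h5 | h5 | h5 | h5
  · exact absurd h5 hw1
  · exact ⟨1, (KK j).one_mem, by rw [h5]; group⟩
  · exact ⟨ρ, hρ, h5.symm⟩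
  · rcases EightAbs.four h.V4 h.sq hv hv' hv1 (hc1 hv1) n1 _ hv'' with h6 | h6 | h6 | h6
    · exact absurd h6 (hc1 (hc1 hv1))
    · exact absurd h6 n3
    · exact absurd h6 n2
    · refine ⟨ρ * ρ, (KK j).mul_mem hρ hρ, ?_⟩
      rw [h5, ← h6]; group

end Cfsg.Agent.StdG24.EightGen
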