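import Cfsg.Agent.StdG24.Eight

/-!
# Step 8 of S1767: `N(j L₀) = C(j L₀) j(L₀) ⟨e⟩`
-/

set_option autoImplicit false

namespace Cfsg.Agent.StdG24.EightMM

open Subgroup Cfsg.Agent.StdG24.Words Cfsg.Agent.StdG24.PWords Cfsg.Agent.StdG24.CentX
  Cfsg.Agent.StdG24.GenJ Cfsg.Agent.StdG24.AutX

variable {G : Type*} [Group G]

/-- an element of `M` inducing an inner automorphism -/
theorem of_inner {L : Type*} [Group L] {j : L →* G} {m : G} {c : L}
    (h : ∀ x, m * j x * m⁻¹ = j (c * x * c⁻¹)) : ∃ k ∈ KK j, m = k * j c := by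
  refine ⟨m * (j c)⁻¹, Emb.mem_of_aut h, by group⟩

/-- the automorphism induced by `e` is not inner -/
theorem e_not_inner {j : L0 →* G} (hj : Function.Injective j) {e : G} (es : Commute e (j s))
    (et : Commute e (j t)) (ex : Commute e (j x)) (ey : Commute e (j y)) (eq : Commute e (j q))
    (ev : e * j v * e⁻¹ = (j v)⁻¹) (c : L0) (hc : ∀ l, e * j l * e⁻¹ = j (c * l * c⁻¹)) : False := by
  have h1 : ∀ {l : L0}, Commute e (j l) → c * l = l * c := by
    intro l hl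
    have h2 := hc l
    rw [hl.eq, mul_inv_cancel_right] at h2
    have h3 : l = c * l * c⁻¹ := hj h2
    calc c * l = c * l * c⁻¹ * c := by group
      _ = l * c := by rw [← h3]
  have hc1 := cent_X c (h1 es) (h1 et) (h1 ex) (h1 ey) (h1 eq)
  have h2 := hc v
  rw [ev, hc1, one_mul, inv_one, mul_one, ← map_inv] at h2
  have h3 : v⁻¹ = v := hj h2
  have h4 : v * v = 1 := by
    calc v * v = v * v⁻¹ := by rw [h3]
      _ = 1 := mul_inv_cancel v
  have h5 := v3'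
  rw [h4, one_mul] at h5
  exact v_ne h5

/-- `N(j L₀) = C(j L₀) j(L₀) ⟨e⟩` -/
theorem MM_dec {j : L0 →* G} {V B : Subgroup G} (h : Eight.In j V B) {w d e : G}
    (o : Eight.Out j V B w d e) {E : AutL.El L0} (A : AutL.Ax E) {m : G} (hm : m ∈ MM j) :
    ∃ k ∈ KK j, ∃ l : L0, m = k * j l ∨ m = k * j l * e := by
  have ei : e⁻¹ = e := inv_eq_of_mul_eq_one_left o.e2
  have ev : e * j v * e⁻¹ = (j v)⁻¹ := by rw [ei]; exact o.ev
  have hni := e_not_inner h.inj o.es o.et o.ex o.ey o.eq ev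
  obtain ⟨α, hα⟩ := Eight.exists_aut h.inj hm
  obtain ⟨β, hβ⟩ := Eight.exists_aut h.inj o.e_mem
  by_cases h1 : ∃ c : L0, ∀ x, α x = c * x * c⁻¹
  · obtain ⟨c, hc⟩ := h1
    obtain ⟨k, hk, hkm⟩ := of_inner (j := j) (m := m) (c := c) (fun x => by rw [← hα, hc])
    exact ⟨k, hk, c, Or.inl hkm⟩
  · have h2 : ¬ ∃ c : L0, ∀ x, β x = c * x * c⁻¹ := by
      rintro ⟨c, hc⟩
      exact hni c fun l => by rw [← hβ, hc]
    obtain ⟨c, hc⟩ := A.mul_inner α β h1 h2
    obtain ⟨k, hk, hkm⟩ := of_inner (j := j) (m := m * e) (c := c) (fun x => by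
      rw [← hc, hα, hβ]; group)
    refine ⟨k, hk, c, Or.inr ?_⟩
    rw [← hkm, mul_assoc, o.e2, mul_one]

end Cfsg.Agent.StdG24.EightMM
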