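import Mathlib

/-!
# Computations in `A₆` for step 8 of S1767
-/

set_option autoImplicit false

namespace Cfsg.Agent.StdG24.EightPerm

open Equiv

abbrev P := Equiv.Perm (Fin 6)

def a0 : P := Equiv.swap 0 1 * Equiv.swap 2 3
def b0 : P := Equiv.swap 0 2 * Equiv.swap 1 3
def c0 : P := Equiv.swap 0 1 * Equiv.swap 1 2
def e1 : P := Equiv.swap 0 1 * Equiv.swap 4 5
def d1 : P := Equiv.swap 0 1 * Equiv.swap 3 4

def sg (x : P) : Bool × Bool := (decide (x * x = 1), decide (x * x * x = 1))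

def A4L : List P := [1, c0, c0 * c0, a0, c0 * a0, c0 * c0 * a0, b0, c0 * b0, c0 * c0 * b0, a0 * b0,
  c0 * (a0 * b0), c0 * c0 * (a0 * b0)]

theorem A4L_facts : ∀ g ∈ A4L, g 5 = 5 ∧ Perm.sign g = 1 ∧ sg (e1 * g * e1 * d1) = sg (g * d1) := by
  decide +kernel

theorem norm1 : ∀ a : P, a 5 = 5 → Perm.sign a = 1 → a ≠ 1 → a * a = 1 →
    ∃ s : P, s 5 = 5 ∧ s * a * s⁻¹ = a0 := by decide +kernel

theorem norm2 : ∀ b : P, b 5 = 5 → Perm.sign b = 1 → b ≠ 1 → b * b = 1 → b ≠ a0 → a0 * b = b * a0 →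
    ∃ s : P, s 5 = 5 ∧ s * a0 * s⁻¹ = a0 ∧ s * b * s⁻¹ = b0 := by decide +kernel

def e2 : P := Equiv.swap 2 3 * Equiv.swap 4 5

theorem norm3' : ∀ e : P, e * e = 1 → Perm.sign e = 1 → e * a0 * e⁻¹ = a0 → e * b0 * e⁻¹ = a0 * b0 →
    e = e1 ∨ e = e2 := by decide +kernel

theorem e2_facts : b0 5 = 5 ∧ b0 * a0 * b0⁻¹ = a0 ∧ b0 * b0 * b0⁻¹ = b0 ∧ b0 * e2 * b0⁻¹ = e1 := by
  decide +kernel

theorem norm3 : ∀ e : P, e * e = 1 → Perm.sign e = 1 → e * a0 * e⁻¹ = a0 → e * b0 * e⁻¹ = a0 * b0 →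
    ∃ s : P, s 5 = 5 ∧ s * a0 * s⁻¹ = a0 ∧ s * b0 * s⁻¹ = b0 ∧ s * e * s⁻¹ = e1 := by
  intro e h1 h2 h3 h4
  rcases norm3' e h1 h2 h3 h4 with rfl | rfl
  · exact ⟨1, rfl, by simp, by simp, by simp⟩
  · exact ⟨b0, e2_facts.1, e2_facts.2.1, e2_facts.2.2.1, e2_facts.2.2.2⟩

theorem mem_A4L : ∀ g : P, g 5 = 5 → Perm.sign g = 1 → g * a0 * g⁻¹ ∈ [a0, b0, a0 * b0] →
    g * b0 * g⁻¹ ∈ [a0, b0, a0 * b0] → g ∈ A4L := by decide +kernel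

theorem uniq : ∀ y : P, y 5 = 5 → Perm.sign y = 1 → (∀ g ∈ A4L, sg (g * y) = sg (g * d1)) →
    y = d1 := by decide +kernel

theorem rels : d1 5 = 5 ∧ Perm.sign d1 = 1 ∧ d1 * d1 = 1 ∧ a0 * d1 * (a0 * d1) * (a0 * d1) = 1 ∧
    d1 * e1 * (d1 * e1) * (d1 * e1) = 1 ∧ e1 * a0 = a0 * e1 := by decide +kernel

theorem len_A4L : A4L.length = 12 := rfl

end Cfsg.Agent.StdG24.EightPerm
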