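import Cfsg.Agent.StdG24.EightAbs

/-!
# The centraliser of `U₃(3)` in step 8 of S1767: `Y ≅ A₆`
-/

set_option autoImplicit false

namespace Cfsg.Agent.StdG24.EightAbs

open Subgroup

variable {Y : Type*} [Group Y]

namespace Hyp

variable {V K B N : Subgroup Y} (h : Hyp V K B N)
include h

/-- an involution `e ∈ N - K` acting nontrivially on `V`. -/
theorem exists_e (hb : ∀ a ∈ N, a ∉ K → ∃ v ∈ V, a * v ≠ v * a) {a v1 : Y} (haN : a ∈ N)
    (haK : a ∉ K) (hv1 : v1 ∈ V) (n1 : v1 ≠ 1) (hav : a * v1 = v1 * a) :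
    ∃ e v2, e ∈ N ∧ e ∉ K ∧ e * e = 1 ∧ v2 ∈ V ∧ v2 ≠ 1 ∧ v2 ≠ v1 ∧ e * v1 = v1 * e ∧
      e * v2 * e⁻¹ = v1 * v2 := by
  obtain ⟨v2, hv2, hne⟩ := hb a haN haK
  have n2 : v2 ≠ 1 := by rintro rfl; exact hne (by rw [mul_one, one_mul])
  have n12 : v2 ≠ v1 := by rintro rfl; exact hne hav
  have hF := four h.V4 h.sq hv1 hv2 n1 n2 n12
  have h12 := h.comm hv1 hv2
  have hact : a * v2 * a⁻¹ = v1 * v2 := by
    rcases hF _ (h.NV a haN v2 hv2) with h1 | h1 | h1 | h1
    · exfalso; apply n2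
      have : v2 = a⁻¹ * (a * v2 * a⁻¹) * a := by group
      rw [this, h1]; group
    · exfalso; apply n12
      have : v2 = a⁻¹ * (a * v2 * a⁻¹) * a := by group
      rw [this, h1, mul_assoc, ← hav, inv_mul_cancel_left]
    · exfalso; apply hne
      calc a * v2 = (a * v2 * a⁻¹) * a := by group
        _ = v2 * a := by rw [h1]
    · exact h1
  have haa : a * a ∈ V := by
    apply h.self v1 hv1 n1 _ (h.N2 a haN a haN haK haK)
    rw [mul_assoc, hav, ← mul_assoc, hav, mul_assoc]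
  have hcases : a * a = 1 ∨ a * a = v1 := by
    rcases hF _ haa with h1 | h1 | h1 | h1
    · exact Or.inl h1
    · exact Or.inr h1
    · exfalso; apply hne; rw [← h1, mul_assoc]
    · exfalso; apply hne
      have h2 : a * (v1 * v2) = v1 * v2 * a := by rw [← h1, mul_assoc]
      have h3 : v1 * (a * v2) = v1 * (v2 * a) := by
        rw [← mul_assoc, ← hav, mul_assoc, h2, mul_assoc]
      exact mul_left_cancel h3
  have s1 := h.sq v1 hv1
  have s2 := h.sq v2 hv2
  rcases hcases with h1 | h1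
  · exact ⟨a, v2, haN, haK, h1, hv2, n2, n12, hav, hact⟩
  · refine ⟨a * v2, v2, N.mul_mem haN (h.KN (h.VK hv2)), ?_, ?_, hv2, n2, n12, ?_, ?_⟩
    · intro hcon
      apply haK
      have := K.mul_mem hcon (K.inv_mem (h.VK hv2))
      rwa [mul_inv_cancel_right] at this
    · calc a * v2 * (a * v2) = (a * v2 * a⁻¹) * (a * a) * v2 := by group
        _ = v1 * (v2 * v1) * v2 := by rw [hact, h1]; group
        _ = (v1 * v1) * (v2 * v2) := by rw [← h12]; group
        _ = 1 := by rw [s1, s2, one_mul]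
    · rw [mul_assoc, ← h12, ← mul_assoc, hav, mul_assoc]
    · calc a * v2 * v2 * (a * v2)⁻¹ = a * v2 * a⁻¹ := by group
        _ = v1 * v2 := hact

variable [Finite Y]

/-- the order of `Y`. -/
theorem card_eq {e v1 v2 : Y} (heN : e ∈ N) (heK : e ∉ K) (hee : e * e = 1) (hv1 : v1 ∈ V)
    (n1 : v1 ≠ 1) (hv2 : v2 ∈ V) (n2 : v2 ≠ 1) (n12 : v2 ≠ v1) (hev : e * v1 = v1 * e)
    (hact : e * v2 * e⁻¹ = v1 * v2) : Nat.card Y = 360 := by
  have hF := four h.V4 h.sq hv1 hv2 n1 n2 n12
  have hei : e⁻¹ = e := inv_eq_of_mul_eq_one_left hee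
  have s1 := h.sq v1 hv1
  have s2 := h.sq v2 hv2
  have h12 := h.comm hv1 hv2
  have hsq : (e * v2) * (e * v2) = v1 := by
    calc (e * v2) * (e * v2) = (e * v2 * e) * v2 := by group
      _ = (e * v2 * e⁻¹) * v2 := by rw [hei]
      _ = v1 * (v2 * v2) := by rw [hact, mul_assoc]
      _ = v1 := by rw [s2, mul_one]
  have oe : orderOf e = 2 := orderOf_eq_prime (by rw [pow_two, hee]) (fun hc => heK (hc ▸ K.one_mem))
  have o2 : orderOf v2 = 2 := orderOf_eq_prime (by rw [pow_two, s2]) n2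
  have o1 : orderOf v1 = 2 := orderOf_eq_prime (by rw [pow_two, s1]) n1
  have o4 : orderOf (e * v2) = 4 := by
    have h2 : (e * v2) ^ 2 = v1 := by rw [pow_two, hsq]
    have : orderOf (e * v2) = 2 ^ (1 + 1) := by
      apply orderOf_eq_prime_pow
      · rw [pow_one, h2]; exact n1
      · have : (e * v2) ^ 2 ^ (1 + 1) = ((e * v2) ^ 2) ^ 2 := by rw [← pow_mul]; norm_num
        rw [this, h2, pow_two, s1]
    simpa using this
  have hcl : centralizer ({v1} : Set Y) = closure ({e, v2} : Set Y) := by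
    have me : e ∈ closure ({e, v2} : Set Y) := subset_closure (by simp)
    have m2 : v2 ∈ closure ({e, v2} : Set Y) := subset_closure (by simp)
    have m1 : v1 ∈ closure ({e, v2} : Set Y) := by
      rw [← hsq]; exact mul_mem (mul_mem me m2) (mul_mem me m2)
    have mV : ∀ x ∈ V, x ∈ closure ({e, v2} : Set Y) := by
      intro x hx
      rcases hF x hx with rfl | rfl | rfl | rfl
      · exact one_mem _
      · exact m1
      · exact m2
      · exact mul_mem m1 m2
    apply le_antisymm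
    · intro y hy
      rw [mem_centralizer_singleton_iff] at hy
      have hyN := h.cent v1 hv1 n1 y hy
      by_cases hyK : y ∈ K
      · exact mV y (h.self v1 hv1 n1 y hyK hy)
      · have h3 : e * y ∈ V := by
          apply h.self v1 hv1 n1 _ (h.N2 e heN y hyN heK hyK)
          rw [mul_assoc, hy, ← mul_assoc, hev, mul_assoc]
        have h4 : y = e * (e * y) := by rw [← mul_assoc, hee, one_mul]
        rw [h4]
        exact mul_mem me (mV _ h3)
    · rw [closure_le]
      rintro x (rfl | hx)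
      · exact mem_centralizer_singleton_iff.2 hev
      · rw [Set.mem_singleton_iff] at hx
        subst hx
        exact mem_centralizer_singleton_iff.2 h12.symm
  obtain ⟨φ⟩ : Nonempty (centralizer ({v1} : Set Y) ≃* DihedralGroup 4) := by
    rw [hcl]
    exact Cfsg.Agent.SporadicB.DihedralLift.closure_pair_equiv_dihedral' oe o2 o4
  have hdvd : 60 ∣ Nat.card Y := by
    rw [← h.card_B]; exact Subgroup.card_subgroup_dvd_card B
  rcases Cfsg.Agent.S0848.result h.perf v1 o1 φ with hc | hc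
  · rw [hc] at hdvd; norm_num at hdvd
  · exact hc

/-- the action on the six cosets of `B`. -/
theorem exists_perm (hc : Nat.card Y = 360) : ∃ π : Y →* Equiv.Perm (Fin 6),
    Function.Injective π ∧ ∀ y, π y 5 = 5 ↔ y ∈ B := by
  classical
  have h6 : Nat.card (Y ⧸ B) = 6 := by
    have := card_eq_card_quotient_mul_card_subgroup B
    rw [hc, h.card_B] at this
    omega
  have e' : (Y ⧸ B) ≃ Fin 6 := by rw [← h6]; exact Finite.equivFin _
  let e : (Y ⧸ B) ≃ Fin 6 := e'.trans (Equiv.swap (e' ((1 : Y) : Y ⧸ B)) 5)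
  have he1 : e ((1 : Y) : Y ⧸ B) = 5 := by
    show Equiv.swap (e' ((1 : Y) : Y ⧸ B)) 5 (e' ((1 : Y) : Y ⧸ B)) = 5
    exact Equiv.swap_apply_left _ _
  let π : Y →* Equiv.Perm (Fin 6) :=
    (e.permCongrHom : Equiv.Perm (Y ⧸ B) ≃* Equiv.Perm (Fin 6)).toMonoidHom.comp
      (MulAction.toPermHom Y (Y ⧸ B))
  have hπ : ∀ y i, π y i = e (y • e.symm i) := fun y i => rfl
  have h5 : ∀ y, π y 5 = 5 ↔ y ∈ B := by
    intro y
    rw [hπ, ← he1, e.symm_apply_apply, e.apply_eq_iff_eq, MulAction.Quotient.smul_coe, smul_eq_mul,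
      mul_one, eq_comm, QuotientGroup.eq, inv_one, one_mul]
  refine ⟨π, ?_, h5⟩
  rw [← MonoidHom.ker_eq_bot_iff]
  obtain ⟨ψ⟩ := h.BA
  have hsB : IsSimpleGroup B := ψ.isSimpleGroup
  have hle : π.ker ≤ B := by
    intro y hy
    rw [MonoidHom.mem_ker] at hy
    rw [← h5 y, hy]; rfl
  have hnor : (π.ker.subgroupOf B).Normal := inferInstance
  rcases hnor.eq_bot_or_eq_top with hk | hk
  · rw [subgroupOf_eq_bot] at hk
    rw [eq_bot_iff]
    intro y hy
    exact (disjoint_iff_inf_le.1 hk) (mem_inf.2 ⟨hy, hle hy⟩)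
  · exfalso
    rw [subgroupOf_eq_top] at hk
    have hBk : B = π.ker := le_antisymm hk hle
    have hBn : B.Normal := by rw [hBk]; infer_instance
    have hsf : Squarefree (Nat.card (Y ⧸ B)) := by
      rw [h6]; decide +kernel
    have hz : IsZGroup (Y ⧸ B) := IsZGroup.of_squarefree hsf
    have hnt : Nontrivial (Y ⧸ B) := by
      rw [← Finite.one_lt_card_iff_nontrivial, h6]; norm_num
    have h7 := Group.IsSolvable.commutator_lt_top_of_nontrivial (Y ⧸ B)
    have h8 : commutator (Y ⧸ B) = ⊤ := by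
      have h9 : (commutator Y).map (QuotientGroup.mk' B) = commutator (Y ⧸ B) := by
        rw [_root_.commutator_def, _root_.commutator_def, map_commutator, ← MonoidHom.range_eq_map,
          QuotientGroup.range_mk']
      rw [← h9, h.perf, ← MonoidHom.range_eq_map, QuotientGroup.range_mk']
    rw [h8] at h7
    exact lt_irrefl _ h7

omit [Finite Y] in
theorem sign_eq (π : Y →* Equiv.Perm (Fin 6)) (y : Y) : Equiv.Perm.sign (π y) = 1 :=
  h.hom_eq_one (Equiv.Perm.sign.comp π) y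

omit h [Finite Y] in
theorem exists_of_sign (hc : Nat.card Y = 360) (π : Y →* Equiv.Perm (Fin 6))
    (hinj : Function.Injective π) (hs : ∀ y, Equiv.Perm.sign (π y) = 1) (p : Equiv.Perm (Fin 6))
    (hp : Equiv.Perm.sign p = 1) : ∃ y, π y = p := by
  have hle : π.range ≤ alternatingGroup (Fin 6) := by
    rintro _ ⟨y, rfl⟩
    rw [Equiv.Perm.mem_alternatingGroup]; exact hs y
  have hcr : Nat.card π.range = 360 := by
    rw [← hc]; exact (Nat.card_congr (MonoidHom.ofInjective hinj).toEquiv).symm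
  have hca : Nat.card (alternatingGroup (Fin 6)) = 360 := by
    rw [nat_card_alternatingGroup, Nat.card_eq_fintype_card, Fintype.card_fin]
    rfl
  have heq : π.range = alternatingGroup (Fin 6) :=
    Subgroup.eq_of_le_of_card_ge hle (by rw [hcr, hca])
  have : p ∈ π.range := by rw [heq, Equiv.Perm.mem_alternatingGroup]; exact hp
  exact this

end Hyp

open EightPerm

theorem sg_congr {p q : P} (h1 : p * p = 1 ↔ q * q = 1) (h2 : p * p * p = 1 ↔ q * q * q = 1) :
    sg p = sg q := by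
  unfold sg
  rw [decide_eq_decide.2 h1, decide_eq_decide.2 h2]

/-- conjugating the permutation representation by `s` with `s 5 = 5`. -/
theorem conj_perm {B : Subgroup Y} {π : Y →* P} (hinj : Function.Injective π)
    (h5 : ∀ y, π y 5 = 5 ↔ y ∈ B) {s : P} (hs : s 5 = 5) :
    ∃ π' : Y →* P, Function.Injective π' ∧ (∀ y, π' y 5 = 5 ↔ y ∈ B) ∧
      ∀ y, π' y = s * π y * s⁻¹ := by
  refine ⟨(MulAut.conj s).toMonoidHom.comp π, (MulAut.conj s).injective.comp hinj, ?_, fun y => rfl⟩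
  intro y
  rw [← h5 y]
  have hs' : s⁻¹ 5 = 5 := by rw [Equiv.Perm.inv_eq_iff_eq, hs]
  show (s * π y * s⁻¹) 5 = 5 ↔ _
  rw [Equiv.Perm.mul_apply, Equiv.Perm.mul_apply, hs']
  constructor
  · intro h
    have h1 : s (π y 5) = s 5 := h.trans hs.symm
    exact s.injective h1
  · intro h; rw [h, hs]

/-- The output of the analysis of `Y`. -/
structure Out (V K B N : Subgroup Y) (w d e : Y) : Prop where
  w_mem : w ∈ V
  w_ne : w ≠ 1
  d_mem : d ∈ B
  e_mem : e ∈ N
  e_not : e ∉ K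
  d2 : d * d = 1
  e2 : e * e = 1
  wd : (w * d) ^ 3 = 1
  de : (d * e) ^ 3 = 1
  we : w * e = e * w
  rigid : ∀ β : B ≃* B, (∀ k (hk : k ∈ B), k ∈ K → ((β ⟨k, hk⟩ : B) : Y) = e * k * e⁻¹) →
    ∀ hd : d ∈ B, ((β ⟨d, hd⟩ : B) : Y) = d

namespace Hyp

variable {V K B N : Subgroup Y} (h : Hyp V K B N)
include h

/-- normal form of the permutation representation -/
theorem exists_normal [Finite Y] {e v1 v2 : Y} (heN : e ∈ N) (heK : e ∉ K) (hee : e * e = 1)
    (hv1 : v1 ∈ V) (n1 : v1 ≠ 1) (hv2 : v2 ∈ V) (n2 : v2 ≠ 1) (n12 : v2 ≠ v1)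
    (hev : e * v1 = v1 * e) (hact : e * v2 * e⁻¹ = v1 * v2) :
    ∃ π : Y →* P, Function.Injective π ∧ (∀ y, π y 5 = 5 ↔ y ∈ B) ∧ π v1 = a0 ∧ π v2 = b0 ∧
      π e = e1 := by
  have hc := h.card_eq heN heK hee hv1 n1 hv2 n2 n12 hev hact
  obtain ⟨π0, i0, f0⟩ := h.exists_perm hc
  have hVB := h.VK.trans h.KB
  have ne0 : ∀ {π : Y →* P}, Function.Injective π → ∀ {y}, y ≠ 1 → π y ≠ 1 := by
    intro π hi y hy hcon
    exact hy (hi (by rw [hcon, map_one]))
  obtain ⟨s1, hs1, e1'⟩ := norm1 (π0 v1) ((f0 v1).2 (hVB hv1)) (h.sign_eq π0 v1) (ne0 i0 n1)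
    (by rw [← map_mul, h.sq v1 hv1, map_one])
  obtain ⟨π1, i1, f1, g1⟩ := conj_perm i0 f0 hs1
  have a1 : π1 v1 = a0 := by rw [g1, e1']
  obtain ⟨s2, hs2, e2', e2''⟩ := norm2 (π1 v2) ((f1 v2).2 (hVB hv2)) (h.sign_eq π1 v2) (ne0 i1 n2)
    (by rw [← map_mul, h.sq v2 hv2, map_one]) (by rw [← a1]; exact fun hcon => n12 (i1 hcon))
    (by rw [← a1, ← map_mul, h.comm hv1 hv2, map_mul])
  obtain ⟨π2, i2, f2, g2⟩ := conj_perm i1 f1 hs2
  have a2 : π2 v1 = a0 := by rw [g2, a1, e2']
  have b2 : π2 v2 = b0 := by rw [g2, e2'']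
  obtain ⟨s3, hs3, e3', e3'', e3'''⟩ := norm3 (π2 e) (by rw [← map_mul, hee, map_one]) (h.sign_eq π2 e)
    (by rw [← a2, ← map_inv, ← map_mul, ← map_mul, hev, mul_inv_cancel_right])
    (by rw [← a2, ← b2, ← map_inv, ← map_mul, ← map_mul, hact, map_mul])
  obtain ⟨π3, i3, f3, g3⟩ := conj_perm i2 f2 hs3
  exact ⟨π3, i3, f3, by rw [g3, a2, e3'], by rw [g3, b2, e3''], by rw [g3, e3''']⟩

/-- **Main theorem on `Y`.** -/
theorem main [Finite Y] : ∃ w d e, Out V K B N w d e := by
  classical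
  -- not case 1
  have hcase : ∃ v ∈ V, v ≠ 1 ∧ ∃ a ∈ N, a ∉ K ∧ a * v = v * a := by
    by_contra hcon
    push Not at hcon
    apply h.case_one
    intro v hv hvn y hy
    have hyN := h.cent v hv hvn y hy
    by_cases hyK : y ∈ K
    · exact h.self v hv hvn y hyK hy
    · exact absurd hy (hcon v hv hvn y hyN hyK)
  obtain ⟨v1, hv1, n1, a, haN, haK, hav⟩ := hcase
  have hb : ∀ a ∈ N, a ∉ K → ∃ v ∈ V, a * v ≠ v * a := by
    intro a haN haK
    by_contra hcon
    push Not at hcon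
    exact h.case_two_a haN haK hcon
  obtain ⟨e, v2, heN, heK, hee, hv2, n2, n12, hev, hact⟩ := h.exists_e hb haN haK hv1 n1 hav
  have hc := h.card_eq heN heK hee hv1 n1 hv2 n2 n12 hev hact
  obtain ⟨π, hinj, h5, pa, pb, pe⟩ := h.exists_normal heN heK hee hv1 n1 hv2 n2 n12 hev hact
  obtain ⟨r1, r2, r3, r4, r5, r6⟩ := rels
  obtain ⟨d, hd⟩ := exists_of_sign hc π hinj (h.sign_eq π) d1 r2
  have hdB : d ∈ B := by rw [← h5, hd]; exact r1
  have hei : e⁻¹ = e := inv_eq_of_mul_eq_one_left hee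
  have hF := four h.V4 h.sq hv1 hv2 n1 n2 n12
  refine ⟨v1, d, e, hv1, n1, hdB, heN, heK, ?_, hee, ?_, ?_, hev.symm, ?_⟩
  · apply hinj; rw [map_mul, hd, r3, map_one]
  · apply hinj
    rw [pow_succ, pow_two, map_mul, map_mul, map_mul, pa, hd, r4, map_one]
  · apply hinj
    rw [pow_succ, pow_two, map_mul, map_mul, map_mul, pe, hd, r5, map_one]
  · intro β hβ hd'
    -- `e` normalises `K`
    have hKe : ∀ k ∈ K, e * k * e⁻¹ ∈ K := by
      intro k hk
      rw [mul_assoc]
      apply h.N2 e heN _ (N.mul_mem (h.KN hk) (N.inv_mem heN)) heK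
      intro hcon
      apply heK
      have := K.mul_mem (K.inv_mem hk) hcon
      rw [inv_mul_cancel_left] at this
      simpa using K.inv_mem this
    -- the image of `K`
    have hsub : ∀ k ∈ K, π k ∈ A4L := by
      intro k hk
      have hl : ∀ v ∈ V, v ≠ 1 → π (k * v * k⁻¹) ∈ [a0, b0, a0 * b0] := by
        intro v hv hvn
        have hne : k * v * k⁻¹ ≠ 1 := by
          intro hcon; apply hvn
          have : v = k⁻¹ * (k * v * k⁻¹) * k := by group
          rw [this, hcon]; group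
        rcases hF _ (h.KV k hk v hv) with h1 | h1 | h1 | h1
        · exact absurd h1 hne
        · rw [h1, pa]; simp
        · rw [h1, pb]; simp
        · rw [h1, map_mul, pa, pb]; simp
      apply mem_A4L _ ((h5 k).2 (h.KB hk)) (h.sign_eq π k)
      · rw [← pa, ← map_inv, ← map_mul, ← map_mul, pa]; exact hl v1 hv1 n1
      · rw [← pb, ← map_inv, ← map_mul, ← map_mul, pb]; exact hl v2 hv2 n2
    have hsurj : ∀ g ∈ A4L, ∃ k ∈ K, π k = g := by
      have hfinK : Finite K := inferInstance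
      have hT : (Set.range fun k : K => π k) ⊆ (A4L.toFinset : Set P) := by
        rintro _ ⟨k, rfl⟩
        simp only [List.coe_toFinset, Set.mem_ofPred_eq]
        exact hsub k k.2
      have hcT : (Set.range fun k : K => π k).ncard = 12 := by
        rw [← h.K12, ← Nat.card_coe_set_eq]
        apply Nat.card_range_of_injective
        intro x y hxy
        exact Subtype.ext (hinj hxy)
      have hle : (A4L.toFinset : Set P).ncard ≤ 12 := by
        rw [Set.ncard_coe_finset]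
        exact (List.toFinset_card_le _).trans len_A4L.le
      have heq := Set.eq_of_subset_of_ncard_le hT (by rw [hcT]; exact hle)
      intro g hg
      have : g ∈ (A4L.toFinset : Set P) := by
        simp only [List.coe_toFinset, Set.mem_ofPred_eq]; exact hg
      rw [← heq] at this
      obtain ⟨k, hk⟩ := this
      exact ⟨k, k.2, hk⟩
    set y := β ⟨d, hd'⟩ with hy
    apply hinj
    rw [hd]
    apply uniq
    · exact (h5 _).2 y.2
    · exact h.sign_eq π _
    · intro g hg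
      obtain ⟨k, hk, rfl⟩ := hsurj g hg
      have hf := (A4L_facts _ hg).2.2
      rw [← hf]
      -- `k' = e k e`
      have hk' : e * k * e⁻¹ ∈ K := hKe k hk
      have hβk : ((β ⟨e * k * e⁻¹, h.KB hk'⟩ : B) : Y) = k := by
        rw [hβ _ _ hk', hei]
        calc e * (e * k * e) * e = (e * e) * k * (e * e) := by group
          _ = k := by rw [hee]; group
      have hprod : k * (y : Y) = ((β (⟨e * k * e⁻¹, h.KB hk'⟩ * ⟨d, hd'⟩) : B) : Y) := by
        rw [map_mul, Subgroup.coe_mul, hβk]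
      have hcg : ∀ x : B, sg (π ((β x : B) : Y)) = sg (π (x : Y)) := by
        intro x
        have k2 : ((β x : B) : Y) * ((β x : B) : Y) = 1 ↔ (x : Y) * x = 1 := by
          rw [← Subgroup.coe_mul, ← map_mul, ← Subgroup.coe_mul]
          rw [OneMemClass.coe_eq_one, OneMemClass.coe_eq_one]
          exact MulEquiv.map_eq_one_iff β
        have k3 : ((β x : B) : Y) * ((β x : B) : Y) * ((β x : B) : Y) = 1 ↔ (x : Y) * x * x = 1 := by
          rw [← Subgroup.coe_mul, ← map_mul, ← Subgroup.coe_mul, ← map_mul, ← Subgroup.coe_mul,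
            ← Subgroup.coe_mul]
          rw [OneMemClass.coe_eq_one, OneMemClass.coe_eq_one]
          exact MulEquiv.map_eq_one_iff β
        apply sg_congr
        · rw [← map_mul, ← map_mul, map_eq_one_iff π hinj, map_eq_one_iff π hinj]; exact k2
        · rw [← map_mul, ← map_mul, ← map_mul, ← map_mul, map_eq_one_iff π hinj,
            map_eq_one_iff π hinj]; exact k3
      have h1 : π k * π (y : Y) = π ((β (⟨e * k * e⁻¹, h.KB hk'⟩ * ⟨d, hd'⟩) : B) : Y) := by
        rw [← map_mul, hprod]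
      have h2 : π (((⟨e * k * e⁻¹, h.KB hk'⟩ * ⟨d, hd'⟩ : B)) : Y) = e1 * π k * e1 * d1 := by
        have h3 : (((⟨e * k * e⁻¹, h.KB hk'⟩ * ⟨d, hd'⟩ : B)) : Y) = e * k * e * d := by
          rw [Subgroup.coe_mul]
          show e * k * e⁻¹ * d = e * k * e * d
          rw [hei]
        rw [h3, map_mul, map_mul, map_mul, pe, hd]
      rw [h1, hcg, h2]

end Hyp

end Cfsg.Agent.StdG24.EightAbs
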