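import Mathlib

/-!
Coordinates in an extraspecial group: eight involutions `q 0, …, q 7` and a central involution `z` with
`[q k, q (k+4)] = z`, all other pairs commuting. The element with coordinates `x < 256` (a bit mask) is
`ev q x`, the product of the `q k` over the bits `k` of `x`.
-/

set_option autoImplicit false

namespace Cfsg.Agent.StdG24.ExAlg

variable {K : Type*} [Group K]

/-- `q k` if `b`, otherwise `1`. -/
def p (q : ℕ → K) (k : ℕ) (b : Bool) : K := if b then q k else 1

/-- `z` if `b`, otherwise `1`. -/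
def zz (z : K) (b : Bool) : K := if b then z else 1

/-- First half of the coordinates. -/
def evA (q : ℕ → K) (x : ℕ) : K :=
  p q 0 (x.testBit 0) * (p q 1 (x.testBit 1) * (p q 2 (x.testBit 2) * p q 3 (x.testBit 3)))

/-- Second half of the coordinates. -/
def evB (q : ℕ → K) (x : ℕ) : K :=
  p q 4 (x.testBit 4) * (p q 5 (x.testBit 5) * (p q 6 (x.testBit 6) * p q 7 (x.testBit 7)))

/-- The element with coordinates `x`. -/
def ev (q : ℕ → K) (x : ℕ) : K := evA q x * evB q x

/-- The pairing of the second half of `x` with the first half of `y`. -/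
def be (x y : ℕ) : Bool :=
  ((x.testBit 4 && y.testBit 0) ^^ (x.testBit 5 && y.testBit 1)) ^^
    ((x.testBit 6 && y.testBit 2) ^^ (x.testBit 7 && y.testBit 3))

/-- The relations. -/
structure ES (q : ℕ → K) (z : K) : Prop where
  zz : z * z = 1
  zne : z ≠ 1
  zc : ∀ k < 8, Commute z (q k)
  qq : ∀ k < 8, q k * q k = 1
  cA : ∀ i < 4, ∀ j < 4, Commute (q i) (q j)
  cB : ∀ i < 4, ∀ j < 4, Commute (q (i + 4)) (q (j + 4))
  cC : ∀ i < 4, ∀ j < 4, i ≠ j → Commute (q (i + 4)) (q j)
  cZ : ∀ i < 4, q (i + 4) * q i = q i * q (i + 4) * z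

variable {q : ℕ → K} {z : K}

theorem zz_mul (h : ES q z) (a b : Bool) : zz z a * zz z b = zz z (a ^^ b) := by
  cases a <;> cases b <;> simp [zz, h.zz]

theorem p_mul (h : ES q z) {k : ℕ} (hk : k < 8) (a b : Bool) : p q k a * p q k b = p q k (a ^^ b) := by
  cases a <;> cases b <;> simp [p, h.qq k hk]

theorem zp (h : ES q z) {k : ℕ} (hk : k < 8) (a b : Bool) : Commute (zz z a) (p q k b) := by
  cases a <;> cases b <;> simp [p, zz, h.zc k hk]

theorem pA (h : ES q z) {i j : ℕ} (hi : i < 4) (hj : j < 4) (a b : Bool) :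
    Commute (p q i a) (p q j b) := by
  cases a <;> cases b <;> simp [p, h.cA i hi j hj]

theorem pB (h : ES q z) {i j : ℕ} (hi : i < 4) (hj : j < 4) (a b : Bool) :
    Commute (p q (i + 4) a) (p q (j + 4) b) := by
  cases a <;> cases b <;> simp [p, h.cB i hi j hj]

theorem pC (h : ES q z) {i j : ℕ} (hi : i < 4) (hj : j < 4) (hij : i ≠ j) (a b : Bool) :
    Commute (p q (i + 4) a) (p q j b) := by
  cases a <;> cases b <;> simp [p, h.cC i hi j hj hij]

theorem pZ (h : ES q z) {i : ℕ} (hi : i < 4) (a b : Bool) :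
    p q (i + 4) a * p q i b = p q i b * p q (i + 4) a * zz z (a && b) := by
  cases a <;> cases b <;> simp [p, zz, h.cZ i hi]

theorem zz_evA (h : ES q z) (a : Bool) (x : ℕ) : Commute (zz z a) (evA q x) :=
  (zp h (by norm_num) _ _).mul_right ((zp h (by norm_num) _ _).mul_right
    ((zp h (by norm_num) _ _).mul_right (zp h (by norm_num) _ _)))

theorem zz_evB (h : ES q z) (a : Bool) (x : ℕ) : Commute (zz z a) (evB q x) :=
  (zp h (by norm_num) _ _).mul_right ((zp h (by norm_num) _ _).mul_right
    ((zp h (by norm_num) _ _).mul_right (zp h (by norm_num) _ _)))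

theorem zz_ev (h : ES q z) (a : Bool) (x : ℕ) : Commute (zz z a) (ev q x) :=
  (zz_evA h a x).mul_right (zz_evB h a x)

theorem comm4 {a b c d a' b' c' d' : K} (h1 : Commute b a') (h2 : Commute c a') (h3 : Commute d a')
    (h4 : Commute c b') (h5 : Commute d b') (h6 : Commute d c') :
    a * (b * (c * d)) * (a' * (b' * (c' * d'))) =
      (a * a') * ((b * b') * ((c * c') * (d * d'))) := by
  have e1 : b * (c * d) * a' = a' * (b * (c * d)) := (h1.mul_left (h2.mul_left h3)).eq
  have e2 : c * d * b' = b' * (c * d) := (h4.mul_left h5).eq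
  have e3 : d * c' = c' * d := h6.eq
  calc a * (b * (c * d)) * (a' * (b' * (c' * d')))
      = a * (b * (c * d) * a') * (b' * (c' * d')) := by group
    _ = (a * a') * (b * (c * d * b') * (c' * d')) := by rw [e1]; group
    _ = (a * a') * ((b * b') * (c * (d * c') * d')) := by rw [e2]; group
    _ = (a * a') * ((b * b') * ((c * c') * (d * d'))) := by rw [e3]; group

theorem evA_mul (h : ES q z) (x y : ℕ) : evA q x * evA q y = evA q (x ^^^ y) := by
  unfold evA
  rw [comm4 (pA h (by norm_num) (by norm_num) _ _) (pA h (by norm_num) (by norm_num) _ _)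
    (pA h (by norm_num) (by norm_num) _ _) (pA h (by norm_num) (by norm_num) _ _)
    (pA h (by norm_num) (by norm_num) _ _) (pA h (by norm_num) (by norm_num) _ _)]
  simp only [p_mul h (show 0 < 8 by norm_num), p_mul h (show 1 < 8 by norm_num),
    p_mul h (show 2 < 8 by norm_num), p_mul h (show 3 < 8 by norm_num), Nat.testBit_xor]

theorem evB_mul (h : ES q z) (x y : ℕ) : evB q x * evB q y = evB q (x ^^^ y) := by
  unfold evB
  rw [comm4 (pB h (i := 1) (j := 0) (by norm_num) (by norm_num) _ _)
    (pB h (i := 2) (j := 0) (by norm_num) (by norm_num) _ _)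
    (pB h (i := 3) (j := 0) (by norm_num) (by norm_num) _ _)
    (pB h (i := 2) (j := 1) (by norm_num) (by norm_num) _ _)
    (pB h (i := 3) (j := 1) (by norm_num) (by norm_num) _ _)
    (pB h (i := 3) (j := 2) (by norm_num) (by norm_num) _ _)]
  simp only [p_mul h (show 4 < 8 by norm_num), p_mul h (show 5 < 8 by norm_num),
    p_mul h (show 6 < 8 by norm_num), p_mul h (show 7 < 8 by norm_num), Nat.testBit_xor]

theorem p_evA (h : ES q z) {k : ℕ} (hk : k < 4) (a : Bool) (y : ℕ) :
    p q (k + 4) a * evA q y = evA q y * p q (k + 4) a * zz z (a && y.testBit k) := by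
  have hz := fun (b : Bool) (j : ℕ) (hj : j < 8) (c : Bool) => zp h (k := j) hj b c
  unfold evA
  interval_cases k
  · have e1 := pZ h (i := 0) (by norm_num) a (y.testBit 0)
    have e2 : Commute (p q (0 + 4) a) (p q 1 (y.testBit 1) * (p q 2 (y.testBit 2) * p q 3 (y.testBit 3))) :=
      (pC h (by norm_num) (by norm_num) (by norm_num) _ _).mul_right
        ((pC h (by norm_num) (by norm_num) (by norm_num) _ _).mul_right
          (pC h (by norm_num) (by norm_num) (by norm_num) _ _))
    have e3 : Commute (zz z (a && y.testBit 0))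
        (p q 1 (y.testBit 1) * (p q 2 (y.testBit 2) * p q 3 (y.testBit 3))) :=
      (hz _ 1 (by norm_num) _).mul_right ((hz _ 2 (by norm_num) _).mul_right (hz _ 3 (by norm_num) _))
    rw [← mul_assoc, e1, mul_assoc _ (zz z _), e3.eq, ← mul_assoc, mul_assoc _ (p q (0 + 4) a), e2.eq]
    simp only [mul_assoc]
  · have e0 : Commute (p q (1 + 4) a) (p q 0 (y.testBit 0)) :=
      pC h (by norm_num) (by norm_num) (by norm_num) _ _
    have e1 := pZ h (i := 1) (by norm_num) a (y.testBit 1)
    have e2 : Commute (p q (1 + 4) a) (p q 2 (y.testBit 2) * p q 3 (y.testBit 3)) :=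
      (pC h (by norm_num) (by norm_num) (by norm_num) _ _).mul_right
          (pC h (by norm_num) (by norm_num) (by norm_num) _ _)
    have e3 : Commute (zz z (a && y.testBit 1)) (p q 2 (y.testBit 2) * p q 3 (y.testBit 3)) :=
      (hz _ 2 (by norm_num) _).mul_right (hz _ 3 (by norm_num) _)
    rw [← mul_assoc, e0.eq, mul_assoc, ← mul_assoc (p q (1 + 4) a), e1, mul_assoc _ (zz z _), e3.eq,
      ← mul_assoc _ _ (zz z _), mul_assoc _ (p q (1 + 4) a), e2.eq]
    simp only [mul_assoc]
  · have e0 : Commute (p q (2 + 4) a) (p q 0 (y.testBit 0)) :=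
      pC h (by norm_num) (by norm_num) (by norm_num) _ _
    have e0' : Commute (p q (2 + 4) a) (p q 1 (y.testBit 1)) :=
      pC h (by norm_num) (by norm_num) (by norm_num) _ _
    have e1 := pZ h (i := 2) (by norm_num) a (y.testBit 2)
    have e2 : Commute (p q (2 + 4) a) (p q 3 (y.testBit 3)) :=
      pC h (by norm_num) (by norm_num) (by norm_num) _ _
    have e3 : Commute (zz z (a && y.testBit 2)) (p q 3 (y.testBit 3)) := hz _ 3 (by norm_num) _
    rw [← mul_assoc, e0.eq, mul_assoc, ← mul_assoc (p q (2 + 4) a), e0'.eq, mul_assoc,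
      ← mul_assoc (p q (2 + 4) a), e1, mul_assoc _ (zz z _), e3.eq,
      ← mul_assoc _ _ (zz z _), mul_assoc _ (p q (2 + 4) a), e2.eq]
    simp only [mul_assoc]
  · have e0 : Commute (p q (3 + 4) a) (p q 0 (y.testBit 0)) :=
      pC h (by norm_num) (by norm_num) (by norm_num) _ _
    have e0' : Commute (p q (3 + 4) a) (p q 1 (y.testBit 1)) :=
      pC h (by norm_num) (by norm_num) (by norm_num) _ _
    have e0'' : Commute (p q (3 + 4) a) (p q 2 (y.testBit 2)) :=
      pC h (by norm_num) (by norm_num) (by norm_num) _ _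
    have e1 := pZ h (i := 3) (by norm_num) a (y.testBit 3)
    rw [← mul_assoc, e0.eq, mul_assoc, ← mul_assoc (p q (3 + 4) a), e0'.eq, mul_assoc,
      ← mul_assoc (p q (3 + 4) a), e0''.eq, mul_assoc, e1]
    simp only [mul_assoc]

theorem evB_evA (h : ES q z) (x y : ℕ) : evB q x * evA q y = evA q y * evB q x * zz z (be x y) := by
  have hz := fun (b : Bool) (j : ℕ) (hj : j < 8) (c : Bool) => zp h (k := j) hj b c
  have h0 := p_evA h (k := 0) (by norm_num) (x.testBit 4) y
  have h1 := p_evA h (k := 1) (by norm_num) (x.testBit 5) y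
  have h2 := p_evA h (k := 2) (by norm_num) (x.testBit 6) y
  have h3 := p_evA h (k := 3) (by norm_num) (x.testBit 7) y
  simp only [Nat.zero_add, show 1 + 4 = 5 from rfl, show 2 + 4 = 6 from rfl, show 3 + 4 = 7 from rfl] at h0 h1 h2 h3
  unfold evB be
  set a := x.testBit 4
  set b := x.testBit 5
  set c := x.testBit 6
  set d := x.testBit 7
  set A := evA q y
  calc p q 4 a * (p q 5 b * (p q 6 c * p q 7 d)) * A
      = p q 4 a * (p q 5 b * (p q 6 c * (p q 7 d * A))) := by simp only [mul_assoc]
    _ = p q 4 a * (p q 5 b * ((p q 6 c * A) * (p q 7 d * zz z (d && y.testBit 3)))) := by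
        rw [h3]; simp only [mul_assoc]
    _ = p q 4 a * ((p q 5 b * A) * (p q 6 c * (zz z (c && y.testBit 2) *
          (p q 7 d * zz z (d && y.testBit 3))))) := by
        rw [h2]; simp only [mul_assoc]
    _ = (p q 4 a * A) * (p q 5 b * (zz z (b && y.testBit 1) * (p q 6 c * (zz z (c && y.testBit 2) *
          (p q 7 d * zz z (d && y.testBit 3)))))) := by
        rw [h1]; simp only [mul_assoc]
    _ = A * (p q 4 a * (zz z (a && y.testBit 0) * (p q 5 b * (zz z (b && y.testBit 1) *
          (p q 6 c * (zz z (c && y.testBit 2) * (p q 7 d * zz z (d && y.testBit 3)))))))) := by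
        rw [h0]; simp only [mul_assoc]
    _ = A * (p q 4 a * (p q 5 b * (p q 6 c * p q 7 d))) * (zz z (a && y.testBit 0) *
          (zz z (b && y.testBit 1) * (zz z (c && y.testBit 2) * zz z (d && y.testBit 3)))) := by
        have c5 := hz (a && y.testBit 0) 5 (by norm_num) b
        have c6 := hz (a && y.testBit 0) 6 (by norm_num) c
        have c7 := hz (a && y.testBit 0) 7 (by norm_num) d
        have d6 := hz (b && y.testBit 1) 6 (by norm_num) c
        have d7 := hz (b && y.testBit 1) 7 (by norm_num) d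
        have e7 := hz (c && y.testBit 2) 7 (by norm_num) d
        set α := zz z (a && y.testBit 0) with hα
        set β := zz z (b && y.testBit 1) with hβ
        set γ := zz z (c && y.testBit 2) with hγ
        set δ := zz z (d && y.testBit 3) with hδ
        have ab : Commute α β := by
          rw [hα, hβ]
          show zz z _ * zz z _ = zz z _ * zz z _
          rw [zz_mul h, zz_mul h, Bool.xor_comm]
        have ac : Commute α γ := by
          rw [hα, hγ]
          show zz z _ * zz z _ = zz z _ * zz z _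
          rw [zz_mul h, zz_mul h, Bool.xor_comm]
        have bc : Commute β γ := by
          rw [hβ, hγ]
          show zz z _ * zz z _ = zz z _ * zz z _
          rw [zz_mul h, zz_mul h, Bool.xor_comm]
        have s1 : γ * (p q 7 d * δ) = p q 7 d * (γ * δ) := by rw [← mul_assoc, e7.eq, mul_assoc]
        have s2 : β * (p q 6 c * (p q 7 d * (γ * δ))) = p q 6 c * (p q 7 d * (β * (γ * δ))) := by
          rw [← mul_assoc, d6.eq, mul_assoc, ← mul_assoc β, d7.eq, mul_assoc]
        have s3 : α * (p q 5 b * (p q 6 c * (p q 7 d * (β * (γ * δ))))) =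
            p q 5 b * (p q 6 c * (p q 7 d * (α * (β * (γ * δ))))) := by
          rw [← mul_assoc, c5.eq, mul_assoc, ← mul_assoc α, c6.eq, mul_assoc, ← mul_assoc α, c7.eq,
            mul_assoc]
        rw [s1, s2, s3]
        simp only [mul_assoc]
    _ = A * (p q 4 a * (p q 5 b * (p q 6 c * p q 7 d))) *
          zz z (((a && y.testBit 0) ^^ (b && y.testBit 1)) ^^ ((c && y.testBit 2) ^^ (d && y.testBit 3))) := by
        rw [← mul_assoc (zz z _) (zz z _), zz_mul h, zz_mul h, zz_mul h]

theorem ev_mul (h : ES q z) (x y : ℕ) : ev q x * ev q y = ev q (x ^^^ y) * zz z (be x y) := by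
  unfold ev
  calc evA q x * evB q x * (evA q y * evB q y)
      = evA q x * (evB q x * evA q y) * evB q y := by simp only [mul_assoc]
    _ = evA q x * (evA q y * evB q x * zz z (be x y)) * evB q y := by rw [evB_evA h]
    _ = (evA q x * evA q y) * (evB q x * (zz z (be x y) * evB q y)) := by simp only [mul_assoc]
    _ = (evA q x * evA q y) * (evB q x * evB q y) * zz z (be x y) := by
        rw [(zz_evB h _ y).eq]; simp only [mul_assoc]
    _ = _ := by rw [evA_mul h, evB_mul h]

/-- `c` is equal to the element with coordinates `x`, up to `z`. -/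
def Is (q : ℕ → K) (z : K) (x : ℕ) (c : K) : Prop := c = ev q x ∨ c = ev q x * z

theorem is_iff {x : ℕ} {c : K} : Is q z x c ↔ ∃ b, c = ev q x * zz z b := by
  constructor
  · rintro (h | h)
    · exact ⟨false, by rw [h]; simp [zz]⟩
    · exact ⟨true, by rw [h]; simp [zz]⟩
  · rintro ⟨b, h⟩
    cases b
    · left; rw [h]; simp [zz]
    · right; rw [h]; simp [zz]

theorem Is.mul (h : ES q z) {x y : ℕ} {c d : K} (hc : Is q z x c) (hd : Is q z y d) :
    Is q z (x ^^^ y) (c * d) := by
  rw [is_iff] at *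
  obtain ⟨a, rfl⟩ := hc
  obtain ⟨b, rfl⟩ := hd
  refine ⟨be x y ^^ (a ^^ b), ?_⟩
  calc ev q x * zz z a * (ev q y * zz z b) = ev q x * (zz z a * ev q y) * zz z b := by
        simp only [mul_assoc]
    _ = (ev q x * ev q y) * (zz z a * zz z b) := by rw [(zz_ev h a y).eq]; simp only [mul_assoc]
    _ = _ := by rw [ev_mul h, zz_mul h, mul_assoc, zz_mul h]

theorem ev_zero : ev q 0 = 1 := by
  simp [ev, evA, evB, p]

theorem is_one : Is q z 0 (1 : K) := Or.inl ev_zero.symm

theorem is_z : Is q z 0 z := Or.inr (by rw [ev_zero, one_mul])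

theorem zz_comm (h : ES q z) (a b : Bool) : Commute (zz z a) (zz z b) := by
  show zz z _ * zz z _ = zz z _ * zz z _
  rw [zz_mul h, zz_mul h, Bool.xor_comm]

/-- The commutator form. -/
def bf (x y : ℕ) : Bool := be x y ^^ be y x

theorem comm_iff (h : ES q z) {x y : ℕ} {c d : K} (hc : Is q z x c) (hd : Is q z y d) :
    c * d = d * c ↔ bf x y = false := by
  rw [is_iff] at hc hd
  obtain ⟨a, rfl⟩ := hc
  obtain ⟨b, rfl⟩ := hd
  have e1 : ∀ (x y : ℕ) (a b : Bool), ev q x * zz z a * (ev q y * zz z b) =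
      ev q (x ^^^ y) * zz z (be x y ^^ (a ^^ b)) := by
    intro x y a b
    calc ev q x * zz z a * (ev q y * zz z b) = ev q x * (zz z a * ev q y) * zz z b := by
          simp only [mul_assoc]
      _ = (ev q x * ev q y) * (zz z a * zz z b) := by rw [(zz_ev h a y).eq]; simp only [mul_assoc]
      _ = _ := by rw [ev_mul h, zz_mul h, mul_assoc, zz_mul h]
  rw [e1, e1, Nat.xor_comm y x, mul_left_cancel_iff]
  have e2 : ∀ u v : Bool, zz z u = zz z v ↔ u = v := by
    intro u v
    have := h.zne
    cases u <;> cases v <;> simp [zz, this, this.symm]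
  rw [e2]
  unfold bf
  cases be x y <;> cases be y x <;> cases a <;> cases b <;> decide

theorem bf_comm (x y : ℕ) : bf x y = bf y x := Bool.xor_comm _ _

theorem comm_z (h : ES q z) {x : ℕ} {c : K} (hc : Is q z x c) : Commute z c := by
  rw [is_iff] at hc
  obtain ⟨b, rfl⟩ := hc
  have h1 := zz_ev h true x
  have h2 := zz_comm h true b
  exact h1.mul_right h2

/-- The squaring form. -/
def qf (x : ℕ) : Bool := be x x

theorem sq_eq (h : ES q z) {x : ℕ} {c : K} (hc : Is q z x c) : c * c = zz z (qf x) := by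
  rw [is_iff] at hc
  obtain ⟨a, rfl⟩ := hc
  calc ev q x * zz z a * (ev q x * zz z a) = ev q x * (zz z a * ev q x) * zz z a := by
        simp only [mul_assoc]
    _ = (ev q x * ev q x) * (zz z a * zz z a) := by rw [(zz_ev h a x).eq]; simp only [mul_assoc]
    _ = _ := by rw [ev_mul h, zz_mul h, Nat.xor_self, ev_zero, one_mul, Bool.xor_self]; exact mul_one _

/-- The linear map with images `r k` of the basis vectors. -/
def vm (r : List ℕ) (x : ℕ) : ℕ :=
  ((if x.testBit 0 then r.getD 0 0 else 0) ^^^ (if x.testBit 1 then r.getD 1 0 else 0)) ^^^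
  ((if x.testBit 2 then r.getD 2 0 else 0) ^^^ (if x.testBit 3 then r.getD 3 0 else 0)) ^^^
  (((if x.testBit 4 then r.getD 4 0 else 0) ^^^ (if x.testBit 5 then r.getD 5 0 else 0)) ^^^
  ((if x.testBit 6 then r.getD 6 0 else 0) ^^^ (if x.testBit 7 then r.getD 7 0 else 0)))

/-- The element `g` acts on the group by the linear map `r`. -/
structure Acts (q : ℕ → K) (z : K) (g : K) (r : List ℕ) : Prop where
  cz : g * z = z * g
  a : ∀ k < 8, Is q z (r.getD k 0) (g * q k * g⁻¹)

theorem Acts.p {g : K} {r : List ℕ} (hg : Acts q z g r) {k : ℕ} (hk : k < 8) (b : Bool) :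
    Is q z (if b then r.getD k 0 else 0) (g * p q k b * g⁻¹) := by
  cases b
  · simp only [ExAlg.p, Bool.false_eq_true, if_false, mul_one, mul_inv_cancel]; exact is_one
  · simp only [ExAlg.p, if_true]; exact hg.a k hk

theorem conj_mul (g a b : K) : g * (a * b) * g⁻¹ = (g * a * g⁻¹) * (g * b * g⁻¹) := by group

theorem Acts.ev (h : ES q z) {g : K} {r : List ℕ} (hg : Acts q z g r) (x : ℕ) :
    Is q z (vm r x) (g * ev q x * g⁻¹) := by
  have P := fun (k : ℕ) (hk : k < 8) => hg.p hk (x.testBit k)
  unfold ExAlg.ev evA evB vm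
  rw [conj_mul, conj_mul g (ExAlg.p q 0 _), conj_mul g (ExAlg.p q 1 _), conj_mul g (ExAlg.p q 2 _),
    conj_mul g (ExAlg.p q 4 _), conj_mul g (ExAlg.p q 5 _), conj_mul g (ExAlg.p q 6 _)]
  have e1 := ((P 0 (by norm_num)).mul h ((P 1 (by norm_num)).mul h ((P 2 (by norm_num)).mul h (P 3 (by norm_num)))))
  have e2 := ((P 4 (by norm_num)).mul h ((P 5 (by norm_num)).mul h ((P 6 (by norm_num)).mul h (P 7 (by norm_num)))))
  have e3 := e1.mul h e2
  simpa only [Nat.xor_assoc] using e3

theorem Acts.is (h : ES q z) {g : K} {r : List ℕ} (hg : Acts q z g r) {x : ℕ} {c : K} (hc : Is q z x c) :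
    Is q z (vm r x) (g * c * g⁻¹) := by
  have h1 := hg.ev h x
  have hz : g * z * g⁻¹ = z := by rw [hg.cz, mul_inv_cancel_right]
  rcases hc with rfl | rfl
  · exact h1
  · rw [conj_mul, hz]
    have := h1.mul h is_z
    simpa using this

end Cfsg.Agent.StdG24.ExAlg
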