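import Cfsg.Agent.StdG24.ExCent
import Cfsg.Agent.CoOneType.ClosingFacts

/-!
Two more properties of the extraspecial group `Q` of `Spor.Co1`: its noncentral elements of square 1 are conjugate to
`z`, and the elements of the centralizer of `z` acting trivially on `Q` modulo `z` are in `Q`.
-/

set_option autoImplicit false

namespace Cfsg.Agent.StdG24.ExFin

open Cfsg Cfsg.Agent.SporadicA Cfsg.Agent.SporadicA.GolayBase Cfsg.Agent.SporadicA.Co0Mono
  Cfsg.Agent.SporadicA.Co1Simple Cfsg.Agent.CoOneType.CoEval Cfsg.Agent.CoOneType.SignFacts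
  Cfsg.Agent.Co2Type.Mono
  Cfsg.Agent.StdG24.ExLetters Cfsg.Agent.StdG24.ExAlg Cfsg.Agent.StdG24.ExOrb Cfsg.Agent.StdG24.ExInst
  Cfsg.Agent.StdG24.ExNorm Cfsg.Agent.StdG24.ExMain Cfsg.Agent.StdG24.ExCent

theorem isConj_q4 : IsConj (qg 4) z := by
  have h1 : qg 4 = pr (signCo0 (cd (cM 0))) := by
    rw [← e4_eq]; rfl
  rw [h1, z_eq]
  exact CoOneType.ClosingFacts.isConj_octad (wt_cM 0) wt_oM

/-- Noncentral elements of square 1 of `Q` are conjugate to `z`. -/
theorem Q2A {q : Spor.Co1} (hq : q ∈ Q) (h2 : q * q = 1) (h1 : q ≠ 1) : IsConj q z := by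
  by_cases hz : q = z
  · rw [hz]
  obtain ⟨x, hx, hxq⟩ := exists_is hq
  have h0 : x ≠ 0 := by
    rintro rfl
    rcases hxq with h | h
    · exact h1 (by rw [h, ev_zero])
    · exact hz (by rw [h, ev_zero, one_mul])
  have hqx := qf_false hxq h2
  obtain ⟨g, hg, h3⟩ := move12 hx hqx h0 hxq
  have i4 : Is qg z 16 (qg 4) := is_q 4 (by norm_num)
  obtain ⟨h, hh, h4⟩ := move12 (x := 16) (by norm_num) (by decide) (by decide) i4
  obtain ⟨b, h5⟩ := h4.eq_or es h3
  have h6 : IsConj q (g⁻¹ * q * g) := isConj_iff.2 ⟨g⁻¹, by rw [inv_inv]⟩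
  rw [h5] at h6
  have h7 : h * (h⁻¹ * qg 4 * h * ExAlg.zz z b) * h⁻¹ = qg 4 * ExAlg.zz z b := by
    have hze : h * ExAlg.zz z b * h⁻¹ = ExAlg.zz z b := by
      cases b
      · simp [ExAlg.zz]
      · show h * z * h⁻¹ = z
        rw [hh, mul_inv_cancel_right]
    calc h * (h⁻¹ * qg 4 * h * ExAlg.zz z b) * h⁻¹ = qg 4 * (h * ExAlg.zz z b * h⁻¹) := by group
      _ = _ := by rw [hze]
  have h8 : IsConj q (qg 4 * ExAlg.zz z b) := h6.trans (isConj_iff.2 ⟨h, h7⟩)
  have h9 : IsConj (qg 4 * ExAlg.zz z b) (qg 4) := by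
    cases b
    · have : qg 4 * ExAlg.zz z false = qg 4 := by simp [ExAlg.zz]
      rw [this]
    · obtain ⟨p, hp, hpne⟩ := ExCent.ext (q := qg 4) (mem_of_is (by norm_num) i4) (by
          intro h
          have := is_unique es (show 16 < 256 by norm_num) (show 0 < 256 by norm_num) i4 (by rw [h]; exact is_one)
          exact absurd this (by decide)) (by
          intro h
          have := is_unique es (show 16 < 256 by norm_num) (show 0 < 256 by norm_num) i4 (by rw [h]; exact is_z)
          exact absurd this (by decide))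
      rcases ExCent.comm hp (mem_of_is (by norm_num) i4) with h10 | h10
      · exact absurd h10 hpne
      · apply IsConj.symm
        refine isConj_iff.2 ⟨p, ?_⟩
        show p * qg 4 * p⁻¹ = qg 4 * z
        rw [h10, ← mul_assoc, mul_inv_cancel_right]
        exact (Q_comm_z (mem_of_is (by norm_num) i4)).symm
  exact (h8.trans h9).trans isConj_q4

/-! ### elements acting trivially modulo `z` -/

theorem comm_p {h : Spor.Co1} (hc : ∀ k < 8, Commute h (qg k)) {k : ℕ} (hk : k < 8) (b : Bool) :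
    Commute h (ExAlg.p qg k b) := by
  cases b
  · exact Commute.one_right h
  · exact hc k hk

theorem comm_all {h : Spor.Co1} (hz : h * z = z * h) (hc : ∀ k < 8, Commute h (qg k)) {c : Spor.Co1}
    (hcQ : c ∈ Q) : h * c = c * h := by
  obtain ⟨x, -, hx⟩ := exists_is hcQ
  have h1 : Commute h (ev qg x) := by
    unfold ExAlg.ev evA evB
    exact ((comm_p hc (by norm_num) _).mul_right ((comm_p hc (by norm_num) _).mul_right
      ((comm_p hc (by norm_num) _).mul_right (comm_p hc (by norm_num) _)))).mul_right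
      ((comm_p hc (by norm_num) _).mul_right ((comm_p hc (by norm_num) _).mul_right
      ((comm_p hc (by norm_num) _).mul_right (comm_p hc (by norm_num) _))))
  exact comm_of_is hz (is_ev x) hx h1.eq

/-- Partner index. -/
def par (j : ℕ) : ℕ := if j < 4 then j + 4 else j - 4

/-- Elements of the centralizer of `z` acting trivially on `Q` modulo `z` are in `Q`. -/
theorem CV {k : Spor.Co1} (hk : k * z = z * k) (h : ∀ q ∈ Q, k * q * k⁻¹ = q ∨ k * q * k⁻¹ = q * z) :
    k ∈ Q := by
  classical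
  set x : ℕ := Nat.ofBits fun j : Fin 8 => decide (k * qg (par j) * k⁻¹ ≠ qg (par j)) with hx
  have hx256 : x < 256 := Nat.ofBits_lt_two_pow _
  have hbit : ∀ i < 8, bf x (2 ^ i) = decide (k * qg i * k⁻¹ ≠ qg i) := by
    intro i hi
    rw [bf_two_pow _ _ hi]
    have hp : (if i < 4 then i + 4 else i - 4) < 8 := by split_ifs <;> omega
    rw [hx, Nat.testBit_ofBits_lt _ _ hp]
    have hpar : par (if i < 4 then i + 4 else i - 4) = i := by
      unfold par
      interval_cases i <;> rfl
    simp only [hpar]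
  have hq := ev_mem hx256
  have h1 : k * (ev qg x)⁻¹ * z = z * (k * (ev qg x)⁻¹) :=
    mul_comm_z hk (Q_comm_z (inv_mem hq))
  have h2 : ∀ i < 8, Commute (k * (ev qg x)⁻¹) (qg i) := by
    intro i hi
    have hi2 : 2 ^ i < 256 := by interval_cases i <;> norm_num
    have hqi : qg i ∈ Q := mem_of_is hi2 (is_q i hi)
    have hzq : z * qg i = qg i * z := (Q_comm_z hqi).symm
    -- action of `ev x`
    have h3 : (ev qg x)⁻¹ * qg i * ev qg x = if k * qg i * k⁻¹ ≠ qg i then qg i * z else qg i := by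
      have h4 := comm_iff es (is_ev x) (is_q (q := qg) (z := z) i hi)
      rw [hbit i hi] at h4
      by_cases h5 : k * qg i * k⁻¹ ≠ qg i
      · rw [if_pos h5]
        rw [decide_eq_true h5] at h4
        have h6 : ¬ (ev qg x * qg i = qg i * ev qg x) := by
          intro h; exact absurd (h4.1 h) (by decide)
        rcases ExCent.comm hqi hq with h7 | h7
        · exact absurd h7.symm h6
        · rw [mul_assoc, h7, ← hzq]
          have h8 : (ev qg x)⁻¹ * z = z * (ev qg x)⁻¹ := Q_comm_z (inv_mem hq)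
          rw [← mul_assoc, h8, mul_assoc, inv_mul_cancel_left]
      · rw [if_neg h5]
        rw [decide_eq_false h5] at h4
        have h6 := h4.2 rfl
        rw [mul_assoc, ← h6, inv_mul_cancel_left]
    have h4 : k * (ev qg x)⁻¹ * qg i * (k * (ev qg x)⁻¹)⁻¹ = qg i := by
      have h5 : k * (ev qg x)⁻¹ * qg i * (k * (ev qg x)⁻¹)⁻¹ =
        k * ((ev qg x)⁻¹ * qg i * ev qg x) * k⁻¹ := by group
      rw [h5, h3]
      by_cases h6 : k * qg i * k⁻¹ ≠ qg i
      · rw [if_pos h6]
        have h7 := (h (qg i) hqi).resolve_left h6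
        have h8 : k * (qg i * z) * k⁻¹ = (k * qg i * k⁻¹) * (k * z * k⁻¹) := by group
        have h9 : k * z * k⁻¹ = z := by rw [hk, mul_inv_cancel_right]
        rw [h8, h7, h9, mul_assoc, z2, mul_one]
      · rw [if_neg h6]
        exact not_not.1 h6
    show k * (ev qg x)⁻¹ * qg i = qg i * (k * (ev qg x)⁻¹)
    rwa [mul_inv_eq_iff_eq_mul] at h4
  have h3 : k * (ev qg x)⁻¹ ∈ Q := by
    rcases CQ fun q hq => comm_all h1 h2 hq with h4 | h4
    · rw [h4]; exact one_mem Q
    · rw [h4]; exact z_mem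
  have h4 : k * (ev qg x)⁻¹ * ev qg x ∈ Q := mul_mem h3 hq
  rwa [inv_mul_cancel_right] at h4

/-- `F1c` for one element. -/
theorem F1 {q : Spor.Co1} (hq : q ∈ Q) (h2 : q * q = 1) :
    ∃ v : Spor.Co1, Root v ∧ v * z = z * v ∧ v * q = q * v := by
  obtain ⟨v, h3, h4, h5, -⟩ := F1c hq (one_mem Q) h2 (by simp) (by simp)
  exact ⟨v, h3, h4, h5⟩

/-- Two independent commuting elements of square `z`. -/
theorem ab : ∃ a ∈ Q, ∃ b ∈ Q, a * a = z ∧ b * b = z ∧ a * b = b * a ∧ b ≠ a ∧ b ≠ a * z := by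
  have hne : ∀ t : Bool, ev qg 35 ≠ ev qg 19 * ExAlg.zz z t := by
    intro t h
    have := is_unique es (show 35 < 256 by norm_num) (show 19 < 256 by norm_num) (is_ev 35)
      (by rw [h]; exact (is_ev 19).z_mul es t)
    exact absurd this (by decide)
  refine ⟨ev qg 19, ev_mem (by norm_num), ev qg 35, ev_mem (by norm_num), ?_, ?_, ?_, ?_, ?_⟩
  · rw [sq_eq es (is_ev 19)]; rfl
  · rw [sq_eq es (is_ev 35)]; rfl
  · exact (comm_iff es (is_ev 19) (is_ev 35)).2 (by decide)
  · intro h
    apply hne false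
    rw [h]; simp [ExAlg.zz]
  · exact hne true

end Cfsg.Agent.StdG24.ExFin
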