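import Cfsg.Agent.StdG24.ExOrb

/-!
More kernel facts on the orthogonal space of dimension eight: pairs of orthogonal singular vectors, and two existence
statements used in the subspace lemma.
-/

set_option autoImplicit false

namespace Cfsg.Agent.StdG24.ExOrb

open Cfsg.Agent.StdG24.ExAlg

/-- Images of the basis vectors under four letters. -/
def R4 : ℕ → List ℕ
  | 0 => [207, 60, 82, 185, 208, 144, 240, 192]
  | 1 => [231, 164, 93, 159, 144, 80, 48, 176]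
  | 2 => [1, 2, 4, 8, 18, 41, 64, 130]
  | _ => [33, 146, 4, 40, 16, 32, 64, 128]

/-- Action of a word in four letters. -/
def app4 (w : List ℕ) (x : ℕ) : ℕ := w.foldr (fun i y => vm (R4 i) y) x

/-- Words fixing `12` and moving `48` to the singular vectors orthogonal to `12`. -/
def tabV : List (List ℕ) :=
  [[], [3, 0, 0, 3, 1, 2, 1, 3, 2], [3, 1, 2, 1, 1, 1, 2, 1], [0, 0, 0, 2, 3, 0, 2, 3], [1, 1, 1, 2,
  3], [3, 1, 3, 2, 1, 1, 2, 3, 1], [0, 3, 2, 0, 2, 3, 0, 0, 3, 1], [0, 0, 0, 2, 1, 1, 1], [3, 0, 3, 1,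
  1, 2, 0, 2, 0], [3, 1, 3, 0, 2, 0, 2, 3, 2, 1], [0, 2, 1, 2, 0, 0, 3, 1], [1, 3, 0, 2, 0, 0, 0], [],
  [3, 0, 2, 1, 2, 0, 0, 0], [0, 3, 1, 1, 2, 0, 2, 1, 2], [1, 2, 0, 3, 2, 1, 2, 0], [1, 1, 1, 2, 3, 2],
  [], [2, 1, 1, 1, 2, 3, 2], [], [0, 0, 3, 0, 0, 2, 3], [], [2, 0, 0, 3, 0, 0, 2, 3], [], [3, 2, 1, 2,
  3, 0, 2, 3], [], [0, 0, 3, 0, 2, 0, 2, 3, 2], [], [1, 2, 1, 2, 3, 0, 0, 3, 1], [], [0, 0, 2, 0, 0,
  3, 0, 3, 0], [], [0, 2, 3, 2, 1], [2, 3, 2, 1, 2, 1, 1, 1], [], [], [3, 1, 3, 1, 1, 2, 3], [2, 3, 0,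
  2, 1, 3], [], [], [3, 2, 1, 2, 1, 1, 1], [2, 0, 2, 3, 2, 1], [], [], [3, 0, 2, 1, 3], [2, 3, 1, 3,
  1, 1, 2, 3], [], [], [], [], [], [1, 2, 3, 2, 0, 2], [0, 0, 0, 3, 0, 2, 3], [], [], [3, 0, 3, 2, 3,
  1, 3, 2], [2, 1, 2, 3, 2, 0, 2], [], [], [2], [3, 0, 3, 2, 3, 1, 3], [], [], [1, 2, 1, 3, 0, 2, 0,
  2], [], [], [], [], [], [], [], [], [], [], [], [], [], [], [], [], [], [], [], [], [], [], [], [],
  [], [], [], [], [], [], [], [], [], [], [], [], [], [], [], [], [], [], [], [], [], [], [], [], [],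
  [], [], [], [], [], [], [], [], [], [], [], [], [], [], [], [], [], [], [], [], [], [], [], [], [],
  [], [], [], [], [], [], [], [], [], [], [], [], [], [], [], [], [], [], [], [], [], [], [], [], [],
  [], [], [], [], [], [], [], [], [], [], [], [], [], [], [], [], [], [], [], [], [], [], [], [], [],
  [], [], [], [], [2, 0, 3, 1, 1, 2, 0, 2, 1], [3, 0, 2, 1, 3, 2], [0, 3, 1, 1, 2, 0, 2, 1], [2, 3, 0,
  2, 1, 3, 2], [], [], [], [], [], [], [], [], [2, 3, 2, 1, 2, 1, 3, 1, 1, 2], [0, 2, 3, 2, 1, 2], [3,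
  2, 1, 2, 1, 3, 1, 1, 2], [3, 2, 0, 0, 0, 2], [3, 2, 1, 1, 1, 2, 3, 2, 1], [], [1, 3, 2, 0, 0, 3, 0,
  0, 2, 1], [], [], [1, 2, 1, 1, 2, 3, 1, 2], [], [0, 0, 3, 0, 2, 1, 1, 1], [], [1, 2, 3, 1, 3, 1, 2,
  3, 1, 2], [], [3, 1, 3, 0, 2], [0, 0, 0, 2, 1, 3, 1, 1, 2], [], [1, 3, 2, 1, 1, 1, 3, 2, 1], [], [2,
  3, 2, 0, 0, 0], [2, 0, 3, 2, 0, 0, 2, 0], [], [], [], [], [3, 2, 0, 0, 3, 0, 3, 2], [3, 1, 3, 1, 1,
  1, 2, 1, 1, 1], [], [], [0, 3, 2, 0, 0, 2, 0], [3, 2, 0, 0, 0], [0, 2, 1, 1, 2, 0, 0, 2, 1], [1, 2,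
  1, 1, 3, 2, 3, 1, 2], [], [], [0, 2, 1, 2, 3, 2, 0, 2, 0], [], [], [3, 1, 3, 2, 3, 2, 0, 2], [], [1,
  2, 3, 1, 1, 2, 3, 1, 2], [0, 2, 0, 0, 0, 2, 3, 0], [], [], [1, 2, 1, 3, 1, 2, 3, 1, 2], [0, 3, 1, 1,
  2, 3, 0, 2, 1], [], [0, 2, 1, 1, 2, 0, 0, 3, 2, 1], [], [], [2, 0, 2, 0, 0, 0, 2, 3, 0]]

theorem chkV : (List.range 256).all (fun y => qf y || bf 12 y || Nat.beq y 12 || Nat.beq y 0 ||
    (Nat.beq (app4 (tabV.getD y []) 12) 12 && Nat.beq (app4 (tabV.getD y []) 48) y)) = true := by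
  decide +kernel

namespace Fast

theorem be_l (x y w : ℕ) : be (x ^^^ y) w = (be x w ^^ be y w) := by
  unfold be
  simp only [Nat.testBit_xor]
  generalize x.testBit 4 = a1; generalize x.testBit 5 = a2; generalize x.testBit 6 = a3
  generalize x.testBit 7 = a4; generalize y.testBit 4 = b1; generalize y.testBit 5 = b2
  generalize y.testBit 6 = b3; generalize y.testBit 7 = b4; generalize w.testBit 0 = c1
  generalize w.testBit 1 = c2; generalize w.testBit 2 = c3; generalize w.testBit 3 = c4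
  cases c1 <;> cases c2 <;> cases c3 <;> cases c4 <;> simp [Bool.xor_left_comm, Bool.xor_comm]

theorem be_r (x y w : ℕ) : be w (x ^^^ y) = (be w x ^^ be w y) := by
  unfold be
  simp only [Nat.testBit_xor]
  generalize x.testBit 0 = a1; generalize x.testBit 1 = a2; generalize x.testBit 2 = a3
  generalize x.testBit 3 = a4; generalize y.testBit 0 = b1; generalize y.testBit 1 = b2
  generalize y.testBit 2 = b3; generalize y.testBit 3 = b4; generalize w.testBit 4 = c1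
  generalize w.testBit 5 = c2; generalize w.testBit 6 = c3; generalize w.testBit 7 = c4
  cases c1 <;> cases c2 <;> cases c3 <;> cases c4 <;> simp [Bool.xor_left_comm, Bool.xor_comm]

theorem bf_l (x y w : ℕ) : bf (x ^^^ y) w = (bf x w ^^ bf y w) := by
  unfold bf
  rw [be_l, be_r]
  cases be x w <;> cases be y w <;> cases be w x <;> cases be w y <;> rfl

theorem bf_r (x y w : ℕ) : bf w (x ^^^ y) = (bf w x ^^ bf w y) := by
  rw [bf_comm, bf_l, bf_comm x, bf_comm y]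

theorem qf_x (x y : ℕ) : qf (x ^^^ y) = ((qf x ^^ qf y) ^^ bf x y) := by
  unfold qf bf
  rw [be_l, be_r, be_r]
  cases be x x <;> cases be x y <;> cases be y x <;> cases be y y <;> rfl

theorem bf_s (x : ℕ) : bf x x = false := by
  unfold bf; cases be x x <;> rfl

theorem xl {x y : ℕ} (hx : x < 256) (hy : y < 256) : x ^^^ y < 256 :=
  Nat.xor_lt_two_pow (n := 8) hx hy

theorem nd0 : (List.range 256).all (fun a => Nat.beq a 0 || (List.range 8).any fun i => bf (2 ^ i) a) = true := by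
  decide +kernel

theorem nd {a : ℕ} (ha : a < 256) (ha0 : a ≠ 0) : ∃ x < 256, bf x a = true := by
  have h1 := List.all_eq_true.1 nd0 a (List.mem_range.2 ha)
  have h0 : Nat.beq a 0 = false := by
    cases h : Nat.beq a 0
    · rfl
    · exact absurd (Nat.eq_of_beq_eq_true h) ha0
  rw [h0, Bool.false_or, List.any_eq_true] at h1
  obtain ⟨i, hi, h2⟩ := h1
  exact ⟨2 ^ i, Nat.pow_lt_pow_right (by norm_num) (List.mem_range.1 hi), h2⟩

theorem sep {a b : ℕ} (ha : a < 256) (hb : b < 256) (ha0 : a ≠ 0) (hab : a ≠ b) :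
    ∃ x < 256, bf x a = true ∧ bf x b = false := by
  obtain ⟨x, hx, h1⟩ := nd ha ha0
  have hne : a ^^^ b ≠ 0 := fun h => hab (Nat.xor_eq_zero_iff.1 h)
  obtain ⟨y, hy, h2⟩ := nd (xl ha hb) hne
  rw [bf_r] at h2
  cases hxb : bf x b
  · exact ⟨x, hx, h1, hxb⟩
  cases hya : bf y a
  · rw [hya] at h2
    have h3 : bf y b = true := by simpa using h2
    exact ⟨x ^^^ y, xl hx hy, by rw [bf_l, h1, hya]; rfl, by rw [bf_l, hxb, h3]; rfl⟩
  · rw [hya] at h2
    have h3 : bf y b = false := by simpa using h2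
    exact ⟨y, hy, hya, h3⟩

theorem sep3 {y s h : ℕ} (hy : y < 256) (hs : s < 256) (hh : h < 256) (h0 : y ≠ 0) (h1 : y ≠ s) (h2 : y ≠ h)
    (h3 : y ≠ s ^^^ h) : ∃ x < 256, bf x y = true ∧ bf x s = false ∧ bf x h = false := by
  obtain ⟨u, hu, u1, u2⟩ := sep hy hs h0 h1
  cases u3 : bf u h
  · exact ⟨u, hu, u1, u2, u3⟩
  obtain ⟨v, hv, v1, v3⟩ := sep hy hh h0 h2
  cases v2 : bf v s
  · exact ⟨v, hv, v1, v2, v3⟩
  obtain ⟨w, hw, w1, w4⟩ := sep hy (xl hs hh) h0 h3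
  rw [bf_r] at w4
  cases w2 : bf w s
  · rw [w2] at w4
    exact ⟨w, hw, w1, w2, by simpa using w4⟩
  · rw [w2] at w4
    have w3 : bf w h = true := by simpa using w4
    refine ⟨(u ^^^ v) ^^^ w, xl (xl hu hv) hw, ?_, ?_, ?_⟩
    · rw [bf_l, bf_l, u1, v1, w1]; rfl
    · rw [bf_l, bf_l, u2, v2, w2]; rfl
    · rw [bf_l, bf_l, u3, v3, w3]; rfl

/-- `x` if `b`, otherwise zero. -/
def sl (b : Bool) (x : ℕ) : ℕ := if b then x else 0

theorem sl_lt {b : Bool} {x : ℕ} (hx : x < 256) : sl b x < 256 := by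
  cases b
  · show 0 < 256; norm_num
  · exact hx

theorem bf_sl (b : Bool) (x y : ℕ) : bf (sl b x) y = (b && bf x y) := by
  cases b
  · show bf 0 y = false
    unfold bf be; simp
  · rfl

theorem exists_out (a b c d : ℕ) : ∃ x < 256, ∀ i j k l : Bool,
    x ≠ (sl i a ^^^ sl j b) ^^^ (sl k c ^^^ sl l d) := by
  classical
  by_contra hcon
  push Not at hcon
  have hsub : Finset.range 256 ⊆ (Finset.univ : Finset (Bool × Bool × Bool × Bool)).image
      (fun t => (sl t.1 a ^^^ sl t.2.1 b) ^^^ (sl t.2.2.1 c ^^^ sl t.2.2.2 d)) := by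
    intro x hx
    obtain ⟨i, j, k, l, h⟩ := hcon x (Finset.mem_range.1 hx)
    exact Finset.mem_image.2 ⟨(i, j, k, l), Finset.mem_univ _, h.symm⟩
  have h1 := (Finset.card_le_card hsub).trans Finset.card_image_le
  rw [Finset.card_range, Finset.card_univ] at h1
  exact absurd h1 (by decide)

theorem main {s h : ℕ} (hs : s < 256) (hh : h < 256) (_qs : qf s = false) (s0 : s ≠ 0) (h0 : h ≠ 0) (hhs : h ≠ s)
    (hsh : bf s h = false) : ∃ a < 256, qf a = true ∧ bf a h = true ∧ bf a s = false := by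
  obtain ⟨a, ha, a1, a2⟩ := sep hh hs h0 hhs
  cases qa : qf a
  swap
  · exact ⟨a, ha, qa, a1, a2⟩
  cases qh : qf h
  · exact ⟨a ^^^ h, xl ha hh, by rw [qf_x, qa, qh, a1]; rfl, by rw [bf_l, a1, bf_s]; rfl,
      by rw [bf_l, a2, bf_comm h s, hsh]; rfl⟩
  obtain ⟨t, ht, t1, t2⟩ := sep hs hh s0 hhs.symm
  have key : ∀ y < 256, bf y s = false → bf y h = false → (qf y ^^ bf a y) = true →
      ∃ a < 256, qf a = true ∧ bf a h = true ∧ bf a s = false := by
    intro y hy y1 y2 y3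
    refine ⟨a ^^^ y, xl ha hy, ?_, by rw [bf_l, a1, y2]; rfl, by rw [bf_l, a2, y1]; rfl⟩
    rw [qf_x, qa, Bool.false_xor]; exact y3
  obtain ⟨x, hx, hout⟩ := exists_out s h t a
  obtain ⟨y, hydef⟩ : ∃ y, y = x ^^^ (sl (bf x s) t ^^^ sl (bf x h) a) := ⟨_, rfl⟩
  have hy : y < 256 := by rw [hydef]; exact xl hx (xl (sl_lt ht) (sl_lt ha))
  have y1 : bf y s = false := by
    rw [hydef, bf_l, bf_l, bf_sl, bf_sl, t1, a2]; cases bf x s <;> cases bf x h <;> rfl
  have y2 : bf y h = false := by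
    rw [hydef, bf_l, bf_l, bf_sl, bf_sl, t2, a1]; cases bf x s <;> cases bf x h <;> rfl
  have hne : ∀ i j : Bool, y ≠ sl i s ^^^ sl j h := by
    intro i j hij
    apply hout i j (bf x s) (bf x h)
    rw [← hij, hydef, Nat.xor_assoc, Nat.xor_self, Nat.xor_zero]
  have n0 : y ≠ 0 := fun hc => hne false false (by rw [hc]; exact (Nat.xor_zero _).symm)
  have n1 : y ≠ s := fun hc => hne true false (by rw [hc]; exact (Nat.xor_zero _).symm)
  have n2 : y ≠ h := fun hc => hne false true (by rw [hc]; exact (Nat.zero_xor _).symm)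
  obtain ⟨w, hw, w1, w2, w3⟩ := sep3 hy hs hh n0 n1 n2 (hne true true)
  cases c1 : (qf y ^^ bf a y)
  swap
  · exact key y hy y1 y2 c1
  cases c2 : (qf w ^^ bf a w)
  swap
  · exact key w hw w2 w3 c2
  refine key (w ^^^ y) (xl hw hy) (by rw [bf_l, w2, y1]; rfl) (by rw [bf_l, w3, y2]; rfl) ?_
  rw [qf_x, bf_r, w1]
  revert c1 c2
  cases qf y <;> cases bf a y <;> cases qf w <;> cases bf a w <;> decide

end Fast

/-- For `s` singular and `h` orthogonal to `s`, not in `{0, s}`: a nonsingular vector orthogonal to `s`, not to `h`. -/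
theorem chkA : (List.range 256).all (fun s => qf s || Nat.beq s 0 || (List.range 256).all fun h =>
    Nat.beq h 0 || Nat.beq h s || bf s h || (List.range 256).any fun a => qf a && bf a h && !(bf a s)) = true := by
  refine List.all_eq_true.2 fun s hs => ?_
  cases h1 : qf s
  swap
  · rfl
  cases h2 : Nat.beq s 0
  swap
  · rfl
  rw [Bool.false_or, Bool.false_or]
  refine List.all_eq_true.2 fun h hh => ?_
  cases h3 : Nat.beq h 0
  swap
  · rfl
  cases h4 : Nat.beq h s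
  swap
  · rfl
  cases h5 : bf s h
  swap
  · rfl
  rw [Bool.false_or, Bool.false_or, Bool.false_or, List.any_eq_true]
  obtain ⟨a, ha, a1, a2, a3⟩ := Fast.main (List.mem_range.1 hs) (List.mem_range.1 hh) h1
    (Nat.ne_of_beq_eq_false h2) (Nat.ne_of_beq_eq_false h3) (Nat.ne_of_beq_eq_false h4) h5
  exact ⟨a, List.mem_range.2 ha, by rw [a1, a2, a3]; rfl⟩

/-- For different nonzero `a`, `b` a vector orthogonal to `b`, not to `a`. -/
theorem chkB : (List.range 256).all (fun a => Nat.beq a 0 || (List.range 256).all fun b =>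
    Nat.beq b a || (List.range 256).any fun x => bf x a && !(bf x b)) = true := by
  refine List.all_eq_true.2 fun a ha => ?_
  cases h2 : Nat.beq a 0
  swap
  · rfl
  rw [Bool.false_or]
  refine List.all_eq_true.2 fun b hb => ?_
  cases h3 : Nat.beq b a
  swap
  · rfl
  rw [Bool.false_or, List.any_eq_true]
  obtain ⟨x, hx, x1, x2⟩ := Fast.sep (List.mem_range.1 ha) (List.mem_range.1 hb)
    (Nat.ne_of_beq_eq_false h2) (fun hc => Nat.ne_of_beq_eq_false h3 hc.symm)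
  exact ⟨x, List.mem_range.2 hx, by rw [x1, x2]; rfl⟩

end Cfsg.Agent.StdG24.ExOrb
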