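import Cfsg.Agent.StdG24.ExLetters
import Cfsg.Agent.StdG24.ExOrb2

/-!
The extraspecial group `Q` of order `2 ^ 9` in `Spor.Co1`, in coordinates; action of the letters on it.
-/

set_option autoImplicit false

namespace Cfsg.Agent.StdG24.ExAlg

variable {K : Type*} [Group K] {q : ℕ → K} {z : K}

theorem word_comm {g : ℕ → K} (hg : ∀ i, g i * z = z * g i) (w : List ℕ) :
    (w.map g).prod * z = z * (w.map g).prod := by
  induction w with
  | nil => simp
  | cons i w ih =>
    rw [List.map_cons, List.prod_cons, mul_assoc, ih, ← mul_assoc, hg i, mul_assoc]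

theorem word_is (h : ES q z) {g : ℕ → K} {r : ℕ → List ℕ} (hg : ∀ i, Acts q z (g i) (r i)) (w : List ℕ)
    {x : ℕ} {c : K} (hc : Is q z x c) :
    Is q z (w.foldr (fun i y => vm (r i) y) x) ((w.map g).prod * c * ((w.map g).prod)⁻¹) := by
  induction w with
  | nil => simpa using hc
  | cons i w ih =>
    rw [List.map_cons, List.prod_cons, List.foldr_cons]
    have h1 := (hg i).is h ih
    rwa [show g i * (w.map g).prod * c * (g i * (w.map g).prod)⁻¹ =
      g i * ((w.map g).prod * c * ((w.map g).prod)⁻¹) * (g i)⁻¹ by group]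

theorem ev_two_pow (k : ℕ) (hk : k < 8) : ev q (2 ^ k) = q k := by
  interval_cases k <;> simp [ev, evA, evB, p, Nat.testBit]

theorem is_q (k : ℕ) (hk : k < 8) : Is q z (2 ^ k) (q k) := Or.inl (ev_two_pow k hk).symm

/-- The partner bit. -/
theorem bf_two_pow (x k : ℕ) (hk : k < 8) : bf x (2 ^ k) = x.testBit (if k < 4 then k + 4 else k - 4) := by
  interval_cases k <;> simp [bf, be, Nat.testBit]

theorem eq_of_bf {x y : ℕ} (hx : x < 256) (hy : y < 256) (h : ∀ k < 8, bf x (2 ^ k) = bf y (2 ^ k)) :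
    x = y := by
  apply Nat.eq_of_testBit_eq
  intro i
  by_cases hi : i < 8
  · by_cases h4 : i < 4
    · have h1 := h (i + 4) (by omega)
      rw [bf_two_pow _ _ (by omega), bf_two_pow _ _ (by omega), if_neg (by omega)] at h1
      simpa using h1
    · have h1 := h (i - 4) (by omega)
      rw [bf_two_pow _ _ (by omega), bf_two_pow _ _ (by omega), if_pos (by omega)] at h1
      rwa [show i - 4 + 4 = i by omega] at h1
  · have h2 : 2 ^ 8 ≤ 2 ^ i := Nat.pow_le_pow_right (by norm_num) (by omega)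
    rw [Nat.testBit_lt_two_pow (by omega), Nat.testBit_lt_two_pow (by omega)]

theorem is_unique (h : ES q z) {x y : ℕ} (hx : x < 256) (hy : y < 256) {c : K} (h1 : Is q z x c)
    (h2 : Is q z y c) : x = y := by
  apply eq_of_bf hx hy
  intro k hk
  have e1 := comm_iff h h1 (is_q (q := q) (z := z) k hk)
  have e2 := comm_iff h h2 (is_q (q := q) (z := z) k hk)
  rw [e1] at e2
  cases h3 : bf x (2 ^ k) <;> cases h4 : bf y (2 ^ k) <;> simp_all

theorem xor_lt {x y : ℕ} (hx : x < 256) (hy : y < 256) : x ^^^ y < 256 :=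
  Nat.xor_lt_two_pow (n := 8) hx hy

theorem Is.z_mul (h : ES q z) {x : ℕ} {c : K} (hc : Is q z x c) (b : Bool) : Is q z x (c * ExAlg.zz z b) := by
  rw [is_iff] at *
  obtain ⟨a, rfl⟩ := hc
  exact ⟨a ^^ b, by rw [mul_assoc, zz_mul h]⟩

theorem Is.eq_or (h : ES q z) {x : ℕ} {c d : K} (hc : Is q z x c) (hd : Is q z x d) :
    ∃ b, d = c * ExAlg.zz z b := by
  rw [is_iff] at *
  obtain ⟨a, rfl⟩ := hc
  obtain ⟨b, rfl⟩ := hd
  exact ⟨a ^^ b, by rw [mul_assoc, zz_mul h, ← Bool.xor_assoc, Bool.xor_self, Bool.false_xor]⟩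

/-- The extraspecial group. -/
def QS (h : ES q z) : Subgroup K where
  carrier := {c | ∃ x < 256, Is q z x c}
  one_mem' := ⟨0, by norm_num, is_one⟩
  mul_mem' := by
    rintro a b ⟨x, hx, ha⟩ ⟨y, hy, hb⟩
    exact ⟨x ^^^ y, xor_lt hx hy, ha.mul h hb⟩
  inv_mem' := by
    rintro a ⟨x, hx, ha⟩
    refine ⟨x, hx, ?_⟩
    have h1 := sq_eq h ha
    have h2 : a⁻¹ = a * ExAlg.zz z (qf x) := by
      rw [inv_eq_iff_mul_eq_one, ← mul_assoc, h1, zz_mul h, Bool.xor_self]
      rfl
    rw [h2]
    exact ha.z_mul h _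

theorem mem_QS (h : ES q z) {c : K} : c ∈ QS h ↔ ∃ x < 256, Is q z x c := Iff.rfl

theorem card_QS (h : ES q z) : Nat.card (QS h) = 512 := by
  have e : Fin 256 × Bool ≃ QS h := by
    refine Equiv.ofBijective (fun v => ⟨ev q v.1 * ExAlg.zz z v.2, v.1, v.1.2, is_iff.2 ⟨v.2, rfl⟩⟩) ⟨?_, ?_⟩
    · rintro ⟨x, a⟩ ⟨y, b⟩ hxy
      have h1 : ev q (x : ℕ) * ExAlg.zz z a = ev q (y : ℕ) * ExAlg.zz z b := congrArg Subtype.val hxy
      have h2 : (x : ℕ) = y := is_unique h x.2 y.2 (is_iff.2 ⟨a, rfl⟩) (is_iff.2 ⟨b, h1⟩)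
      have h3 : x = y := Fin.ext h2
      subst h3
      have h4 := mul_left_cancel h1
      have h5 : a = b := by
        have := h.zne
        cases a <;> cases b <;> simp_all [ExAlg.zz]
      rw [h5]
    · rintro ⟨c, x, hx, hc⟩
      obtain ⟨b, hb⟩ := is_iff.1 hc
      exact ⟨(⟨x, hx⟩, b), Subtype.ext hb.symm⟩
  rw [← Nat.card_congr e, Nat.card_prod, Nat.card_eq_fintype_card, Fintype.card_fin,
    Nat.card_eq_fintype_card, Fintype.card_bool]

end Cfsg.Agent.StdG24.ExAlg

namespace Cfsg.Agent.StdG24.ExInst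

open Cfsg Cfsg.Agent.SporadicA Cfsg.Agent.CoOneType.CoEval Cfsg.Agent.StdG24.ExLetters
  Cfsg.Agent.StdG24.ExAlg Cfsg.Agent.StdG24.ExOrb

/-- Value of a word. -/
abbrev val (w : List ℕ) : Spor.Co1 := (w.map fun i => pr (e i)).prod

theorem rel {u v : List ℕ} (h : sameB M u v = true) : val u = val v := eq_of_sameB hM h

theorem w0 : val [] = 1 := rfl

theorem w1 (a : ℕ) : val [a] = pr (e a) := by
  unfold val; rw [List.map_cons, List.map_nil, List.prod_cons, List.prod_nil, mul_one]

theorem w2 (a b : ℕ) : val [a, b] = pr (e a) * pr (e b) := by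
  unfold val; rw [List.map_cons, List.prod_cons]; exact congrArg _ (w1 b)

theorem w3 (a b c : ℕ) : val [a, b, c] = pr (e a) * (pr (e b) * pr (e c)) := by
  unfold val; rw [List.map_cons, List.prod_cons]; exact congrArg _ (w2 b c)

/-- The generators of `Q`. -/
def qg (k : ℕ) : Spor.Co1 := pr (e k)

/-- The central involution. -/
def z : Spor.Co1 := pr (e 8)

theorem chk1 : (List.range 8).all (fun k => sameB M [8, k] [k, 8] && sameB M [k, k] []) = true := by
  decide +kernel

theorem chk2 : (List.range 4).all (fun i => (List.range 4).all fun j =>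
    sameB M [i, j] [j, i] && (sameB M [i + 4, j + 4] [j + 4, i + 4] &&
      (Nat.beq i j || sameB M [i + 4, j] [j, i + 4]))) = true := by
  decide +kernel

theorem chk3 : (List.range 4).all (fun i => sameB M [i + 4, i] [i, i + 4, 8]) = true := by
  decide +kernel

theorem chk4 : (sameB M [8, 8] [] && neB M [8]) = true := by decide +kernel

theorem es : ES qg z := by
  have h1 := List.all_eq_true.1 chk1
  have h2 := List.all_eq_true.1 chk2
  have h3 := List.all_eq_true.1 chk3
  have h4 := chk4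
  rw [Bool.and_eq_true] at h4
  refine ⟨?_, ?_, ?_, ?_, ?_, ?_, ?_, ?_⟩
  · exact (w2 8 8).symm.trans (rel h4.1)
  · have := ne_one_of_neB hM h4.2
    rwa [show ([8].map fun i => pr (e i)).prod = z from w1 8] at this
  · intro k hk
    have := h1 k (List.mem_range.2 hk)
    rw [Bool.and_eq_true] at this
    exact (w2 8 k).symm.trans ((rel this.1).trans (w2 k 8))
  · intro k hk
    have := h1 k (List.mem_range.2 hk)
    rw [Bool.and_eq_true] at this
    exact (w2 k k).symm.trans (rel this.2)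
  · intro i hi j hj
    have := List.all_eq_true.1 (h2 i (List.mem_range.2 hi)) j (List.mem_range.2 hj)
    rw [Bool.and_eq_true] at this
    exact (w2 i j).symm.trans ((rel this.1).trans (w2 j i))
  · intro i hi j hj
    have := List.all_eq_true.1 (h2 i (List.mem_range.2 hi)) j (List.mem_range.2 hj)
    rw [Bool.and_eq_true, Bool.and_eq_true] at this
    exact (w2 _ _).symm.trans ((rel this.2.1).trans (w2 _ _))
  · intro i hi j hj hij
    have := List.all_eq_true.1 (h2 i (List.mem_range.2 hi)) j (List.mem_range.2 hj)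
    rw [Bool.and_eq_true, Bool.and_eq_true, Bool.or_eq_true] at this
    rcases this.2.2 with h | h
    · exact absurd (Nat.eq_of_beq_eq_true h) hij
    · exact (w2 _ _).symm.trans ((rel h).trans (w2 _ _))
  · intro i hi
    have := h3 i (List.mem_range.2 hi)
    rw [mul_assoc]
    exact (w2 _ _).symm.trans ((rel this).trans (w3 _ _ _))

/-- A word of `Q`. -/
def wd (x : ℕ) : List ℕ :=
  ((if x.testBit 0 then [0] else []) ++ ((if x.testBit 1 then [1] else []) ++
    ((if x.testBit 2 then [2] else []) ++ (if x.testBit 3 then [3] else [])))) ++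
  ((if x.testBit 4 then [4] else []) ++ ((if x.testBit 5 then [5] else []) ++
    ((if x.testBit 6 then [6] else []) ++ (if x.testBit 7 then [7] else []))))

theorem val_append (u v : List ℕ) : val (u ++ v) = val u * val v := by
  unfold val
  rw [List.map_append, List.prod_append]

theorem val_ite (b : Bool) (k : ℕ) : val (if b then [k] else []) = p qg k b := by
  cases b
  · rfl
  · exact w1 k

theorem val_wd (x : ℕ) : val (wd x) = ev qg x := by
  unfold wd ev evA evB
  simp only [val_append, val_ite]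

/-- Check that the letter `l` with inverse letter `l'` acts by `r`. -/
def actChk (l l' : ℕ) (r : List ℕ) : Bool :=
  sameB M [l, 8] [8, l] && (sameB M [l, l'] [] && (List.range 8).all fun k =>
    sameB M [l, k, l'] (wd (r.getD k 0)) || sameB M [l, k, l'] (wd (r.getD k 0) ++ [8]))

theorem acts_of {l l' : ℕ} {r : List ℕ} (h : actChk l l' r = true) : Acts qg z (pr (e l)) r := by
  unfold actChk at h
  rw [Bool.and_eq_true, Bool.and_eq_true] at h
  obtain ⟨h1, h2, h3⟩ := h
  have hinv : (pr (e l))⁻¹ = pr (e l') := by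
    rw [inv_eq_iff_mul_eq_one]
    exact (w2 _ _).symm.trans (rel h2)
  refine ⟨(w2 _ _).symm.trans ((rel h1).trans (w2 _ _)), ?_⟩
  intro k hk
  have h4 := List.all_eq_true.1 h3 k (List.mem_range.2 hk)
  rw [Bool.or_eq_true] at h4
  rw [hinv, mul_assoc]
  rcases h4 with h4 | h4
  · left
    rw [← val_wd]
    exact (w3 _ _ _).symm.trans (rel h4)
  · right
    have h5 := rel h4
    rw [val_append, val_wd, w1] at h5
    exact (w3 _ _ _).symm.trans h5

/-- Action of the root `v0`. -/
def rv0 : List ℕ := [18, 33, 4, 8, 32, 16, 64, 128]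

/-- Action of the root `v1`. -/
def rv1 : List ℕ := [193, 2, 215, 219, 208, 224, 64, 128]

theorem chk5 : (actChk 9 10 (R 0) && (actChk 10 9 (R 1) && actChk 11 11 (R 2))) = true := by
  decide +kernel

theorem chk6 : (actChk 12 12 rv0 && (actChk 13 13 rv1 && actChk 14 14 (R4 3))) = true := by
  decide +kernel

/-- The letters acting on `Q`. -/
def g : ℕ → Spor.Co1
  | 0 => pr (e 9)
  | 1 => pr (e 10)
  | _ => pr (e 11)

/-- The letters acting on `Q`. -/
def g4 : ℕ → Spor.Co1
  | 0 => pr (e 9)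
  | 1 => pr (e 10)
  | 2 => pr (e 11)
  | _ => pr (e 14)

theorem acts_g : ∀ i, Acts qg z (g i) (R i) := by
  have h := chk5
  rw [Bool.and_eq_true, Bool.and_eq_true] at h
  rintro (_ | _ | i)
  · exact acts_of h.1
  · exact acts_of h.2.1
  · exact acts_of h.2.2

theorem acts_g4 : ∀ i, Acts qg z (g4 i) (R4 i) := by
  have h := chk5
  rw [Bool.and_eq_true, Bool.and_eq_true] at h
  have h' := chk6
  rw [Bool.and_eq_true, Bool.and_eq_true] at h'
  rintro (_ | _ | _ | i)
  · exact acts_of h.1
  · exact acts_of h.2.1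
  · exact acts_of h.2.2
  · exact acts_of h'.2.2

/-- The root `v0`. -/
def v0 : Spor.Co1 := pr (e 12)

/-- The root `v1`. -/
def v1 : Spor.Co1 := pr (e 13)

theorem acts_v0 : Acts qg z v0 rv0 := by
  have h' := chk6
  rw [Bool.and_eq_true] at h'
  exact acts_of h'.1

theorem acts_v1 : Acts qg z v1 rv1 := by
  have h' := chk6
  rw [Bool.and_eq_true, Bool.and_eq_true] at h'
  exact acts_of h'.2.1

/-- The extraspecial group. -/
def Q : Subgroup Spor.Co1 := QS es

theorem mem_Q {c : Spor.Co1} : c ∈ Q ↔ ∃ x < 256, Is qg z x c := Iff.rfl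

theorem card_Q : Nat.card Q = 512 := card_QS es

end Cfsg.Agent.StdG24.ExInst
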