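import Cfsg.Agent.StdG24.ExNorm

/-!
Roots of `Spor.Co1` acting on the extraspecial group `Q`: every pair of commuting elements of square `z` of `Q`,
independent modulo `z`, gives a root of the centralizer of `z`; commuting involutions of `Q` commute with a common root;
a four-group of roots; the centralizer of `Q`.
-/

set_option autoImplicit false

namespace Cfsg.Agent.StdG24.ExMain

open Cfsg Cfsg.Agent.SporadicA Cfsg.Agent.SporadicA.GolayBase Cfsg.Agent.SporadicA.Co0Mono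
  Cfsg.Agent.SporadicA.Co1Simple Cfsg.Agent.CoOneType.CoEval
  Cfsg.Agent.StdG24.ExLetters Cfsg.Agent.StdG24.ExAlg Cfsg.Agent.StdG24.ExOrb Cfsg.Agent.StdG24.ExInst
  Cfsg.Agent.StdG24.ExNorm

/-! ### conjugation in coordinates -/

/-- Going back. -/
theorem pull {g c a : Spor.Co1} {x y : ℕ} (hg : g * z = z * g) (h1 : Is qg z x c)
    (h2 : Is qg z y (g * c * g⁻¹)) (h3 : Is qg z y a) : Is qg z x (g⁻¹ * a * g) := by
  obtain ⟨b, rfl⟩ := h2.eq_or es h3
  have hz : g⁻¹ * ExAlg.zz z b * g = ExAlg.zz z b := by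
    cases b
    · simp [ExAlg.zz]
    · show g⁻¹ * z * g = z
      rw [mul_assoc, ← hg, inv_mul_cancel_left]
  have h4 : g⁻¹ * (g * c * g⁻¹ * ExAlg.zz z b) * g = c * ExAlg.zz z b := by
    calc g⁻¹ * (g * c * g⁻¹ * ExAlg.zz z b) * g = c * (g⁻¹ * ExAlg.zz z b * g) := by group
      _ = _ := by rw [hz]
  rw [h4]
  exact h1.z_mul es b

theorem inv_comm {g : Spor.Co1} (hg : g * z = z * g) : g⁻¹ * z = z * g⁻¹ := by
  rw [inv_mul_eq_iff_eq_mul, ← mul_assoc, hg, mul_inv_cancel_right]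

theorem mul_comm_z {g h : Spor.Co1} (hg : g * z = z * g) (hh : h * z = z * h) : g * h * z = z * (g * h) := by
  rw [mul_assoc, hh, ← mul_assoc, hg, mul_assoc]

/-- Every element `a` of `Q` has coordinates. -/
theorem exists_is {c : Spor.Co1} (hc : c ∈ Q) : ∃ x < 256, Is qg z x c := mem_Q.1 hc

theorem conj_is {g c : Spor.Co1} (hg : g * z = z * g) (hc : c ∈ Q) : ∃ x < 256, Is qg z x (g⁻¹ * c * g) := by
  have h1 := norm_Q (inv_comm hg) hc
  rw [inv_inv] at h1
  exact exists_is h1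

theorem z2 : z * z = 1 := es.zz

theorem z1 : z ≠ 1 := es.zne

/-- The squaring form of a conjugate. -/
theorem qf_conj {g c : Spor.Co1} {x y : ℕ} (hg : g * z = z * g) (h1 : Is qg z x (g⁻¹ * c * g))
    (h2 : Is qg z y c) : qf x = qf y := by
  have h3 := sq_eq es h1
  have h4 := sq_eq es h2
  have h5 : g⁻¹ * c * g * (g⁻¹ * c * g) = g⁻¹ * (c * c) * g := by group
  rw [h5, h4] at h3
  have h6 : g⁻¹ * ExAlg.zz z (qf y) * g = ExAlg.zz z (qf y) := by
    cases qf y
    · simp [ExAlg.zz]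
    · show g⁻¹ * z * g = z
      rw [mul_assoc, ← hg, inv_mul_cancel_left]
  rw [h6] at h3
  have h7 := z1
  cases hx : qf x <;> cases hy : qf y <;> rw [hx, hy] at h3 <;> simp [ExAlg.zz] at h3 ⊢
  · exact h7 h3
  · exact h7 h3.symm

theorem bf_conj {g c d : Spor.Co1} {x y x' y' : ℕ} (h1 : Is qg z x (g⁻¹ * c * g))
    (h2 : Is qg z y (g⁻¹ * d * g)) (h3 : Is qg z x' c) (h4 : Is qg z y' d) : bf x y = bf x' y' := by
  have h5 := comm_iff es h1 h2
  have h6 := comm_iff es h3 h4
  have h7 : g⁻¹ * c * g * (g⁻¹ * d * g) = g⁻¹ * d * g * (g⁻¹ * c * g) ↔ c * d = d * c := by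
    have e1 : g⁻¹ * c * g * (g⁻¹ * d * g) = g⁻¹ * (c * d) * g := by group
    have e2 : g⁻¹ * d * g * (g⁻¹ * c * g) = g⁻¹ * (d * c) * g := by group
    rw [e1, e2, mul_left_inj, mul_right_inj]
  rw [h7, h6] at h5
  cases hx : bf x y <;> cases hy : bf x' y' <;> simp_all

/-- The word `w` in the letters `g`. -/
def gw (w : List ℕ) : Spor.Co1 := (w.map g).prod

/-- The word `w` in the letters `g4`. -/
def gw4 (w : List ℕ) : Spor.Co1 := (w.map g4).prod

theorem gw_comm (w : List ℕ) : gw w * z = z * gw w := word_comm (fun i => (acts_g i).cz) w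

theorem gw4_comm (w : List ℕ) : gw4 w * z = z * gw4 w := word_comm (fun i => (acts_g4 i).cz) w

theorem gw_is (w : List ℕ) {x : ℕ} {c : Spor.Co1} (hc : Is qg z x c) :
    Is qg z (app w x) (gw w * c * (gw w)⁻¹) := word_is es acts_g w hc

theorem gw4_is (w : List ℕ) {x : ℕ} {c : Spor.Co1} (hc : Is qg z x c) :
    Is qg z (app4 w x) (gw4 w * c * (gw4 w)⁻¹) := word_is es acts_g4 w hc

theorem is_ev (x : ℕ) : Is qg z x (ev qg x) := Or.inl rfl

theorem ev_mem {x : ℕ} (hx : x < 256) : ev qg x ∈ Q := mem_Q.2 ⟨x, hx, is_ev x⟩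

theorem mem_of_is {x : ℕ} (hx : x < 256) {c : Spor.Co1} (h : Is qg z x c) : c ∈ Q := mem_Q.2 ⟨x, hx, h⟩

/-! ### transitivity -/

/-- All elements with `qf x = true` are conjugate to `19`. -/
theorem move19 {x : ℕ} (hx : x < 256) (hq : qf x = true) {a : Spor.Co1} (ha : Is qg z x a) :
    ∃ h : Spor.Co1, h * z = z * h ∧ Is qg z 19 (h⁻¹ * a * h) := by
  have h1 := List.all_eq_true.1 chkU x (List.mem_range.2 hx)
  rw [hq, Bool.not_true, Bool.false_or] at h1
  have h2 := Nat.eq_of_beq_eq_true h1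
  have h3 := gw_is (tabU.getD x []) (is_ev 19)
  rw [h2] at h3
  exact ⟨gw (tabU.getD x []), gw_comm _, pull (gw_comm _) (is_ev 19) h3 ha⟩

theorem move76 {x : ℕ} (hx : x < 256) (hq : qf x = true) {a : Spor.Co1} (ha : Is qg z x a) :
    ∃ h : Spor.Co1, h * z = z * h ∧ Is qg z 76 (h⁻¹ * a * h) := by
  have h1 := List.all_eq_true.1 chkN x (List.mem_range.2 hx)
  rw [hq, Bool.not_true, Bool.false_or] at h1
  have h2 := Nat.eq_of_beq_eq_true h1
  have h3 := gw_is (tabN.getD x []) (is_ev 76)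
  rw [h2] at h3
  exact ⟨gw (tabN.getD x []), gw_comm _, pull (gw_comm _) (is_ev 76) h3 ha⟩

theorem move12 {x : ℕ} (hx : x < 256) (hq : qf x = false) (h0 : x ≠ 0) {a : Spor.Co1} (ha : Is qg z x a) :
    ∃ h : Spor.Co1, h * z = z * h ∧ Is qg z 12 (h⁻¹ * a * h) := by
  have h1 := List.all_eq_true.1 chkT x (List.mem_range.2 hx)
  have h0' : Nat.beq x 0 = false := by rw [Bool.eq_false_iff]; exact fun h => h0 (Nat.eq_of_beq_eq_true h)
  rw [hq, Bool.false_or, h0', Bool.false_or] at h1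
  have h2 := Nat.eq_of_beq_eq_true h1
  have h3 := gw_is (tabT.getD x []) (is_ev 12)
  rw [h2] at h3
  exact ⟨gw (tabT.getD x []), gw_comm _, pull (gw_comm _) (is_ev 12) h3 ha⟩

theorem beq_false {x y : ℕ} (h : x ≠ y) : Nat.beq x y = false := by
  rw [Bool.eq_false_iff]; exact fun h' => h (Nat.eq_of_beq_eq_true h')

/-- Conjugating by a product. -/
theorem conj_conj (h k a : Spor.Co1) : (h * k)⁻¹ * a * (h * k) = k⁻¹ * (h⁻¹ * a * h) * k := by group

/-- Orthogonal pairs of elements of square `z` are conjugate to `(19, 35)`. -/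
theorem move2 {x y : ℕ} (hx : x < 256) (hy : y < 256) (hqx : qf x = true) (hqy : qf y = true)
    (hb : bf x y = false) (hne : x ≠ y) {a b : Spor.Co1} (ha : Is qg z x a) (hb' : Is qg z y b) :
    ∃ h : Spor.Co1, h * z = z * h ∧ Is qg z 19 (h⁻¹ * a * h) ∧ Is qg z 35 (h⁻¹ * b * h) := by
  obtain ⟨h, hz, h1⟩ := move19 hx hqx ha
  obtain ⟨y', hy', h2⟩ := conj_is hz (mem_of_is hy hb')
  have h3 : qf y' = true := by rw [qf_conj hz h2 hb', hqy]
  have h4 : bf 19 y' = false := by rw [bf_conj h1 h2 ha hb', hb]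
  have h5 : y' ≠ 19 := by
    rintro rfl
    obtain ⟨e, he⟩ := h1.eq_or es h2
    apply hne
    have h6 : b = a * ExAlg.zz z e := by
      have hze : h * ExAlg.zz z e * h⁻¹ = ExAlg.zz z e := by
        cases e
        · simp [ExAlg.zz]
        · show h * z * h⁻¹ = z
          rw [hz, mul_inv_cancel_right]
      calc b = h * (h⁻¹ * b * h) * h⁻¹ := by group
        _ = h * (h⁻¹ * a * h * ExAlg.zz z e) * h⁻¹ := by rw [he]
        _ = a * (h * ExAlg.zz z e * h⁻¹) := by group
        _ = _ := by rw [hze]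
    exact is_unique es hx hy (by rw [h6]; exact ha.z_mul es e) hb'
  have h6 := List.all_eq_true.1 chkS y' (List.mem_range.2 hy')
  rw [h3, h4, beq_false h5] at h6
  simp only [Bool.not_true, Bool.false_or, Bool.and_eq_true] at h6
  have h7 := Nat.eq_of_beq_eq_true h6.1
  have h8 := Nat.eq_of_beq_eq_true h6.2
  set k := gw (tabS.getD y' []) with hk
  have h9 := gw_is (tabS.getD y' []) (is_ev 19)
  have h10 := gw_is (tabS.getD y' []) (is_ev 35)
  rw [h7] at h9
  rw [h8] at h10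
  refine ⟨h * k, mul_comm_z hz (gw_comm _), ?_, ?_⟩
  · rw [conj_conj]
    exact pull (gw_comm _) (is_ev 19) h9 h1
  · rw [conj_conj]
    exact pull (gw_comm _) (is_ev 35) h10 h2

/-! ### the root `v0` -/

theorem chkR : (negB M ([12] ++ [12]) && (negB M ([13] ++ [13]) && (negB M ([12, 13] ++ [12, 13]) &&
    sameB M [12, 13] [13, 12]))) = true := by
  decide +kernel

theorem root_v0 : Root v0 := by
  have h := chkR
  simp only [Bool.and_eq_true] at h
  have := root_of_negB h.1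
  rwa [w1] at this

theorem root_v1 : Root v1 := by
  have h := chkR
  simp only [Bool.and_eq_true] at h
  have := root_of_negB h.2.1
  rwa [w1] at this

theorem root_v0v1 : Root (v0 * v1) := by
  have h := chkR
  simp only [Bool.and_eq_true] at h
  have := root_of_negB h.2.2.1
  rwa [w2] at this

theorem v0_v1 : v0 * v1 = v1 * v0 := by
  have h := chkR
  simp only [Bool.and_eq_true] at h
  have := rel h.2.2.2
  rwa [w2, w2] at this

/-- A four-group of roots. -/
theorem four : ∃ v w : Spor.Co1, Root v ∧ Root w ∧ Root (v * w) ∧ v * w = w * v ∧ v * z = z * v ∧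
    w * z = z * w :=
  ⟨v0, v1, root_v0, root_v1, root_v0v1, v0_v1, acts_v0.cz, acts_v1.cz⟩

/-- The vector `a` if `b`. -/
def sel (b : Bool) (a : ℕ) : ℕ := if b then a else 0

theorem chkV0 : (List.range 256).all (fun x =>
    Nat.beq (vm rv0 x) ((x ^^^ sel (bf x 19) 19) ^^^ sel (bf x 35) 35)) = true := by
  decide +kernel

theorem is_sel {x : ℕ} {c : Spor.Co1} (hc : Is qg z x c) (b : Bool) :
    Is qg z (sel b x) (if b then c else 1) := by
  cases b
  · exact is_one
  · exact hc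

theorem sel_lt {b : Bool} {a : ℕ} (h : a < 256) : sel b a < 256 := by
  cases b
  · exact (by norm_num : (0 : ℕ) < 256)
  · exact h

/-- The root element attached to an orthogonal pair of elements of square `z`. -/
theorem exists_root {x y : ℕ} (hx : x < 256) (hy : y < 256) (hqx : qf x = true) (hqy : qf y = true)
    (hb : bf x y = false) (hne : x ≠ y) :
    ∃ v : Spor.Co1, Root v ∧ v * z = z * v ∧ ∀ u c, u < 256 → Is qg z u c →
      Is qg z ((u ^^^ sel (bf u x) x) ^^^ sel (bf u y) y) (v * c * v⁻¹) := by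
  obtain ⟨h, hz, h1, h2⟩ := move2 hx hy hqx hqy hb hne (is_ev x) (is_ev y)
  refine ⟨h * v0 * h⁻¹, root_v0.conj h, mul_comm_z (mul_comm_z hz acts_v0.cz) (inv_comm hz), ?_⟩
  intro u c hu hc
  obtain ⟨u', hu', h3⟩ := conj_is hz (mem_of_is hu hc)
  have h4 := acts_v0.is es h3
  have h5 := Nat.eq_of_beq_eq_true (List.all_eq_true.1 chkV0 u' (List.mem_range.2 hu'))
  rw [h5] at h4
  -- the element obtained from the coordinates
  have b1 : bf u' 19 = bf u x := bf_conj h3 h1 hc (is_ev x)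
  have b2 : bf u' 35 = bf u y := bf_conj h3 h2 hc (is_ev y)
  rw [b1, b2] at h4
  have h6 : Is qg z ((u' ^^^ sel (bf u x) 19) ^^^ sel (bf u y) 35)
      ((h⁻¹ * c * h * (if bf u x then h⁻¹ * ev qg x * h else 1)) *
        (if bf u y then h⁻¹ * ev qg y * h else 1)) :=
    (h3.mul es (is_sel h1 _)).mul es (is_sel h2 _)
  obtain ⟨b, h7⟩ := h6.eq_or es h4
  have h8 : h * v0 * h⁻¹ * c * (h * v0 * h⁻¹)⁻¹ = h * (v0 * (h⁻¹ * c * h) * v0⁻¹) * h⁻¹ := by group
  have hze : h * ExAlg.zz z b * h⁻¹ = ExAlg.zz z b := by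
    cases b
    · simp [ExAlg.zz]
    · show h * z * h⁻¹ = z
      rw [hz, mul_inv_cancel_right]
  have hI : ∀ (t : Bool) (k : Spor.Co1), h * (if t then h⁻¹ * k * h else 1) * h⁻¹ = if t then k else 1 := by
    intro t k
    cases t
    · simp
    · show h * (h⁻¹ * k * h) * h⁻¹ = k
      group
  have h9 : h * v0 * h⁻¹ * c * (h * v0 * h⁻¹)⁻¹ =
      (c * (if bf u x then ev qg x else 1)) * (if bf u y then ev qg y else 1) * ExAlg.zz z b := by
    rw [h8, h7, ExAlg.conj_mul, hze, ExAlg.conj_mul, hI, ExAlg.conj_mul, hI]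
    congr 3
    group
  rw [h9]
  exact ((hc.mul es (is_sel (is_ev x) _)).mul es (is_sel (is_ev y) _)).z_mul es b

/-- Root elements, in terms of elements. -/
theorem R2 {a b : Spor.Co1} (ha : a ∈ Q) (hb : b ∈ Q) (ha2 : a * a = z) (hb2 : b * b = z)
    (hab : a * b = b * a) (h1 : b ≠ a) (h2 : b ≠ a * z) :
    ∃ v : Spor.Co1, Root v ∧ v * z = z * v ∧ ∀ x ∈ Q, ∃ i j e : Bool,
      v * x * v⁻¹ = x * (if i then a else 1) * (if j then b else 1) * (if e then z else 1) ∧
      (i = false ↔ x * a = a * x) ∧ (j = false ↔ x * b = b * x) := by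
  obtain ⟨x, hx, hxa⟩ := exists_is ha
  obtain ⟨y, hy, hyb⟩ := exists_is hb
  have hq : ∀ {w : ℕ} {c : Spor.Co1}, Is qg z w c → c * c = z → qf w = true := by
    intro w c hw hc
    have h3 := sq_eq es hw
    rw [hc] at h3
    cases h4 : qf w
    · rw [h4] at h3
      exact absurd h3 z1
    · rfl
  have hne : x ≠ y := by
    rintro rfl
    obtain ⟨e, he⟩ := hxa.eq_or es hyb
    cases e
    · exact h1 (by rw [he]; simp [ExAlg.zz])
    · exact h2 (by rw [he]; simp [ExAlg.zz])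
  obtain ⟨v, hv, hvz, H⟩ := exists_root hx hy (hq hxa ha2) (hq hyb hb2) ((comm_iff es hxa hyb).1 hab) hne
  refine ⟨v, hv, hvz, fun c hc => ?_⟩
  obtain ⟨u, hu, huc⟩ := exists_is hc
  have h3 := H u c hu huc
  have h4 : Is qg z ((u ^^^ sel (bf u x) x) ^^^ sel (bf u y) y)
      ((c * (if bf u x then a else 1)) * (if bf u y then b else 1)) :=
    (huc.mul es (is_sel hxa _)).mul es (is_sel hyb _)
  obtain ⟨e, he⟩ := h4.eq_or es h3
  exact ⟨bf u x, bf u y, e, he, (comm_iff es huc hxa).symm, (comm_iff es huc hyb).symm⟩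

/-! ### commuting with roots -/

theorem chkC : ((sameB M (12 :: wd 12) (wd 12 ++ [12]) && sameB M (12 :: wd 48) (wd 48 ++ [12])) &&
    sameB M (12 :: wd 76) (wd 76 ++ [12])) = true := by
  decide +kernel

theorem chkD : (negB M ((12 :: wd 64) ++ (12 :: wd 64)) && negB M ((12 :: wd 12) ++ (12 :: wd 12))) = true := by
  decide +kernel

theorem val_cons (k : ℕ) (w : List ℕ) : val (k :: w) = pr (e k) * val w := by
  unfold val
  rw [List.map_cons, List.prod_cons]

theorem comm_of_chk {x : ℕ} (h : sameB M (12 :: wd x) (wd x ++ [12]) = true) :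
    v0 * ev qg x = ev qg x * v0 := by
  have h1 := rel h
  rw [val_cons, val_append, val_wd, w1] at h1
  exact h1

theorem v0_12 : v0 * ev qg 12 = ev qg 12 * v0 := by
  have h := chkC
  simp only [Bool.and_eq_true] at h
  exact comm_of_chk h.1.1

theorem v0_48 : v0 * ev qg 48 = ev qg 48 * v0 := by
  have h := chkC
  simp only [Bool.and_eq_true] at h
  exact comm_of_chk h.1.2

theorem v0_76 : v0 * ev qg 76 = ev qg 76 * v0 := by
  have h := chkC
  simp only [Bool.and_eq_true] at h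
  exact comm_of_chk h.2

theorem root_v0_64 : Root (v0 * ev qg 64) := by
  have h := chkD
  rw [Bool.and_eq_true] at h
  have h1 := root_of_negB h.1
  rwa [val_cons, val_wd] at h1

theorem root_v0_12 : Root (v0 * ev qg 12) := by
  have h := chkD
  rw [Bool.and_eq_true] at h
  have h1 := root_of_negB h.2
  rwa [val_cons, val_wd] at h1

/-- If `v` commutes with the coordinates, it commutes with the element. -/
theorem comm_of_is {v c d : Spor.Co1} {x : ℕ} (hv : v * z = z * v) (hc : Is qg z x c) (hd : Is qg z x d)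
    (h : v * c = c * v) : v * d = d * v := by
  obtain ⟨e, rfl⟩ := hc.eq_or es hd
  have h1 : v * ExAlg.zz z e = ExAlg.zz z e * v := by
    cases e
    · simp [ExAlg.zz]
    · exact hv
  rw [← mul_assoc, h, mul_assoc, h1, mul_assoc]

theorem comm_of_is_zero {v d : Spor.Co1} (hv : v * z = z * v) (hd : Is qg z 0 d) : v * d = d * v :=
  comm_of_is hv is_one hd (by simp)

theorem comm_conj {v g c : Spor.Co1} (h : v * (g⁻¹ * c * g) = g⁻¹ * c * g * v) :
    g * v * g⁻¹ * c = c * (g * v * g⁻¹) := by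
  calc g * v * g⁻¹ * c = g * (v * (g⁻¹ * c * g)) * g⁻¹ := by group
    _ = g * (g⁻¹ * c * g * v) * g⁻¹ := by rw [h]
    _ = _ := by group

theorem qf_false {w : ℕ} {c : Spor.Co1} (hw : Is qg z w c) (hc : c * c = 1) : qf w = false := by
  have h3 := sq_eq es hw
  rw [hc] at h3
  cases h4 : qf w
  · rfl
  · rw [h4] at h3
    exact absurd h3.symm z1

/-- Two commuting elements of square 1 of `Q` commute with a common root of the centralizer of `z`. -/
theorem F1c {s t : Spor.Co1} (hs : s ∈ Q) (ht : t ∈ Q) (hs2 : s * s = 1) (ht2 : t * t = 1)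
    (hst : s * t = t * s) : ∃ v : Spor.Co1, Root v ∧ v * z = z * v ∧ v * s = s * v ∧ v * t = t * v := by
  -- one vector
  have one : ∀ {x : ℕ} {s : Spor.Co1}, x < 256 → Is qg z x s → qf x = false →
      ∃ g : Spor.Co1, g * z = z * g ∧ (Is qg z 0 (g⁻¹ * s * g) ∨ Is qg z 12 (g⁻¹ * s * g)) := by
    intro x s hx hxs hq
    by_cases h0 : x = 0
    · subst h0
      refine ⟨1, by simp, Or.inl (by simpa using hxs)⟩
    · obtain ⟨g, hg, h1⟩ := move12 hx hq h0 hxs
      exact ⟨g, hg, Or.inr h1⟩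
  obtain ⟨x, hx, hxs⟩ := exists_is hs
  obtain ⟨y, hy, hyt⟩ := exists_is ht
  have hqx := qf_false hxs hs2
  have hqy := qf_false hyt ht2
  -- reduction to good positions
  have fin : ∀ g : Spor.Co1, g * z = z * g → v0 * (g⁻¹ * s * g) = g⁻¹ * s * g * v0 →
      v0 * (g⁻¹ * t * g) = g⁻¹ * t * g * v0 →
      ∃ v : Spor.Co1, Root v ∧ v * z = z * v ∧ v * s = s * v ∧ v * t = t * v := by
    intro g hg h1 h2
    exact ⟨g * v0 * g⁻¹, root_v0.conj g, mul_comm_z (mul_comm_z hg acts_v0.cz) (inv_comm hg),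
      comm_conj h1, comm_conj h2⟩
  have c12 : ∀ {c : Spor.Co1}, Is qg z 12 c → v0 * c = c * v0 := fun h =>
    comm_of_is acts_v0.cz (is_ev 12) h v0_12
  have c48 : ∀ {c : Spor.Co1}, Is qg z 48 c → v0 * c = c * v0 := fun h =>
    comm_of_is acts_v0.cz (is_ev 48) h v0_48
  have c0 : ∀ {c : Spor.Co1}, Is qg z 0 c → v0 * c = c * v0 := fun h => comm_of_is_zero acts_v0.cz h
  by_cases h0 : x = 0
  · subst h0
    obtain ⟨g, hg, h1⟩ := one hy hyt hqy
    have h2 : v0 * (g⁻¹ * s * g) = g⁻¹ * s * g * v0 := by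
      apply c0
      apply pull hg is_one _ hxs
      simpa using (is_one : Is qg z 0 1)
    rcases h1 with h1 | h1
    · exact fin g hg h2 (c0 h1)
    · exact fin g hg h2 (c12 h1)
  · obtain ⟨g, hg, h1⟩ := move12 hx hqx h0 hxs
    obtain ⟨y', hy', h2⟩ := conj_is hg ht
    have h3 : qf y' = false := by rw [qf_conj hg h2 hyt, hqy]
    have h4 : bf 12 y' = false := by rw [bf_conj h1 h2 hxs hyt]; exact (comm_iff es hxs hyt).1 hst
    by_cases h5 : y' = 12
    · subst h5
      exact fin g hg (c12 h1) (c12 h2)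
    by_cases h6 : y' = 0
    · subst h6
      exact fin g hg (c12 h1) (c0 h2)
    have h7 := List.all_eq_true.1 chkV y' (List.mem_range.2 hy')
    rw [h3, h4, beq_false h5, beq_false h6] at h7
    simp only [Bool.false_or, Bool.and_eq_true] at h7
    have h8 := Nat.eq_of_beq_eq_true h7.1
    have h9 := Nat.eq_of_beq_eq_true h7.2
    have h10 := gw4_is (tabV.getD y' []) (is_ev 12)
    have h11 := gw4_is (tabV.getD y' []) (is_ev 48)
    rw [h8] at h10
    rw [h9] at h11
    apply fin (g * gw4 (tabV.getD y' [])) (mul_comm_z hg (gw4_comm _))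
    · rw [conj_conj]
      exact c12 (pull (gw4_comm _) (is_ev 12) h10 h1)
    · rw [conj_conj]
      exact c48 (pull (gw4_comm _) (is_ev 48) h11 h2)

/-- Hyperplanes. -/
theorem hyper {x : ℕ} (hx : x < 256) (h0 : x ≠ 0) :
    ∃ v : Spor.Co1, Root v ∧ v * z = z * v ∧ v * ev qg x = ev qg x * v ∧
      ∃ q₁ ∈ Q, q₁ * ev qg x ≠ ev qg x * q₁ ∧ Root (v * q₁) := by
  have key : ∀ {w u : ℕ} (g : Spor.Co1), g * z = z * g → w < 256 → u < 256 →
      Is qg z w (g⁻¹ * ev qg x * g) → v0 * ev qg w = ev qg w * v0 → bf u w = true → Root (v0 * ev qg u) →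
      ∃ v : Spor.Co1, Root v ∧ v * z = z * v ∧ v * ev qg x = ev qg x * v ∧
        ∃ q₁ ∈ Q, q₁ * ev qg x ≠ ev qg x * q₁ ∧ Root (v * q₁) := by
    intro w u g hg hw hu h1 h2 h3 h4
    refine ⟨g * v0 * g⁻¹, root_v0.conj g, mul_comm_z (mul_comm_z hg acts_v0.cz) (inv_comm hg),
      comm_conj (comm_of_is acts_v0.cz (is_ev w) h1 h2), g * ev qg u * g⁻¹, norm_Q hg (ev_mem hu), ?_, ?_⟩
    · intro h5
      have h6 : ev qg u * (g⁻¹ * ev qg x * g) = g⁻¹ * ev qg x * g * ev qg u := by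
        calc ev qg u * (g⁻¹ * ev qg x * g) = g⁻¹ * (g * ev qg u * g⁻¹ * ev qg x) * g := by group
          _ = g⁻¹ * (ev qg x * (g * ev qg u * g⁻¹)) * g := by rw [h5]
          _ = _ := by group
      rw [comm_iff es (is_ev u) h1, h3] at h6
      exact absurd h6 (by decide)
    · have h5 : g * v0 * g⁻¹ * (g * ev qg u * g⁻¹) = g * (v0 * ev qg u) * g⁻¹ := by group
      rw [h5]
      exact h4.conj g
  cases hq : qf x
  · obtain ⟨g, hg, h1⟩ := move12 hx hq h0 (is_ev x)
    exact key (w := 12) (u := 64) g hg (by norm_num) (by norm_num) h1 v0_12 (by decide) root_v0_64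
  · obtain ⟨g, hg, h1⟩ := move76 hx hq (is_ev x)
    exact key (w := 76) (u := 12) g hg (by norm_num) (by norm_num) h1 v0_76 (by decide) root_v0_12

end Cfsg.Agent.StdG24.ExMain
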