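import Cfsg.Agent.StdG24.ExInst
import Cfsg.Agent.CoOneType.SignFacts
import Cfsg.Agent.Co2Type.Mono
import Cfsg.Agent.SporadicStructure.M24Frame

/-!
The extraspecial group `Q` of `ExInst` is the image of the pointwise stabilizer of the vectors `8 e_i`, `i ∈ O`, for an
octad `O`; it is normalised by the centralizer of `z`.
-/

set_option autoImplicit false

namespace Cfsg.Agent.StdG24.ExNorm

open Cfsg Cfsg.Agent.SporadicA Cfsg.Agent.SporadicA.GolayBase Cfsg.Agent.SporadicA.Co0Mono
  Cfsg.Agent.SporadicA.Co1Simple Cfsg.Agent.SporadicStructure.Co0Matrix Cfsg.Agent.CoOneType.CoEval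
  Cfsg.Agent.CoOneType.SignFacts Cfsg.Agent.Co2Type.Mono Cfsg.Agent.StdG24.ExLetters
  Cfsg.Agent.StdG24.ExAlg Cfsg.Agent.StdG24.ExInst
open Cfsg.Agent.SporadicStructure.Co0Base (e8 e8_coe eight_mul_co0)

/-! ### sign changes among the letters -/

/-- Check that the letter `k` is the sign change on the mask `m`. -/
def signChk (k m : ℕ) : Bool :=
  isCode m && (List.range 24).all fun i =>
    decide ((ap (M k) betaL).getD i 0 = (if m.testBit i then -1 else 1) * (8 * 64 ^ i))

theorem sgn_word (m : ℕ) (p : GolayPt) : sgn (word m p) = if m.testBit (idx p) then -1 else 1 := by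
  rw [word_apply]
  cases m.testBit (idx p) <;> simp [sgn]

theorem eq_sign_of_chk {k m : ℕ} (h : signChk k m = true) : e k = signCo0 (cd m) := by
  unfold signChk at h
  rw [Bool.and_eq_true, List.all_eq_true] at h
  apply eq_of_fix
  apply Subtype.ext
  have h1 := (hM k).apply (l := betaL) (v := beta) (by decide) rfl
  rw [h1]
  have h2 : (((signCo0 (cd m)).1 beta : leechLattice) : GolayPt → ℤ) = signMap (cd m) (vec betaL) := rfl
  rw [h2]
  funext p
  rw [signMap_apply, coe_cd h.1, sgn_word, vec_betaL, vec_apply]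
  exact of_decide_eq_true (h.2 (idx p) (List.mem_range.2 (idx_lt p)))

/-- Mask of the octad. -/
def oM : ℕ := 1327290

/-- Mask of the complement of the octad. -/
def zM : ℕ := 15449925

/-- Masks of the sign changes `q4, …, q7`. -/
def cM : ℕ → ℕ
  | 0 => 15274244
  | 1 => 6337856
  | 2 => 13276672
  | _ => 14919680

theorem chkSign : ((signChk 8 zM && signChk 4 (cM 0)) && ((signChk 5 (cM 1) && signChk 6 (cM 2)) &&
    (signChk 7 (cM 3) && signChk 14 6554826))) = true := by
  decide +kernel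

theorem e8_eq : e 8 = signCo0 (cd zM) := by
  have h := chkSign
  simp only [Bool.and_eq_true] at h
  exact eq_sign_of_chk h.1.1

theorem e4_eq : e 4 = signCo0 (cd (cM 0)) := by
  have h := chkSign
  simp only [Bool.and_eq_true] at h
  exact eq_sign_of_chk h.1.2

theorem e5_eq : e 5 = signCo0 (cd (cM 1)) := by
  have h := chkSign
  simp only [Bool.and_eq_true] at h
  exact eq_sign_of_chk h.2.1.1

theorem e6_eq : e 6 = signCo0 (cd (cM 2)) := by
  have h := chkSign
  simp only [Bool.and_eq_true] at h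
  exact eq_sign_of_chk h.2.1.2

theorem e7_eq : e 7 = signCo0 (cd (cM 3)) := by
  have h := chkSign
  simp only [Bool.and_eq_true] at h
  exact eq_sign_of_chk h.2.2.1

theorem e14_eq : e 14 = signCo0 (cd 6554826) := by
  have h := chkSign
  simp only [Bool.and_eq_true] at h
  exact eq_sign_of_chk h.2.2.2

/-! ### the pointwise stabilizer -/

/-- The octad. -/
def O : Finset GolayPt := fin oM

/-- The pointwise stabilizer of the `8 e_i`, `i ∈ O`. -/
def FQ : Subgroup Co0 where
  carrier := {t | ∀ i ∈ O, t • e8 i = e8 i}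
  one_mem' := fun i _ => one_smul _ _
  mul_mem' := by
    intro a b ha hb i hi
    rw [mul_smul, hb i hi, ha i hi]
  inv_mem' := by
    intro a ha i hi
    rw [inv_smul_eq_iff, ha i hi]

theorem mem_FQ {t : Co0} : t ∈ FQ ↔ ∀ i ∈ O, t • e8 i = e8 i := Iff.rfl

/-- The list of coordinates of `8 e_j`. -/
def e8L (j : ℕ) : List ℤ := (List.range 24).map fun i => if i = j then 8 else 0

theorem e8_vec (i : GolayPt) : ((e8 i : leechLattice) : GolayPt → ℤ) = vec (e8L (idx i)) := by
  funext p
  unfold e8L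
  rw [getD_range_map, e8_coe, Pi.single_apply]
  by_cases h : p = i
  · rw [if_pos h, h, if_pos rfl]
  · rw [if_neg h, if_neg (fun h' => h (idx_injective h'))]

theorem length_e8L (j : ℕ) : (e8L j).length ≤ 24 := by
  unfold e8L
  rw [List.length_map, List.length_range]

/-- Check that the word `w` sends `8 e_i` to `8 e_j`. -/
def movChk (w : List ℕ) (i j : ℕ) : Bool := eqL (fold M w (e8L i)) (e8L j)

theorem smul_of_movChk {w : List ℕ} {i j : GolayPt} (h : movChk w (idx i) (idx j) = true) :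
    ((w.map e).prod : Co0) • e8 i = e8 j := by
  apply Subtype.ext
  have h1 := (fold_spec hM w (length_e8L (idx i)) (e8_vec i)).2
  rw [eqL_eq h, ← e8_vec] at h1
  exact h1

theorem fixChk : (List.range 9).all (fun k => (List.range 24).all fun i =>
    !(oM.testBit i) || movChk [k] i i) = true := by
  decide +kernel

theorem e_mem_FQ {k : ℕ} (hk : k < 9) : e k ∈ FQ := by
  intro i hi
  have h1 := List.all_eq_true.1 (List.all_eq_true.1 fixChk k (List.mem_range.2 hk)) (idx i)
    (List.mem_range.2 (idx_lt i))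
  have h2 : oM.testBit (idx i) = true := mem_fin.1 hi
  rw [h2, Bool.not_true, Bool.false_or] at h1
  have h3 := smul_of_movChk h1
  rwa [List.map_cons, List.map_nil, List.prod_cons, List.prod_nil, mul_one] at h3

theorem word_mem_FQ {w : List ℕ} (hw : ∀ k ∈ w, k < 9) : (w.map e).prod ∈ FQ := by
  apply Subgroup.list_prod_mem
  intro x hx
  obtain ⟨k, hk, rfl⟩ := List.mem_map.1 hx
  exact e_mem_FQ (hw k hk)

theorem wd_lt (x : ℕ) : ∀ k ∈ wd x, k < 9 := by
  intro k hk
  unfold wd at hk
  simp only [List.mem_append] at hk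
  have key : ∀ (b : Bool) (j : ℕ), j < 9 → k ∈ (if b then [j] else []) → k < 9 := by
    intro b j hj h
    cases b
    · simp at h
    · simp at h; omega
  rcases hk with (h | h | h | h) | (h | h | h | h) <;> exact key _ _ (by norm_num) h

theorem exists_of_mem_Q {c : Spor.Co1} (hc : c ∈ Q) : ∃ t ∈ FQ, pr t = c := by
  obtain ⟨x, -, hx⟩ := mem_Q.1 hc
  have h1 : pr ((wd x).map e).prod = ev qg x := by
    rw [← val_wd]
    exact (map_prod_pr e (wd x)).symm
  rcases hx with h | h
  · exact ⟨_, word_mem_FQ (wd_lt x), by rw [h1, h]⟩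
  · refine ⟨((wd x).map e).prod * e 8, mul_mem (word_mem_FQ (wd_lt x)) (e_mem_FQ (by norm_num)), ?_⟩
    rw [h, ← h1]
    exact map_mul _ _ _

/-! ### the converse -/

theorem O_mem : O ∈ octads := by
  have h : isCode oM = true := by decide +kernel
  have h2 : popcount oM = 8 := by decide +kernel
  exact (fin_mem_octads_iff (isCode_lt h)).2 (by rw [h, h2]; decide)

theorem mem_N_of_FQ {t : Co0} (ht : t ∈ FQ) : t ∈ N := by
  apply mem_N_of_e8
  intro j
  have hi : pt 1 ∈ O := mem_fin.2 (by decide +kernel)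
  obtain ⟨u, hu⟩ := e8_sub j (pt 1)
  have h1 : t • e8 j = e8 (pt 1) + (2 : ℕ) • (t • u) := by
    rw [hu, smul_add, ht _ hi, smul_nsmul]
  apply mem_crossSet_of_congr (t • e8 j) (t • u) (pt 1) _ h1
  rw [sqNorm_smul]
  exact Co1Simple.sqNorm_e8 j

theorem fix_of_FQ {c : golayCode} {σ : M24} (h : signCo0 c * permCo0 σ ∈ FQ) {i : GolayPt} (hi : i ∈ O) :
    (σ : Equiv.Perm GolayPt) i = i ∧ (c : GolayPt → ZMod 2) i = 0 := by
  have h1 := h i hi
  rw [mul_smul, perm_smul_e8] at h1
  have h2 : ((signCo0 c • e8 ((σ : Equiv.Perm GolayPt) i) : leechLattice) : GolayPt → ℤ) i = 8 := by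
    rw [h1, e8_coe, Pi.single_eq_same]
  rw [signCo0_smul, signMap_apply, e8_coe, Pi.single_apply] at h2
  by_cases h3 : i = (σ : Equiv.Perm GolayPt) i
  · refine ⟨h3.symm, ?_⟩
    rw [if_pos h3] at h2
    rcases SporadicStructure.LeechBase.zmod2_cases ((c : GolayPt → ZMod 2) i) with h4 | h4
    · exact h4
    · rw [h4, sgn_one] at h2; norm_num at h2
  · rw [if_neg h3, mul_zero] at h2; norm_num at h2

theorem transChk : (List.range 24).all (fun j => oM.testBit j || (List.range 16).any fun x =>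
    movChk (wd x) 0 j) = true := by
  decide +kernel

/-- The combination of the masks with coordinates `y`. -/
def comb (y : ℕ) : ℕ :=
  ((if y.testBit 0 then cM 0 else 0) ^^^ (if y.testBit 1 then cM 1 else 0)) ^^^
  ((if y.testBit 2 then cM 2 else 0) ^^^ (if y.testBit 3 then cM 3 else 0)) ^^^
  (if y.testBit 4 then zM else 0)

theorem combChk : (List.range 4096).all (fun i => !(Nat.beq (Nat.land (enc i) oM) 0) ||
    (List.range 32).any fun y => Nat.beq (enc i) (comb y)) = true := by
  decide +kernel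

theorem cM_mem_Q : ∀ k < 4, pr (signCo0 (cd (cM k))) ∈ Q := by
  intro k hk
  have h : pr (signCo0 (cd (cM k))) = qg (k + 4) := by
    interval_cases k
    · rw [← e4_eq]; rfl
    · rw [← e5_eq]; rfl
    · rw [← e6_eq]; rfl
    · rw [← e7_eq]; rfl
  rw [h, mem_Q]
  exact ⟨2 ^ (k + 4), by interval_cases k <;> norm_num, is_q (k + 4) (by omega)⟩

theorem z_mem_Q : z ∈ Q := mem_Q.2 ⟨0, by norm_num, is_z⟩

theorem isCode_cM (k : ℕ) : isCode (cM k) = true := by
  rcases k with _ | _ | _ | k
  · decide +kernel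
  · decide +kernel
  · decide +kernel
  · show isCode 14919680 = true
    decide +kernel

theorem isCode_ite {b : Bool} {m : ℕ} (h : isCode m = true) : isCode (if b then m else 0) = true := by
  cases b
  · exact isCode_zero
  · exact h

theorem sign_xor_mem {m n : ℕ} (hm : isCode m = true) (hn : isCode n = true)
    (h1 : pr (signCo0 (cd m)) ∈ Q) (h2 : pr (signCo0 (cd n)) ∈ Q) : pr (signCo0 (cd (m ^^^ n))) ∈ Q := by
  rw [cd_xor hm hn, signCo0_add]
  exact mul_mem h1 h2

theorem ite_mem {b : Bool} {m : ℕ} (h1 : pr (signCo0 (cd m)) ∈ Q) :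
    pr (signCo0 (cd (if b then m else 0))) ∈ Q := by
  cases b
  · have : signCo0 (cd 0) = 1 := by rw [cd_zero, signCo0_zero]
    show pr (signCo0 (cd 0)) ∈ Q
    rw [this]
    exact one_mem Q
  · exact h1

theorem zM_mem_Q : pr (signCo0 (cd zM)) ∈ Q := by
  rw [← e8_eq]
  exact z_mem_Q

theorem isCode_zM : isCode zM = true := by decide +kernel

theorem comb_mem_Q (y : ℕ) : pr (signCo0 (cd (comb y))) ∈ Q := by
  have i0 := isCode_cM 0
  have i1 := isCode_cM 1
  have i2 := isCode_cM 2
  have i3 := isCode_cM 3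
  have m0 := cM_mem_Q 0 (by norm_num)
  have m1 := cM_mem_Q 1 (by norm_num)
  have m2 := cM_mem_Q 2 (by norm_num)
  have m3 := cM_mem_Q 3 (by norm_num)
  unfold comb
  exact sign_xor_mem (isCode_xor (isCode_xor (isCode_ite i0) (isCode_ite i1))
      (isCode_xor (isCode_ite i2) (isCode_ite i3))) (isCode_ite isCode_zM)
    (sign_xor_mem (isCode_xor (isCode_ite i0) (isCode_ite i1)) (isCode_xor (isCode_ite i2) (isCode_ite i3))
      (sign_xor_mem (isCode_ite i0) (isCode_ite i1) (ite_mem m0) (ite_mem m1))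
      (sign_xor_mem (isCode_ite i2) (isCode_ite i3) (ite_mem m2) (ite_mem m3)))
    (ite_mem zM_mem_Q)

/-- A sign change on a word disjoint from the octad is in `Q`. -/
theorem sign_mem_Q {c : golayCode} (hc : ∀ i ∈ O, (c : GolayPt → ZMod 2) i = 0) : pr (signCo0 c) ∈ Q := by
  obtain ⟨m, hm, rfl⟩ := exists_cd c
  obtain ⟨i, hi, rfl⟩ := isCode_iff_exists.1 hm
  have h1 := List.all_eq_true.1 combChk i (List.mem_range.2 hi)
  have h2 : enc i &&& oM = 0 := by
    apply Nat.eq_of_testBit_eq
    intro j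
    rw [Nat.testBit_and, Nat.zero_testBit]
    by_cases hj : oM.testBit j = true
    · have hj24 : j < 24 := by
        by_contra hlt
        rw [Nat.testBit_lt_two_pow (lt_of_lt_of_le (show oM < 2 ^ 24 by decide +kernel)
          (Nat.pow_le_pow_right (by norm_num) (by omega)))] at hj
        exact absurd hj (by decide)
      have h3 : pt j ∈ O := mem_fin.2 (by rw [idx_pt hj24]; exact hj)
      have h4 := hc _ h3
      rw [coe_cd hm, word_apply, idx_pt hj24] at h4
      cases h5 : (enc i).testBit j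
      · rfl
      · rw [h5] at h4; simp at h4
    · rw [Bool.eq_false_iff.2 hj, Bool.and_false]
  have h3 : Nat.beq (Nat.land (enc i) oM) 0 = true := by
    show Nat.beq (enc i &&& oM) 0 = true
    rw [h2]; rfl
  rw [h3, Bool.not_true, Bool.false_or, List.any_eq_true] at h1
  obtain ⟨y, -, hy⟩ := h1
  rw [Nat.eq_of_beq_eq_true hy]
  exact comb_mem_Q y

theorem pr_mem_Q {t : Co0} (ht : t ∈ FQ) : pr t ∈ Q := by
  obtain ⟨c, σ, hcσ⟩ := exists_sign_perm (mem_N_of_FQ ht)
  set j := (σ : Equiv.Perm GolayPt) (pt 0) with hj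
  have hjO : j ∉ O := by
    intro hjO
    have h1 := (fix_of_FQ (hcσ ▸ ht) hjO).1
    rw [hj] at h1
    have h2 := (σ : Equiv.Perm GolayPt).injective h1
    rw [hj] at hjO
    rw [h2] at hjO
    exact absurd (mem_fin.1 hjO) (by decide +kernel)
  have h1 := List.all_eq_true.1 transChk (idx j) (List.mem_range.2 (idx_lt j))
  have h2 : oM.testBit (idx j) = false := by
    rw [Bool.eq_false_iff]
    exact fun h => hjO (mem_fin.2 h)
  rw [h2, Bool.false_or, List.any_eq_true] at h1
  obtain ⟨x, hx, hx2⟩ := h1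
  have h3 : (((wd x).map e).prod : Co0) • e8 (pt 0) = e8 j := smul_of_movChk (i := pt 0) (j := j) (by
    rw [idx_pt (by norm_num)]; exact hx2)
  set u : Co0 := ((wd x).map e).prod with hu
  have huF : u ∈ FQ := word_mem_FQ (wd_lt x)
  have huQ : pr u ∈ Q := by
    have h4 : pr u = ev qg x := by
      rw [← val_wd]
      exact (map_prod_pr e (wd x)).symm
    rw [h4]
    exact mem_Q.2 ⟨x, lt_trans (List.mem_range.1 hx) (by norm_num), Or.inl rfl⟩
  have ht' : u⁻¹ * t ∈ FQ := mul_mem (inv_mem huF) ht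
  obtain ⟨c', σ', hcσ'⟩ := exists_sign_perm (mem_N_of_FQ ht')
  have h5 : (σ' : Equiv.Perm GolayPt) (pt 0) = pt 0 := by
    have h6 : (u⁻¹ * t) • e8 (pt 0) = signCo0 c' • e8 ((σ' : Equiv.Perm GolayPt) (pt 0)) := by
      rw [hcσ', mul_smul, perm_smul_e8]
    have h7 : (u⁻¹ * t) • e8 (pt 0) = u⁻¹ • (signCo0 c • e8 j) := by
      rw [mul_smul, hcσ, mul_smul, perm_smul_e8]
    have h8 : (u⁻¹ * t) • e8 (pt 0) = e8 (pt 0) ∨ (u⁻¹ * t) • e8 (pt 0) = -e8 (pt 0) := by
      have h9 : u⁻¹ • e8 j = e8 (pt 0) := by rw [inv_smul_eq_iff, h3]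
      rcases sgn_smul_e8 c j with h10 | h10
      · left; rw [h7, h10, h9]
      · right; rw [h7, h10, smul_neg, h9]
    rcases sgn_smul_e8 c' ((σ' : Equiv.Perm GolayPt) (pt 0)) with h11 | h11 <;> rcases h8 with h12 | h12
    · rw [h12, h11] at h6
      have h13 := congrArg (fun v : leechLattice => (v : GolayPt → ℤ) (pt 0)) h6
      simp only [e8_coe, Pi.single_eq_same, Pi.single_apply] at h13
      by_contra hne
      rw [if_neg (Ne.symm hne)] at h13
      norm_num at h13
    · rw [h12, h11] at h6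
      have h13 := congrArg (fun v : leechLattice => (v : GolayPt → ℤ) (pt 0)) h6
      have h14 : -((e8 (pt 0) : leechLattice) : GolayPt → ℤ) (pt 0) =
        ((e8 ((σ' : Equiv.Perm GolayPt) (pt 0)) : leechLattice) : GolayPt → ℤ) (pt 0) := h13
      rw [e8_coe, e8_coe, Pi.single_eq_same, Pi.single_apply] at h14
      split_ifs at h14 <;> norm_num at h14
    · rw [h12, h11] at h6
      have h13 := congrArg (fun v : leechLattice => (v : GolayPt → ℤ) (pt 0)) h6
      have h14 : ((e8 (pt 0) : leechLattice) : GolayPt → ℤ) (pt 0) =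
        -((e8 ((σ' : Equiv.Perm GolayPt) (pt 0)) : leechLattice) : GolayPt → ℤ) (pt 0) := h13
      rw [e8_coe, e8_coe, Pi.single_eq_same, Pi.single_apply] at h14
      split_ifs at h14 <;> norm_num at h14
    · rw [h12, h11, neg_inj] at h6
      have h13 := congrArg (fun v : leechLattice => (v : GolayPt → ℤ) (pt 0)) h6
      simp only [e8_coe, Pi.single_eq_same, Pi.single_apply] at h13
      by_contra hne
      rw [if_neg (Ne.symm hne)] at h13
      norm_num at h13
  have h6 : (σ' : Equiv.Perm GolayPt) = 1 := by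
    apply Cfsg.Agent.SporadicStructure.M24Frame.eq_one_of_fix_frame σ'.2 O_mem (s := O)
      (Finset.Subset.refl _) (by
        have := O_mem.2
        omega) (fun i hi => (fix_of_FQ (hcσ' ▸ ht') hi).1) (p := pt 0) _ h5
    intro h
    exact absurd (mem_fin.1 h) (by decide +kernel)
  have h7 : σ' = 1 := Subtype.ext h6
  have h8 : u⁻¹ * t = signCo0 c' := by rw [hcσ', h7, map_one, mul_one]
  have h9 : pr (signCo0 c') ∈ Q := sign_mem_Q fun i hi => (fix_of_FQ (hcσ' ▸ ht') hi).2
  have h10 : pr t = pr u * pr (signCo0 c') := by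
    rw [← h8, ← map_mul, mul_inv_cancel_left]
  rw [h10]
  exact mul_mem huQ h9

theorem mem_Q_iff {c : Spor.Co1} : c ∈ Q ↔ ∃ t, pr t = c ∧ ∀ i ∈ O, t • e8 i = e8 i := by
  constructor
  · intro h
    obtain ⟨t, ht, h1⟩ := exists_of_mem_Q h
    exact ⟨t, h1, ht⟩
  · rintro ⟨t, rfl, ht⟩
    exact pr_mem_Q ht

/-! ### the centralizer of `z` normalises `Q` -/

theorem neg_eq : Co0Basic.negCo0 = signCo0 allOne := by
  apply Co0Mono.ext
  intro v
  rw [allOne_smul]
  rfl

theorem pr_eq_iff (s t : Co0) : pr s = pr t ↔ s = t ∨ s = t * signCo0 allOne := by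
  have h1 : pr s = pr t ↔ t⁻¹ * s ∈ Subgroup.center Co0 := by
    rw [eq_comm]
    exact QuotientGroup.eq
  rw [h1]
  constructor
  · intro h
    rcases Co0Basic.eq_one_or_neg_of_mem_center h with h | h
    · left; exact (inv_mul_eq_one.1 h).symm
    · right; rw [inv_mul_eq_iff_eq_mul] at h; rw [h, neg_eq]
  · rintro (rfl | rfl)
    · rw [inv_mul_cancel]; exact one_mem _
    · rw [inv_mul_cancel_left, ← neg_eq]; exact Co0Basic.negCo0_mem_center

theorem exists_pr (k : Spor.Co1) : ∃ t : Co0, pr t = k := QuotientGroup.mk_surjective k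

theorem sup_zM : sup (cd zM) = Oᶜ := by
  ext i
  rw [mem_sup, coe_cd isCode_zM, word_apply, Finset.mem_compl, O, mem_fin]
  have h : ∀ j < 24, zM.testBit j = !(oM.testBit j) := by decide +kernel
  rw [h _ (idx_lt i)]
  cases oM.testBit (idx i) <;> simp

theorem wt_zM : wt (cd zM) = 16 := by
  have h1 : (sup (cd zM)).card + (sup (cd zM))ᶜ.card = Fintype.card GolayPt := Finset.card_add_card_compl _
  have h2 : Fintype.card GolayPt = 24 := by
    rw [← Finset.card_univ, SporadicStructure.MinShapes.card_pt]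
  rw [sup_zM, compl_compl, h2] at h1
  have h3 := O_mem.2
  unfold wt
  rw [sup_zM]
  omega

/-- Elements commuting with `z` in `Co1` lift to elements commuting with the sign change. -/
theorem comm_of_comm {s : Co0} (h : pr s * z = z * pr s) :
    s * signCo0 (cd zM) = signCo0 (cd zM) * s := by
  have h1 : pr (s * signCo0 (cd zM)) = pr (signCo0 (cd zM) * s) := by
    rw [← e8_eq]; exact h
  rcases (pr_eq_iff _ _).1 h1 with h2 | h2
  · exact h2
  · exfalso
    have h3 : s * signCo0 (cd zM) = signCo0 (cd zM + allOne) * s := by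
      rw [h2, signCo0_add, mul_assoc, mul_assoc, sign_allOne_comm]
    have h4 := wt_eq_of_conj _ _ _ h3
    have h5 := wt_add_allOne (cd zM)
    rw [wt_zM] at h4 h5
    omega

theorem fixes_of_supp {t : Co0} (ht : t ∈ FQ) {v : leechLattice}
    (hv : ∀ i, i ∉ O → (v : GolayPt → ℤ) i = 0) : t • v = v := by
  apply Subtype.ext
  funext j
  have h1 := eight_mul_co0 t v j
  have h2 := eight_mul_co0 1 v j
  rw [one_smul] at h2
  have h3 : ∀ k, (v : GolayPt → ℤ) k * ((t • e8 k : leechLattice) : GolayPt → ℤ) j =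
      (v : GolayPt → ℤ) k * (((1 : Co0) • e8 k : leechLattice) : GolayPt → ℤ) j := by
    intro k
    by_cases hk : k ∈ O
    · rw [ht k hk, one_smul]
    · rw [hv k hk, zero_mul, zero_mul]
  have h4 : 8 * ((t • v : leechLattice) : GolayPt → ℤ) j = 8 * (v : GolayPt → ℤ) j := by
    rw [h1, h2]
    exact Finset.sum_congr rfl fun k _ => h3 k
  omega

/-- The centralizer of `z` normalises `Q`. -/
theorem norm_Q {y : Spor.Co1} (hy : y * z = z * y) {c : Spor.Co1} (hc : c ∈ Q) : y * c * y⁻¹ ∈ Q := by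
  obtain ⟨s, rfl⟩ := exists_pr y
  obtain ⟨t, ht, rfl⟩ := exists_of_mem_Q hc
  have h1 := comm_of_comm hy
  have h2 : pr s * pr t * (pr s)⁻¹ = pr (s * t * s⁻¹) := rfl
  rw [h2]
  apply pr_mem_Q
  intro i hi
  rw [mul_smul, mul_smul]
  rw [fixes_of_supp ht, smul_inv_smul]
  intro j hj
  have h3 : signCo0 (cd zM) • (s⁻¹ • e8 i) = s⁻¹ • e8 i := by
    have h4 : signCo0 (cd zM) * s⁻¹ = s⁻¹ * signCo0 (cd zM) := by
      rw [eq_inv_mul_iff_mul_eq, ← mul_assoc, h1, mul_inv_cancel_right]
    rw [← mul_smul, h4, mul_smul]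
    congr 1
    rw [sign_fixed_iff]
    intro k hk
    rw [sup_zM, Finset.mem_compl] at hk
    rw [e8_coe, Pi.single_apply, if_neg]
    rintro rfl
    exact hk hi
  rw [sign_fixed_iff] at h3
  exact h3 j (by rw [sup_zM, Finset.mem_compl]; exact hj)

/-! ### roots -/

/-- Roots: images of elements of square `-1`. -/
def Root (k : Spor.Co1) : Prop := ∃ t : Co0, pr t = k ∧ t * t = signCo0 allOne

theorem allOne_comm (t : Co0) : t * signCo0 allOne = signCo0 allOne * t := sign_allOne_comm t

theorem Root.sq {k : Spor.Co1} (h : Root k) : k * k = 1 := by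
  obtain ⟨t, rfl, ht⟩ := h
  rw [← map_mul, ht, ← neg_eq]
  exact pr_neg

theorem Root.lift {k : Spor.Co1} (h : Root k) {t : Co0} (ht : pr t = k) : t * t = signCo0 allOne := by
  obtain ⟨s, hs, hs2⟩ := h
  rcases (pr_eq_iff t s).1 (ht.trans hs.symm) with rfl | rfl
  · exact hs2
  · have h1 : s * signCo0 allOne * (s * signCo0 allOne) = (s * s) * (signCo0 allOne * signCo0 allOne) := by
      rw [mul_assoc, ← mul_assoc _ s, ← allOne_comm]; simp only [mul_assoc]
    have h2 : signCo0 allOne * signCo0 allOne = 1 := signCo0_mul_self _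
    rw [h1, h2, mul_one, hs2]

theorem Root.conj {k : Spor.Co1} (h : Root k) (y : Spor.Co1) : Root (y * k * y⁻¹) := by
  obtain ⟨t, rfl, ht⟩ := h
  obtain ⟨s, rfl⟩ := exists_pr y
  refine ⟨s * t * s⁻¹, rfl, ?_⟩
  calc s * t * s⁻¹ * (s * t * s⁻¹) = s * (t * t) * s⁻¹ := by group
    _ = signCo0 allOne := by rw [ht, allOne_comm, mul_inv_cancel_right]

theorem Root.notMem {k : Spor.Co1} (h : Root k) : k ∉ Q := by
  intro hk
  obtain ⟨t, ht, hk⟩ := exists_of_mem_Q hk
  have h1 := h.lift hk
  have hi : pt 1 ∈ O := mem_fin.2 (by decide +kernel)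
  have h2 : (t * t) • e8 (pt 1) = e8 (pt 1) := (mul_mem ht ht : t * t ∈ FQ) _ hi
  rw [h1, allOne_smul] at h2
  have h3 := congrArg (fun v : leechLattice => (v : GolayPt → ℤ) (pt 1)) h2
  have h4 : -((e8 (pt 1) : leechLattice) : GolayPt → ℤ) (pt 1) =
    ((e8 (pt 1) : leechLattice) : GolayPt → ℤ) (pt 1) := h3
  rw [e8_coe, Pi.single_eq_same] at h4
  norm_num at h4

/-- A word of square `-1`. -/
theorem root_of_negB {w : List ℕ} (h : negB M (w ++ w) = true) : Root (val w) := by
  refine ⟨(w.map e).prod, (map_prod_pr e w).symm, ?_⟩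
  have h1 := eq_neg_of_negB hM h
  rw [List.map_append, List.prod_append, neg_eq] at h1
  exact h1

end Cfsg.Agent.StdG24.ExNorm
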