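import Cfsg.Agent.StdG24.ExAlg

/-!
Words (letters 0, 1, 2) giving the transitivity of the group generated by three linear maps on the
nonsingular vectors, the singular vectors and the orthogonal pairs of nonsingular vectors of an orthogonal space of
dimension eight.
-/

set_option autoImplicit false

namespace Cfsg.Agent.StdG24.ExOrb

open Cfsg.Agent.StdG24.ExAlg

/-- Images of the basis vectors under the letters. -/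
def R : ℕ → List ℕ
  | 0 => [207, 60, 82, 185, 208, 144, 240, 192]
  | 1 => [231, 164, 93, 159, 144, 80, 48, 176]
  | _ => [1, 2, 4, 8, 18, 41, 64, 130]

/-- Action of a word. -/
def app (w : List ℕ) (x : ℕ) : ℕ := w.foldr (fun i y => vm (R i) y) x

/-- Words moving `19` to the nonsingular vectors. -/
def tabU : List (List ℕ) :=
  [[], [], [], [], [], [], [], [], [], [], [], [], [], [], [], [], [], [2], [], [], [], [0, 2, 0], [],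
  [2, 0, 2, 0], [], [0, 2, 1, 1, 1], [], [2, 0, 2, 1, 1, 1], [], [2, 0, 2], [], [0, 2], [], [], [0, 0,
  2, 0, 2], [0], [], [], [0, 0, 0, 2, 1, 1, 1, 2], [2, 1, 1, 2, 1, 1], [], [], [2, 0], [2, 0, 0, 2, 0,
  2], [], [], [1, 1, 2, 1, 1], [1, 2, 0, 2, 0, 0, 0, 2], [], [0, 2, 1, 1, 2, 1, 1], [1, 2, 1, 2], [],
  [], [0, 2, 0, 2, 0, 2, 0], [2, 0, 0, 2, 0, 0], [], [], [2, 1, 2, 1, 2], [0, 2, 0, 2, 0, 2, 1, 1],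
  [], [], [0, 0, 2, 0, 0], [0, 0, 0, 2, 1, 1, 1], [], [], [], [], [], [0, 2, 1, 1, 2, 1, 2], [0, 0, 2,
  0, 0, 0, 2], [0, 2, 0, 0, 2, 1, 2, 0], [1, 2, 1, 1], [], [], [], [], [1, 2, 0, 2, 1, 1, 1], [0, 0,
  2, 0], [0, 0, 2, 1, 2, 0, 0], [1, 2, 1, 1, 1], [], [2, 1, 1], [], [1, 1], [0, 2, 0, 2, 0, 2], [],
  [0, 2, 1, 2, 0, 0], [], [], [2, 1, 2, 0, 0], [], [1, 2, 0, 0], [0, 2, 1, 2, 0], [], [2, 0, 2, 1, 2,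
  0], [], [], [], [2, 1, 2, 0], [0, 0], [1, 1, 2, 1, 2], [1, 2, 0, 2, 0, 2], [], [], [], [], [2, 0,
  0], [1, 2, 0], [1, 2, 0, 0, 0, 2], [2, 1, 1, 2, 1, 2], [], [], [], [0, 2, 0, 2, 0], [1, 2, 1, 2, 0,
  2, 0], [], [2, 0, 0, 2, 0, 2, 0], [], [], [1, 2], [], [1, 2, 1, 2, 1, 2, 0], [2, 0, 2, 0, 2, 0], [],
  [2, 1, 2], [], [], [0, 0, 2, 0, 2, 0], [], [], [], [], [], [], [], [], [2, 0, 2, 0, 0, 0, 2], [0, 0,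
  0, 2], [0, 2, 0, 0, 0, 2], [2, 0, 0, 0, 2], [2, 1, 2, 0, 2, 0], [1, 2, 0, 2, 1, 1], [1, 2, 0, 2, 0],
  [1, 1, 2, 1, 2, 0, 0], [], [1, 1, 2, 1, 2, 1, 1, 1, 2], [], [0, 0, 0], [], [1, 1, 2, 0, 2, 1, 1],
  [], [1, 1, 1, 2, 1, 1, 1], [0, 2, 1, 1, 1, 2], [], [0, 2, 0, 2, 1, 1, 1], [], [1, 2, 0, 2, 0, 2, 1,
  1], [], [0, 0, 2, 0, 0, 2, 1, 2, 0], [], [], [], [1, 1, 2, 0, 0, 0, 2], [2, 0, 0, 0, 2, 0, 2, 0],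
  [], [], [0, 0, 2, 1, 1, 1], [2, 1, 1, 2, 0, 0, 2], [0, 0, 0, 2, 0, 2, 0], [0, 0, 2, 1, 1, 1, 2], [],
  [], [1, 1, 2, 0, 0, 2], [2, 0, 0, 2, 1, 1, 1], [], [], [], [1, 1, 2, 1, 1, 1], [1, 1, 1, 2, 0], [],
  [], [1, 2, 0, 2], [1, 1, 1, 2], [], [0, 0, 2, 1, 1], [], [], [1, 2, 0, 0, 2], [1, 1, 2, 0], [], [],
  [2, 1, 1, 1, 2], [], [], [], [], [1, 2, 1, 2, 0], [1, 2, 0, 0, 2, 1, 1, 1], [2, 1, 2, 1, 2, 0], [2,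
  1, 2, 0, 0, 2, 1, 1, 1], [0, 0, 2], [2, 0, 0, 2, 1, 2, 0], [2, 0, 0, 2], [0, 0, 2, 1, 2, 0], [], [],
  [], [], [], [0, 0, 2, 0, 2, 1, 2, 0], [], [1], [0, 0, 0, 2, 0], [], [1, 1, 2, 0, 2, 0], [], [1, 2,
  1, 2, 0, 0], [], [0, 2, 0, 0, 2, 0, 2], [], [], [1, 1, 2, 1, 2, 0], [], [1, 2, 1, 2, 1, 1, 1, 2],
  [], [], [0, 2, 0, 0, 2, 0, 2, 0], [1, 1, 1], [2, 0, 2, 1, 1], [0, 2, 0, 0], [], [], [2, 1, 1, 1],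
  [1, 1, 1, 2, 0, 2, 0], [], [], [], [], [1, 1, 2], [0, 2, 1, 1], [], [1, 2, 1, 1, 1, 2], [0, 2, 0, 2,
  1, 1], [], [0, 2, 0, 2], [], [], [0, 2, 0, 2, 1, 2, 0], [2, 1, 2, 1, 1, 1, 2], [], [], [2, 0, 2, 0,
  2, 1, 1], [], [2, 0, 2, 0, 2], [2, 0, 2, 0, 2, 1, 2, 0], []]

/-- Words fixing `19` and moving `35` to the nonsingular vectors orthogonal to `19`. -/
def tabS : List (List ℕ) :=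
  [[], [], [], [], [], [], [], [], [], [], [], [], [], [], [], [], [], [1, 1, 2, 1, 2, 1, 1, 2], [],
  [], [], [0, 2, 1, 2, 1, 1, 2, 0, 2, 1, 1, 1, 2, 0], [], [2, 0, 2, 1, 1, 2, 0, 0], [], [0, 0, 2, 0,
  2, 0, 0, 2, 0, 0, 2, 0, 0], [], [1, 1, 2, 0, 0, 2, 0, 2, 0, 2, 0, 0], [], [1, 2, 0, 0, 2, 0, 2, 0,
  0, 2, 0, 2, 1], [], [0, 2, 1], [], [], [], [], [], [], [], [2, 1, 2, 0, 0, 0, 2, 1, 1, 1, 2, 0], [],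
  [], [], [1, 2, 0, 0, 2, 1, 2, 0, 2], [], [], [], [2, 0, 2, 1, 1, 2, 0, 0, 0, 2, 1], [], [], [0, 0,
  2, 0, 2, 1, 2, 1, 2, 1], [], [], [], [2, 0, 0, 2, 1, 2, 1, 1, 1, 2, 1, 1], [], [], [], [0, 2, 0, 2,
  0, 2, 1, 2, 1, 1], [], [], [], [2, 1, 1, 2, 0, 2, 1, 2, 1, 2, 0, 2], [], [], [], [], [], [0, 2, 0,
  2, 0, 2, 1, 2, 1, 2, 1], [], [2, 1, 1, 2, 0, 2, 0, 2, 0, 2, 0, 0, 2, 0], [], [], [], [], [], [0, 0,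
  2, 0, 2, 1, 2, 1, 1], [], [1, 2, 0, 2, 1, 1, 1, 2, 0, 2, 0, 2, 0], [], [], [2, 1, 2, 0, 2, 0, 0, 0,
  2, 0, 0, 2, 0], [], [0, 2, 0, 2, 0, 2, 0, 0, 2, 0, 0, 2, 0, 0], [], [], [], [], [], [2, 1, 1, 2, 1,
  2, 1, 1, 2, 0], [], [0, 2, 1, 1, 1, 2, 1, 2, 1, 1, 2], [], [], [], [], [], [], [], [2, 1, 1, 2, 0,
  2, 1, 1, 1, 2, 0], [], [1, 1, 2, 1, 1, 2, 1, 1, 2, 1, 2, 1, 1], [], [], [], [], [], [2, 1, 2, 1, 2,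
  1, 1, 1, 2, 1, 2, 0, 2, 0], [], [1, 2, 1, 1, 2, 1, 2, 0, 0, 0, 2, 0, 0, 2, 1], [], [], [], [], [0,
  0, 0, 2, 1, 2, 0, 0, 0, 2, 0, 2, 1, 1], [], [2, 0, 0, 2, 0, 0, 0, 2, 1, 2, 0, 2, 1], [], [], [], [],
  [], [2, 0, 0, 2, 0, 0, 2, 0, 2, 1, 2, 1, 2, 0, 0], [], [2, 0, 2, 0, 2, 0, 0, 0, 2, 1, 1], [], [],
  [], [], [], [], [], [], [], [], [], [0, 2, 0, 0, 0, 2, 1, 1, 1, 2, 1], [], [1, 1, 2, 0, 0, 0, 2, 0,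
  0, 0, 2, 1, 1], [], [0, 0, 2, 1, 1, 2, 1, 1, 2, 1, 1, 1], [], [2, 1, 1, 2, 1, 1, 2, 0, 2, 0, 2, 1],
  [], [], [0, 2, 1, 2, 0, 0, 2, 0, 2, 0, 0], [], [2, 1, 1, 2, 0, 2, 0, 0, 2, 0, 0, 2, 0], [], [1, 2,
  0, 0, 2, 0, 0, 2, 1, 1, 1, 2, 0], [], [1, 1, 1, 2, 0, 0, 0], [], [], [], [], [], [], [], [], [], [],
  [], [2, 1, 1, 2, 1, 1, 2, 0, 2], [], [], [], [2, 1, 2, 0, 0, 2, 0, 0, 2], [], [2, 1, 2, 0, 0, 2, 0,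
  0, 2, 0, 2, 1], [], [], [], [2, 0, 0, 2, 0, 2, 0, 0], [], [], [], [], [1, 2, 1, 1, 2, 1, 1, 1, 2, 1,
  2, 0, 2], [], [], [], [2, 1, 1, 2, 0, 2, 0, 2, 0, 0, 0, 2, 0], [], [2, 0, 2, 1, 1, 2, 1, 2, 0, 0,
  0], [], [], [], [0, 0, 0, 2, 0, 0, 2, 0, 0, 2, 1, 1], [], [], [], [], [], [], [], [2, 0, 0, 2, 0, 2,
  0, 0, 0, 2, 1], [], [0, 2, 0, 2, 1, 1, 2, 1, 1, 2, 1, 1, 1], [], [1, 2, 1, 1, 1, 2, 0, 0, 0, 2, 0],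
  [], [1, 2, 0, 0, 2, 0, 2, 0, 0, 2], [], [], [], [], [], [], [0, 2, 1, 2, 1, 2, 0, 0, 2, 0, 0, 2],
  [], [2, 1, 2, 0, 2, 1, 1, 2, 0], [], [], [], [], [], [], [], [], [], [0, 2, 0, 0, 0, 2, 0, 0, 0],
  [], [1, 1, 2, 0, 0, 2, 1, 2], [], [], [], [2, 1, 1, 2, 1, 1, 2, 1, 2, 1, 1, 2, 0, 2], [], [1, 2, 0,
  0, 2, 0, 2, 1, 1, 1, 2, 0, 2, 0, 0], [], [], [], [0, 2, 1, 2, 1, 1, 2, 1, 1, 2, 0, 2], [], [], [],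
  [], [], [0, 2, 1, 2, 1, 2, 0, 2, 1, 1, 2, 0], [], [], [0, 0, 2, 1, 1, 2, 1, 1, 2, 1, 1, 2, 1], [],
  [0, 2, 1, 1, 2, 1, 1, 1, 2, 0, 0, 0, 2, 0], [], [], [], [2, 0, 2, 1, 1, 1, 2, 1, 1, 2], [], [], [],
  [], [], [1, 1, 1, 2, 1, 1, 1, 2, 1], []]

/-- Words moving `12` to the singular vectors. -/
def tabT : List (List ℕ) :=
  [[], [0, 2, 0, 2, 1, 1, 2, 0], [1, 2, 1, 2, 0, 0], [1, 2, 0, 0, 2, 0, 0, 0], [1, 2, 0, 0, 2, 0], [1,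
  1, 1, 2, 1, 1, 2, 0], [0, 2, 0, 0, 0, 2, 1], [0, 2, 1, 2, 0, 2, 1], [1, 2, 1, 1, 2, 1], [0, 0, 0, 2,
  0, 0], [0, 2, 0, 2, 1], [1, 1, 1, 2, 1, 1], [], [1, 1, 1], [0, 2, 0, 2, 0, 0], [1, 2, 0, 2, 0, 2,
  0], [1, 1, 2, 0], [], [2, 1, 1, 2, 0], [], [1, 2, 1, 2, 1], [], [2, 1, 2, 1, 2, 1], [], [2, 0, 2, 0,
  2, 0], [], [0, 2, 0, 2, 0], [], [1, 2, 0, 2, 1], [], [2, 1, 2, 0, 2, 1], [], [0, 0, 0, 2, 0], [2, 1,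
  2, 0, 0, 0, 2, 0], [], [], [1, 1], [0, 0, 0], [], [], [1, 2, 0, 0, 0, 2, 0], [2, 0, 0, 0, 2, 0], [],
  [], [2, 0, 0, 0], [2, 1, 1], [], [], [0, 2, 1], [], [], [1, 1, 2, 0, 0, 2, 0, 0], [1, 2, 1, 1, 2,
  0], [], [], [1, 2, 0, 0], [1, 2, 0, 0, 0, 2, 1], [], [], [2, 0, 2, 1], [2, 1, 2, 0, 0], [], [], [2,
  1, 2, 1, 1, 2, 0], [0, 0, 2, 1], [0, 0, 0, 2, 0, 2, 0, 0], [0, 0, 2, 1, 1, 1, 2, 0, 0], [0, 2, 0, 0,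
  2, 0, 0], [], [], [], [], [0, 2, 0, 2, 0, 2, 1, 1], [1, 2, 1, 1, 2, 0, 0, 0], [1, 1, 2, 1, 1], [0,
  0, 2, 1, 1, 2, 0], [], [], [], [], [0, 0, 2, 0], [], [2, 0, 0, 2, 0], [], [], [0, 0, 2, 0, 2, 0],
  [], [2, 0, 0, 2, 0, 2, 0], [1, 1, 2, 0, 2, 0, 0], [], [0, 0, 0, 2, 1, 2, 1], [], [], [1, 1, 2, 0, 0,
  2, 0], [], [2, 1, 1, 2, 0, 0, 2, 0], [2, 0, 2, 0, 2, 0, 2, 0], [1, 2, 0, 2, 0, 2, 1, 1], [], [], [],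
  [], [2, 0, 2, 0, 0], [0, 2, 1, 2, 1, 1], [1, 1, 1, 2, 1, 2, 1, 1], [0, 2, 0, 2, 0, 2, 0], [], [],
  [], [], [2, 0, 2, 1, 2, 1, 1], [0, 2, 0, 0], [1, 1, 1, 2, 1], [], [], [2, 0, 0, 2, 0, 0], [], [1, 2,
  1, 1], [1, 1, 1, 2, 0, 0], [], [0, 0, 2, 0, 0], [], [], [0, 2, 0, 0, 0], [], [2, 1, 1, 1, 2, 0, 0],
  [2, 1, 2, 1, 1], [], [1, 2, 1], [0, 2, 0, 0, 2, 0, 2, 0], [2, 1, 2, 1], [0, 2, 0, 0, 2, 0, 0, 0],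
  [1, 1, 2, 0, 0, 0], [0, 0, 2, 0, 2, 1], [2, 1, 1, 2, 0, 0, 0], [2, 0, 0, 2, 0, 2, 1], [], [], [],
  [], [], [], [], [], [1, 1, 1, 2, 0], [], [1, 2, 0, 0, 0], [], [0, 2, 1, 1, 1, 2, 0, 0], [], [1, 2,
  1, 2, 1, 1], [], [], [1, 2, 0, 2, 0, 0], [], [0, 0, 2, 1, 2, 1], [], [1, 1, 2, 1, 1, 2, 0], [], [1,
  1, 2, 1, 1, 2, 1], [0, 2, 0], [0, 0, 2, 1, 2, 0, 2, 1], [], [], [0, 2, 0, 2, 1, 1], [1, 1, 1, 2, 1,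
  2, 1], [], [], [], [], [1, 1, 2, 1, 1, 1, 2, 0, 0], [2, 0, 2, 0], [], [], [0, 2, 1, 1, 2, 0, 0, 0],
  [2, 0, 2, 0, 2, 1, 1], [1, 1, 2, 1], [], [], [1, 2, 0, 0, 2, 0, 0], [0, 2, 1, 1], [], [], [0, 2, 0,
  2, 1, 2, 1, 1], [], [2, 1, 1, 2, 1], [2, 1, 2, 0, 0, 2, 0, 0], [], [], [2, 0, 2, 1, 1], [0, 2, 1, 2,
  1, 2, 1], [], [2, 1], [0, 0, 2, 1, 2, 1, 1], [1], [2, 0, 0, 2, 1, 2, 1, 1], [], [], [], [], [], [],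
  [], [], [2, 0, 0, 2, 0, 0, 0, 2, 0], [1, 1, 2, 1, 2, 1], [0, 0, 2, 0, 0, 0, 2, 0], [2, 1, 1, 2, 1,
  2, 1], [1, 2, 0], [], [0, 0, 2, 1, 1], [], [], [1, 2, 1, 1, 1, 2, 0, 0], [], [0, 0, 2, 0, 2, 0, 0],
  [], [1, 1, 2, 1, 2, 1, 1], [], [1, 1, 1, 2, 1, 1, 1, 2, 0, 0], [0, 0, 0, 2, 1, 1], [], [1, 1, 2, 0,
  0], [], [2, 0], [2, 0, 0], [], [], [], [], [0, 2, 0, 0, 0, 2, 0], [2, 0, 2, 1, 1, 2, 0], [], [], [0,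
  0], [0], [0, 2, 1, 1, 2, 0], [1, 1, 1, 2, 0, 0, 0], [], [], [0, 0, 0, 2, 1], [], [], [2, 0, 0, 2, 0,
  0, 0], [], [2, 0, 2, 1, 2, 1], [0, 2, 1, 1, 2, 1], [], [], [2, 0, 0, 0, 2, 1], [0, 0, 2, 0, 0, 0],
  [], [0, 2, 1, 2, 1], [], [], [2, 0, 2, 1, 1, 2, 1]]

/-- Words moving `76` to the nonsingular vectors. -/
def tabN : List (List ℕ) :=
  [[], [], [], [], [], [], [], [], [], [], [], [], [], [], [], [], [], [2, 0, 0, 0, 2, 1, 2, 0], [],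
  [0, 0, 0, 2, 1, 2, 0], [], [2, 1, 2, 1, 2, 0, 0, 2, 0], [], [1, 2, 1, 2, 0, 0, 2, 0], [], [2, 0],
  [], [0], [], [2, 0, 2, 0, 0, 0, 2, 1, 2, 0], [], [0, 2, 0, 0, 0, 2, 1, 2, 0], [], [], [2, 0, 2, 0,
  0, 2, 1, 1, 2, 1], [1, 1, 1, 2, 1, 2, 0], [], [], [1, 2, 0, 0, 2, 0, 0, 2, 0, 0, 2, 0], [1, 2, 0, 2,
  1], [], [], [2, 1, 1, 1, 2, 1, 2, 0], [0, 2, 0, 0, 2, 1, 1, 2, 1], [], [], [1, 1, 1, 2, 1, 1], [1,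
  1, 1, 2, 0, 0, 2, 0, 0, 2, 0], [], [2, 0, 2, 1], [2, 0, 0, 2, 1, 1], [], [], [2, 0, 0, 2, 0], [0, 0,
  0, 2, 1, 1], [], [], [0, 0, 2, 1, 1], [0, 2, 1], [], [], [2, 0, 0, 0, 2, 1, 1], [0, 0, 2, 0], [],
  [], [], [], [], [0, 2, 1, 2, 0, 0, 2, 1, 1], [1, 2, 1, 2, 0, 0, 2, 1, 1], [1, 1, 2, 0, 0, 2, 1], [1,
  1, 2, 1, 1], [], [], [], [], [], [0, 2, 1, 2, 1, 2, 0, 0, 2, 0], [1, 1, 2, 0, 2, 1], [1, 1, 2, 0],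
  [], [1, 2, 1, 1], [], [0, 2, 1, 2, 0], [2, 0, 0, 0, 2, 1, 1, 1], [], [0, 0, 0, 2, 1, 1, 1], [], [],
  [0, 0, 2, 1, 1, 1], [], [2, 0, 0, 2, 1, 1, 1], [1, 1, 1, 2, 0, 0, 2, 0], [], [0, 2, 0, 0, 2, 0, 0,
  2, 0], [], [], [], [0, 0, 0, 2, 0, 0, 2, 0], [1, 1, 2, 1, 2, 0], [1, 2, 0, 0, 2, 1, 1], [1, 1, 2, 0,
  0, 0, 2, 1, 1, 1], [], [], [], [], [2, 1, 1, 2, 1, 2, 0], [2, 0, 0, 0, 2, 0, 0, 2, 0], [2, 1, 1, 2,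
  0, 0, 0, 2, 1, 1, 1], [2, 1, 2, 0, 0, 2, 1, 1], [], [], [], [2, 1, 2, 0, 0, 2, 0], [0, 2, 0, 0, 0,
  2, 1, 1, 1], [], [0, 2, 0, 2, 0], [], [], [2, 0, 2, 0, 0, 2, 1, 1], [], [1, 2, 0, 0, 2, 0, 0, 2, 0],
  [1, 2, 0, 0, 2, 0], [], [0, 2, 0, 0, 2, 1, 1], [], [], [2, 0, 2, 0, 2, 0], [], [], [], [], [], [],
  [], [], [1, 1, 2, 0, 0, 2, 0, 0, 2, 0], [0, 0, 0, 2, 0, 0, 0, 2, 1, 2, 0], [1, 1, 2, 1, 2, 0, 0, 2,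
  1, 1], [1, 1, 1, 2, 1, 2, 0, 0, 2, 1, 1], [2, 0, 0, 2, 1, 1, 2, 1], [1, 1, 1], [0, 0, 2, 1, 1, 2,
  1], [2, 1, 1, 1], [], [0, 2, 0, 0, 2, 1], [], [1, 2, 1, 2, 0], [], [0, 0, 0], [], [0, 0, 0, 2, 0],
  [0, 0, 2, 0, 0, 0, 2, 0, 0, 2, 1], [], [0, 0], [], [1, 2, 1], [], [1, 2, 0, 0, 2, 1], [], [], [],
  [0, 0, 2, 1, 2, 0, 0, 2, 1, 1], [2, 1, 2, 1, 1, 2, 1], [], [], [0, 2, 0], [1, 2, 0, 0, 0, 2, 0, 0,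
  2, 1], [1, 2, 1, 1, 2, 1], [2, 0, 0, 2, 1, 2, 0, 0, 2, 1, 1], [], [], [2, 1, 2, 0, 0, 0, 2, 0, 0, 2,
  1], [2, 0, 2, 0], [], [], [], [1, 1, 1, 2, 0], [1, 1, 2, 0, 0, 0, 2, 0, 0, 2, 0], [], [], [2, 1, 2,
  0, 0, 0, 2, 0, 0, 2, 0], [1, 2, 0, 2, 1, 1, 2, 1, 2, 0], [], [0, 2, 1, 1], [], [], [2, 1, 1, 2, 0,
  0, 0, 2, 0, 0, 2, 0], [1, 2, 0, 0, 0, 2, 0, 0, 2, 0], [], [], [0, 2, 0, 0, 0, 2, 0, 0, 2, 1], [],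
  [], [], [], [0, 0, 2, 0, 0, 2, 0], [0, 0, 2, 1], [2, 0, 0, 2, 0, 0, 2, 0], [2, 0, 0, 2, 1], [0, 0,
  2, 0, 0, 0, 2, 1, 2, 0], [2, 1, 1, 2, 0, 0, 2, 0], [2, 0, 0, 2, 0, 0, 0, 2, 1, 2, 0], [1, 1, 2, 0,
  0, 2, 0], [], [], [], [], [], [0, 0, 0, 2, 0, 0, 2, 0, 0, 2, 0], [], [0, 0, 2, 1, 2, 0], [0, 0, 2,
  1, 2, 1, 2, 0, 0, 2, 0], [], [0, 2, 1, 1, 2, 1], [], [0, 2, 1, 1, 1], [], [0, 0, 2, 0, 0, 2, 1, 1,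
  2, 1], [], [], [0, 2, 0, 0, 2, 0], [], [0, 0, 2, 0, 0, 2, 1], [], [], [1, 1, 2, 1], [2, 1, 2, 0],
  [1, 1], [0, 2, 1, 1, 2, 1, 2, 0], [], [], [1, 2, 0], [2, 1, 1, 2, 1], [], [], [], [], [2, 0, 2, 1,
  1, 2, 1, 2, 0], [2, 1, 1], [], [2, 0, 0, 0, 2, 0, 0, 2, 1], [1], [], [2, 1, 2, 0, 0, 0, 2, 1, 1, 1],
  [], [], [0, 0, 2, 0, 0, 2, 0, 0, 2, 0], [0, 0, 0, 2, 0, 0, 2, 1], [], [], [2, 1], [], [1, 2, 0, 0,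
  0, 2, 1, 1, 1], [2, 0, 0, 2, 0, 0, 2, 0, 0, 2, 0], []]

theorem chkU : (List.range 256).all (fun x => !(qf x) || Nat.beq (app (tabU.getD x []) 19) x) = true := by
  decide +kernel

theorem chkS : (List.range 256).all (fun y => !(qf y) || bf 19 y || Nat.beq y 19 ||
    (Nat.beq (app (tabS.getD y []) 19) 19 && Nat.beq (app (tabS.getD y []) 35) y)) = true := by
  decide +kernel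

theorem chkT : (List.range 256).all (fun x => qf x || Nat.beq x 0 || Nat.beq (app (tabT.getD x []) 12) x) = true := by
  decide +kernel

theorem chkN : (List.range 256).all (fun x => !(qf x) || Nat.beq (app (tabN.getD x []) 76) x) = true := by
  decide +kernel

end Cfsg.Agent.StdG24.ExOrb
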