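import Cfsg.Agent.StdG24.ExMain

/-!
The subspace lemma: for every proper subgroup `B` of `Q` containing `z` there is a root `v` of the centralizer of `z`
normalising `B` such that `[Q, v]` is not in `B`, or every coset of `B` in `Q` outside `B` contains an element `x` such
that `v x` is a root.
-/

set_option autoImplicit false

namespace Cfsg.Agent.StdG24.ExSub

open Cfsg Cfsg.Agent.CoOneType.CoEval Cfsg.Agent.StdG24.ExAlg Cfsg.Agent.StdG24.ExOrb Cfsg.Agent.StdG24.ExInst
  Cfsg.Agent.StdG24.ExNorm Cfsg.Agent.StdG24.ExMain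

/-! ### the forms -/

theorem be_xor_left (x y w : ℕ) : be (x ^^^ y) w = (be x w ^^ be y w) := by
  unfold be
  simp only [Nat.testBit_xor]
  cases x.testBit 4 <;> cases x.testBit 5 <;> cases x.testBit 6 <;> cases x.testBit 7 <;>
    cases y.testBit 4 <;> cases y.testBit 5 <;> cases y.testBit 6 <;> cases y.testBit 7 <;>
    cases w.testBit 0 <;> cases w.testBit 1 <;> cases w.testBit 2 <;> cases w.testBit 3 <;> rfl

theorem be_xor_right (x y w : ℕ) : be w (x ^^^ y) = (be w x ^^ be w y) := by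
  unfold be
  simp only [Nat.testBit_xor]
  cases w.testBit 4 <;> cases w.testBit 5 <;> cases w.testBit 6 <;> cases w.testBit 7 <;>
    cases y.testBit 0 <;> cases y.testBit 1 <;> cases y.testBit 2 <;> cases y.testBit 3 <;>
    cases x.testBit 0 <;> cases x.testBit 1 <;> cases x.testBit 2 <;> cases x.testBit 3 <;> rfl

theorem bf_xor_left (x y w : ℕ) : bf (x ^^^ y) w = (bf x w ^^ bf y w) := by
  unfold bf
  rw [be_xor_left, be_xor_right]
  cases be x w <;> cases be y w <;> cases be w x <;> cases be w y <;> rfl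

theorem bf_xor_right (x y w : ℕ) : bf w (x ^^^ y) = (bf w x ^^ bf w y) := by
  rw [bf_comm, bf_xor_left, bf_comm x, bf_comm y]

theorem qf_xor (x y : ℕ) : qf (x ^^^ y) = ((qf x ^^ qf y) ^^ bf x y) := by
  unfold qf bf
  rw [be_xor_left, be_xor_right, be_xor_right]
  cases be x x <;> cases be x y <;> cases be y x <;> cases be y y <;> rfl

theorem bf_self (x : ℕ) : bf x x = false := by
  unfold bf; cases be x x <;> rfl

theorem bf_zero_left (x : ℕ) : bf 0 x = false := by
  unfold bf be; simp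

theorem bf_zero_right (x : ℕ) : bf x 0 = false := by rw [bf_comm, bf_zero_left]

theorem qf_zero : qf 0 = false := by decide

/-! ### the double orthogonal -/

/-- Bit to field. -/
def b2 (b : Bool) : ZMod 2 := if b then 1 else 0

theorem b2_xor (a b : Bool) : b2 (a ^^ b) = b2 a + b2 b := by cases a <;> cases b <;> decide

theorem b2_and (a b : Bool) : b2 (a && b) = b2 a * b2 b := by cases a <;> cases b <;> decide

theorem b2_inj {a b : Bool} (h : b2 a = b2 b) : a = b := by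
  cases a <;> cases b <;> first | rfl | exact absurd h (by decide)

/-- The vector of `x`. -/
def tv (x : ℕ) : Fin 8 → ZMod 2 := fun k => b2 (x.testBit k)

theorem tv_xor (x y : ℕ) : tv (x ^^^ y) = tv x + tv y := by
  funext k
  show b2 ((x ^^^ y).testBit k) = b2 (x.testBit k) + b2 (y.testBit k)
  rw [Nat.testBit_xor, b2_xor]

theorem tv_inj {x y : ℕ} (hx : x < 256) (hy : y < 256) (h : tv x = tv y) : x = y := by
  apply Nat.eq_of_testBit_eq
  intro i
  by_cases hi : i < 8
  · exact b2_inj (congrFun h ⟨i, hi⟩)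
  · have h2 : 2 ^ 8 ≤ 2 ^ i := Nat.pow_le_pow_right (by norm_num) (by omega)
    rw [Nat.testBit_lt_two_pow (by omega), Nat.testBit_lt_two_pow (by omega)]

theorem b2_bf (x h : ℕ) : b2 (bf x h) = ∑ k : Fin 8, tv x k * tv h (k + 4) := by
  have h1 : ∑ k : Fin 8, tv x k * tv h (k + 4) = tv x 0 * tv h 4 + tv x 1 * tv h 5 + tv x 2 * tv h 6 +
      tv x 3 * tv h 7 + tv x 4 * tv h 0 + tv x 5 * tv h 1 + tv x 6 * tv h 2 + tv x 7 * tv h 3 := by
    rw [Fin.sum_univ_eight]
    rfl
  have h2 : b2 (bf x h) = (tv x 4 * tv h 0 + tv x 5 * tv h 1 + (tv x 6 * tv h 2 + tv x 7 * tv h 3)) +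
      (tv h 4 * tv x 0 + tv h 5 * tv x 1 + (tv h 6 * tv x 2 + tv h 7 * tv x 3)) := by
    unfold bf be
    simp only [b2_xor, b2_and]
    rfl
  rw [h1, h2]
  ring

/-- A set of vectors closed under addition. -/
structure Cl (P : ℕ → Prop) : Prop where
  lt : ∀ x, P x → x < 256
  zero : P 0
  add : ∀ x y, P x → P y → P (x ^^^ y)

/-- The subspace. -/
def sub {P : ℕ → Prop} (h : Cl P) : Submodule (ZMod 2) (Fin 8 → ZMod 2) where
  carrier := {v | ∃ x, P x ∧ tv x = v}
  zero_mem' := ⟨0, h.zero, by funext k; simp [tv, b2]⟩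
  add_mem' := by
    rintro _ _ ⟨x, hx, rfl⟩ ⟨y, hy, rfl⟩
    exact ⟨x ^^^ y, h.add x y hx hy, tv_xor x y⟩
  smul_mem' := by
    rintro c _ ⟨x, hx, rfl⟩
    have : c = 0 ∨ c = 1 := by revert c; decide
    rcases this with rfl | rfl
    · exact ⟨0, h.zero, by funext k; simp [tv, b2]⟩
    · exact ⟨x, hx, by rw [one_smul]⟩

/-- The double orthogonal. -/
theorem dp {P : ℕ → Prop} (h : Cl P) {x : ℕ} (hx : x < 256) (hP : ¬ P x) :
    ∃ u < 256, (∀ y, P y → bf y u = false) ∧ bf x u = true := by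
  have h1 : tv x ∉ sub h := by
    rintro ⟨y, hy, hxy⟩
    rw [tv_inj (h.lt y hy) hx hxy] at hy
    exact hP hy
  obtain ⟨f, hf, hle⟩ := Submodule.exists_le_ker_of_notMem h1
  set u : ℕ := Nat.ofBits fun k : Fin 8 => decide (f (Pi.single (k + 4) 1) = 1) with hu
  have hu256 : u < 256 := Nat.ofBits_lt_two_pow _
  have htv : ∀ k : Fin 8, tv u (k + 4) = f (Pi.single k 1) := by
    intro k
    have h2 : tv u (k + 4) = b2 (decide (f (Pi.single (k + 4 + 4) 1) = 1)) := by
      unfold tv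
      rw [hu, Nat.testBit_ofBits_lt _ _ (k + 4).2]
    rw [h2, add_assoc, show (4 : Fin 8) + 4 = 0 from rfl, add_zero]
    have h3 : ∀ a : ZMod 2, b2 (decide (a = 1)) = a := by decide
    exact h3 _
  have hf2 : ∀ y : ℕ, f (tv y) = b2 (bf y u) := by
    intro y
    rw [b2_bf]
    have h3 : tv y = ∑ k : Fin 8, tv y k • (Pi.single k 1 : Fin 8 → ZMod 2) := by
      funext j
      rw [Finset.sum_apply, Finset.sum_eq_single j]
      · simp
      · intro k _ hk
        rw [Pi.smul_apply, Pi.single_eq_of_ne (Ne.symm hk), smul_zero]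
      · intro h; exact absurd (Finset.mem_univ j) h
    conv_lhs => rw [h3]
    rw [map_sum]
    refine Finset.sum_congr rfl fun k _ => ?_
    rw [map_smul, htv, smul_eq_mul]
  refine ⟨u, hu256, ?_, ?_⟩
  · intro y hy
    have h2 : tv y ∈ sub h := ⟨y, hy, rfl⟩
    have h3 : f (tv y) = 0 := LinearMap.mem_ker.1 (hle h2)
    rw [hf2] at h3
    exact b2_inj h3
  · have h3 := hf
    rw [hf2] at h3
    cases h4 : bf x u
    · rw [h4] at h3; exact absurd rfl h3
    · rfl

/-! ### the case distinction -/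

/-- The pair `a`, `b` defines a root element normalising the subspace, with `a` in `[V, v]` but not in it. -/
structure Good (P : ℕ → Prop) (a b : ℕ) : Prop where
  la : a < 256
  lb : b < 256
  qa : qf a = true
  qb : qf b = true
  ab : bf a b = false
  ne : a ≠ b
  st : ∀ x, P x → P ((x ^^^ sel (bf x a) a) ^^^ sel (bf x b) b)
  na : ¬ P a

/-- Orthogonality to the subspace. -/
def Perp (P : ℕ → Prop) (y : ℕ) : Prop := y < 256 ∧ ∀ x, P x → bf x y = false

theorem Perp.add {P : ℕ → Prop} {x y : ℕ} (hx : Perp P x) (hy : Perp P y) : Perp P (x ^^^ y) :=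
  ⟨xor_lt hx.1 hy.1, fun w hw => by rw [bf_xor_right, hx.2 w hw, hy.2 w hw]; rfl⟩

theorem caseA {P : ℕ → Prop} (hP : Cl P) {s h : ℕ} (hs : P s) (hs' : Perp P s) (hs0 : s ≠ 0)
    (hqs : qf s = false) (hh : Perp P h) (hh0 : h ≠ 0) (hhs : h ≠ s) : ∃ a b, Good P a b := by
  have h1 := List.all_eq_true.1 chkA s (List.mem_range.2 hs'.1)
  rw [hqs, beq_false hs0, Bool.false_or, Bool.false_or] at h1
  have h2 := List.all_eq_true.1 h1 h (List.mem_range.2 hh.1)
  rw [beq_false hh0, beq_false hhs, hh.2 s hs, Bool.false_or, Bool.false_or, Bool.false_or,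
    List.any_eq_true] at h2
  obtain ⟨a, ha, h3⟩ := h2
  simp only [Bool.and_eq_true, Bool.not_eq_true'] at h3
  obtain ⟨⟨hqa, hah⟩, has⟩ := h3
  have ha256 := List.mem_range.1 ha
  refine ⟨a, a ^^^ s, ha256, xor_lt ha256 hs'.1, hqa, ?_, ?_, ?_, ?_, ?_⟩
  · rw [qf_xor, hqa, hqs, has]; rfl
  · rw [bf_xor_right, bf_self, has]; rfl
  · intro h4
    apply hs0
    have h5 : a ^^^ (a ^^^ s) = 0 := by rw [← h4, Nat.xor_self]
    rwa [← Nat.xor_assoc, Nat.xor_self, Nat.zero_xor] at h5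
  · intro x hx
    rw [bf_xor_right, hs'.2 x hx, Bool.xor_false]
    cases bf x a
    · show P ((x ^^^ 0) ^^^ 0)
      rw [Nat.xor_zero, Nat.xor_zero]; exact hx
    · show P ((x ^^^ a) ^^^ (a ^^^ s))
      rw [Nat.xor_assoc, ← Nat.xor_assoc a, Nat.xor_self, Nat.zero_xor]
      exact hP.add x s hx hs
  · intro h4
    rw [hh.2 a h4] at hah
    exact absurd hah (by decide)

theorem cases_main {P : ℕ → Prop} (hP : Cl P) (hne : ∃ x < 256, ¬ P x) :
    (∃ a b, Good P a b) ∨ ∃ w < 256, w ≠ 0 ∧ ∀ x < 256, (P x ↔ bf x w = false) := by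
  by_cases hA : ∃ s h, P s ∧ Perp P s ∧ s ≠ 0 ∧ qf s = false ∧ Perp P h ∧ h ≠ 0 ∧ h ≠ s
  · obtain ⟨s, h, h1, h2, h3, h4, h5, h6, h7⟩ := hA
    exact Or.inl (caseA hP h1 h2 h3 h4 h5 h6 h7)
  by_cases hB : ∃ h, Perp P h ∧ ¬ P h
  · left
    obtain ⟨h, hh, hhP⟩ := hB
    have ha : ∃ a, Perp P a ∧ ¬ P a ∧ qf a = true := by
      cases hq : qf h
      · obtain ⟨u, hu, hu1, hu2⟩ := dp hP hh.1 hhP
        have hup : Perp P u := ⟨hu, hu1⟩
        cases hqu : qf u
        · refine ⟨h ^^^ u, hh.add hup, ?_, ?_⟩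
          · intro h4
            have h5 := hh.2 _ h4
            rw [bf_xor_left, bf_self, bf_comm u, hu2] at h5
            exact absurd h5 (by decide)
          · rw [qf_xor, hq, hqu, hu2]; rfl
        · refine ⟨u, hup, ?_, hqu⟩
          intro h4
          have h5 := hh.2 _ h4
          rw [bf_comm, hu2] at h5
          exact absurd h5 (by decide)
      · exact ⟨h, hh, hhP, hq⟩
    obtain ⟨a, hap, haP, hqa⟩ := ha
    by_cases hb : ∃ b, P b ∧ qf b = true
    · obtain ⟨b, hbP, hqb⟩ := hb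
      refine ⟨a, b, hap.1, hP.lt b hbP, hqa, hqb, ?_, ?_, ?_, haP⟩
      · rw [bf_comm]; exact hap.2 b hbP
      · rintro rfl; exact haP hbP
      · intro x hx
        rw [hap.2 x hx]
        show P ((x ^^^ 0) ^^^ sel (bf x b) b)
        rw [Nat.xor_zero]
        cases bf x b
        · show P (x ^^^ 0)
          rw [Nat.xor_zero]; exact hx
        · exact hP.add x b hx hbP
    · have hsing : ∀ x, P x → qf x = false := by
        intro x hx
        rw [Bool.eq_false_iff]
        exact fun h4 => hb ⟨x, hx, h4⟩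
      by_cases hs : ∃ s, P s ∧ s ≠ 0
      · obtain ⟨s, hs, hs0⟩ := hs
        exfalso
        apply hA
        refine ⟨s, h, hs, ⟨hP.lt s hs, ?_⟩, hs0, hsing s hs, hh, ?_, ?_⟩
        · intro x hx
          have h4 := hsing _ (hP.add x s hx hs)
          rw [qf_xor, hsing x hx, hsing s hs] at h4
          simpa using h4
        · rintro rfl; exact hhP hP.zero
        · rintro rfl; exact hhP hs
      · have hP0 : ∀ x, P x → x = 0 := by
          intro x hx
          by_contra h4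
          exact hs ⟨x, hx, h4⟩
        refine ⟨19, 35, by norm_num, by norm_num, by decide, by decide, by decide, by decide, ?_, ?_⟩
        · intro x hx
          rw [hP0 x hx]
          have h4 : (0 ^^^ sel (bf 0 19) 19) ^^^ sel (bf 0 35) 35 = 0 := by decide
          rw [h4]; exact hP.zero
        · intro h4
          exact absurd (hP0 _ h4) (by decide)
  · right
    have hB' : ∀ h, Perp P h → P h := by
      intro h hh
      by_contra h4
      exact hB ⟨h, hh, h4⟩
    obtain ⟨x₀, hx₀, hx₀P⟩ := hne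
    obtain ⟨w, hw, hw1, hw2⟩ := dp hP hx₀ hx₀P
    have hwp : Perp P w := ⟨hw, hw1⟩
    have hw0 : w ≠ 0 := by
      rintro rfl
      rw [bf_zero_right] at hw2
      exact absurd hw2 (by decide)
    have huniq : ∀ h, Perp P h → h ≠ 0 → h = w := by
      intro h hh hh0
      by_contra hhw
      apply hA
      cases hqw : qf w
      · exact ⟨w, h, hB' w hwp, hwp, hw0, hqw, hh, hh0, hhw⟩
      cases hqh : qf h
      · exact ⟨h, w, hB' h hh, hh, hh0, hqh, hwp, hw0, Ne.symm hhw⟩
      refine ⟨w ^^^ h, w, hP.add _ _ (hB' w hwp) (hB' h hh), hwp.add hh, ?_, ?_, hwp, hw0, ?_⟩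
      · intro h4
        exact hhw (Nat.xor_eq_zero_iff.1 h4).symm
      · rw [qf_xor, hqw, hqh, hh.2 w (hB' w hwp)]; rfl
      · intro h4
        apply hh0
        have h5 : w ^^^ (w ^^^ h) = 0 := by rw [← h4, Nat.xor_self]
        rwa [← Nat.xor_assoc, Nat.xor_self, Nat.zero_xor] at h5
    refine ⟨w, hw, hw0, fun x hx => ⟨fun h4 => hw1 x h4, fun h4 => ?_⟩⟩
    by_contra h5
    obtain ⟨u, hu, hu1, hu2⟩ := dp hP hx h5
    have hu0 : u ≠ 0 := by
      rintro rfl
      rw [bf_zero_right] at hu2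
      exact absurd hu2 (by decide)
    rw [huniq u ⟨hu, hu1⟩ hu0, h4] at hu2
    exact absurd hu2 (by decide)

/-! ### the subspace lemma -/

theorem Is.inv {x : ℕ} {c : Spor.Co1} (hc : Is qg z x c) : Is qg z x c⁻¹ := by
  have h1 := sq_eq es hc
  have h2 : c⁻¹ = c * ExAlg.zz z (qf x) := by
    rw [inv_eq_iff_mul_eq_one, ← mul_assoc, h1, zz_mul es, Bool.xor_self]
    rfl
  rw [h2]
  exact hc.z_mul es _

/-- The subspace lemma. -/
theorem EL (B : Subgroup Spor.Co1) (hz : z ∈ B) (hBQ : B ≤ Q) (hne : B ≠ Q) :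
    ∃ v : Spor.Co1, Root v ∧ v * z = z * v ∧ (∀ b ∈ B, v * b * v⁻¹ ∈ B) ∧
      ((∃ q ∈ Q, v * q * v⁻¹ * q⁻¹ ∉ B) ∨
        (∀ q ∈ Q, q ∉ B → ∃ b ∈ B, Root (v * q * b) ∧ v * q * b * z = z * (v * q * b))) := by
  set P : ℕ → Prop := fun x => x < 256 ∧ ev qg x ∈ B with hPdef
  have mem_iff : ∀ {x : ℕ} {c : Spor.Co1}, x < 256 → Is qg z x c → (c ∈ B ↔ P x) := by
    intro x c hx hc
    obtain ⟨b, rfl⟩ := (is_ev x).eq_or es hc
    have hzb : ExAlg.zz z b ∈ B := by
      cases b
      · exact one_mem B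
      · exact hz
    rw [Subgroup.mul_mem_cancel_right B hzb]
    exact ⟨fun h => ⟨hx, h⟩, fun h => h.2⟩
  have hcl : Cl P := by
    refine ⟨fun x h => h.1, ⟨by norm_num, by rw [ev_zero]; exact one_mem B⟩, ?_⟩
    rintro x y ⟨hx, hx'⟩ ⟨hy, hy'⟩
    exact (mem_iff (xor_lt hx hy) ((is_ev x).mul es (is_ev y))).1 (mul_mem hx' hy')
  have hex : ∃ x < 256, ¬ P x := by
    by_contra h
    push Not at h
    apply hne
    apply le_antisymm hBQ
    intro c hc
    obtain ⟨x, hx, hxc⟩ := exists_is hc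
    exact (mem_iff hx hxc).2 (h x hx)
  rcases cases_main hcl hex with ⟨a, b, hG⟩ | ⟨w, hw, hw0, hP⟩
  · obtain ⟨v, hv, hvz, H⟩ := exists_root hG.la hG.lb hG.qa hG.qb hG.ab hG.ne
    refine ⟨v, hv, hvz, ?_, Or.inl ?_⟩
    · intro c hc
      obtain ⟨x, hx, hxc⟩ := exists_is (hBQ hc)
      have h1 := H x c hx hxc
      exact (mem_iff (xor_lt (xor_lt hx (sel_lt hG.la)) (sel_lt hG.lb)) h1).2
        (hG.st x ((mem_iff hx hxc).1 hc))
    · have ha0 : a ≠ 0 := by
        rintro rfl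
        exact hG.na hcl.zero
      have h1 := List.all_eq_true.1 chkB a (List.mem_range.2 hG.la)
      rw [beq_false ha0, Bool.false_or] at h1
      have h2 := List.all_eq_true.1 h1 b (List.mem_range.2 hG.lb)
      rw [beq_false hG.ne.symm, Bool.false_or, List.any_eq_true] at h2
      obtain ⟨x, hx, h3⟩ := h2
      simp only [Bool.and_eq_true, Bool.not_eq_true'] at h3
      have hx256 := List.mem_range.1 hx
      refine ⟨ev qg x, ev_mem hx256, ?_⟩
      have h4 := H x _ hx256 (is_ev x)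
      rw [h3.1, h3.2] at h4
      have h5 : Is qg z ((x ^^^ a) ^^^ 0) (v * ev qg x * v⁻¹) := h4
      rw [Nat.xor_zero] at h5
      have h6 := h5.mul es (Is.inv (is_ev x))
      rw [Nat.xor_comm x a, Nat.xor_assoc, Nat.xor_self, Nat.xor_zero] at h6
      rw [mem_iff hG.la h6]
      exact hG.na
  · obtain ⟨v, hv, hvz, hvw, q₁, hq₁, hq₁w, hr⟩ := hyper hw hw0
    have memB : ∀ {c : Spor.Co1}, c ∈ Q → (c ∈ B ↔ c * ev qg w = ev qg w * c) := by
      intro c hc
      obtain ⟨x, hx, hxc⟩ := exists_is hc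
      rw [mem_iff hx hxc, hP x hx, comm_iff es hxc (is_ev w)]
    refine ⟨v, hv, hvz, ?_, Or.inr ?_⟩
    · intro c hc
      rw [memB (norm_Q hvz (hBQ hc))]
      have h1 := (memB (hBQ hc)).1 hc
      have h2 : v⁻¹ * ev qg w = ev qg w * v⁻¹ := by
        rw [inv_mul_eq_iff_eq_mul, ← mul_assoc, hvw, mul_inv_cancel_right]
      calc v * c * v⁻¹ * ev qg w = v * (c * ev qg w) * v⁻¹ := by rw [mul_assoc _ v⁻¹, h2]; group
        _ = v * ev qg w * c * v⁻¹ := by rw [h1]; group
        _ = _ := by rw [hvw]; group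
    · intro q hq hqB
      have hb : q⁻¹ * q₁ ∈ B := by
        rw [memB (mul_mem (inv_mem hq) hq₁)]
        obtain ⟨x, hx, hxq⟩ := exists_is hq
        obtain ⟨y, hy, hyq⟩ := exists_is hq₁
        rw [comm_iff es ((Is.inv hxq).mul es hyq) (is_ev w), bf_xor_left]
        rw [memB hq, comm_iff es hxq (is_ev w)] at hqB
        rw [Ne, comm_iff es hyq (is_ev w)] at hq₁w
        rw [Bool.not_eq_false] at hqB hq₁w
        rw [hqB, hq₁w]
        rfl
      refine ⟨q⁻¹ * q₁, hb, ?_⟩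
      have h1 : v * q * (q⁻¹ * q₁) = v * q₁ := by group
      rw [h1]
      refine ⟨hr, mul_comm_z hvz ?_⟩
      obtain ⟨y, hy, hyq⟩ := exists_is hq₁
      exact (comm_z es hyq).eq.symm

end Cfsg.Agent.StdG24.ExSub
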