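import Cfsg.Agent.StdG24.ExFin
import Cfsg.Agent.StdG24.ExSub
import Cfsg.Agent.StdG24.CloBridge
import Cfsg.Agent.StdG24.CloEnd
import Cfsg.Agent.StdG24.CloInv

/-!
# The closing of S1767: the facts in `Spor.Co1`

`qfacts` : the facts on the extraspecial group of order `2 ^ 9`; `closing` : the closing theorem.
-/

set_option autoImplicit false

namespace Cfsg.Agent.StdG24.ExQFacts

open Cfsg Cfsg.Agent.SporadicA Cfsg.Agent.SporadicA.GolayBase Cfsg.Agent.SporadicA.Co0Mono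
  Cfsg.Agent.SporadicA.Co1Simple Cfsg.Agent.CoOneType.SignFacts
  Cfsg.Agent.Co2Type.Mono
  Cfsg.Agent.StdG24.ExNorm Cfsg.Agent.StdG24.ExCent
open Cfsg.Agent.CoOneType.CoEval (pr)
open Cfsg.Agent.StdG24.ExInst (z Q)
open Cfsg.Agent.CoOneType.ClosingFacts (mk)
open Cfsg.Agent.CoOneType.Thirteen (b0)
open Cfsg.Agent.SporadicStructure.Co0Base (e8 e8_coe)

theorem isConj_iff_root {k : Spor.Co1} : IsConj (mk b0) k ↔ Root k := by
  constructor
  · intro h
    obtain ⟨c, hc⟩ := isConj_iff.1 h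
    have h1 : Root (mk b0) := ⟨b0, rfl, CoOneType.Thirteen.b0_sq⟩
    have h2 := h1.conj c
    rwa [hc] at h2
  · rintro ⟨t, rfl, ht⟩
    obtain ⟨g, hg⟩ := CloEnd.a1' t ht
    exact (CoOneType.ClosingFacts.isConj_mk g hg).symm

theorem z_eq' : z = mk (signCo0 (cd oM)) := z_eq

/-- Elements fixing the sublattice supported on the octad are over `Q`. -/
theorem mem_Q_of_fixSup {g : Co0} (h : CloInv.FixSup (cd oM) g) : mk g ∈ Q := by
  apply pr_mem_Q
  intro i hi
  apply h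
  intro j hj
  rw [sup_oM] at hj
  rw [e8_coe, Pi.single_apply, if_neg]
  rintro rfl
  exact hj hi

/-- The facts on `Q`. -/
theorem qfacts : CloBridge.QFacts Spor.Co1 (mk b0) z Q where
  zQ := z_mem
  Qz := fun _ hq => Q_comm_z hq
  Qn := fun _ hy _ hq => norm_Q hy hq
  Qsq := fun _ hq => ExCent.sq hq
  Qcomm := fun _ hp _ hq => ExCent.comm hp hq
  Qcard := by rw [ExInst.card_Q]; norm_num
  Qext := fun _ hq h1 h2 => ExCent.ext hq h1 h2
  DQ := fun _ hq h => (isConj_iff_root.1 h).notMem hq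
  Q2A := fun _ hq h2 h1 _ => (ExFin.Q2A hq h2 h1).symm
  F1c := fun q hq h2 => by
    obtain ⟨v, h3, h4, h5⟩ := ExFin.F1 hq h2
    exact ⟨v, isConj_iff_root.2 h3, h4, h5⟩
  T3 := fun y _ hyz h1 h2 => by
    rw [z_eq'] at hyz h1 h2
    rcases CloInv.co1 wt_oM hyz h1.symm h2.symm with ⟨g, rfl, hg⟩ | ⟨k, ⟨v, hv, rfl⟩, h3, h4⟩
    · exact Or.inl (mem_Q_of_fixSup hg)
    · refine Or.inr ⟨_, isConj_iff_root.2 ⟨v, rfl, hv⟩, ?_, h4⟩
      rw [z_eq']
      exact h3
  four := by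
    obtain ⟨v, w, h1, h2, h3, h4, h5, h6⟩ := ExMain.four
    exact ⟨v, w, isConj_iff_root.2 h1, isConj_iff_root.2 h2, isConj_iff_root.2 h3, h4, h5, h6⟩
  CQ := fun _ h => ExCent.CQ h
  ab := ExFin.ab
  R2 := fun a ha b hb ha2 hb2 hab h1 h2 => by
    obtain ⟨v, hv, hvz, H⟩ := ExMain.R2 ha hb ha2 hb2 hab h1 h2
    refine ⟨v, isConj_iff_root.2 hv, hvz, fun x hx => ?_⟩
    obtain ⟨i, j, e, h3, h4, h5⟩ := H x hx
    refine ⟨i.toNat, j.toNat, e.toNat, ?_, ?_, ?_, ?_, ?_⟩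
    · cases i <;> decide
    · cases j <;> decide
    · rw [← h4]; cases i <;> decide
    · rw [← h5]; cases j <;> decide
    · rw [h3]
      cases i <;> cases j <;> cases e <;> simp
  EL := fun B h1 h2 h3 => by
    obtain ⟨v, hv, hvz, h4, h5⟩ := ExSub.EL B h1 h2 h3
    refine ⟨v, isConj_iff_root.2 hv, hvz, h4, ?_⟩
    rcases h5 with h5 | h5
    · exact Or.inl h5
    · right
      intro q hq hqB
      obtain ⟨b, hb, h6, -⟩ := h5 q hq hqB
      exact ⟨b, hb, isConj_iff_root.2 h6⟩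

theorem isConj_z : IsConj (mk (signCo0 CloEnd.o0w)) z := by
  rw [z_eq']
  exact CoOneType.ClosingFacts.isConj_octad CloEnd.wt_o0w wt_oM

/-- Change of `z` in its class. -/
theorem facts_congr {K : Type*} [Group K] {r z z' c : K} {E : Subgroup K}
    (F : CloFus.Facts K r z c E) (h : IsConj z z') : CloFus.Facts K r z' c E := by
  have key : ∀ k, IsConj z' k ↔ IsConj z k := fun k => ⟨fun h' => h.trans h', fun h' => h.symm.trans h'⟩
  obtain ⟨g, hg⟩ := isConj_iff.1 h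
  refine
    { r2 := F.r2
      r1 := F.r1
      z2 := ?_
      c2 := F.c2
      c1 := F.c1
      cases' := ?_
      zr := ?_
      cr := F.cr
      zc := ?_
      com_z := ?_
      com_c := F.com_c
      E2 := F.E2
      cE := F.cE
      Enorm := ?_
      Ecount := ?_ }
  · rw [← hg]
    have : g * z * g⁻¹ * (g * z * g⁻¹) = g * (z * z) * g⁻¹ := by group
    rw [this, F.z2]; group
  · intro k h2 h1
    rw [key]
    exact F.cases' k h2 h1
  · rw [key]; exact F.zr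
  · rw [key]; exact F.zc
  · obtain ⟨u, hu, hzu⟩ := F.com_z
    refine ⟨g * u * g⁻¹, hu.trans (isConj_iff.2 ⟨g, rfl⟩), ?_⟩
    rw [← hg]
    calc g * z * g⁻¹ * (g * u * g⁻¹) = g * (z * u) * g⁻¹ := by group
      _ = g * (u * z) * g⁻¹ := by rw [hzu]
      _ = _ := by group
  · intro a ha h1 h2
    rw [key] at h2
    exact F.Enorm a ha h1 h2
  · intro A hA hne h1
    simp only [key] at h1 ⊢
    exact F.Ecount A hA hne h1

/-- **The closing of S1767.** -/
theorem closing {G : Type*} [Group G] [Finite G] {N : Subgroup G} {π : N →* Spor.Co1}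
    (hπ : CloBridge.Cover4 π)
    (g1 : ∀ v ∈ CloFus.Over π (mk b0), ∀ g : G, g * v = v * g → g ∈ N)
    (g2 : ∀ v ∈ CloFus.Over π (mk b0), ¬ 2 ^ 17 ∣ Nat.card (Subgroup.centralizer ({v} : Set G))) :
    N = ⊤ := by
  refine CloBridge.eq_top hπ (facts_congr CloEnd.facts isConj_z) qfacts ExMain.z1 ?_
    (CloEnd.card_dvd (Or.inr CloEnd.wt_c0w)) g1 g2
  rw [z_eq']
  exact CloEnd.card_dvd (Or.inl wt_oM)

end Cfsg.Agent.StdG24.ExQFacts
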