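import Cfsg.Agent.StdG24.Cv6
import Cfsg.Agent.StdG24.Iso6
import Cfsg.Agent.S1055

/-!
# The facts of `StdG24.Facts` for the six-dimensional `G₂(4)`
-/

set_option autoImplicit false
set_option linter.constructorNameAsVariable false
set_option linter.unusedVariables false

namespace Cfsg.Agent.StdG24.Facts6

open Cfsg.Agent.SporRec
open Cfsg.Agent.SporRec.GF4
open Cfsg.Agent.StdG24.Mod6
open Cfsg.Agent.StdG24.Ord6
open Cfsg.Agent.StdG24.Al6
open Cfsg.Agent.StdG24.Cent6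
open Cfsg.Agent.StdG24.Inv6
open Cfsg.Agent.StdG24.Cls6
open Cfsg.Agent.StdG24.Ax6
open Cfsg.Agent.StdG24.Cv6

instance simple_L : IsSimpleGroup L := by
  obtain ⟨e⟩ := Iso6.equiv_chev F4 F4.card_F4
  have h : IsSimpleGroup (Cfsg.Lie.chevG2.group F4) :=
    (Cfsg.Agent.S1055.result ⟨F4.w, by decide, by decide⟩).1
  exact e.isSimpleGroup

theorem not_comm : ∃ x y : L, x * y ≠ y * x :=
  ⟨⟨gx 2 0, gx_mem _ _⟩, ⟨gx 9 0, gx_mem _ _⟩, fun h => by
    have h4 : gx 2 0 * gx 9 0 = gx 9 0 * gx 2 0 := congrArg Subtype.val h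
    rw [← ev_pair, ← ev_pair] at h4
    exact absurd (ev_eq_iff.1 h4) (by decide +kernel)⟩

theorem perf_L : commutator L = ⊤ := by
  rcases (inferInstance : (commutator L).Normal).eq_bot_or_eq_top with h | h
  · exfalso
    obtain ⟨x, y, hxy⟩ := not_comm
    have h1 : x * y * x⁻¹ * y⁻¹ ∈ commutator L := by
      rw [commutator_def]
      exact Subgroup.commutator_mem_commutator (Subgroup.mem_top x) (Subgroup.mem_top y)
    rw [h, Subgroup.mem_bot] at h1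
    apply hxy
    calc x * y = (x * y * x⁻¹ * y⁻¹) * (y * x) := by group
      _ = y * x := by rw [h1, one_mul]
  · exact h

theorem cent_lAs {a : L} (ha : a ∈ lAs) (h : ∀ b ∈ lAs, a * b = b * a) : a = 1 := by
  obtain ⟨e⟩ := eAs
  have h5 : IsSimpleGroup (alternatingGroup (Fin 5)) := alternatingGroup.isSimpleGroup (by simp)
  have hs : IsSimpleGroup lAs := e.isSimpleGroup
  have hc : (⟨a, ha⟩ : lAs) ∈ Subgroup.center lAs := by
    rw [Subgroup.mem_center_iff]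
    intro k
    exact Subtype.ext (h k k.2).symm
  rcases (inferInstance : (Subgroup.center lAs).Normal).eq_bot_or_eq_top with h1 | h1
  · rw [h1, Subgroup.mem_bot] at hc
    exact congrArg Subtype.val hc
  · exfalso
    have h2 : (⟨lv, lv_mem⟩ : lAs) ∈ Subgroup.center lAs := by rw [h1]; trivial
    have h3 := congrArg Subtype.val (congrArg Subtype.val (Subgroup.mem_center_iff.1 h2 ⟨li₁, li₁_mem⟩))
    have h4 : gx 2 0 * gx 9 0 = gx 9 0 * gx 2 0 := h3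
    rw [← ev_pair, ← ev_pair] at h4
    exact absurd (ev_eq_iff.1 h4) (by decide +kernel)

theorem cent_lAl {a : L} (ha : a ∈ lAl) (h : ∀ b ∈ lAl, a * b = b * a) : a = 1 := by
  obtain ⟨e⟩ := eAl
  have h5 : IsSimpleGroup (alternatingGroup (Fin 5)) := alternatingGroup.isSimpleGroup (by simp)
  have hs : IsSimpleGroup lAl := e.isSimpleGroup
  have hc : (⟨a, ha⟩ : lAl) ∈ Subgroup.center lAl := by
    rw [Subgroup.mem_center_iff]
    intro k
    exact Subtype.ext (h k k.2).symm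
  rcases (inferInstance : (Subgroup.center lAl).Normal).eq_bot_or_eq_top with h1 | h1
  · rw [h1, Subgroup.mem_bot] at hc
    exact congrArg Subtype.val hc
  · exfalso
    have h2 : (⟨lz, lz_mem⟩ : lAl) ∈ Subgroup.center lAl := by rw [h1]; trivial
    have h3 := congrArg Subtype.val (congrArg Subtype.val (Subgroup.mem_center_iff.1 h2 ⟨li₂, li₂_mem⟩))
    have h4 : gx 5 0 * gx 6 0 = gx 6 0 * gx 5 0 := h3
    rw [← ev_pair, ← ev_pair] at h4
    exact absurd (ev_eq_iff.1 h4) (by decide +kernel)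

/-! ### `z ∈ ⟨u ^ C(z)⟩` -/

theorem z_word : cw ([(2, 0), (9, 1), (1, 0), (2, 0), (9, 1), (2, 0), (9, 1), (2, 0), (9, 1), (2, 0), (9, 1), (1, 0)] ++
    [(2, 0), (9, 1), (1, 0), (2, 0), (9, 1), (2, 0), (9, 1), (2, 0), (9, 1), (2, 0), (9, 1), (1, 0)]) =
    cw [(6, 0)] := by decide +kernel

theorem uE_four : uE ^ 4 = ev [(2, 0), (9, 1), (2, 0), (9, 1), (2, 0), (9, 1), (2, 0), (9, 1)] := by
  have h : uE ^ 4 = uE ^ 2 * uE ^ 2 := by group
  rw [h, uE_sq, ← ev_append]; rfl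

theorem zE_eq : zE = uE * (gx 1 0 * uE ^ 4 * (gx 1 0)⁻¹) * (uE * (gx 1 0 * uE ^ 4 * (gx 1 0)⁻¹)) := by
  have h := ev_eq_of z_word
  rw [ev_singleton, ev_append] at h
  have e2 : ev [(2, 0), (9, 1), (1, 0), (2, 0), (9, 1), (2, 0), (9, 1), (2, 0), (9, 1), (2, 0), (9, 1), (1, 0)] =
      uE * (gx 1 0 * uE ^ 4 * (gx 1 0)⁻¹) := by
    have e3 : ([(2, 0), (9, 1), (1, 0), (2, 0), (9, 1), (2, 0), (9, 1), (2, 0), (9, 1), (2, 0), (9, 1), (1, 0)] : Wd) =
      [(2, 0), (9, 1)] ++ ([(1, 0)] ++ ([(2, 0), (9, 1), (2, 0), (9, 1), (2, 0), (9, 1), (2, 0), (9, 1)] ++ [(1, 0)])) := rfl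
    rw [e3, ev_append, ev_append, ev_append, ev_singleton, uE_four, gx_inv, mul_assoc (gx 1 0)]
    rfl
  rw [← e2]
  exact h.symm

theorem zW_aux {G : Type*} [Group G] {u z x : G} (hx : x * z = z * x)
    (h : z = u * (x * u ^ 4 * x⁻¹) * (u * (x * u ^ 4 * x⁻¹))) : z ∈ Wof u z := by
  have h1 : u ∈ Wof u z := Subgroup.subset_closure ⟨1, by rw [one_mul, mul_one], by group⟩
  have h2 : x * u * x⁻¹ ∈ Wof u z := Subgroup.subset_closure ⟨x, hx, rfl⟩
  have h3 : x * u ^ 4 * x⁻¹ ∈ Wof u z := by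
    rw [← conj_pow]
    exact Subgroup.pow_mem _ h2 4
  have h4 := Subgroup.mul_mem _ (Subgroup.mul_mem _ h1 h3) (Subgroup.mul_mem _ h1 h3)
  rwa [← h] at h4

theorem zW : lz ∈ Wof lu lz :=
  zW_aux (x := ⟨gx 1 0, gx_mem _ _⟩) (Subtype.ext (gx_comm _ _ _ _ z_check.2.2)) (Subtype.ext zE_eq)

/-! ### Generation by the centralisers of the involutions -/

/-- the subgroup generated by the centralisers of the involutions of `B` -/
def Gam {G : Type*} [Group G] (B : Subgroup G) : Subgroup G :=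
  Subgroup.closure {x : G | ∃ a ∈ B, a ≠ 1 ∧ a * a = 1 ∧ x * a = a * x}

theorem eq_top_of_gx {K : Subgroup L} (h : ∀ r t, (⟨gx r t, gx_mem r t⟩ : L) ∈ K) : K = ⊤ := by
  have h1 : L ≤ K.map L.subtype := by
    refine (Subgroup.closure_le _).2 ?_
    rintro _ ⟨r, t, rfl⟩
    exact ⟨_, h r t, rfl⟩
  rw [eq_top_iff]
  intro x _
  obtain ⟨y, hy, hyx⟩ := h1 x.2
  have : y = x := Subtype.ext hyx
  exact this ▸ hy

theorem comm56 : ∀ (r : Fin 12) (t : Fin 3), cw [(r, t), (5, 0)] = cw [(5, 0), (r, t)] ∨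
    cw [(r, t), (6, 0)] = cw [(6, 0), (r, t)] := by decide +kernel

theorem gam_Al : Gam lAl = ⊤ := by
  apply eq_top_of_gx
  intro r t
  rcases comm56 r t with h | h
  · exact Subgroup.subset_closure ⟨⟨gx 5 0, gx_mem _ _⟩, gx5_mem 0,
      fun h => gx_ne 5 0 (congrArg Subtype.val h), Subtype.ext (gx_sq 5 0), Subtype.ext (gx_comm _ _ _ _ h)⟩
  · exact Subgroup.subset_closure ⟨⟨gx 6 0, gx_mem _ _⟩, gx6_mem 0,
      fun h => gx_ne 6 0 (congrArg Subtype.val h), Subtype.ext (gx_sq 6 0), Subtype.ext (gx_comm _ _ _ _ h)⟩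

theorem comm29 : ∀ r ∈ [(0 : Fin 12), 1, 2, 5, 6, 9, 10, 11], ∀ (t : Fin 3), cw [(r, t), (2, 0)] = cw [(2, 0), (r, t)] ∨
    cw [(r, t), (9, 0)] = cw [(9, 0), (r, t)] := by decide +kernel

/-- short root elements from long ones and `x₂`, `x₉` -/
def shW : List ((Fin 12 × Fin 3) × Wd) := [
  ((7, 0), [(1, 0), (10, 0), (2, 0), (10, 0), (1, 0)]),
  ((7, 1), [(1, 2), (10, 1), (2, 0), (10, 1), (1, 2)]),
  ((7, 2), [(1, 1), (10, 2), (2, 0), (10, 2), (1, 1)]),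
  ((8, 0), [(0, 0), (11, 0), (2, 0), (11, 0), (0, 0)]),
  ((8, 1), [(0, 2), (11, 1), (2, 0), (11, 1), (0, 2)]),
  ((8, 2), [(0, 1), (11, 2), (2, 0), (11, 2), (0, 1)]),
  ((3, 0), [(11, 0), (0, 0), (9, 0), (0, 0), (11, 0)]),
  ((3, 1), [(11, 2), (0, 1), (9, 0), (0, 1), (11, 2)]),
  ((3, 2), [(11, 1), (0, 2), (9, 0), (0, 2), (11, 1)]),
  ((4, 0), [(10, 0), (1, 0), (9, 0), (1, 0), (10, 0)]),
  ((4, 1), [(10, 2), (1, 1), (9, 0), (1, 1), (10, 2)]),
  ((4, 2), [(10, 1), (1, 2), (9, 0), (1, 2), (10, 1)])]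

theorem sh_check : ∀ e ∈ shW, cw e.2 = cw [e.1] ∧ ∀ p ∈ e.2, p.1 ∈ [(0 : Fin 12), 1, 2, 5, 6, 9, 10, 11] := by
  decide +kernel

theorem sh_all : ∀ (r : Fin 12) (t : Fin 3), r ∈ [(0 : Fin 12), 1, 2, 5, 6, 9, 10, 11] ∨
    ∃ e ∈ shW, e.1 = (r, t) := by decide +kernel

theorem gam_As : Gam lAs = ⊤ := by
  have h0 : ∀ r ∈ [(0 : Fin 12), 1, 2, 5, 6, 9, 10, 11], ∀ (t : Fin 3), (⟨gx r t, gx_mem r t⟩ : L) ∈ Gam lAs := by
    intro r hr t
    rcases comm29 r hr t with h | h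
    · exact Subgroup.subset_closure ⟨⟨gx 2 0, gx_mem _ _⟩, gx2_mem 0,
        fun h => gx_ne 2 0 (congrArg Subtype.val h), Subtype.ext (gx_sq 2 0), Subtype.ext (gx_comm _ _ _ _ h)⟩
    · exact Subgroup.subset_closure ⟨⟨gx 9 0, gx_mem _ _⟩, gx9_mem 0,
        fun h => gx_ne 9 0 (congrArg Subtype.val h), Subtype.ext (gx_sq 9 0), Subtype.ext (gx_comm _ _ _ _ h)⟩
  have h1 : ∀ w : Wd, (∀ p ∈ w, p.1 ∈ [(0 : Fin 12), 1, 2, 5, 6, 9, 10, 11]) →
      (⟨ev w, ev_mem w⟩ : L) ∈ Gam lAs := by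
    intro w
    induction w with
    | nil => intro _; exact (Gam lAs).one_mem
    | cons p w ih =>
      intro hp
      have h2 := (Gam lAs).mul_mem (h0 p.1 (hp p List.mem_cons_self) p.2)
        (ih fun q hq => hp q (List.mem_cons_of_mem _ hq))
      exact h2
  apply eq_top_of_gx
  intro r t
  rcases sh_all r t with h | ⟨e, he, h⟩
  · exact h0 r h t
  · obtain ⟨h2, h3⟩ := sh_check e he
    have h4 := h1 e.2 h3
    have h5 : (⟨ev e.2, ev_mem e.2⟩ : L) = ⟨gx r t, gx_mem r t⟩ := by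
      apply Subtype.ext
      change ev e.2 = gx r t
      rw [ev_eq_of h2, ev_singleton, h]
    rw [← h5]
    exact h4

/-! ### Transport of the `Gam`-property -/

/-- the property of `B` wanted in `exB` -/
def Good {G : Type*} [Group G] (B : Subgroup G) (d : G) : Prop :=
  (∀ b ∈ B, b * d = d * b) ∧ B ≤ ⁅B, B⁆ ∧ B ≠ ⊥ ∧ Gam B = ⊤

theorem Good.map {G H : Type*} [Group G] [Group H] (φ : G ≃* H) {B : Subgroup G} {d : G}
    (h : Good B d) : Good (B.map φ.toMonoidHom) (φ d) := by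
  obtain ⟨h1, h2, h3, h4⟩ := h
  refine ⟨?_, ?_, ?_, ?_⟩
  · rintro _ ⟨b, hb, rfl⟩
    change φ b * φ d = φ d * φ b
    rw [← map_mul, h1 b hb, map_mul]
  · rw [← Subgroup.map_commutator]
    exact Subgroup.map_mono h2
  · intro h
    apply h3
    rw [Subgroup.map_eq_bot_iff_of_injective _ φ.injective] at h
    exact h
  · have h5 : (Gam B).map φ.toMonoidHom ≤ Gam (B.map φ.toMonoidHom) := by
      rw [Subgroup.map_le_iff_le_comap]
      refine (Subgroup.closure_le _).2 ?_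
      rintro x ⟨a, ha, ha1, haa, hxa⟩
      refine Subgroup.subset_closure ⟨φ a, ⟨a, ha, rfl⟩, fun h => ha1 (φ.injective (by rw [h, map_one])),
        by rw [← map_mul, haa, map_one], ?_⟩
      change φ x * φ a = φ a * φ x
      rw [← map_mul, hxa, map_mul]
    rw [h4, Subgroup.map_top_of_surjective _ φ.surjective] at h5
    exact eq_top_iff.2 h5

theorem le_comm {G : Type*} [Group G] {A : Subgroup G} (e : A ≃* alternatingGroup (Fin 5)) : A ≤ ⁅A, A⁆ := by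
  have h := AutL.comm_top e
  rw [commutator_def] at h
  have h1 := congrArg (Subgroup.map A.subtype) h
  rw [Subgroup.map_commutator, ← MonoidHom.range_eq_map, Subgroup.range_subtype] at h1
  exact h1.ge

theorem good_Al {k : ℕ} : Good lAl (lu ^ k) := by
  obtain ⟨e⟩ := eAl
  refine ⟨fun b hb => ?_, le_comm e, ?_, gam_Al⟩
  · exact ((show Commute lu b from l_comm lu_mem hb).pow_left k).eq.symm
  · intro h
    exact lw1 (by have := lw_mem; rw [h, Subgroup.mem_bot] at this; exact this)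

theorem good_As {k : ℕ} : Good lAs (lw ^ k) := by
  obtain ⟨e⟩ := eAs
  refine ⟨fun b hb => ?_, le_comm e, ?_, gam_As⟩
  · exact ((show Commute b lw from l_comm hb lw_mem).pow_right k).eq
  · intro h
    exact lu1 (by have := lu_mem; rw [h, Subgroup.mem_bot] at this; exact this)

theorem exB (d : L) (hd : d ^ 5 = 1) : ∃ B : Subgroup L, Good B d := by
  obtain ⟨g, k, h⟩ := l_five d hd
  have key : ∀ (B : Subgroup L) (y : L), Good B y → g * d * g⁻¹ = y → ∃ B : Subgroup L, Good B d := by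
    intro B y hB hy
    have h1 := hB.map (MulAut.conj g⁻¹)
    have h2 : MulAut.conj g⁻¹ y = d := by
      rw [← hy, MulAut.conj_apply]; group
    rw [h2] at h1
    exact ⟨_, h1⟩
  rcases h with h | h
  · exact key _ _ good_Al h
  · exact key _ _ good_As h

/-! ### The remaining fields -/

theorem abelAl (y : L) (hy : y ∈ lAl) (hy1 : y ≠ 1) (hyy : y * y = 1) (c : L) (hc : c ∈ lAl) (c' : L)
    (hc' : c' ∈ lAl) (h : c * y = y * c) (h' : c' * y = y * c') : c * c' = c' * c := by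
  obtain ⟨e⟩ := eAl
  have key : ∀ x : L, x ∈ lAl → x * y = y * x → x * x = 1 := by
    intro x hx hxy
    have := AutA5.cent_two e (z := ⟨y, hy⟩) (fun h => hy1 (congrArg Subtype.val h)) (Subtype.ext hyy)
      (x := ⟨x, hx⟩) (Subtype.ext hxy)
    exact congrArg Subtype.val this
  have k1 := key c hc h
  have k2 := key c' hc' h'
  have k3 := key (c * c') (lAl.mul_mem hc hc') (by rw [mul_assoc, h', ← mul_assoc, h, mul_assoc])
  calc c * c' = c * (c * c' * (c * c')) * c' := by rw [k3, mul_one]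
    _ = (c * c) * (c' * c) * (c' * c') := by group
    _ = c' * c := by rw [k1, k2, one_mul, mul_one]

theorem Wof_conj {G : Type*} [Group G] {w a : G} (c : G) {y : G} (hy : y ∈ Wof w a) :
    c * y * c⁻¹ ∈ Wof (c * w * c⁻¹) (c * a * c⁻¹) := by
  induction hy using Subgroup.closure_induction with
  | mem y hy =>
    obtain ⟨x, hx, rfl⟩ := hy
    refine Subgroup.subset_closure ⟨c * x * c⁻¹, ?_, by group⟩
    calc c * x * c⁻¹ * (c * a * c⁻¹) = c * (x * a) * c⁻¹ := by group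
      _ = c * (a * x) * c⁻¹ := by rw [hx]
      _ = _ := by group
  | one => rw [mul_one, mul_inv_cancel]; exact Subgroup.one_mem _
  | mul x y _ _ hx hy =>
    have : c * (x * y) * c⁻¹ = (c * x * c⁻¹) * (c * y * c⁻¹) := by group
    rw [this]; exact Subgroup.mul_mem _ hx hy
  | inv x _ hx =>
    have : c * x⁻¹ * c⁻¹ = (c * x * c⁻¹)⁻¹ := by group
    rw [this]; exact Subgroup.inv_mem _ hx

theorem inv2A (a : L) (ha : a ∈ lAs) (ha1 : a ≠ 1) (haa : a * a = 1) (y : L) (hy : y ∈ Wof lw a)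
    (hy1 : y ≠ 1) (hyy : y * y = 1) : ∃ l : L, l * y * l⁻¹ ∈ lAl := by
  obtain ⟨c, hc, hcv⟩ := inv_conj_As (a := (a : GL6)) ha (congrArg Subtype.val haa)
    (fun h => ha1 (Subtype.ext h))
  let c' : L := ⟨c, As_le hc⟩
  have hcv' : c' * a * c'⁻¹ = lv := Subtype.ext hcv
  have hcw : c' * lw * c'⁻¹ = lw := by
    have h : c' * lw = lw * c' := l_comm hc lw_mem
    rw [h]; group
  have h1 := Wof_conj c' hy
  rw [hcv', hcw] at h1
  have h2 := Wof_le h1
  obtain ⟨l, hl, h3⟩ := Wv_inv h2 (congrArg Subtype.val (show (c' * y * c'⁻¹) * (c' * y * c'⁻¹) = 1 by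
    calc (c' * y * c'⁻¹) * (c' * y * c'⁻¹) = c' * (y * y) * c'⁻¹ := by group
      _ = 1 := by rw [hyy]; group))
  refine ⟨⟨l, hl⟩ * c', ?_⟩
  have h4 : (⟨l, hl⟩ * c' : L) * y * (⟨l, hl⟩ * c')⁻¹ = ⟨l, hl⟩ * (c' * y * c'⁻¹) * ⟨l, hl⟩⁻¹ := by group
  rw [h4]
  exact h3

theorem gen_v : Wof lw lv ≤ Subgroup.closure {y | ∃ x ∈ Wof lw lv, y = x * lw * x⁻¹} := by
  -- `K₁ = Wof w v`
  set K₁ : Subgroup GL6 := (Wof lw lv).map L.subtype with hK₁
  have m1 : ∀ x : L, (x : GL6) ∈ Cv → (x : GL6) * wE * (x : GL6)⁻¹ ∈ K₁ := by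
    intro x hx
    exact ⟨x * lw * x⁻¹, Subgroup.subset_closure ⟨x, Subtype.ext hx.2, rfl⟩, rfl⟩
  obtain ⟨a1, r1, -⟩ := conj_mem (K := K₁) (fun a ha => m1 ⟨a, Al_le ha⟩ (Al_le_Cv ha))
    (fun s hs t ht => m1 ⟨_, ev_mem _⟩ (rw2_Cv s t))
  -- `K₂` = the closure
  set N := Subgroup.closure {y : L | ∃ x ∈ Wof lw lv, y = x * lw * x⁻¹} with hN
  set K₂ : Subgroup GL6 := N.map L.subtype with hK₂
  have m2 : ∀ x : GL6, x ∈ K₁ → x * wE * x⁻¹ ∈ K₂ := by
    rintro _ ⟨x, hx, rfl⟩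
    exact ⟨x * lw * x⁻¹, Subgroup.subset_closure ⟨x, hx, rfl⟩, rfl⟩
  obtain ⟨a2, r2, c2⟩ := conj_mem (K := K₂) (fun a ha => m2 _ (a1 ha)) (fun s hs t ht => m2 _ (r1 s t))
  refine (Subgroup.closure_le _).2 ?_
  rintro _ ⟨x, hx, rfl⟩
  obtain ⟨y, hy, hyx⟩ := c2 x ⟨x.2, congrArg Subtype.val hx⟩
  have : y = x * lw * x⁻¹ := Subtype.ext hyx
  rw [← this]
  exact hy

theorem fus_check : cw [(7, 0), (9, 0), (7, 0)] = cw [(9, 0), (10, 0)] := by decide +kernel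

theorem fus_v : ∃ y ∈ Wof lw lv, y ≠ 1 ∧ y * y = 1 ∧ ∃ p : L, p * lv * p⁻¹ = lv * y := by
  set K₁ : Subgroup GL6 := (Wof lw lv).map L.subtype with hK₁
  have m1 : ∀ x : L, (x : GL6) ∈ Cv → (x : GL6) * wE * (x : GL6)⁻¹ ∈ K₁ := by
    intro x hx
    exact ⟨x * lw * x⁻¹, Subgroup.subset_closure ⟨x, Subtype.ext hx.2, rfl⟩, rfl⟩
  obtain ⟨a1, r1, -⟩ := conj_mem (K := K₁) (fun a ha => m1 ⟨a, Al_le ha⟩ (Al_le_Cv ha))
    (fun s hs t ht => m1 ⟨_, ev_mem _⟩ (rw2_Cv s t))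
  obtain ⟨y, hy, hyx⟩ := r1 1 0
  have hy' : y = ⟨gx 10 0, gx_mem _ _⟩ := by
    apply Subtype.ext
    refine Eq.trans hyx ?_
    change ev [(10, 0)] = gx 10 0
    rw [ev_singleton]
  refine ⟨y, hy, ?_, ?_, ⟨gx 7 0, gx_mem _ _⟩, ?_⟩
  · rw [hy']; exact fun h => gx_ne 10 0 (congrArg Subtype.val h)
  · rw [hy']; exact Subtype.ext (gx_sq 10 0)
  · rw [hy']
    apply Subtype.ext
    change gx 7 0 * gx 9 0 * (gx 7 0)⁻¹ = gx 9 0 * gx 10 0
    have h := ev_eq_of fus_check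
    rw [ev_pair] at h
    rw [gx_inv, ← h, show [((7 : Fin 12), (0 : Fin 3)), (9, 0), (7, 0)] = [(7, 0), (9, 0)] ++ [(7, 0)] from rfl,
      ev_append, ev_pair, ev_singleton]

/-- the data -/
def D6 : Data L where
  u := lu
  w := lw
  As := lAs
  Al := lAl
  z := lz
  v := lv

theorem facts6 : Facts D6 where
  simple := fun N hN => hN.eq_bot_or_eq_top
  perf := perf_L
  nontriv := ⟨lw, lw1⟩
  u5 := lu5
  u1 := lu1
  w5 := lw5
  w1 := lw1
  uAs := lu_mem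
  wAl := lw_mem
  comm := fun a ha b hb => l_comm ha hb
  centAs := fun a ha h => cent_lAs ha h
  centAl := fun a ha h => cent_lAl ha h
  aut_w := fun α h => ax6.aut_w α h
  aut_u := fun α h => ax6.aut_u α h
  sq := fun α => ax6.sq_inner α
  zAl := lz_mem
  z1 := fun h => gx_ne 6 0 (congrArg Subtype.val h)
  z2 := Subtype.ext (gx_sq 6 0)
  zW := zW
  abelAl := abelAl
  exB := exB
  inv2A := inv2A
  vAs := lv_mem
  v1 := fun h => gx_ne 9 0 (congrArg Subtype.val h)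
  v2 := Subtype.ext (gx_sq 9 0)
  gen_v := gen_v
  fus_v := fus_v

end Cfsg.Agent.StdG24.Facts6
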