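import Mathlib
import Cfsg.Agent.StdG24.EightA2
import Cfsg.Agent.StdG24.OddPair

/-!
# The hat group `N_G(D₀) / D₀`

`D₀` is generated by the normal 2-complements of `C_K(v)`, `v ∈ W#`, where `W` is a four-group, Sylow in
`K = C_G(e L)`.
-/

set_option autoImplicit false

namespace Cfsg.Agent.StdG24.Hat

open Subgroup Cfsg.Agent.StdAlt
open scoped Pointwise

variable {L : Type*} [Group L] {G : Type*} [Group G]

theorem four_cases {H : Type*} [Group H] {S : Subgroup H} (h4 : Nat.card S = 4) (hsq : ∀ s ∈ S, s * s = 1) {a b : H}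
    (ha : a ∈ S) (hb : b ∈ S) (a1 : a ≠ 1) (b1 : b ≠ 1) (hab : b ≠ a) {x : H} (hx : x ∈ S) :
    x = 1 ∨ x = a ∨ x = b ∨ x = a * b := by
  have hfin : Finite S := Nat.finite_of_card_ne_zero (by rw [h4]; norm_num)
  by_contra hcon
  push Not at hcon
  obtain ⟨c1, c2, c3, c4⟩ := hcon
  have hzy := S.mul_mem ha hb
  have n1 : a * b ≠ 1 := by
    intro h1
    apply hab
    rw [mul_eq_one_iff_eq_inv, inv_eq_of_mul_eq_one_left (hsq b hb)] at h1
    exact h1.symm
  have n2 : a * b ≠ a := fun h1 => b1 (by simpa using h1)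
  have n3 : a * b ≠ b := fun h1 => a1 (by simpa using h1)
  classical
  have hsub : (({1, a, b, a * b, x} : Finset H) : Set H) ⊆ S := by
    intro t ht
    simp only [Finset.coe_insert, Finset.coe_singleton, Set.mem_insert_iff, Set.mem_singleton_iff] at ht
    rcases ht with rfl | rfl | rfl | rfl | rfl
    · exact one_mem _
    · exact ha
    · exact hb
    · exact hzy
    · exact hx
  have h2 := Set.ncard_le_ncard hsub (Set.toFinite _)
  have h3 : Set.ncard (S : Set H) = 4 := h4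
  rw [h3, Set.ncard_coe_finset, Finset.card_insert_of_notMem, Finset.card_insert_of_notMem,
    Finset.card_insert_of_notMem, Finset.card_insert_of_notMem, Finset.card_singleton] at h2
  · omega
  · simp only [Finset.mem_singleton]
    exact fun h => c4 h.symm
  · simp only [Finset.mem_insert, Finset.mem_singleton, not_or]
    exact ⟨fun h => n3 h.symm, fun h => c3 h.symm⟩
  · simp only [Finset.mem_insert, Finset.mem_singleton, not_or]
    exact ⟨fun h => hab h.symm, fun h => n2 h.symm, fun h => c2 h.symm⟩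
  · simp only [Finset.mem_insert, Finset.mem_singleton, not_or]
    exact ⟨fun h => a1 h.symm, fun h => b1 h.symm, fun h => n1 h.symm, fun h => c1 h.symm⟩

theorem comm_of_sq {H : Type*} [Group H] {S : Subgroup H} (hsq : ∀ s ∈ S, s * s = 1) {x y : H} (hx : x ∈ S)
    (hy : y ∈ S) : x * y = y * x := by
  have h1 := hsq _ (mul_mem hx hy)
  calc x * y = (x * y)⁻¹ := eq_inv_of_mul_eq_one_left h1
    _ = y⁻¹ * x⁻¹ := mul_inv_rev x y
    _ = y * x := by rw [inv_eq_of_mul_eq_one_left (hsq x hx), inv_eq_of_mul_eq_one_left (hsq y hy)]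

/-- normal 2-complement: the Sylow 2-subgroup is a four-group containing a central involution -/
theorem exists_complement {H : Type*} [Group H] [Finite H] {S : Subgroup H} (h4 : Nat.card S = 4)
    (hmax : ∀ P : Subgroup H, IsPGroup 2 P → S ≤ P → P = S) (hsq : ∀ s ∈ S, s * s = 1) {v : H} (hv : v ∈ S)
    (hv1 : v ≠ 1) (hc : ∀ g : H, g * v = v * g) :
    ∃ O : Subgroup H, (∀ g, ∀ x ∈ O, g * x * g⁻¹ ∈ O) ∧ Odd (Nat.card O) ∧ (∀ y, ∃ o ∈ O, ∃ s ∈ S, y = o * s) ∧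
      ∀ y, Odd (orderOf y) → y ∈ O := by
  have : Fact (Nat.Prime 2) := ⟨Nat.prime_two⟩
  obtain ⟨P, hSP⟩ := (Five.isPGroup_four h4).exists_le_sylow
  have hPS : (P : Subgroup H) = S := hmax _ P.isPGroup' hSP
  have hcomm : ∀ x ∈ S, ∀ y ∈ S, x * y = y * x := fun x hx y hy => comm_of_sq hsq hx hy
  -- 2-elements of the normalizer
  have h2 : ∀ x : H, (∀ s ∈ S, x * s * x⁻¹ ∈ S) → (∃ k : ℕ, x ^ 2 ^ k = 1) → x ∈ S := by
    intro x hx ⟨k, hk⟩
    have hxN : x ∈ normalizer (S : Set H) := mem_normalizer_fintype hx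
    have hz : IsPGroup 2 (zpowers x) := by
      rintro ⟨y, hy⟩
      obtain ⟨n, rfl⟩ := mem_zpowers_iff.1 hy
      refine ⟨k, Subtype.ext ?_⟩
      change (x ^ n) ^ 2 ^ k = 1
      rw [← zpow_natCast, ← zpow_mul, mul_comm, zpow_mul, zpow_natCast, hk, one_zpow]
    have h3 : IsPGroup 2 ((S ⊔ zpowers x : Subgroup H)) :=
      IsPGroup.to_sup_of_normal_left' (Five.isPGroup_four h4) hz (by rwa [zpowers_le])
    rw [← hmax _ h3 le_sup_left]
    exact (le_sup_right : zpowers x ≤ _) (mem_zpowers x)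
  have hNT : normalizer ((P : Subgroup H) : Set H) ≤ centralizer ((P : Subgroup H) : Set H) := by
    rw [hPS]
    intro g hg
    rw [mem_centralizer_iff]
    intro s hs
    have hgS : ∀ s ∈ S, g * s * g⁻¹ ∈ S := fun s hs => (mem_normalizer_iff.1 hg s).1 hs
    -- `g²` commutes with `s`
    have hg2 : Commute (g ^ 2) s := by
      by_cases hs1 : s = 1
      · rw [hs1]; exact Commute.one_right _
      by_cases hsv : s = v
      · rw [hsv]; exact Commute.pow_left (hc g) 2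
      have hgv : g * v * g⁻¹ = v := by rw [hc, mul_inv_cancel_right]
      have key : g * s * g⁻¹ = s ∨ g * s * g⁻¹ = v * s := by
        rcases four_cases h4 hsq hv hs hv1 hs1 hsv (hgS s hs) with h | h | h | h
        · exfalso
          apply hs1
          calc s = g⁻¹ * (g * s * g⁻¹) * g := by group
            _ = 1 := by rw [h]; group
        · exfalso
          apply hsv
          calc s = g⁻¹ * (g * s * g⁻¹) * g := by group
            _ = g⁻¹ * (g * v * g⁻¹) * g := by rw [h, hgv]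
            _ = v := by group
        · exact Or.inl h
        · exact Or.inr h
      have h3 : g * (g * s * g⁻¹) * g⁻¹ = s := by
        rcases key with h | h
        · rw [h, h]
        · rw [h]
          calc g * (v * s) * g⁻¹ = (g * v * g⁻¹) * (g * s * g⁻¹) := by group
            _ = v * v * s := by rw [hgv, h, mul_assoc]
            _ = s := by rw [hsq v hv, one_mul]
      change g ^ 2 * s = s * g ^ 2
      rw [pow_two]
      calc g * g * s = g * (g * s * g⁻¹) * g⁻¹ * (g * g) := by group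
        _ = s * (g * g) := by rw [h3]
    obtain ⟨k, m, hm, hkm⟩ := Nat.exists_eq_two_pow_mul_odd (n := orderOf g) (orderOf_pos g).ne'
    have hgm : g ^ m ∈ S := by
      apply h2
      · intro t ht
        exact (mem_normalizer_iff.1 (pow_mem hg m) t).1 ht
      · refine ⟨k, ?_⟩
        rw [← pow_mul, mul_comm m, ← hkm, pow_orderOf_eq_one]
    have hgmc : Commute (g ^ m) s := hcomm _ hgm _ hs
    obtain ⟨t, rfl⟩ := hm
    have h5 : g = g ^ (2 * t + 1) * ((g ^ 2) ^ t)⁻¹ := by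
      rw [← pow_mul, pow_succ']; group
    have h6 : Commute g s := by
      rw [h5]
      exact hgmc.mul_left ((hg2.pow_left t).inv_left)
    exact h6.eq.symm
  set O : Subgroup H := (MonoidHom.transferSylow P hNT).ker with hO
  have hcompl : IsComplement' O (P : Subgroup H) := MonoidHom.ker_transferSylow_isComplement' P hNT
  have hodd : Odd (Nat.card O) := by
    have := MonoidHom.not_dvd_card_ker_transferSylow P hNT
    rw [Nat.odd_iff]
    rw [← hO] at this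
    omega
  have hOn : O.Normal := by rw [hO]; infer_instance
  refine ⟨O, fun g x hx => hOn.conj_mem x hx g, hodd, fun y => ?_, fun y hy => ?_⟩
  · obtain ⟨⟨o, s⟩, h1⟩ := hcompl.2 y
    exact ⟨o, o.2, s, by rw [← hPS]; exact s.2, h1.symm⟩
  · rw [hO, MonoidHom.mem_ker]
    obtain ⟨k, hk⟩ := P.isPGroup' (MonoidHom.transferSylow P hNT y)
    have h1 : orderOf (MonoidHom.transferSylow P hNT y) ∣ orderOf y := orderOf_map_dvd _ y
    have h2 : orderOf (MonoidHom.transferSylow P hNT y) ∣ 2 ^ k := orderOf_dvd_of_pow_eq_one hk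
    have h3 : Nat.Coprime (orderOf y) (2 ^ k) := (Nat.coprime_two_right.2 hy).pow_right k
    exact orderOf_eq_one_iff.1 (Nat.eq_one_of_dvd_coprimes h3 h1 h2)

/-- two involutions with product in a subgroup of odd order are conjugate in it -/
theorem conj_of_odd {s t : G} {O : Subgroup G} [Finite G] (hO : Odd (Nat.card O)) (hs : s * s = 1) (ht : t * t = 1)
    (hts : t * s ∈ O) : ∃ c ∈ O, c * t * c⁻¹ = s := by
  have hsi : s⁻¹ = s := inv_eq_of_mul_eq_one_left hs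
  have hti : t⁻¹ = t := inv_eq_of_mul_eq_one_left ht
  obtain ⟨k, hk⟩ := hO
  have h : (t * s) ^ (2 * k + 1) = 1 := by
    have h1 : (⟨t * s, hts⟩ : O) ^ Nat.card O = 1 := pow_card_eq_one'
    rw [hk] at h1
    exact congrArg Subtype.val h1
  have h1 : ∀ n : ℕ, t * (t * s) ^ n = ((t * s) ^ n)⁻¹ * t := by
    intro n
    have h2 : t * (t * s) * t⁻¹ = (t * s)⁻¹ := by
      rw [mul_inv_rev, hsi, hti, ← mul_assoc, ht, one_mul]
    calc t * (t * s) ^ n = (t * (t * s) * t⁻¹) ^ n * t := by rw [conj_pow]; group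
      _ = ((t * s) ^ n)⁻¹ * t := by rw [h2, inv_pow]
  refine ⟨(t * s) ^ k, pow_mem hts k, ?_⟩
  have h3 : (t * s) ^ k * t * ((t * s) ^ k)⁻¹ = (t * s) ^ k * (t * s) ^ k * t := by
    have h4 := h1 k
    have h5 : t * ((t * s) ^ k)⁻¹ = (t * s) ^ k * t := by
      calc t * ((t * s) ^ k)⁻¹ = (t * s) ^ k * (((t * s) ^ k)⁻¹ * t) * ((t * s) ^ k)⁻¹ := by group
        _ = (t * s) ^ k * (t * (t * s) ^ k) * ((t * s) ^ k)⁻¹ := by rw [h4]
        _ = (t * s) ^ k * t := by group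
    rw [mul_assoc, h5, mul_assoc]
  rw [h3, ← pow_add]
  have h6 : (t * s) ^ (k + k) = (t * s)⁻¹ := by
    rw [eq_inv_iff_mul_eq_one, ← pow_succ, ← two_mul]
    exact h
  rw [h6, mul_inv_rev, hsi, hti, mul_assoc, ht, mul_one]

theorem odd_of_no_inv [Finite G] {O : Subgroup G} (h : ∀ t ∈ O, t * t = 1 → t = 1) : Odd (Nat.card O) := by
  rw [← Nat.not_even_iff_odd]
  intro he
  have : Fact (Nat.Prime 2) := ⟨Nat.prime_two⟩
  obtain ⟨t, ht⟩ := exists_prime_orderOf_dvd_card' (G := O) 2 (even_iff_two_dvd.1 he)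
  have h1 : t ^ 2 = 1 := by rw [← ht]; exact pow_orderOf_eq_one t
  have h2 : t = 1 := Subtype.ext (h t t.2 (by rw [← pow_two]; exact congrArg Subtype.val h1))
  rw [h2, orderOf_one] at ht
  omega

/-- the hypotheses on `W`, `b` -/
structure HIn (D : Data L) (Z : Subgroup L) (e : L →* G) (W : Subgroup G) (b : G) : Prop where
  WK : W ≤ KK e
  sq : ∀ v ∈ W, v * v = 1
  W4 : Nat.card W = 4
  max : ∀ P : Subgroup G, P ≤ KK e → IsPGroup 2 P → W ≤ P → P = W
  bu : b * e D.u = e D.u * b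
  bW : ∀ v ∈ W, ∃ v' ∈ W, ∃ x ∈ Z, b * v * b⁻¹ = v' * e x
  bZ : ∀ x ∈ Z, ∃ x' ∈ Z, b * e x * b⁻¹ = e x'
  bn : ∃ v ∈ W, b * v * b⁻¹ ∉ W

/-- the elements of odd order of `C_K(v)` -/
def NV (e : L →* G) (v : G) : Set G := {y | y ∈ KK e ∧ y * v = v * y ∧ Odd (orderOf y)}

namespace HIn

variable {D : Data L} {Z : Subgroup L} {e : L →* G} {W : Subgroup G} {b : G}

theorem exists_O [Finite G] (H : HIn D Z e W b) {v : G} (hv : v ∈ W) (hv1 : v ≠ 1) :
    ∃ O : Subgroup G, (∀ y, y ∈ O ↔ y ∈ NV e v) ∧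
      (∀ g ∈ KK e, g * v = v * g → ∀ x ∈ O, g * x * g⁻¹ ∈ O) ∧
      (∀ y ∈ KK e, y * v = v * y → ∃ o ∈ O, ∃ s ∈ W, y = o * s) := by
  set C : Subgroup G := KK e ⊓ centralizer {v} with hC
  have memC : ∀ y, y ∈ C ↔ y ∈ KK e ∧ y * v = v * y := fun y => by
    rw [hC, mem_inf, mem_centralizer_singleton_iff]
  have hWC : W ≤ C := fun s hs => (memC s).2 ⟨H.WK hs, comm_of_sq H.sq hs hv⟩
  obtain ⟨O, hOn, hodd, hdec, hall⟩ := exists_complement (S := W.subgroupOf C)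
    (by rw [Nat.card_congr (subgroupOfEquivOfLe hWC).toEquiv, H.W4])
    (by
      intro P hP hle
      have h1 : P.map C.subtype = W := by
        apply H.max _ _ (hP.map _)
        · intro s hs
          exact ⟨⟨s, hWC hs⟩, hle hs, rfl⟩
        · rintro _ ⟨p, -, rfl⟩
          exact ((memC _).1 p.2).1
      rw [← h1]
      ext x
      rw [mem_subgroupOf]
      constructor
      · intro hx
        exact ⟨x, hx, rfl⟩
      · rintro ⟨p, hp, hpx⟩
        have : p = x := Subtype.ext hpx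
        rw [← this]
        exact hp)
    (fun s hs => Subtype.ext (H.sq _ hs)) (v := ⟨v, hWC hv⟩) hv (fun h => hv1 (congrArg Subtype.val h))
    (fun g => Subtype.ext ((memC _).1 g.2).2)
  have hodd' : ∀ y ∈ O, Odd (orderOf (y : G)) := by
    intro y hy
    have h1 : orderOf (⟨y, hy⟩ : O) ∣ Nat.card O := _root_.orderOf_dvd_natCard _
    rw [orderOf_mk] at h1
    rw [← orderOf_coe] at h1
    exact Odd.of_dvd_nat hodd h1
  refine ⟨O.map C.subtype, fun y => ?_, ?_, ?_⟩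
  · constructor
    · rintro ⟨y, hy, rfl⟩
      exact ⟨((memC _).1 y.2).1, ((memC _).1 y.2).2, hodd' y hy⟩
    · rintro ⟨h1, h2, h3⟩
      refine ⟨⟨y, (memC _).2 ⟨h1, h2⟩⟩, hall _ ?_, rfl⟩
      rw [← orderOf_coe]
      exact h3
  · rintro g hg hgv _ ⟨x, hx, rfl⟩
    exact ⟨⟨g, (memC _).2 ⟨hg, hgv⟩⟩ * x * (⟨g, (memC _).2 ⟨hg, hgv⟩⟩ : C)⁻¹, hOn _ _ hx, rfl⟩
  · intro y hy hyv
    obtain ⟨o, ho, s, hs, h1⟩ := hdec ⟨y, (memC _).2 ⟨hy, hyv⟩⟩
    exact ⟨o, ⟨o, ho, rfl⟩, s, hs, congrArg Subtype.val h1⟩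

theorem NV_mul [Finite G] (H : HIn D Z e W b) {v : G} (hv : v ∈ W) (hv1 : v ≠ 1) {x y : G} (hx : x ∈ NV e v)
    (hy : y ∈ NV e v) : x * y ∈ NV e v := by
  obtain ⟨O, hO, -⟩ := H.exists_O hv hv1
  rw [← hO] at hx hy ⊢
  exact mul_mem hx hy

theorem NV_inv {v x : G} (hx : x ∈ NV e v) : x⁻¹ ∈ NV e v := by
  obtain ⟨h1, h2, h3⟩ := hx
  exact ⟨inv_mem h1, inv_comm h2, by rw [orderOf_inv]; exact h3⟩

theorem NV_conj {v m x : G} (hm : m ∈ MM e) (hmv : m * v = v * m) (hx : x ∈ NV e v) :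
    m * x * m⁻¹ ∈ NV e v := by
  obtain ⟨h1, h2, h3⟩ := hx
  refine ⟨Emb.conj_KK hm h1, ?_, ?_⟩
  · have h4 := inv_comm hmv
    calc m * x * m⁻¹ * v = m * x * (m⁻¹ * v) := by group
      _ = m * (x * v) * m⁻¹ := by rw [h4]; group
      _ = m * v * x * m⁻¹ := by rw [h2]; group
      _ = v * (m * x * m⁻¹) := by rw [hmv]; group
  · have : orderOf (m * x * m⁻¹) = orderOf x := MulEquiv.orderOf_eq (MulAut.conj m) x
    rw [this]
    exact h3

/-- `b` permutes `e Z` -/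
theorem bZ' (h : Emb e) (H : HIn D Z e W b) (hZ4 : Nat.card Z = 4) {x : L} (hx : x ∈ Z) :
    ∃ x' ∈ Z, b * e x' * b⁻¹ = e x := by
  have : Finite Z := Nat.finite_of_card_ne_zero (by rw [hZ4]; norm_num)
  choose! f hf hfx using H.bZ
  let φ : Z → Z := fun x => ⟨f x, hf x x.2⟩
  have hφ : Function.Injective φ := by
    intro x y hxy
    have h1 : f x = f y := congrArg Subtype.val hxy
    have h2 : b * e x * b⁻¹ = b * e y * b⁻¹ := by rw [hfx x x.2, hfx y y.2, h1]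
    exact Subtype.ext (h.inj (mul_left_cancel (mul_right_cancel h2)))
  obtain ⟨y, hy⟩ := (Finite.injective_iff_surjective.1 hφ) ⟨x, hx⟩
  have h1 : f y = x := congrArg Subtype.val hy
  exact ⟨y, y.2, by rw [hfx y y.2, h1]⟩

/-- the image of `v` under `b` modulo `Z` is not trivial -/
theorem bW' (h : Emb e) (H : HIn D Z e W b) (hZ4 : Nat.card Z = 4) {v : G} (hv : v ∈ W) (hv1 : v ≠ 1) :
    ∃ v' ∈ W, v' ≠ 1 ∧ ∃ x ∈ Z, b * v * b⁻¹ = v' * e x := by
  obtain ⟨v', hv', x, hx, h1⟩ := H.bW v hv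
  refine ⟨v', hv', ?_, x, hx, h1⟩
  rintro rfl
  obtain ⟨x', hx', h2⟩ := H.bZ' h hZ4 hx
  rw [one_mul, ← h2] at h1
  have h3 : v = e x' := mul_left_cancel (mul_right_cancel h1)
  apply hv1
  rw [h3, h.disj x' (by rw [← h3]; exact H.WK hv), map_one]

/-- `b` maps `NV v` to elements `k * e (u ^ i)` -/
theorem conj_form [Finite G] (F : Facts D) (eAl : Nonempty (D.Al ≃* alternatingGroup (Fin 5))) (hZ : Z ≤ D.Al)
    (hz : D.z ∈ Z) (h : Emb e) (H : HIn D Z e W b) (hZ4 : Nat.card Z = 4) {v y : G} (hv : v ∈ W) (hv1 : v ≠ 1)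
    (hy : y ∈ NV e v) : ∃ k ∈ KK e, ∃ i : ℕ, b * y * b⁻¹ = k * e (D.u ^ i) := by
  obtain ⟨hyK, hyv, hodd⟩ := hy
  obtain ⟨v', hv', hv'1, x, hx, hbv⟩ := H.bW' h hZ4 hv hv1
  set d := b * y * b⁻¹ with hd
  -- `d` commutes with `u`
  have hdu : d * e D.u = e D.u * d := by
    have h1 := mem_KK.1 hyK D.u
    have h2 := inv_comm H.bu
    calc d * e D.u = b * y * (b⁻¹ * e D.u) := by rw [hd]; group
      _ = b * (y * e D.u) * b⁻¹ := by rw [h2]; group
      _ = b * e D.u * y * b⁻¹ := by rw [h1]; group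
      _ = e D.u * d := by rw [H.bu, hd]; group
  -- `d` commutes with `Z`
  have hdZ : ∀ t ∈ Z, d * e t = e t * d := by
    intro t ht
    obtain ⟨t', ht', h1⟩ := H.bZ' h hZ4 ht
    rw [← h1, hd]
    have h2 := mem_KK.1 hyK t'
    calc b * y * b⁻¹ * (b * e t' * b⁻¹) = b * (y * e t') * b⁻¹ := by group
      _ = b * e t' * b⁻¹ * (b * y * b⁻¹) := by rw [h2]; group
  have hdv : d * v' = v' * d := by
    have h1 : d * (b * v * b⁻¹) = b * v * b⁻¹ * d := by
      rw [hd]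
      calc b * y * b⁻¹ * (b * v * b⁻¹) = b * (y * v) * b⁻¹ := by group
        _ = b * v * b⁻¹ * (b * y * b⁻¹) := by rw [hyv]; group
    rw [hbv] at h1
    have h2 := hdZ x hx
    calc d * v' = d * (v' * e x) * (e x)⁻¹ := by group
      _ = v' * (e x * d) * (e x)⁻¹ := by rw [h1]; group
      _ = v' * d := by rw [← h2]; group
  have hdM : d ∈ MM e := h.nrm (H.WK hv') hv'1 (H.sq v' hv') hdv
  have Fu : FD D.u D.Al := fd_u F eAl
  obtain ⟨k, hk, i, c, hc, hdk⟩ := Fu.exists_of_comm h hdM hdu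
  obtain ⟨φ⟩ := eAl
  -- `c` commutes with `z`
  have hcz : c * D.z = D.z * c := by
    apply h.inj
    rw [map_mul, map_mul]
    have h1 := hdZ D.z hz
    rw [hdk] at h1
    have h2 := mem_KK.1 hk D.z
    have h3 : e (D.u ^ i) * e D.z = e D.z * e (D.u ^ i) := by
      rw [← map_mul, ← map_mul, F.comm _ (pow_mem F.uAs i) _ F.zAl]
    rw [map_mul] at h1
    have h4 : k * e (D.u ^ i) * (e c * e D.z) = k * e (D.u ^ i) * (e D.z * e c) := by
      calc k * e (D.u ^ i) * (e c * e D.z) = k * (e (D.u ^ i) * e c) * e D.z := by group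
        _ = e D.z * (k * (e (D.u ^ i) * e c)) := h1
        _ = (e D.z * k) * e (D.u ^ i) * e c := by group
        _ = k * (e D.z * e (D.u ^ i)) * e c := by rw [← h2]; group
        _ = k * e (D.u ^ i) * (e D.z * e c) := by rw [← h3]; group
    exact mul_left_cancel h4
  have hcc : c * c = 1 := StdG24.F.A5.sq_of_comm φ F.zAl F.z1 F.z2 hc hcz
  -- odd order
  obtain ⟨m, hm⟩ := hodd
  have hdm : d ^ (2 * m + 1) = 1 := by
    rw [hd, conj_pow, ← hm, pow_orderOf_eq_one]; group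
  have hcm : D.u ^ (i * (2 * m + 1)) * c = 1 := by
    apply h.disj
    have h1 : Commute k (e (D.u ^ i * c)) := mem_KK.1 hk _
    rw [hdk, h1.mul_pow, ← map_pow] at hdm
    have h2 : Commute (D.u ^ i) c := F.comm _ (pow_mem F.uAs i) _ hc
    rw [h2.mul_pow, ← pow_mul] at hdm
    have h3 : c ^ (2 * m + 1) = c := by
      rw [pow_succ, pow_mul, pow_two, hcc, one_pow, one_mul]
    rw [h3] at hdm
    rw [← inv_eq_of_mul_eq_one_right hdm]
    exact inv_mem (pow_mem hk _)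
  have hc1 : c = 1 := by
    refine F.centAl c hc fun c' hc' => ?_
    have h1 : c = (D.u ^ (i * (2 * m + 1)))⁻¹ := (inv_eq_of_mul_eq_one_right hcm).symm
    rw [h1]
    exact F.comm _ (inv_mem (pow_mem F.uAs _)) _ hc'
  exact ⟨k, hk, i, by rw [hdk, hc1, mul_one]⟩

/-- **`b` maps `NV v` into `NV v'`** -/
theorem conj_NV [Finite G] (F : Facts D) (eAs : Nonempty (D.As ≃* alternatingGroup (Fin 5)))
    (eAl : Nonempty (D.Al ≃* alternatingGroup (Fin 5))) (hZ : Z ≤ D.Al)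
    (hz : D.z ∈ Z) (h : Emb e) (H : HIn D Z e W b) (hZ4 : Nat.card Z = 4) {v y : G} (hv : v ∈ W) (hv1 : v ≠ 1)
    (hy : y ∈ NV e v) : ∃ v' ∈ W, v' ≠ 1 ∧ b * y * b⁻¹ ∈ NV e v' := by
  obtain ⟨v', hv', hv'1, x, hx, hbv⟩ := H.bW' h hZ4 hv hv1
  refine ⟨v', hv', hv'1, ?_⟩
  obtain ⟨k, hk, i, hki⟩ := H.conj_form F eAl hZ hz h hZ4 hv hv1 hy
  -- `u ^ i = 1`
  have hui : D.u ^ i = 1 := by
    have key : ∀ a ∈ D.As, a * D.u ^ i * a⁻¹ ∈ zpowers D.u := by
      intro a ha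
      set m := b⁻¹ * e a * b with hm
      have hmv : m * v = v * m := by
        have h1 : e a * (b * v * b⁻¹) = b * v * b⁻¹ * e a := by
          rw [hbv]
          have h2 := mem_KK.1 (H.WK hv') a
          have h3 : e a * e x = e x * e a := by rw [← map_mul, ← map_mul, F.comm a ha x (hZ hx)]
          calc e a * (v' * e x) = e a * v' * e x := by group
            _ = v' * (e a * e x) := by rw [← h2]; group
            _ = v' * e x * e a := by rw [h3]; group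
        rw [hm]
        calc b⁻¹ * e a * b * v = b⁻¹ * (e a * (b * v * b⁻¹)) * b := by group
          _ = v * (b⁻¹ * e a * b) := by rw [h1]; group
      have hmM : m ∈ MM e := h.nrm (H.WK hv) hv1 (H.sq v hv) hmv
      have hy' : m * y * m⁻¹ * y⁻¹ ∈ NV e v := H.NV_mul hv hv1 (NV_conj hmM hmv hy) (NV_inv hy)
      obtain ⟨k', hk', i', hk'i⟩ := H.conj_form F eAl hZ hz h hZ4 hv hv1 hy'
      have h1 : b * (m * y * m⁻¹ * y⁻¹) * b⁻¹ = e a * (b * y * b⁻¹) * (e a)⁻¹ * (b * y * b⁻¹)⁻¹ := by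
        rw [hm]; group
      rw [h1, hki] at hk'i
      have h2 : e (a * D.u ^ i * a⁻¹ * (D.u ^ i)⁻¹ * (D.u ^ i')⁻¹) = k' := by
        have h3 := mem_KK.1 hk a
        have h4 := mem_KK.1 hk (a * D.u ^ i * a⁻¹ * (D.u ^ i)⁻¹)
        have h5 : e a * (k * e (D.u ^ i)) * (e a)⁻¹ * (k * e (D.u ^ i))⁻¹ = e (a * D.u ^ i * a⁻¹ * (D.u ^ i)⁻¹) := by
          calc e a * (k * e (D.u ^ i)) * (e a)⁻¹ * (k * e (D.u ^ i))⁻¹ =
              (e a * k) * e (D.u ^ i) * (e a)⁻¹ * (e (D.u ^ i))⁻¹ * k⁻¹ := by group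
            _ = k * e (a * D.u ^ i * a⁻¹ * (D.u ^ i)⁻¹) * k⁻¹ := by
              rw [← h3]; simp only [map_mul, map_inv]; group
            _ = _ := by rw [h4]; group
        rw [h5] at hk'i
        rw [map_mul, hk'i, map_inv]; group
      have h3 := h.disj _ (by rw [h2]; exact hk')
      have h4 : a * D.u ^ i * a⁻¹ = D.u ^ i' * D.u ^ i := by
        calc a * D.u ^ i * a⁻¹ = (a * D.u ^ i * a⁻¹ * (D.u ^ i)⁻¹ * (D.u ^ i')⁻¹) * (D.u ^ i' * D.u ^ i) := by group
          _ = D.u ^ i' * D.u ^ i := by rw [h3, one_mul]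
      rw [h4]
      exact mul_mem (pow_mem (mem_zpowers _) _) (pow_mem (mem_zpowers _) _)
    have hs : IsSimpleGroup D.As := by
      obtain ⟨φ⟩ := eAs
      have : IsSimpleGroup (alternatingGroup (Fin 5)) := alternatingGroup.isSimpleGroup (by simp)
      exact φ.isSimpleGroup
    have hle : normalClosure {(⟨D.u ^ i, pow_mem F.uAs i⟩ : D.As)} ≤ (zpowers D.u).subgroupOf D.As := by
      rw [normalClosure, closure_le]
      intro y hy
      rw [Group.mem_conjugatesOfSet_iff] at hy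
      obtain ⟨a, ha, hay⟩ := hy
      rw [Set.mem_singleton_iff] at ha
      obtain ⟨t, ht⟩ := isConj_iff.1 hay
      have h1 : (y : L) = t * D.u ^ i * (t : L)⁻¹ := by
        rw [← ht, ha]; rfl
      change (y : L) ∈ zpowers D.u
      rw [h1]
      exact key t t.2
    rcases (normalClosure_normal (s := {(⟨D.u ^ i, pow_mem F.uAs i⟩ : D.As)})).eq_bot_or_eq_top with h1 | h1
    · have h2 : (⟨D.u ^ i, pow_mem F.uAs i⟩ : D.As) ∈ normalClosure {(⟨D.u ^ i, pow_mem F.uAs i⟩ : D.As)} :=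
        subset_normalClosure rfl
      rw [h1, mem_bot] at h2
      exact congrArg Subtype.val h2
    · exfalso
      rw [h1] at hle
      apply F.u1
      refine F.centAs _ F.uAs fun c hc => ?_
      have h2 : (⟨c, hc⟩ : D.As) ∈ (zpowers D.u).subgroupOf D.As := hle (mem_top _)
      obtain ⟨n, hn⟩ := mem_zpowers_iff.1 (mem_subgroupOf.1 h2)
      have hn' : D.u ^ n = c := hn
      rw [← hn']
      exact (Commute.refl D.u).zpow_right n
  rw [hui, map_one, mul_one] at hki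
  obtain ⟨hyK, hyv, hodd⟩ := hy
  refine ⟨by rw [hki]; exact hk, ?_, ?_⟩
  · have h1 : b * y * b⁻¹ * (b * v * b⁻¹) = b * v * b⁻¹ * (b * y * b⁻¹) := by
      calc b * y * b⁻¹ * (b * v * b⁻¹) = b * (y * v) * b⁻¹ := by group
        _ = b * v * b⁻¹ * (b * y * b⁻¹) := by rw [hyv]; group
    rw [hbv, hki] at h1
    rw [hki]
    have h2 := mem_KK.1 hk x
    calc k * v' = k * (v' * e x) * (e x)⁻¹ := by group
      _ = v' * (e x * k) * (e x)⁻¹ := by rw [h1]; group
      _ = v' * k := by rw [← h2]; group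
  · have : orderOf (b * y * b⁻¹) = orderOf y := MulEquiv.orderOf_eq (MulAut.conj b) y
    rw [this]
    exact hodd

end HIn

/-- `D₀` -/
def D₀ (e : L →* G) (W : Subgroup G) : Subgroup G := closure {y | ∃ v ∈ W, v ≠ 1 ∧ y ∈ NV e v}

namespace HIn

variable {D : Data L} {Z : Subgroup L} {e : L →* G} {W : Subgroup G} {b : G}

theorem D₀_le : D₀ e W ≤ KK e := by
  rw [D₀, closure_le]
  rintro y ⟨v, -, -, hy⟩
  exact hy.1

theorem mem_D₀ {v y : G} (hv : v ∈ W) (hv1 : v ≠ 1) (hy : y ∈ NV e v) : y ∈ D₀ e W :=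
  subset_closure ⟨v, hv, hv1, hy⟩

theorem conj_D₀ {g : G} (hg : ∀ v ∈ W, v ≠ 1 → ∀ y ∈ NV e v, g * y * g⁻¹ ∈ D₀ e W) :
    ∀ y ∈ D₀ e W, g * y * g⁻¹ ∈ D₀ e W := by
  have h1 : D₀ e W ≤ (D₀ e W).comap (MulAut.conj g).toMonoidHom := by
    conv_lhs => rw [D₀]
    rw [closure_le]
    rintro y ⟨v, hv, hv1, hy⟩
    exact hg v hv hv1 y hy
  exact fun y hy => h1 hy

theorem b_mem [Finite G] (F : Facts D) (eAs : Nonempty (D.As ≃* alternatingGroup (Fin 5)))
    (eAl : Nonempty (D.Al ≃* alternatingGroup (Fin 5))) (hZ : Z ≤ D.Al)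
    (hz : D.z ∈ Z) (h : Emb e) (H : HIn D Z e W b) (hZ4 : Nat.card Z = 4) : b ∈ normalizer (D₀ e W : Set G) := by
  refine mem_normalizer_fintype (conj_D₀ fun v hv hv1 y hy => ?_)
  obtain ⟨v', hv', hv'1, h1⟩ := H.conj_NV F eAs eAl hZ hz h hZ4 hv hv1 hy
  exact mem_D₀ hv' hv'1 h1

theorem D₀_odd [Finite G] (F : Facts D) (eAs : Nonempty (D.As ≃* alternatingGroup (Fin 5)))
    (eAl : Nonempty (D.Al ≃* alternatingGroup (Fin 5))) (hZ : Z ≤ D.Al)
    (hz : D.z ∈ Z) (h : Emb e) (H : HIn D Z e W b) (hZ4 : Nat.card Z = 4) : Odd (Nat.card (D₀ e W)) := by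
  refine odd_of_no_inv fun t ht htt => ?_
  by_contra ht1
  have h1 : b * t * b⁻¹ ∈ D₀ e W := (mem_normalizer_iff.1 (H.b_mem F eAs eAl hZ hz h hZ4) t).1 ht
  have hbM : b ∈ MM e := h.key t b (D₀_le ht) ht1 htt (D₀_le h1)
  obtain ⟨v, hv, hvn⟩ := H.bn
  apply hvn
  obtain ⟨v', hv', x, hx, h2⟩ := H.bW v hv
  have h3 : e x ∈ KK e := by
    have h4 := Emb.conj_KK hbM (H.WK hv)
    rw [h2] at h4
    have h5 := mul_mem (inv_mem (H.WK hv')) h4
    rwa [inv_mul_cancel_left] at h5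
  rw [h2, h.disj x h3, map_one, mul_one]
  exact hv'

/-- elements of `M` normalising `W` normalise `D₀` -/
theorem mem_N_of_norm [Finite G] {g : G} (hg : g ∈ MM e) (hgW : ∀ v ∈ W, g * v * g⁻¹ ∈ W) :
    g ∈ normalizer (D₀ e W : Set G) := by
  refine mem_normalizer_fintype (conj_D₀ fun v hv hv1 y hy => ?_)
  obtain ⟨h1, h2, h3⟩ := hy
  refine mem_D₀ (hgW v hv) ?_ ⟨Emb.conj_KK hg h1, ?_, ?_⟩
  · intro h4
    apply hv1
    calc v = g⁻¹ * (g * v * g⁻¹) * g := by group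
      _ = 1 := by rw [h4]; group
  · calc g * y * g⁻¹ * (g * v * g⁻¹) = g * (y * v) * g⁻¹ := by group
      _ = g * v * g⁻¹ * (g * y * g⁻¹) := by rw [h2]; group
  · have : orderOf (g * y * g⁻¹) = orderOf y := MulEquiv.orderOf_eq (MulAut.conj g) y
    rw [this]
    exact h3

/-- **`C_G(v) ≤ N_G(D₀)`** -/
theorem cent_le [Finite G] (h : Emb e) (H : HIn D Z e W b) {v : G} (hv : v ∈ W) (hv1 : v ≠ 1) {g : G}
    (hg : g * v = v * g) : g ∈ normalizer (D₀ e W : Set G) := by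
  have : Fact (Nat.Prime 2) := ⟨Nat.prime_two⟩
  have hgM : g ∈ MM e := h.nrm (H.WK hv) hv1 (H.sq v hv) hg
  obtain ⟨O, hO, -, hdec⟩ := H.exists_O hv hv1
  -- Sylow in `C_K(v)`
  set C : Subgroup G := KK e ⊓ centralizer {v} with hC
  have memC : ∀ y, y ∈ C ↔ y ∈ KK e ∧ y * v = v * y := fun y => by
    rw [hC, mem_inf, mem_centralizer_singleton_iff]
  have hWC : W ≤ C := fun s hs => (memC s).2 ⟨H.WK hs, comm_of_sq H.sq hs hv⟩
  have hWp : IsPGroup 2 W := Five.isPGroup_four H.W4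
  have hgW : W.map (MulAut.conj g).toMonoidHom ≤ C := by
    rintro _ ⟨s, hs, rfl⟩
    refine (memC _).2 ⟨Emb.conj_KK hgM (H.WK hs), ?_⟩
    change g * s * g⁻¹ * v = v * (g * s * g⁻¹)
    have h1 := inv_comm hg
    have h2 := comm_of_sq H.sq hs hv
    calc g * s * g⁻¹ * v = g * s * (g⁻¹ * v) := by group
      _ = g * (s * v) * g⁻¹ := by rw [h1]; group
      _ = g * v * s * g⁻¹ := by rw [h2]; group
      _ = v * (g * s * g⁻¹) := by rw [hg]; group
  obtain ⟨P₁, hP₁⟩ := (hWp.comap_subtype (K := C)).exists_le_sylow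
  obtain ⟨P₂, hP₂⟩ := ((hWp.map (MulAut.conj g).toMonoidHom).comap_subtype (K := C)).exists_le_sylow
  have hP₁W : ∀ x : C, x ∈ P₁ → (x : G) ∈ W := by
    intro x hx
    have h1 : (P₁ : Subgroup C).map C.subtype = W := by
      apply H.max _ _ (P₁.isPGroup'.map _)
      · intro s hs
        exact ⟨⟨s, hWC hs⟩, hP₁ hs, rfl⟩
      · rintro _ ⟨p, -, rfl⟩
        exact ((memC _).1 p.2).1
    rw [← h1]
    exact ⟨x, hx, rfl⟩
  obtain ⟨c, hc⟩ := MulAction.exists_smul_eq C P₂ P₁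
  have hcW : ∀ s ∈ W, (c : G) * (g * s * g⁻¹) * (c : G)⁻¹ ∈ W := by
    intro s hs
    have h1 : (⟨g * s * g⁻¹, hgW ⟨s, hs, rfl⟩⟩ : C) ∈ (P₂ : Subgroup C) := hP₂ ⟨s, hs, rfl⟩
    have h2 : c * (⟨g * s * g⁻¹, hgW ⟨s, hs, rfl⟩⟩ : C) * c⁻¹ ∈ P₁ := by
      rw [← hc]
      exact ⟨_, h1, rfl⟩
    exact hP₁W _ h2
  -- `c⁻¹ = o s`
  obtain ⟨o, ho, s, hs, hos⟩ := hdec _ (inv_mem ((memC _).1 c.2).1) (inv_comm ((memC _).1 c.2).2)
  have hc' : (c : G) = s⁻¹ * o⁻¹ := by rw [← mul_inv_rev, ← hos, inv_inv]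
  have hoD : o ∈ D₀ e W := mem_D₀ hv hv1 ((hO o).1 ho)
  have h3 : o⁻¹ * g ∈ normalizer (D₀ e W : Set G) := by
    refine mem_N_of_norm (mul_mem (inv_mem (KK_le_MM e (D₀_le hoD))) hgM) fun t ht => ?_
    have h4 := hcW t ht
    rw [hc'] at h4
    have h5 := mul_mem (mul_mem hs h4) (inv_mem hs)
    rwa [show s * (s⁻¹ * o⁻¹ * (g * t * g⁻¹) * (s⁻¹ * o⁻¹)⁻¹) * s⁻¹ = o⁻¹ * g * t * (o⁻¹ * g)⁻¹ by group] at h5
  have h6 : g = o * (o⁻¹ * g) := by group
  rw [h6]
  exact mul_mem (le_normalizer hoD) h3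

end HIn

/-- **HAT** -/
theorem exists_hat [Finite G] {D : Data L} {Z : Subgroup L} {e : L →* G} {W : Subgroup G} {b : G} (F : Facts D)
    (eAs : Nonempty (D.As ≃* alternatingGroup (Fin 5))) (eAl : Nonempty (D.Al ≃* alternatingGroup (Fin 5)))
    (hZ : Z ≤ D.Al) (hZ4 : Nat.card Z = 4) (hz : D.z ∈ Z) (h : Emb e) (H : HIn D Z e W b) :
    ∃ D₀ : Subgroup G, Odd (Nat.card D₀) ∧ (∀ x, ∀ d ∈ D₀, d * e x = e x * d) ∧
      ∃ (V : Subgroup (↥(normalizer (D₀ : Set G)) ⧸ D₀.subgroupOf (normalizer (D₀ : Set G))))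
        (b' : ↥(normalizer (D₀ : Set G)) ⧸ D₀.subgroupOf (normalizer (D₀ : Set G)))
        (j : L →* ↥(normalizer (D₀ : Set G)) ⧸ D₀.subgroupOf (normalizer (D₀ : Set G))),
        EightA.In D Z j V b' ∧
        (∀ x (hx : e x ∈ normalizer (D₀ : Set G)), QuotientGroup.mk' _ ⟨e x, hx⟩ = j x) ∧
        ∀ v ∈ V, v ≠ 1 → ∃ (w : G) (hw : w ∈ normalizer (D₀ : Set G)), w * w = 1 ∧
          QuotientGroup.mk' _ ⟨w, hw⟩ = v ∧ (∀ g, g * w = w * g → g ∈ normalizer (D₀ : Set G)) ∧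
          ∀ x, w * e x = e x * w := by
  have hodd := H.D₀_odd F eAs eAl hZ hz h hZ4
  have hbN := H.b_mem F eAs eAl hZ hz h hZ4
  have hcl := fun {v : G} (hv : v ∈ W) (hv1 : v ≠ 1) {g : G} (hg : g * v = v * g) => HIn.cent_le h H hv hv1 hg
  have hDK : D₀ e W ≤ KK e := HIn.D₀_le
  have hO := fun {v : G} (hv : v ∈ W) (hv1 : v ≠ 1) => H.exists_O hv hv1
  have hmem := fun {v y : G} (hv : v ∈ W) (hv1 : v ≠ 1) (hy : y ∈ NV e v) => HIn.mem_D₀ hv hv1 hy
  generalize D₀ e W = E at *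
  set N := normalizer (E : Set G) with hN
  set π := QuotientGroup.mk' (E.subgroupOf N) with hπ
  have hπs : Function.Surjective π := QuotientGroup.mk'_surjective _
  have hπe : ∀ x y : N, π x = π y ↔ (x : G)⁻¹ * y ∈ E := by
    intro x y
    rw [hπ, QuotientGroup.mk'_apply, QuotientGroup.mk'_apply, QuotientGroup.eq, mem_subgroupOf]
    rfl
  have hEN : E ≤ N := le_normalizer
  -- a nontrivial element of `W`
  obtain ⟨v₀, hv₀, hv₀1⟩ : ∃ v ∈ W, v ≠ 1 := by
    by_contra hno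
    push Not at hno
    have h1 : W = ⊥ := (eq_bot_iff_forall W).2 hno
    have h2 := H.W4
    rw [h1, Subgroup.card_bot] at h2
    omega
  have hWN : W ≤ N := by
    intro v hv
    by_cases hv1 : v = 1
    · rw [hv1]; exact one_mem _
    · exact hcl hv hv1 rfl
  have heN : ∀ x, e x ∈ N := fun x => hcl hv₀ hv₀1 (mem_KK.1 (H.WK hv₀) x).symm
  -- `E ∩ W = 1`, `E ∩ e L = 1`
  have hdisjW : ∀ x ∈ W, x ∈ E → x = 1 := fun x hx hxE =>
    OddPair.eq_one_of_odd hodd (Five.isPGroup_four H.W4) hx hxE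
  let j : L →* ↥N ⧸ E.subgroupOf N := π.comp (e.codRestrict N heN)
  have hj : ∀ x, j x = π ⟨e x, heN x⟩ := fun x => rfl
  -- elements commuting with an involution of `W` modulo `E`
  have hlift : ∀ v, ∀ hv : v ∈ W, v ≠ 1 → ∀ g : N, π g * π ⟨v, hWN hv⟩ = π ⟨v, hWN hv⟩ * π g →
      ∃ m : N, (m : G) * v = v * m ∧ π m = π g := by
    intro v hv hv1 g hg
    rw [← map_mul, ← map_mul, hπe] at hg
    have h1 : ((g : G) * v)⁻¹ * (v * g) ∈ E := hg
    have h2 : (g : G) * v * (g : G)⁻¹ * v ∈ E := by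
      have h3 := (mem_normalizer_iff.1 g.2 _).1 (inv_mem h1)
      have h4 : (g : G) * (((g : G) * v)⁻¹ * (v * g))⁻¹ * (g : G)⁻¹ = v⁻¹ * ((g : G) * v * (g : G)⁻¹) := by group
      rw [h4] at h3
      have h5 := (mem_normalizer_iff.1 (hWN hv) _).1 h3
      have h6 : v * (v⁻¹ * ((g : G) * v * (g : G)⁻¹)) * v⁻¹ = (g : G) * v * (g : G)⁻¹ * v := by
        rw [inv_eq_of_mul_eq_one_left (H.sq v hv)]
        calc v * (v * ((g : G) * v * (g : G)⁻¹)) * v = (v * v) * ((g : G) * v * (g : G)⁻¹) * v := by group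
          _ = _ := by rw [H.sq v hv, one_mul]
      rwa [h6] at h5
    obtain ⟨c, hc, hcv⟩ := conj_of_odd hodd (H.sq v hv) (t := (g : G) * v * (g : G)⁻¹) (by
      calc (g : G) * v * (g : G)⁻¹ * ((g : G) * v * (g : G)⁻¹) = (g : G) * (v * v) * (g : G)⁻¹ := by group
        _ = 1 := by rw [H.sq v hv]; group) h2
    refine ⟨⟨c, hEN hc⟩ * g, ?_, ?_⟩
    · change c * (g : G) * v = v * (c * g)
      calc c * (g : G) * v = (c * ((g : G) * v * (g : G)⁻¹) * c⁻¹) * (c * g) := by group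
        _ = v * (c * g) := by rw [hcv]
    · rw [hπe]
      have h3 : ((⟨c, hEN hc⟩ * g : N) : G)⁻¹ * g = (g : G)⁻¹ * c⁻¹ * g := by
        change (c * (g : G))⁻¹ * g = _
        group
      rw [h3]
      have h4 := (mem_normalizer_iff.1 (inv_mem g.2) c⁻¹).1 (inv_mem hc)
      rwa [inv_inv] at h4
  refine ⟨E, hodd, fun x d hd => mem_KK.1 (hDK hd) x, (W.subgroupOf N).map π, π ⟨b, hbN⟩, j, ?_, fun x hx => rfl, ?_⟩
  · refine
      { inj := ?_
        V4 := ?_
        sq := ?_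
        Vj := ?_
        cent := ?_
        self := ?_
        bu := ?_
        bV := ?_
        bn := ?_
        bZ := ?_ }
    · intro x y hxy
      rw [hj, hj, hπe] at hxy
      have h1 : e (x⁻¹ * y) ∈ KK e := by
        rw [map_mul, map_inv]; exact hDK hxy
      exact (inv_mul_eq_one.1 (h.disj _ h1))
    · rw [OddPair.card_map_of_disj]
      · rw [Nat.card_congr (subgroupOfEquivOfLe hWN).toEquiv, H.W4]
      · intro x hx hxE
        exact Subtype.ext (hdisjW x hx hxE)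
    · rintro _ ⟨v, hv, rfl⟩
      rw [← map_mul]
      have h1 : v * v = 1 := Subtype.ext (H.sq v hv)
      rw [h1, map_one]
    · rintro _ ⟨v, hv, rfl⟩
      rw [mem_KK]
      intro x
      rw [hj, ← map_mul, ← map_mul]
      congr 1
      exact Subtype.ext (mem_KK.1 (H.WK hv) x)
    · rintro _ ⟨v, hv, rfl⟩ hv1 g hg
      obtain ⟨g, rfl⟩ := hπs g
      have hv1' : (v : G) ≠ 1 := by
        intro h1
        apply hv1
        have : v = 1 := Subtype.ext h1
        rw [this, map_one]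
      obtain ⟨m, hm, hmg⟩ := hlift v hv hv1' g hg
      rw [← hmg]
      have hmM : (m : G) ∈ MM e := h.nrm (H.WK hv) hv1' (H.sq v hv) hm
      rw [mem_MM]
      refine ⟨fun x => ?_, fun x => ?_⟩
      · obtain ⟨y, hy⟩ := (mem_MM.1 hmM).1 x
        refine ⟨y, ?_⟩
        rw [hj, hj, ← map_inv, ← map_mul, ← map_mul]
        congr 1
        exact Subtype.ext hy
      · obtain ⟨y, hy⟩ := (mem_MM.1 hmM).2 x
        refine ⟨y, ?_⟩
        rw [hj, hj, ← map_inv, ← map_mul, ← map_mul]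
        congr 1
        exact Subtype.ext hy
    · rintro _ ⟨v, hv, rfl⟩ hv1 g hgK hg
      obtain ⟨g, rfl⟩ := hπs g
      have hv1' : (v : G) ≠ 1 := by
        intro h1
        apply hv1
        have : v = 1 := Subtype.ext h1
        rw [this, map_one]
      obtain ⟨m, hm, hmg⟩ := hlift v hv hv1' g hg
      rw [← hmg] at hgK ⊢
      have hmM : (m : G) ∈ MM e := h.nrm (H.WK hv) hv1' (H.sq v hv) hm
      have hmK : (m : G) ∈ KK e := by
        rw [mem_KK]
        intro x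
        have h1 := mem_KK.1 hgK x
        rw [hj, ← map_mul, ← map_mul, hπe] at h1
        have h1' : ((m : G) * e x)⁻¹ * (e x * m) ∈ E := h1
        obtain ⟨y, hy⟩ := (mem_MM.1 hmM).2 (x⁻¹)
        have h2 : ((m : G) * e x)⁻¹ * (e x * m) = (e x)⁻¹ * ((m : G)⁻¹ * e x * m) := by group
        have h3 : (m : G)⁻¹ * e x * m = e y⁻¹ := by
          rw [map_inv, ← hy, map_inv]; group
        rw [h2, h3, ← map_inv, ← map_mul] at h1'
        have h4 := h.disj _ (hDK h1')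
        have h5 : y⁻¹ = x := by
          rw [← mul_left_cancel_iff (a := x⁻¹), h4, inv_mul_cancel]
        rw [h5] at h3
        calc (m : G) * e x = m * ((m : G)⁻¹ * e x * m) := by rw [h3]
          _ = e x * m := by group
      obtain ⟨O, hO1, -, hO3⟩ := hO hv hv1'
      obtain ⟨o, ho, s, hs, hos⟩ := hO3 m hmK hm
      have hoE : o ∈ E := hmem hv hv1' ((hO1 o).1 ho)
      refine ⟨⟨s, hWN hs⟩, hs, ?_⟩
      rw [hπe]
      change s⁻¹ * (m : G) ∈ E
      rw [hos]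
      have h1 := (mem_normalizer_iff.1 (inv_mem (hWN hs)) o).1 hoE
      rwa [inv_inv, mul_assoc] at h1
    · rw [hj, ← map_mul, ← map_mul]
      congr 1
      exact Subtype.ext H.bu
    · rintro _ ⟨v, hv, rfl⟩
      obtain ⟨v', hv', x, hx, h1⟩ := H.bW v hv
      refine ⟨_, ⟨⟨v', hWN hv'⟩, hv', rfl⟩, x, hx, ?_⟩
      rw [hj, ← map_mul, ← map_inv, ← map_mul, ← map_mul]
      congr 1
      exact Subtype.ext h1
    · obtain ⟨v, hv, hvn⟩ := H.bn
      refine ⟨_, ⟨⟨v, hWN hv⟩, hv, rfl⟩, ?_⟩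
      rintro ⟨s, hs, h1⟩
      apply hvn
      rw [← map_mul, ← map_inv, ← map_mul, hπe] at h1
      have h1' : (s : G)⁻¹ * (b * v * b⁻¹) ∈ E := h1
      obtain ⟨v', hv', x, hx, h2⟩ := H.bW v hv
      have h3 : e x ∈ KK e := by
        rw [h2] at h1'
        have hs' : (s : G) ∈ W := hs
        have h4 := mul_mem (mul_mem (inv_mem (H.WK hv')) (H.WK hs')) (hDK h1')
        rwa [show v'⁻¹ * (s : G) * ((s : G)⁻¹ * (v' * e x)) = e x by group] at h4
      rw [h2, h.disj x h3, map_one, mul_one]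
      exact hv'
    · intro x hx
      obtain ⟨x', hx', h1⟩ := H.bZ' h hZ4 hx
      refine ⟨x', hZ hx', ?_⟩
      rw [hj, hj, ← map_mul, ← map_inv, ← map_mul]
      congr 1
      exact Subtype.ext h1.symm
  · rintro _ ⟨v, hv, rfl⟩ hv1
    have hv1' : (v : G) ≠ 1 := by
      intro h1
      apply hv1
      have : v = 1 := Subtype.ext h1
      rw [this, map_one]
    exact ⟨v, v.2, H.sq v hv, rfl, fun g hg => hcl hv hv1' hg, fun x => mem_KK.1 (H.WK hv) x⟩

end Cfsg.Agent.StdG24.Hat
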