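import Cfsg.Agent.StdG24.ExQFacts
import Cfsg.Agent.StdG24.CoSide
import Cfsg.Agent.StdG24.CloCover
import Cfsg.Agent.StdG24.AutL
import Cfsg.Agent.Lib.Cores
import Cfsg.Agent.S0399
import Cfsg.Prelude.Def_CaseTheorems

/-!
# Step 8B of S1767: from the quotient `N(D₀)/D₀` back to `G`

`D₀ ≤ G` of odd order, `φ : N(D₀) →* Γ` surjective with kernel `D₀`, `G₀ ≤ Γ` isomorphic to `Co₁` containing the
image of `L` and the centralizer of the image of an involution `w` of `N(D₀)` with `C(w) ≤ N(D₀)`; then `G ≅ Co₁`.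
-/

set_option autoImplicit false

namespace Cfsg.Agent.StdG24.HatBack

open Subgroup

/-! ### The order of the centralizer of an involution -/

section Bound

variable {Γ L : Type*} [Group Γ] [Group L]

/-- The elements of `C(v)` inducing inner automorphisms on `L` are in `V L`. -/
theorem exists_of_inner {j : L →* Γ} {v : Γ} (hv : ∀ x, j x * v = v * j x) {V : Subgroup Γ}
    (hK : ∀ g, g * v = v * g → (∀ x, g * j x = j x * g) → g ∈ V) {g : Γ} (hg : g * v = v * g) {c : L}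
    (hc : ∀ x, g * j x * g⁻¹ = j c * j x * (j c)⁻¹) : ∃ k ∈ V, ∃ c : L, g = k * j c := by
  refine ⟨g * (j c)⁻¹, hK _ ?_ ?_, c, by group⟩
  · have h1 : (j c)⁻¹ * v = v * (j c)⁻¹ := by
      rw [inv_mul_eq_iff_eq_mul, ← mul_assoc, hv, mul_inv_cancel_right]
    rw [mul_assoc, h1, ← mul_assoc, hg, mul_assoc]
  · intro x
    have h1 := hc (c⁻¹ * x * c)
    have h2 : j c * j (c⁻¹ * x * c) * (j c)⁻¹ = j x := by
      rw [← map_mul, ← map_inv, ← map_mul]
      congr 1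
      group
    rw [h2, map_mul, map_mul, map_inv] at h1
    calc g * (j c)⁻¹ * j x = (g * ((j c)⁻¹ * j x * j c) * g⁻¹) * (g * (j c)⁻¹) := by group
      _ = j x * (g * (j c)⁻¹) := by rw [h1]

/-- The order of `C(v)`: `2 ^ 17` does not divide it. -/
theorem not_dvd_card [Finite Γ] {E : AutL.El L} (A : AutL.Ax E) {j : L →* Γ}
    (hj : Function.Injective j) {v : Γ} (hv : ∀ x, j x * v = v * j x) {V : Subgroup Γ}
    (hV : Nat.card V = 4) (hVv : ∀ k ∈ V, k * v = v * k)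
    (hM : ∀ g, g * v = v * g → ∀ x : L, g * j x * g⁻¹ ∈ j.range)
    (hK : ∀ g, g * v = v * g → (∀ x, g * j x = j x * g) → g ∈ V) :
    ¬ 2 ^ 17 ∣ Nat.card (centralizer ({v} : Set Γ)) := by
  classical
  have mem : ∀ {g : Γ}, g ∈ centralizer ({v} : Set Γ) ↔ g * v = v * g := by
    intro g
    rw [mem_centralizer_singleton_iff]
  -- the automorphism induced by an element of `C(v)`
  have haut : ∀ g, g * v = v * g → ∃ α : MulAut L, ∀ x, j (α x) = g * j x * g⁻¹ := by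
    intro g hg
    have hg' : g⁻¹ * v = v * g⁻¹ := by
      rw [inv_mul_eq_iff_eq_mul, ← mul_assoc, hg, mul_inv_cancel_right]
    choose f hf using hM g hg
    choose f' hf' using hM g⁻¹ hg'
    refine ⟨⟨⟨f, f', ?_, ?_⟩, ?_⟩, hf⟩
    · intro x
      apply hj
      rw [hf', hf]; group
    · intro x
      apply hj
      rw [hf, hf']; group
    · intro x y
      apply hj
      show j (f (x * y)) = j (f x * f y)
      rw [map_mul, hf, hf, hf, map_mul]; group
  let Inn : Γ → Prop := fun g => ∃ c : L, ∀ x, g * j x * g⁻¹ = j c * j x * (j c)⁻¹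
  have hInn : ∀ g h, g * v = v * g → h * v = v * h → ¬ Inn g → ¬ Inn h → Inn (g * h) := by
    intro g h hg hh hg' hh'
    obtain ⟨α, hα⟩ := haut g hg
    obtain ⟨β, hβ⟩ := haut h hh
    obtain ⟨c, hc⟩ := A.mul_inner α β (by
      rintro ⟨c, hc⟩
      exact hg' ⟨c, fun x => by rw [← hα, hc, map_mul, map_mul, map_inv]⟩) (by
      rintro ⟨c, hc⟩
      exact hh' ⟨c, fun x => by rw [← hβ, hc, map_mul, map_mul, map_inv]⟩)
    refine ⟨c, fun x => ?_⟩
    have h1 : j (α (β x)) = j (c * x * c⁻¹) := by rw [hc]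
    rw [hα, hβ, map_mul, map_mul, map_inv] at h1
    rw [← h1]; group
  have hInn1 : ∀ g, g * v = v * g → ¬ Inn g → ¬ Inn g⁻¹ := by
    intro g _ hg' ⟨c, hc⟩
    apply hg'
    refine ⟨c⁻¹, fun x => ?_⟩
    have h1 := hc (c⁻¹ * x * c)
    have h2 : j c * j (c⁻¹ * x * c) * (j c)⁻¹ = j x := by
      rw [← map_mul, ← map_inv, ← map_mul]
      congr 1
      group
    rw [h2, inv_inv] at h1
    have h3 : g * j x * g⁻¹ = j (c⁻¹ * x * c) := by rw [← h1]; group
    rw [h3, map_mul, map_mul, map_inv, inv_inv]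
  -- the subgroup `L` of `C(v)`
  set C := centralizer ({v} : Set Γ) with hC
  have hjC : j.range ≤ C := by
    rintro _ ⟨x, rfl⟩
    exact mem.2 (hv x)
  set J : Subgroup C := j.range.subgroupOf C with hJ
  have hJcard : Nat.card J = 251596800 := by
    rw [hJ, Nat.card_congr (subgroupOfEquivOfLe hjC).toEquiv,
      Nat.card_congr (MonoidHom.ofInjective hj).symm.toEquiv, A.card]
  -- cosets
  have hidx : J.index ≤ 8 := by
    by_cases hex : ∃ a, a * v = v * a ∧ ¬ Inn a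
    · obtain ⟨a, ha, haI⟩ := hex
      let F : V × Bool → C ⧸ J := fun k =>
        QuotientGroup.mk (if k.2 then ⟨a * k.1, mem.2 (by
          rw [mul_assoc, hVv _ k.1.2, ← mul_assoc, ha, mul_assoc])⟩ else ⟨k.1, mem.2 (hVv _ k.1.2)⟩)
      have hF : Function.Surjective F := by
        intro y
        obtain ⟨g, rfl⟩ := QuotientGroup.mk_surjective y
        have hg := mem.1 g.2
        by_cases hgI : Inn g
        · obtain ⟨c, hc⟩ := hgI
          obtain ⟨k, hk, c', hkc⟩ := exists_of_inner hv hK hg hc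
          refine ⟨(⟨k, hk⟩, false), ?_⟩
          show QuotientGroup.mk (⟨k, _⟩ : C) = QuotientGroup.mk g
          rw [QuotientGroup.eq]
          refine mem_subgroupOf.2 ⟨c', ?_⟩
          show j c' = k⁻¹ * (g : Γ)
          rw [hkc]; group
        · have h1 : Inn (a⁻¹ * g) := hInn _ _ (by
              rw [inv_mul_eq_iff_eq_mul, ← mul_assoc, ha, mul_inv_cancel_right]) hg (hInn1 a ha haI) hgI
          obtain ⟨c, hc⟩ := h1
          obtain ⟨k, hk, c', hkc⟩ := exists_of_inner hv hK (g := a⁻¹ * g) (by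
            rw [mul_assoc, hg, ← mul_assoc, ← mul_assoc]
            congr 1
            rw [inv_mul_eq_iff_eq_mul, ← mul_assoc, ha, mul_inv_cancel_right]) hc
          refine ⟨(⟨k, hk⟩, true), ?_⟩
          show QuotientGroup.mk (⟨a * k, _⟩ : C) = QuotientGroup.mk g
          rw [QuotientGroup.eq]
          refine mem_subgroupOf.2 ⟨c', ?_⟩
          show j c' = (a * k)⁻¹ * (g : Γ)
          have h2 : (g : Γ) = a * (k * j c') := by rw [← hkc]; group
          rw [h2]; group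
      have h1 := Nat.card_le_card_of_surjective F hF
      have hB : Nat.card Bool = 2 := by rw [Nat.card_eq_fintype_card, Fintype.card_bool]
      rw [Nat.card_prod, hV, hB] at h1
      exact h1
    · let F : V → C ⧸ J := fun k => QuotientGroup.mk ⟨k.1, mem.2 (hVv _ k.2)⟩
      have hF : Function.Surjective F := by
        intro y
        obtain ⟨g, rfl⟩ := QuotientGroup.mk_surjective y
        have hg := mem.1 g.2
        have hgI : Inn g := by
          by_contra h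
          exact hex ⟨g, hg, h⟩
        obtain ⟨c, hc⟩ := hgI
        obtain ⟨k, hk, c', hkc⟩ := exists_of_inner hv hK hg hc
        refine ⟨⟨k, hk⟩, ?_⟩
        show QuotientGroup.mk (⟨k, _⟩ : C) = QuotientGroup.mk g
        rw [QuotientGroup.eq]
        refine mem_subgroupOf.2 ⟨c', ?_⟩
        show j c' = k⁻¹ * (g : Γ)
        rw [hkc]; group
      have h1 := Nat.card_le_card_of_surjective F hF
      rw [hV] at h1
      exact h1.trans (by norm_num)
  have hpos : 0 < J.index := Nat.pos_of_ne_zero J.index_ne_zero_of_finite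
  rw [← J.card_mul_index, hJcard]
  intro h
  interval_cases J.index <;> revert h <;> decide

end Bound

/-! ### The cover -/

section Cover

variable {G Γ : Type*} [Group G] [Group Γ] {D₀ : Subgroup G}
  (φ : ↥(normalizer (D₀ : Set G)) →* Γ) (G₀ : Subgroup Γ) (θ₀ : G₀ ≃* Spor.Co1)

/-- The preimage of `G₀`. -/
def NN : Subgroup G where
  carrier := {x | ∃ h : x ∈ normalizer (D₀ : Set G), φ ⟨x, h⟩ ∈ G₀}
  one_mem' := ⟨one_mem _, by
    have : φ ⟨1, one_mem _⟩ = 1 := map_one φ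
    rw [this]; exact one_mem _⟩
  mul_mem' := by
    rintro a b ⟨ha, ha'⟩ ⟨hb, hb'⟩
    refine ⟨mul_mem ha hb, ?_⟩
    have : φ ⟨a * b, mul_mem ha hb⟩ = φ ⟨a, ha⟩ * φ ⟨b, hb⟩ := map_mul φ ⟨a, ha⟩ ⟨b, hb⟩
    rw [this]; exact mul_mem ha' hb'
  inv_mem' := by
    rintro a ⟨ha, ha'⟩
    refine ⟨inv_mem ha, ?_⟩
    have : φ ⟨a⁻¹, inv_mem ha⟩ = (φ ⟨a, ha⟩)⁻¹ := map_inv φ ⟨a, ha⟩
    rw [this]; exact inv_mem ha'

theorem mem_NN {x : G} : x ∈ NN φ G₀ ↔ ∃ h : x ∈ normalizer (D₀ : Set G), φ ⟨x, h⟩ ∈ G₀ := Iff.rfl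

/-- The map onto `Co₁`. -/
def ππ : NN φ G₀ →* Spor.Co1 where
  toFun x := θ₀ ⟨φ ⟨x, x.2.1⟩, x.2.2⟩
  map_one' := by
    have : (⟨φ ⟨((1 : NN φ G₀) : G), (1 : NN φ G₀).2.1⟩, (1 : NN φ G₀).2.2⟩ : G₀) = 1 :=
      Subtype.ext (map_one φ)
    rw [this, map_one]
  map_mul' x y := by
    rw [← map_mul]
    congr 1
    exact Subtype.ext (map_mul φ ⟨x, x.2.1⟩ ⟨y, y.2.1⟩)

theorem ππ_apply (x : NN φ G₀) : ππ φ G₀ θ₀ x = θ₀ ⟨φ ⟨x, x.2.1⟩, x.2.2⟩ := rfl

variable (hker : ∀ x, φ x = 1 ↔ (x : G) ∈ D₀)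

include hker

theorem ππ_eq_one (x : NN φ G₀) : ππ φ G₀ θ₀ x = 1 ↔ (x : G) ∈ D₀ := by
  rw [ππ_apply, map_eq_one_iff θ₀ θ₀.injective, ← hker ⟨x, x.2.1⟩]
  exact Subtype.ext_iff

omit hker in
theorem D₀_le : D₀ ≤ normalizer (D₀ : Set G) := le_normalizer

theorem D₀_le_NN : D₀ ≤ NN φ G₀ := by
  intro d hd
  refine ⟨D₀_le hd, ?_⟩
  rw [(hker ⟨d, D₀_le hd⟩).2 hd]
  exact one_mem _

omit hker in
theorem ππ_surjective (hφ : Function.Surjective φ) : Function.Surjective (ππ φ G₀ θ₀) := by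
  intro k
  obtain ⟨g, rfl⟩ := θ₀.surjective k
  obtain ⟨x, hx⟩ := hφ (g : Γ)
  refine ⟨⟨x, x.2, by
    show φ x ∈ G₀
    rw [hx]; exact g.2⟩, ?_⟩
  rw [ππ_apply]
  congr 1
  exact Subtype.ext hx

include θ₀ in
/-- The centralizer of `D₀` covers `Co₁`. -/
theorem exists_mul [Finite G] (hD : Odd (Nat.card D₀)) (hφ : Function.Surjective φ)
    {x₀ : G} (hx₀ : x₀ ∈ NN φ G₀) (hc₀ : ∀ d ∈ D₀, d * x₀ = x₀ * d) (h2 : x₀ * x₀ = 1) (h1 : x₀ ≠ 1) {n : G}
    (hn : n ∈ NN φ G₀) : n ∈ D₀ ⊔ (NN φ G₀ ⊓ centralizer (D₀ : Set G)) := by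
  have : IsSimpleGroup Spor.Co1 := Cfsg.Agent.S0399.result.1
  set π := ππ φ G₀ θ₀ with hπ
  have hπs : Function.Surjective π := ππ_surjective φ G₀ θ₀ hφ
  have hP : ((centralizer (D₀ : Set G)).comap (NN φ G₀).subtype).Normal := by
    refine ⟨fun p hp g => ?_⟩
    rw [mem_comap, mem_centralizer_iff] at hp ⊢
    intro d hd
    have hg := g.2.1
    rw [mem_normalizer_iff] at hg
    have hd' : (g : G)⁻¹ * d * g ∈ D₀ := by
      rw [hg]
      have : (g : G) * ((g : G)⁻¹ * d * g) * (g : G)⁻¹ = d := by group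
      rw [this]; exact hd
    have h3 := hp _ hd'
    have h4 : ((NN φ G₀).subtype (g * p * g⁻¹)) = (g : G) * ((NN φ G₀).subtype p) * (g : G)⁻¹ := rfl
    rw [h4]
    calc d * ((g : G) * ((NN φ G₀).subtype p) * (g : G)⁻¹)
        = (g : G) * (((g : G)⁻¹ * d * g) * ((NN φ G₀).subtype p)) * (g : G)⁻¹ := by group
      _ = (g : G) * (((NN φ G₀).subtype p) * ((g : G)⁻¹ * d * g)) * (g : G)⁻¹ := by rw [h3]
      _ = _ := by group
  have hmap : (((centralizer (D₀ : Set G)).comap (NN φ G₀).subtype).map π).Normal := hP.map π hπs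
  have htop : ((centralizer (D₀ : Set G)).comap (NN φ G₀).subtype).map π = ⊤ := by
    refine hmap.eq_bot_or_eq_top.resolve_left ?_
    intro h
    have h3 : π ⟨x₀, hx₀⟩ ∈ ((centralizer (D₀ : Set G)).comap (NN φ G₀).subtype).map π := by
      refine mem_map_of_mem π ?_
      rw [mem_comap, mem_centralizer_iff]
      exact hc₀
    rw [h, mem_bot, hπ, ππ_eq_one φ G₀ θ₀ hker] at h3
    -- an involution in a group of odd order
    apply h1
    obtain ⟨m, hm⟩ := hD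
    have h4 : (⟨x₀, h3⟩ : D₀) ^ Nat.card D₀ = 1 := pow_card_eq_one'
    have h5 : x₀ ^ Nat.card D₀ = 1 := congrArg Subtype.val h4
    rw [hm, pow_succ, pow_mul, pow_two, h2, one_pow, one_mul] at h5
    exact h5
  have h3 : π ⟨n, hn⟩ ∈ ((centralizer (D₀ : Set G)).comap (NN φ G₀).subtype).map π := by
    rw [htop]; exact mem_top _
  obtain ⟨p, hp, hpn⟩ := h3
  have h4 : π (⟨n, hn⟩ * p⁻¹) = 1 := by rw [map_mul, map_inv, hpn, mul_inv_cancel]
  rw [hπ, ππ_eq_one φ G₀ θ₀ hker] at h4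
  have h5 : n * (p : G)⁻¹ ∈ D₀ := h4
  have h6 : n = (n * (p : G)⁻¹) * p := by group
  rw [h6]
  exact mul_mem_sup h5 ⟨p.2, hp⟩

theorem cover [Finite G] (hD : Odd (Nat.card D₀)) (hφ : Function.Surjective φ)
    {x₀ : G} (hx₀ : x₀ ∈ NN φ G₀) (hc₀ : ∀ d ∈ D₀, d * x₀ = x₀ * d) (h2 : x₀ * x₀ = 1) (h1 : x₀ ≠ 1) :
    CloBridge.Cover4 (ππ φ G₀ θ₀) := by
  have h4 : ∀ k : NN φ G₀, ππ φ G₀ θ₀ k = 1 → ∀ x : NN φ G₀, x ^ 4 = 1 → k * x = x * k := by
    intro k hk x hx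
    rw [ππ_eq_one φ G₀ θ₀ hker] at hk
    have h5 : (x : G) ∈ NN φ G₀ ⊓ centralizer (D₀ : Set G) := by
      apply CloCover.mem_of_pow_four (D := D₀) _ hD (exists_mul φ G₀ θ₀ hker hD hφ hx₀ hc₀ h2 h1 x.2)
        (congrArg Subtype.val hx)
      intro d hd p hp
      exact mem_centralizer_iff.1 hp.2 d hd
    exact Subtype.ext (mem_centralizer_iff.1 h5.2 _ hk)
  refine { surj := ππ_surjective φ G₀ θ₀ hφ, odd := ?_, comm := ?_, comm4 := h4 }
  · let f : (ππ φ G₀ θ₀).ker →* D₀ :=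
      { toFun := fun x => ⟨((x : NN φ G₀) : G), (ππ_eq_one φ G₀ θ₀ hker x).1 x.2⟩
        map_one' := rfl
        map_mul' := fun _ _ => rfl }
    have hf : Function.Injective f := by
      intro x y h
      exact Subtype.ext (Subtype.ext (congrArg (fun t : D₀ => (t : G)) h))
    exact hD.of_dvd_nat (card_dvd_of_injective f hf)
  · intro k hk x hx
    exact h4 k hk x (CloCover.pow_four_of_sq hx)

end Cover

/-! ### The theorem -/

section Main

open Cfsg.Agent.CoOneType.ClosingFacts (mk)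
open Cfsg.Agent.CoOneType.Thirteen (b0)

theorem isConj_w : IsConj (mk b0) CoOneType.Model.w := by
  rw [ExQFacts.isConj_iff_root]
  exact ⟨_, CoSide.w_lift.1.symm, by rw [CoSide.w_lift.2, ExNorm.neg_eq]⟩

variable {G Γ L : Type*} [Group G] [Finite G] [Group Γ] [Group L] {D₀ : Subgroup G}

omit [Finite G] in
/-- The order of `C_G(w)`. -/
theorem not_dvd_of_quot {φ : ↥(normalizer (D₀ : Set G)) →* Γ} [Finite Γ] (hker : ∀ x, φ x = 1 ↔ (x : G) ∈ D₀)
    (hD : Odd (Nat.card D₀)) {w : G} (hwN : w ∈ normalizer (D₀ : Set G))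
    (hCw : ∀ g, g * w = w * g → g ∈ normalizer (D₀ : Set G))
    (h17 : ¬ 2 ^ 17 ∣ Nat.card (centralizer ({φ ⟨w, hwN⟩} : Set Γ))) :
    ¬ 2 ^ 17 ∣ Nat.card (centralizer ({w} : Set G)) := by
  have mem : ∀ {g : G}, g ∈ centralizer ({w} : Set G) ↔ g * w = w * g := by
    intro g
    rw [mem_centralizer_singleton_iff]
  let f : centralizer ({w} : Set G) →* centralizer ({φ ⟨w, hwN⟩} : Set Γ) :=
    { toFun := fun g => ⟨φ ⟨g, hCw g (mem.1 g.2)⟩, by
        rw [mem_centralizer_singleton_iff, ← map_mul, ← map_mul]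
        congr 1
        exact Subtype.ext (mem.1 g.2)⟩
      map_one' := Subtype.ext (map_one φ)
      map_mul' := fun a b => Subtype.ext (map_mul φ ⟨a, hCw a (mem.1 a.2)⟩ ⟨b, hCw b (mem.1 b.2)⟩) }
  have hk : Odd (Nat.card f.ker) := by
    let h : f.ker →* D₀ :=
      { toFun := fun x => ⟨((x : centralizer ({w} : Set G)) : G), by
          have h1 : f x = 1 := x.2
          have h2 : φ ⟨((x : centralizer ({w} : Set G)) : G), hCw _ (mem.1 x.1.2)⟩ = 1 :=
            congrArg Subtype.val h1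
          exact (hker _).1 h2⟩
        map_one' := rfl
        map_mul' := fun _ _ => rfl }
    have hinj : Function.Injective h := by
      intro x y hxy
      exact Subtype.ext (Subtype.ext (congrArg (fun t : D₀ => (t : G)) hxy))
    exact hD.of_dvd_nat (card_dvd_of_injective h hinj)
  intro h
  apply h17
  have h1 : Nat.card f.ker * Nat.card f.range = Nat.card (centralizer ({w} : Set G)) := by
    rw [← Nat.card_congr (QuotientGroup.quotientKerEquivRange f).toEquiv, mul_comm]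
    exact (card_eq_card_quotient_mul_card_subgroup f.ker).symm
  rw [← h1] at h
  have h2 : Nat.Coprime (2 ^ 17) (Nat.card f.ker) := by
    apply Nat.Coprime.pow_left
    exact (Nat.coprime_two_left).2 hk
  exact (h2.dvd_of_dvd_mul_left h).trans (card_subgroup_dvd_card f.range)

/-- **Step 8B of S1767.** -/
theorem isoCo1 (hO : Cfsg.oddCore G = ⊥) {e : L →* G} (hD : Odd (Nat.card D₀))
    (hcomm : ∀ x, ∀ d ∈ D₀, d * e x = e x * d) {φ : ↥(normalizer (D₀ : Set G)) →* Γ} [Finite Γ]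
    (hφ : Function.Surjective φ) (hker : ∀ x, φ x = 1 ↔ (x : G) ∈ D₀) {G₀ : Subgroup Γ}
    (θ₀ : G₀ ≃* Spor.Co1) (hL : ∀ x (h : e x ∈ normalizer (D₀ : Set G)), φ ⟨e x, h⟩ ∈ G₀)
    {i : L} (hi1 : e i ≠ 1) (hi2 : i * i = 1) {w : G} (hw2 : w * w = 1)
    (hwN : w ∈ normalizer (D₀ : Set G)) (hwG : φ ⟨w, hwN⟩ ∈ G₀)
    (hθ : θ₀ ⟨φ ⟨w, hwN⟩, hwG⟩ = CoOneType.Model.w)
    (hC : ∀ y : Γ, y * φ ⟨w, hwN⟩ = φ ⟨w, hwN⟩ * y → y ∈ G₀)
    (hCw : ∀ g, g * w = w * g → g ∈ normalizer (D₀ : Set G))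
    (h17 : ¬ 2 ^ 17 ∣ Nat.card (centralizer ({φ ⟨w, hwN⟩} : Set Γ))) :
    Spor.IsoCo1 (normalClosure (e.range : Set G)) := by
  have heN : ∀ x, e x ∈ normalizer (D₀ : Set G) := by
    intro x
    rw [mem_normalizer_iff]
    intro d
    constructor
    · intro hd
      rw [← hcomm x d hd, mul_inv_cancel_right]; exact hd
    · intro hd
      have h1 := hcomm x⁻¹ _ hd
      have h2 : d = e x⁻¹ * (e x * d * (e x)⁻¹) * (e x⁻¹)⁻¹ := by rw [map_inv]; group
      rw [h2, ← h1, mul_inv_cancel_right]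
      exact hd
  have heNN : ∀ x, e x ∈ NN φ G₀ := fun x => ⟨heN x, hL x (heN x)⟩
  have hcov := cover φ G₀ θ₀ hker hD hφ (x₀ := e i) (heNN i) (hcomm i)
    (by rw [← map_mul, hi2, map_one]) hi1
  have hwNN : w ∈ NN φ G₀ := ⟨hwN, hwG⟩
  have hwOver : w ∈ CloFus.Over (ππ φ G₀ θ₀) (mk b0) := by
    refine ⟨hwNN, hw2, ?_⟩
    rw [ππ_apply]
    show IsConj (mk b0) (θ₀ ⟨φ ⟨w, hwN⟩, hwG⟩)
    rw [hθ]
    exact isConj_w
  have hwC : ∀ g, g * w = w * g → g ∈ NN φ G₀ := by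
    intro g hg
    refine ⟨hCw g hg, hC _ ?_⟩
    rw [← map_mul, ← map_mul]
    congr 1
    exact Subtype.ext hg
  have hcard := not_dvd_of_quot hker hD hwN hCw h17
  have htop : NN φ G₀ = ⊤ := by
    apply ExQFacts.closing hcov
    · intro v hv g hg
      obtain ⟨n, hn, hnv⟩ := CloFus.isConj_over hcov.toCover hwOver hv
      have h1 : n⁻¹ * g * n ∈ NN φ G₀ := by
        apply hwC
        have h2 : v = n * w * n⁻¹ := hnv.symm
        rw [h2] at hg
        calc n⁻¹ * g * n * w = n⁻¹ * (g * (n * w * n⁻¹)) * n := by group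
          _ = n⁻¹ * (n * w * n⁻¹ * g) * n := by rw [hg]
          _ = _ := by group
      have h3 : g = n * (n⁻¹ * g * n) * n⁻¹ := by group
      rw [h3]
      exact mul_mem (mul_mem hn h1) (inv_mem hn)
    · intro v hv
      obtain ⟨n, hn, hnv⟩ := CloFus.isConj_over hcov.toCover hwOver hv
      have h1 : Nat.card (centralizer ({v} : Set G)) = Nat.card (centralizer ({w} : Set G)) := by
        rw [← hnv]
        exact CloFus.card_centralizer_conj n w
      rw [h1]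
      exact hcard
  have hDn : D₀.Normal := by
    refine ⟨fun d hd g => ?_⟩
    have hg : g ∈ normalizer (D₀ : Set G) := by
      have : g ∈ NN φ G₀ := by rw [htop]; exact mem_top g
      exact this.1
    exact (mem_normalizer_iff.1 hg d).1 hd
  have hD0 : D₀ = ⊥ := by
    rw [eq_bot_iff, ← hO]
    exact Cfsg.Agent.Lib.Cores.le_pPrimeCore hDn (Nat.coprime_two_right.2 hD)
  have hinj : Function.Injective (ππ φ G₀ θ₀) := by
    rw [injective_iff_map_eq_one]
    intro x hx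
    rw [ππ_eq_one φ G₀ θ₀ hker] at hx
    have h2 : D₀ ≤ ⊥ := hD0.le
    exact Subtype.ext (mem_bot.1 (h2 hx))
  let E1 : NN φ G₀ ≃* Spor.Co1 := MulEquiv.ofBijective (ππ φ G₀ θ₀) ⟨hinj, hcov.surj⟩
  let E2 : G ≃* Spor.Co1 := (topEquiv.symm.trans (MulEquiv.subgroupCongr htop.symm)).trans E1
  have hsG : IsSimpleGroup G := by
    have : IsSimpleGroup Spor.Co1 := Cfsg.Agent.S0399.result.1
    exact MulEquiv.isSimpleGroup E2
  have hcl : normalClosure (e.range : Set G) = ⊤ := by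
    refine (normalClosure_normal (s := (e.range : Set G))).eq_bot_or_eq_top.resolve_left ?_
    intro h
    apply hi1
    have h1 : e i ∈ normalClosure (e.range : Set G) := subset_normalClosure ⟨i, rfl⟩
    rw [h, mem_bot] at h1
    exact h1
  exact ⟨((MulEquiv.subgroupCongr hcl).trans topEquiv).trans E2⟩

/-- **Step 8B of S1767**, with the order of `C_Γ(w)` from the structure of `C_Γ(w)`: `j : L →* Γ` is the embedding
of `L` in `Γ`, `V` is the centralizer of `w` in `C(L)`, of order 4, and `C_Γ(w)` normalises `L`. -/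
theorem isoCo1_of (hO : Cfsg.oddCore G = ⊥) {E : AutL.El L} (A : AutL.Ax E) {e : L →* G}
    (he : Function.Injective e) (hD : Odd (Nat.card D₀))
    (hcomm : ∀ x, ∀ d ∈ D₀, d * e x = e x * d) {φ : ↥(normalizer (D₀ : Set G)) →* Γ}
    (hφ : Function.Surjective φ) (hker : ∀ x, φ x = 1 ↔ (x : G) ∈ D₀)
    {j : L →* Γ} (hj : Function.Injective j)
    (hje : ∀ x (h : e x ∈ normalizer (D₀ : Set G)), φ ⟨e x, h⟩ = j x)
    {G₀ : Subgroup Γ} (θ₀ : G₀ ≃* Spor.Co1) (hL : ∀ x, j x ∈ G₀)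
    {w : G} (hw2 : w * w = 1) (hwN : w ∈ normalizer (D₀ : Set G)) (hwG : φ ⟨w, hwN⟩ ∈ G₀)
    (hθ : θ₀ ⟨φ ⟨w, hwN⟩, hwG⟩ = CoOneType.Model.w)
    (hC : ∀ y : Γ, y * φ ⟨w, hwN⟩ = φ ⟨w, hwN⟩ * y → y ∈ G₀)
    (hCw : ∀ g, g * w = w * g → g ∈ normalizer (D₀ : Set G))
    (hjw : ∀ x, j x * φ ⟨w, hwN⟩ = φ ⟨w, hwN⟩ * j x)
    {V : Subgroup Γ} (hV : Nat.card V = 4) (hVw : ∀ k ∈ V, k * φ ⟨w, hwN⟩ = φ ⟨w, hwN⟩ * k)
    (hM : ∀ g : Γ, g * φ ⟨w, hwN⟩ = φ ⟨w, hwN⟩ * g → ∀ x, g * j x * g⁻¹ ∈ j.range)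
    (hK : ∀ g : Γ, g * φ ⟨w, hwN⟩ = φ ⟨w, hwN⟩ * g → (∀ x, g * j x = j x * g) → g ∈ V) :
    Spor.IsoCo1 (normalClosure (e.range : Set G)) := by
  have : Finite Γ := Finite.of_surjective φ hφ
  refine isoCo1 hO hD hcomm hφ hker θ₀ (fun x h => by rw [hje]; exact hL x) (i := E.i₁) ?_ A.i₁i₁
    hw2 hwN hwG hθ hC hCw (not_dvd_card A hj hjw hV hVw hM hK)
  intro h
  apply A.i₁1
  apply he
  rw [h, map_one]

end Main

end Cfsg.Agent.StdG24.HatBack
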