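import Cfsg.Agent.StdG24.Cent6

/-!
# The involutions of the six-dimensional `G₂(4)`

The centraliser of `v = x₉(1)`, the two classes of involutions, `v` and `z = x₆(1)` are not
conjugate under automorphisms.
-/

set_option autoImplicit false
set_option linter.constructorNameAsVariable false
set_option linter.unusedVariables false

namespace Cfsg.Agent.StdG24.Inv6

open Cfsg.Agent.SporRec
open Cfsg.Agent.SporRec.GF4
open Cfsg.Agent.SporRec.G24Code (app)
open Cfsg.Agent.SporRec.G24Orb (allb allb_spec)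
open Cfsg.Agent.StdG24.Mod6
open Cfsg.Agent.StdG24.Ord6
open Cfsg.Agent.StdG24.Al6
open Cfsg.Agent.StdG24.Cent6

/-- the involution `v = x₉(1)` of `As` -/
def vE : GL6 := gx 9 0

/-- the involution `z = x₆(1)` of `Al` -/
def zE : GL6 := gx 6 0

theorem vE_mem : vE ∈ As := gx9_mem 0
theorem zE_mem : zE ∈ Al := gx6_mem 0

/-- the nilpotent part of `v` -/
def N (x : Vec) : Vec := ![x 5, x 3, x 4, 0, 0, 0]

theorem vmat : (vE : Mat) = !![1, 0, 0, 0, 0, 1; 0, 1, 0, 1, 0, 0; 0, 0, 1, 0, 1, 0;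
    0, 0, 0, 1, 0, 0; 0, 0, 0, 0, 1, 0; 0, 0, 0, 0, 0, 1] := by
  change matOf (xc 9 0) = _
  decide +kernel

theorem act_v (x : Vec) : act vE x = x + N x := by
  rw [act, vmat]
  funext i
  fin_cases i <;> simp [N, Matrix.mulVec, dotProduct, Fin.sum_univ_six, Matrix.of_apply] 

theorem form_e0 (x : Vec) : form x e0 = x 5 := by
  have h : ∀ i : Fin 6, e0 i = if i = 0 then 1 else 0 := by decide +kernel
  rw [form, Finset.sum_eq_single 5]
  · rw [h]
    simp
  · intro i _ hi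
    rw [h, if_neg, mul_zero]
    intro h1
    apply hi
    rw [← Fin.rev_rev i, h1]
    rfl
  · intro h; exact absurd (Finset.mem_univ _) h

theorem form_v (x : Vec) : form x (act vE x) = x 5 * x 5 := by
  rw [act_v, form_add_right, form_self, zero_add]
  have h : ∀ a b : F4, a * b + b * a = 0 := by decide
  have h2 : form x (N x) = x 5 * x 5 + (x 3 * x 4 + x 4 * x 3) := by
    rw [form, Fin.sum_univ_six]
    change x 0 * 0 + x 1 * 0 + x 2 * 0 + x 3 * x 4 + x 4 * x 3 + x 5 * x 5 = _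
    ring
  rw [h2, h, add_zero]

/-- the centraliser of `v` -/
def Cv : Subgroup GL6 where
  carrier := {g | g ∈ L ∧ g * vE = vE * g}
  one_mem' := ⟨L.one_mem, by rw [one_mul, mul_one]⟩
  mul_mem' := by
    rintro a b ⟨ha, ha'⟩ ⟨hb, hb'⟩
    exact ⟨L.mul_mem ha hb, by rw [mul_assoc, hb', ← mul_assoc, ha', mul_assoc]⟩
  inv_mem' := by
    rintro a ⟨ha, ha'⟩
    exact ⟨L.inv_mem ha, ((show Commute a vE from ha').inv_left).eq⟩

theorem mem_Cv {g : GL6} : g ∈ Cv ↔ g ∈ L ∧ g * vE = vE * g := Iff.rfl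

theorem Cv_coord {g : GL6} (hg : g ∈ Cv) (x : Vec) : (act g x) 5 = x 5 := by
  have h1 : form (act g x) (act vE (act g x)) = form x (act vE x) := by
    rw [← act_mul, ← hg.2, act_mul, form_act hg.1]
  rw [form_v, form_v] at h1
  have h2 : ∀ a b : F4, a * a = b * b → a = b := by decide
  exact h2 _ _ h1

theorem eq_of_form {x y : Vec} (h : ∀ z, form z x = form z y) : x = y := by
  have h1 : x + y = 0 := by
    apply eq_zero_of_form
    intro z
    rw [form_comm, form_add_right, h z]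
    have h2 : ∀ a : F4, a + a = 0 := by decide
    exact h2 _
  have h3 : ∀ a b : F4, a + b = 0 → a = b := by decide
  funext i
  exact h3 _ _ (congrFun h1 i)

/-- the centraliser of `v` fixes `e0` -/
theorem Cv_e0 {g : GL6} (hg : g ∈ Cv) : act g e0 = e0 := by
  apply eq_of_form
  intro z
  have h1 : form z (act g e0) = form (act g⁻¹ z) e0 := by
    rw [← form_act hg.1 (act g⁻¹ z) e0, act_act_inv]
  rw [h1, form_e0, form_e0]
  exact Cv_coord (Cv.inv_mem hg) z

theorem e1_5 : e1 5 = 1 := by decide +kernel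

theorem N_e1 : N e1 = e0 := by decide +kernel

/-- the vectors fixed by `v` -/
theorem fix_v {x : Vec} : act vE x = x ↔ x 3 = 0 ∧ x 4 = 0 ∧ x 5 = 0 := by
  rw [act_v]
  constructor
  · intro h
    have h1 : N x = 0 := add_eq_left.1 h
    exact ⟨congrFun h1 1, congrFun h1 2, congrFun h1 0⟩
  · rintro ⟨h3, h4, h5⟩
    have h1 : N x = 0 := by
      rw [N, h3, h4, h5]
      decide
    rw [h1, add_zero]

theorem act_sub' (g : GL6) (x y : Vec) : act g (x - y) = act g x - act g y := Matrix.mulVec_sub _ _ _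

/-- the displacement of `e1` under the centraliser of `v` -/
theorem Cv_e1 {g : GL6} (hg : g ∈ Cv) : ∃ a : Vec, act g e1 = e1 + a ∧ a 3 = 0 ∧ a 4 = 0 ∧ a 5 = 0 := by
  refine ⟨act g e1 - e1, by rw [add_sub_cancel], fix_v.1 ?_⟩
  have h1 : act vE e1 = e1 + e0 := by rw [act_v, N_e1]
  rw [act_sub', ← act_mul, ← hg.2, act_mul, h1, act_add, Cv_e0 hg]
  abel

theorem form_D {a b : Vec} (ha : a 3 = 0 ∧ a 4 = 0 ∧ a 5 = 0) (hb : b 3 = 0 ∧ b 4 = 0 ∧ b 5 = 0) :
    form a b = 0 := by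
  rw [form, Fin.sum_univ_six]
  change a 0 * b 5 + a 1 * b 4 + a 2 * b 3 + a 3 * b 2 + a 4 * b 1 + a 5 * b 0 = 0
  rw [ha.1, ha.2.1, ha.2.2, hb.1, hb.2.1, hb.2.2]
  ring

/-- the character of the centraliser of `v` -/
def chi (g : GL6) : F4 := form (act g e1) e1

theorem chi_mul {g h : GL6} (hg : g ∈ Cv) (hh : h ∈ Cv) : chi (g * h) = chi g + chi h := by
  obtain ⟨a, ha, ha'⟩ := Cv_e1 hh
  obtain ⟨b, hb, hb'⟩ := Cv_e1 (Cv.inv_mem hg)
  have h1 : chi (g * h) = form (act h e1) (act g⁻¹ e1) := by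
    rw [chi, act_mul, ← form_act hg.1 (act h e1) (act g⁻¹ e1), act_act_inv]
  have h2 : chi g = form e1 (act g⁻¹ e1) := by
    rw [chi, ← form_act hg.1 e1 (act g⁻¹ e1), act_act_inv]
  rw [h1, h2, chi, ha, hb, form_add_left, form_add_right, form_add_right,
    form_add_left, form_self, form_D ha' hb']
  ring

theorem chi_one : chi 1 = 0 := by rw [chi, act_one, form_self]

theorem chi_inv {g : GL6} (hg : g ∈ Cv) : chi g⁻¹ = chi g := by
  have h := chi_mul (Cv.inv_mem hg) hg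
  rw [inv_mul_cancel, chi_one] at h
  have h3 : ∀ a b : F4, 0 = a + b → a = b := by decide
  exact h3 _ _ h

theorem chi_v : chi vE = 1 := by
  rw [chi, act_v, N_e1, form_add_left, form_self, form_e0_e1, zero_add]

/-- the kernel of the character -/
def Wv : Subgroup GL6 where
  carrier := {g | g ∈ Cv ∧ chi g = 0}
  one_mem' := ⟨Cv.one_mem, chi_one⟩
  mul_mem' := by
    rintro a b ⟨ha, ha'⟩ ⟨hb, hb'⟩
    exact ⟨Cv.mul_mem ha hb, by rw [chi_mul ha hb, ha', hb', add_zero]⟩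
  inv_mem' := by
    rintro a ⟨ha, ha'⟩
    exact ⟨Cv.inv_mem ha, by rw [chi_inv ha, ha']⟩

theorem mem_Wv {g : GL6} : g ∈ Wv ↔ g ∈ Cv ∧ chi g = 0 := Iff.rfl

/-! ### `v` and `z` -/

/-- `a` is a product of commutators of elements commuting with `a` -/
def DC {G : Type*} [Group G] (a : G) : Prop :=
  a ∈ Subgroup.closure {c | ∃ x y : G, x * a = a * x ∧ y * a = a * y ∧ c = x * y * x⁻¹ * y⁻¹}

theorem DC.map {G H : Type*} [Group G] [Group H] (β : G ≃* H) {a : G} (h : DC a) : DC (β a) := by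
  have h1 : ∀ b ∈ Subgroup.closure {c | ∃ x y : G, x * a = a * x ∧ y * a = a * y ∧ c = x * y * x⁻¹ * y⁻¹},
      β b ∈ Subgroup.closure {c | ∃ x y : H, x * β a = β a * x ∧ y * β a = β a * y ∧
        c = x * y * x⁻¹ * y⁻¹} := by
    intro b hb
    induction hb using Subgroup.closure_induction with
    | mem b hb =>
      obtain ⟨x, y, hx, hy, rfl⟩ := hb
      exact Subgroup.subset_closure ⟨β x, β y, by rw [← map_mul, hx, map_mul],
        by rw [← map_mul, hy, map_mul], by simp⟩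
    | one => rw [map_one]; exact Subgroup.one_mem _
    | mul b c _ _ hb hc => rw [map_mul]; exact Subgroup.mul_mem _ hb hc
    | inv b _ hb => rw [map_inv]; exact Subgroup.inv_mem _ hb
  exact h1 a h

/-- the elements as elements of `L` -/
def lv : L := ⟨vE, As_le vE_mem⟩
def lz : L := ⟨zE, Al_le zE_mem⟩

theorem not_DC_v : ¬ DC lv := by
  intro h
  have h1 : ∀ b ∈ Subgroup.closure {c | ∃ x y : L, x * lv = lv * x ∧ y * lv = lv * y ∧
      c = x * y * x⁻¹ * y⁻¹}, (b : GL6) ∈ Wv := by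
    intro b hb
    induction hb using Subgroup.closure_induction with
    | mem b hb =>
      obtain ⟨x, y, hx, hy, rfl⟩ := hb
      have hx' : (x : GL6) ∈ Cv := ⟨x.2, congrArg Subtype.val hx⟩
      have hy' : (y : GL6) ∈ Cv := ⟨y.2, congrArg Subtype.val hy⟩
      refine ⟨Cv.mul_mem (Cv.mul_mem (Cv.mul_mem hx' hy') (Cv.inv_mem hx')) (Cv.inv_mem hy'), ?_⟩
      change chi ((x : GL6) * y * (x : GL6)⁻¹ * (y : GL6)⁻¹) = 0
      rw [chi_mul (Cv.mul_mem (Cv.mul_mem hx' hy') (Cv.inv_mem hx')) (Cv.inv_mem hy'),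
        chi_mul (Cv.mul_mem hx' hy') (Cv.inv_mem hx'), chi_mul hx' hy', chi_inv hx', chi_inv hy']
      have h3 : ∀ a b : F4, a + b + a + b = 0 := by decide
      exact h3 _ _
    | one => exact Wv.one_mem
    | mul b c _ _ hb hc => exact Wv.mul_mem hb hc
    | inv b _ hb => exact Wv.inv_mem hb
  have h2 := (h1 _ h).2
  change chi vE = 0 at h2
  rw [chi_v] at h2
  exact absurd h2 (by decide)

theorem z_check : cw [(11, 0), (1, 0), (11, 0), (1, 0)] = cw [(6, 0)] ∧
    cw [(11, 0), (6, 0)] = cw [(6, 0), (11, 0)] ∧ cw [(1, 0), (6, 0)] = cw [(6, 0), (1, 0)] := by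
  decide +kernel

theorem DC_z : DC lz := by
  apply Subgroup.subset_closure
  refine ⟨⟨gx 11 0, gx_mem _ _⟩, ⟨gx 1 0, gx_mem _ _⟩, ?_, ?_, ?_⟩
  · exact Subtype.ext (gx_comm _ _ _ _ z_check.2.1)
  · exact Subtype.ext (gx_comm _ _ _ _ z_check.2.2)
  · apply Subtype.ext
    change zE = gx 11 0 * gx 1 0 * (gx 11 0)⁻¹ * (gx 1 0)⁻¹
    have h := ev_eq_of z_check.1
    rw [ev_singleton] at h
    rw [gx_inv, gx_inv]
    exact h.symm.trans (by rw [show [((11 : Fin 12), (0 : Fin 3)), (1, 0), (11, 0), (1, 0)] =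
      [(11, 0), (1, 0)] ++ [(11, 0), (1, 0)] from rfl, ev_append, ev_pair]; group)

/-- `z` and `v` are not conjugate under automorphisms -/
theorem not_map_z_v (β : L ≃* L) : β lz ≠ lv := fun h => not_DC_v (h ▸ DC_z.map β)

end Cfsg.Agent.StdG24.Inv6
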