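import Cfsg.Agent.StdG24.CentBound
import Cfsg.Agent.StdG24.J2CentData
import Cfsg.Agent.J2.HundredGens

/-!
# Some centralizers in the Hall–Janko group on 100 points
-/

set_option autoImplicit false

namespace Cfsg.Agent.StdG24.J2Cent

open Equiv Cfsg.Agent.SporadicA.PermTab Cfsg.Agent.SporadicA.J2Data Cfsg.Agent.SporadicA.J2Hundred
  Cfsg.Agent.J2.HundredGens Cfsg.Agent.StdG24.CentBound Cfsg.Agent.StdG24.J2CentData

/-- the word `L` has the table `T` -/
def tabOK (T : ℕ) (L : List ℕ) : Bool := allB (fun i => Nat.beq (lk T i) (run L i)) 100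

theorem pw_tab {T : ℕ} {L : List ℕ} (h : tabOK T L = true) (i : Fin 100) : ((pw L i : Fin 100) : ℕ) = lk T i := by
  rw [pw_val]
  exact (Nat.eq_of_beq_eq_true ((allB_iff _ _).1 h i i.2)).symm

/-- the centralizer in `G` of a set of permutations -/
def CG (S : Set (Perm (Fin 100))) : Subgroup (Perm (Fin 100)) := G ⊓ Subgroup.centralizer S

theorem mem_CG {S : Set (Perm (Fin 100))} {g : Perm (Fin 100)} : g ∈ CG S ↔ g ∈ G ∧ ∀ s ∈ S, g * s = s * g := by
  rw [CG, Subgroup.mem_inf, Subgroup.mem_centralizer_iff]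
  exact and_congr_right fun _ => ⟨fun h s hs => (h s hs).symm, fun h s hs => (h s hs).symm⟩

theorem CG_le (S : Set (Perm (Fin 100))) : CG S ≤ autG 100 adj := inf_le_left.trans aut_le

theorem comm_closure {S : Set (Perm (Fin 100))} {g s : Perm (Fin 100)} (hg : g ∈ CG S)
    (hs : s ∈ Subgroup.closure S) : g * s = s * g := by
  obtain ⟨-, h⟩ := mem_CG.1 hg
  have h1 : S ⊆ (Subgroup.centralizer {g} : Subgroup (Perm (Fin 100))) := by
    intro t ht
    exact Subgroup.mem_centralizer_singleton_iff.2 (h t ht).symm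
  have h2 := (Subgroup.closure_le _).2 h1 hs
  exact (Subgroup.mem_centralizer_singleton_iff.1 h2).symm

theorem commL_of {S : Set (Perm (Fin 100))} {ts : List ℕ}
    (h : ∀ t ∈ ts, ∃ L : List ℕ, tabOK t L = true ∧ pw L ∈ Subgroup.closure S) : CommL (CG S) ts := by
  intro t ht
  obtain ⟨L, h1, h2⟩ := h t ht
  exact ⟨pw L, pw_tab h1, fun g hg => comm_closure hg h2⟩

/-- `a₀`, of order 5 -/
def wA0 : List ℕ := wZ ++ (wL ++ wY)
/-- `v' = x v x⁻¹` -/
def wVp : List ℕ := wX ++ wV ++ wX.reverse
/-- `b₀ = v x a`, of order 5 -/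
def wB0 : List ℕ := wV ++ wX ++ wA

theorem pw_wB1 : pw wB1 = pw wB0 * pw wB0 := by
  rw [pw_mul]; rfl

theorem card_CA : Nat.card (CG {pw wA0}) ≤ 300 := by
  have hW : CommL (CG {pw wA0}) tsA := by
    refine commL_of fun t ht => ?_
    have h0 : pw wA0 ∈ Subgroup.closure ({pw wA0} : Set (Perm (Fin 100))) := Subgroup.subset_closure rfl
    simp only [tsA, List.mem_cons, List.not_mem_nil, or_false] at ht
    rcases ht with rfl | rfl | rfl | rfl
    · exact ⟨J2CentData.wA0, by decide +kernel, h0⟩
    · exact ⟨wA1, by decide +kernel, by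
        have : pw wA1 = pw wA0 * pw wA0 := by rw [pw_mul]; rfl
        rw [this]; exact mul_mem h0 h0⟩
    · exact ⟨wA2, by decide +kernel, by
        have : pw wA2 = pw wA0 * pw wA0 * pw wA0 := by rw [pw_mul, pw_mul]; rfl
        rw [this]; exact mul_mem (mul_mem h0 h0) h0⟩
    · exact ⟨wA3, by decide +kernel, by
        have : pw wA3 = pw wA0 * pw wA0 * pw wA0 * pw wA0 := by rw [pw_mul, pw_mul, pw_mul]; rfl
        rw [this]; exact mul_mem (mul_mem (mul_mem h0 h0) h0) h0⟩
  have h := card_le_cnt (CG_le _) hW ysA fsA bsA rkA odA (by decide +kernel) (by decide) (by decide +kernel)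
    (by decide +kernel) (by decide +kernel) (by decide +kernel)
  refine h.trans ?_
  have : Nat.ble (cntT 100 adj tsA ysA []) 300 = true := by decide +kernel
  exact Nat.le_of_ble_eq_true this

theorem card_CV : Nat.card (CG {pw wV, pw wVp}) ≤ 240 := by
  have hW : CommL (CG {pw wV, pw wVp}) tsV := by
    refine commL_of fun t ht => ?_
    have h0 : pw wV ∈ Subgroup.closure ({pw wV, pw wVp} : Set (Perm (Fin 100))) :=
      Subgroup.subset_closure (Or.inl rfl)
    have h1 : pw wVp ∈ Subgroup.closure ({pw wV, pw wVp} : Set (Perm (Fin 100))) :=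
      Subgroup.subset_closure (Or.inr rfl)
    simp only [tsV, List.mem_cons, List.not_mem_nil, or_false] at ht
    rcases ht with rfl | rfl | rfl
    · exact ⟨wV0, by decide +kernel, h0⟩
    · exact ⟨wV1, by decide +kernel, h1⟩
    · exact ⟨wV2, by decide +kernel, by
        have : pw wV2 = pw wV * pw wVp := by rw [pw_mul]; rfl
        rw [this]; exact mul_mem h0 h1⟩
  have h := card_le_cnt (CG_le _) hW ysV fsV bsV rkV odV (by decide +kernel) (by decide) (by decide +kernel)
    (by decide +kernel) (by decide +kernel) (by decide +kernel)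
  refine h.trans ?_
  have : Nat.ble (cntT 100 adj tsV ysV []) 240 = true := by decide +kernel
  exact Nat.le_of_ble_eq_true this

theorem card_CB : Nat.card (CG {pw wB0}) ≤ 50 := by
  have hW : CommL (CG {pw wB0}) tsB := by
    refine commL_of fun t ht => ?_
    have h0 : pw wB0 ∈ Subgroup.closure ({pw wB0} : Set (Perm (Fin 100))) := Subgroup.subset_closure rfl
    simp only [tsB, List.mem_cons, List.not_mem_nil, or_false] at ht
    rcases ht with rfl | rfl | rfl | rfl
    · exact ⟨J2CentData.wB0, by decide +kernel, h0⟩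
    · exact ⟨wB1, by decide +kernel, by
        have : pw wB1 = pw wB0 * pw wB0 := by rw [pw_mul]; rfl
        rw [this]; exact mul_mem h0 h0⟩
    · exact ⟨wB2, by decide +kernel, by
        have : pw wB2 = pw wB0 * pw wB0 * pw wB0 := by rw [pw_mul, pw_mul]; rfl
        rw [this]; exact mul_mem (mul_mem h0 h0) h0⟩
    · exact ⟨wB3, by decide +kernel, by
        have : pw wB3 = pw wB0 * pw wB0 * pw wB0 * pw wB0 := by rw [pw_mul, pw_mul, pw_mul]; rfl
        rw [this]; exact mul_mem (mul_mem (mul_mem h0 h0) h0) h0⟩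
  have h := card_le_cnt (CG_le _) hW ysB fsB bsB rkB odB (by decide +kernel) (by decide) (by decide +kernel)
    (by decide +kernel) (by decide +kernel) (by decide +kernel)
  refine h.trans ?_
  have : Nat.ble (cntT 100 adj tsB ysB []) 50 = true := by decide +kernel
  exact Nat.le_of_ble_eq_true this

theorem card_CZ : Nat.card (CG {pw wZ, pw wY, pw wL}) ≤ 12 := by
  have hW : CommL (CG {pw wZ, pw wY, pw wL}) tsZ := by
    refine commL_of fun t ht => ?_
    have h0 : pw wZ ∈ Subgroup.closure ({pw wZ, pw wY, pw wL} : Set (Perm (Fin 100))) :=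
      Subgroup.subset_closure (Or.inl rfl)
    have h1 : pw wY ∈ Subgroup.closure ({pw wZ, pw wY, pw wL} : Set (Perm (Fin 100))) :=
      Subgroup.subset_closure (Or.inr (Or.inl rfl))
    have h2 : pw wL ∈ Subgroup.closure ({pw wZ, pw wY, pw wL} : Set (Perm (Fin 100))) :=
      Subgroup.subset_closure (Or.inr (Or.inr rfl))
    simp only [tsZ, List.mem_cons, List.not_mem_nil, or_false] at ht
    rcases ht with rfl | rfl | rfl | rfl
    · exact ⟨wZ0, by decide +kernel, h0⟩
    · exact ⟨wZ1, by decide +kernel, h1⟩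
    · exact ⟨wZ2, by decide +kernel, h2⟩
    · exact ⟨wZ3, by decide +kernel, by
        have : pw wZ3 = pw wZ * pw wY := by rw [pw_mul]; rfl
        rw [this]; exact mul_mem h0 h1⟩
  have h := card_le_cnt (CG_le _) hW ysZ fsZ bsZ rkZ odZ (by decide +kernel) (by decide) (by decide +kernel)
    (by decide +kernel) (by decide +kernel) (by decide +kernel)
  refine h.trans ?_
  have : Nat.ble (cntT 100 adj tsZ ysZ []) 12 = true := by decide +kernel
  exact Nat.le_of_ble_eq_true this

end Cfsg.Agent.StdG24.J2Cent
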