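import Cfsg.Agent.StdG24.JTwoSift

/-!
# Four centralisers in the Hall–Janko group: upper bounds for the orders
-/

set_option autoImplicit false

namespace Cfsg.Agent.StdG24.JTwoCount

open Equiv Cfsg.Agent.SporadicA.PermTab Cfsg.Agent.SporadicA.J2Data Cfsg.Agent.SporadicA.J2Hundred
  Cfsg.Agent.J2.HundredGens Cfsg.Agent.StdG24.JTwoData Cfsg.Agent.StdG24.JTwoSift

/-- an involution of type 2B -/
def wv : List ℕ := [3]
/-- an element of order 5 with centraliser of order 300 -/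
def wd : List ℕ := [1, 0]
/-- an element of order 5 with centraliser of order 50 -/
def wf : List ℕ := [4, 2, 3, 1, 2, 3, 2, 1, 0, 1, 2, 3, 0, 1, 2, 1, 0, 1, 0]
/-- an element of order 3 in the group `A` -/
def wx : List ℕ := [4, 3, 2, 3, 4, 1]
/-- an involution of `A` -/
def wa : List ℕ := [0]

theorem chv : Ch 0 11 22 33 T0 V1 V2 V3 := by
  refine ⟨?_, ?_, ?_, ?_, ?_, ?_, ?_, ?_, ?_⟩ <;> decide +kernel

theorem chd : Ch 0 2 24 82 T0 D1 D2 D3 := by
  refine ⟨?_, ?_, ?_, ?_, ?_, ?_, ?_, ?_, ?_⟩ <;> decide +kernel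

theorem chf : Ch 0 13 35 6 T0 F1 F2 F3 := by
  refine ⟨?_, ?_, ?_, ?_, ?_, ?_, ?_, ?_, ?_⟩ <;> decide +kernel

theorem cnt_v : cnt wv [] (([] : List (Fin 100)).map Fin.val) T0 V1 V2 V3 = 240 := by decide +kernel

theorem cnt_d : cnt wd [] (([] : List (Fin 100)).map Fin.val) T0 D1 D2 D3 = 300 := by decide +kernel

theorem cnt_f : cnt wf [wf] (([0, 13, 35, 6] : List (Fin 100)).map Fin.val) T0 F1 F2 F3 = 50 := by
  decide +kernel

theorem cnt_A : cnt wd [wa, wd, wx] (([0, 2, 24, 82] : List (Fin 100)).map Fin.val) T0 D1 D2 D3 = 12 := by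
  decide +kernel

theorem card_v (C : Subgroup G) (hC : ∀ g ∈ C, g * gw wv = gw wv * g) : Nat.card C ≤ 240 :=
  chv.card_le (by decide +kernel) (by decide +kernel) cnt_v C fun g hg => ⟨hC g hg, by simp⟩

theorem card_d (C : Subgroup G) (hC : ∀ g ∈ C, g * gw wd = gw wd * g) : Nat.card C ≤ 300 :=
  chd.card_le (by decide +kernel) (by decide +kernel) cnt_d C fun g hg => ⟨hC g hg, by simp⟩

theorem card_f (C : Subgroup G) (hC : ∀ g ∈ C, g * gw wf = gw wf * g) : Nat.card C ≤ 50 :=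
  chf.card_le (by decide +kernel) (by decide +kernel) cnt_f C fun g hg => ⟨hC g hg, by
    intro e he
    rw [List.mem_singleton] at he
    rw [he]
    exact hC g hg⟩

theorem card_A (C : Subgroup G) (hC : ∀ g ∈ C, g * gw wa = gw wa * g ∧ g * gw wd = gw wd * g ∧
    g * gw wx = gw wx * g) : Nat.card C ≤ 12 :=
  chd.card_le (by decide +kernel) (by decide +kernel) cnt_A C fun g hg => ⟨(hC g hg).2.1, by
    intro e he
    simp only [List.mem_cons, List.not_mem_nil, or_false] at he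
    rcases he with rfl | rfl | rfl
    · exact (hC g hg).1
    · exact (hC g hg).2.1
    · exact (hC g hg).2.2⟩

end Cfsg.Agent.StdG24.JTwoCount
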