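import Cfsg.Agent.J2.HundredGens

/-! Transversals for three bases of the Hall-Janko group on 100 points (data). -/

set_option autoImplicit false

namespace Cfsg.Agent.StdG24.JTwoData

def T0 : List (ℕ × List ℕ) := [(0,[]),
  (1,[0]),
  (2,[1,0]),
  (3,[0,1,0]),
  (4,[1]),
  (5,[2,1]),
  (6,[2]),
  (7,[2,0]),
  (8,[4,2,0]),
  (9,[3,0]),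
  (10,[4,0]),
  (11,[3]),
  (12,[4,3,0]),
  (13,[4,3]),
  (14,[4]),
  (15,[4,0,1,0]),
  (16,[4,1,0]),
  (17,[4,1]),
  (18,[4,2,1]),
  (19,[4,2]),
  (20,[3,4,0,1,0]),
  (21,[2,3,4,2,0]),
  (22,[2,3,4,2]),
  (23,[1,2,3,4,2]),
  (24,[1,2,3,4,3,0]),
  (25,[4,3,2,3,4]),
  (26,[4,3,2,3,4,0]),
  (27,[4,3,1,2,3,4,0]),
  (28,[3,2,3,1,2,3,4,0]),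
  (29,[3,2,3,0,1,2,3,4,0]),
  (30,[3,0,1,2,3,4,0]),
  (31,[3,1,2,3,4,0]),
  (32,[3,2,3,4,0]),
  (33,[3,2,3,4,2]),
  (34,[0,1,2,3,4,1,0]),
  (35,[1,2,3,4,1,0]),
  (36,[2,3,4,1,0]),
  (37,[3,4,1,0]),
  (38,[2,3,0,1,2,3,4,0]),
  (39,[4,3,0,1,2,3,4,0]),
  (40,[4,3,2,3,4,2]),
  (41,[0,1,2,3,4,2]),
  (42,[3,4,2]),
  (43,[2,3,1,2,3,4,0]),
  (44,[1,2,3,4,2,0]),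
  (45,[3,1,0,1,2,3,4,0]),
  (46,[0,1,2,3,4,0]),
  (47,[1,2,3,4,0]),
  (48,[2,3,2,3,4]),
  (49,[1,2,3,2,3,4]),
  (50,[1,0,1,2,3,4,0]),
  (51,[0,1,2,3,4,3,0]),
  (52,[3,0,1,2,3,4,1,0]),
  (53,[3,1,2,3,4,1,0]),
  (54,[4,3,1,2,3,4,3,0]),
  (55,[2,3,1,2,3,4,3,0]),
  (56,[4,3,2,3,4,3]),
  (57,[4,3,2,3,4,3,0]),
  (58,[2,3,1,2,3,4,1,0]),
  (59,[2,3,1,2,3,4,0,1,0]),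
  (60,[3,1,2,3,4,0,1,0]),
  (61,[3,1,2,3,4,3,0]),
  (62,[3,0,1,2,3,4,3,0]),
  (63,[3,1,0,1,2,3,4,3,0]),
  (64,[3,4,1,2,3,2,3,4]),
  (65,[4,3,1,2,3,4,1,0]),
  (66,[3,2,3,4,3]),
  (67,[3,2,3,4,3,0]),
  (68,[4,3,0,1,2,3,4,2]),
  (69,[3,4,3]),
  (70,[3,4,3,0]),
  (71,[2,3,1,2,3,4,2]),
  (72,[3,1,2,3,4,2]),
  (73,[4,3,1,2,3,4,2]),
  (74,[3,2,3,0,1,2,3,4,2]),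
  (75,[3,0,1,2,3,4,2]),
  (76,[2,3,0,1,2,3,4,2]),
  (77,[1,2,3,0,1,2,3,4,2]),
  (78,[3,1,2,3,0,1,2,3,4,2]),
  (79,[3,2,3,1,2,3,4,2]),
  (80,[4,2,3,2,3,4]),
  (81,[4,1,2,3,2,3,4]),
  (82,[1,0,1,2,3,4,3,0]),
  (83,[2,3,4,0]),
  (84,[3,4,0]),
  (85,[2,3,4,3]),
  (86,[2,3,4,3,0]),
  (87,[3,4]),
  (88,[2,3,4,0,1,0]),
  (89,[1,2,3,4,0,1,0]),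
  (90,[4,3,1,0,1,2,3,4,0]),
  (91,[3,4,2,1]),
  (92,[3,2,3,4,0,1,0]),
  (93,[3,2,3,4,1,0]),
  (94,[3,4,2,0]),
  (95,[3,2,3,4]),
  (96,[2,3,4]),
  (97,[4,3,2,3,4,1,0]),
  (98,[3,4,2,3,2,3,4]),
  (99,[3,4,1])]

def V1 : List (ℕ × List ℕ) := [(1,[3,0,1,0,1,2,0]),
  (2,[2,3,1,0]),
  (3,[3,2,3,0]),
  (4,[0,1,2,1,0]),
  (5,[3,2,3,1,2,1,0]),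
  (6,[0,1,2,3,2]),
  (7,[3,2,3,1,2,3,2]),
  (8,[2,3,1,2,3,4,1,2,3,2,1,0,1,2,3,4,2,3,2,0]),
  (9,[2,3,2,1,0]),
  (10,[3,2,3,1,2,3,4,2,3,1,2,3,4,1,2,3,1,0]),
  (11,[]),
  (12,[3,2,3,4,1,2,3,2,0,1,0,1,2,3,4,3,2,0]),
  (15,[3,2,3,4,1,2,3,1,0,1,2,3,4,1,0,1,2,3,2]),
  (18,[4,3,2,3,1,0,1,2,3,4,2,3,1,2,3,4,1,2,1,0]),
  (19,[3,2,3,1,2,3,4,2,3,1,2,3,4,1,2,3,2,1,0]),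
  (20,[2,3,4,1,2,3,2,1,0,1,2,3,4,3,2,0,1,0]),
  (21,[4,3,2,3,4,3,0,1,2,3,0,1,2,3,4,2,3,2]),
  (23,[3,2,3,4,2,3,2,1,0,1,2,3,4,2,0]),
  (24,[3,4,0,1,2,3,1,2,3,4,3,1,2,3,0]),
  (25,[4,1,2,3,2,3,4,1,2,3,0]),
  (26,[3,2,3,4,0,1,2,3,2,3,4,1,2,3,0]),
  (27,[4,3,1,2,3,4,1,2,3,1,0]),
  (28,[4,2,3,2,0,1,0,1,2,3,4,2,3,1,2]),
  (30,[2,3,4,1,2,3,2,1,0,1,2,3,4,2,3,1,2]),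
  (31,[2,3,4,1,2,3,2,1,0,1,2,3,4,2,0]),
  (33,[2,3,1,2,3,4,2,3,2,1,0,1,2,3,4,2,3,2,0]),
  (35,[3,4,2,3,0,1,2,3,4,3,1,2,3,1,0]),
  (37,[2,3,4,1,2,3,2,1,0,1,2,3,4,3,1,2,0,1,0]),
  (38,[3,4,0,1,2,3,1,2,3,4,1,2,3,2,1,0]),
  (42,[4,2,3,1,2,3,4,1,2,3,1,0,1,2,3,4,3,2]),
  (44,[3,1,0,1,2,3,4,2,3,2,1,0,1,2,3,4,2,0]),
  (46,[2,3,4,2,3,2,0,1,0,1,2,3,4,2,3,2,0]),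
  (48,[0,1,2,3,4,2,3,1,2,3,4,1,2,3,2,1,0]),
  (50,[0,1,2,3,4,2,3,1,2,3,4,1,0,1,2,3,2]),
  (52,[2,3,4,1,0,1,2,3,2,3,4,1,2,3,0]),
  (53,[4,0,1,2,3,2,0,1,0,1,2,3,4,2,3,2,0]),
  (54,[4,3,1,2,3,4,1,0,1,2,3,2]),
  (55,[4,0,1,2,3,1,0,1,2,3,4,3,1,2,3,0]),
  (56,[4,3,1,2,3,4,2,3,1,2,3,1,0]),
  (60,[4,2,3,1,0,1,2,3,4,3,1,2,3,1,0]),
  (61,[4,2,1,0,1,2,3,2,3,4,3,1,2,3,0]),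
  (64,[4,3,1,2,3,4,3,1,2,3,0]),
  (65,[4,3,1,2,3,4,3,0,1,2,3,0]),
  (66,[4,0,1,2,3,2,0,1,0,1,2,3,4,3,2,0]),
  (71,[4,3,0,1,2,3,4,1,2,3,0,1,2,3,4,1,2]),
  (73,[4,3,1,2,3,4,1,2,3,2,1,0]),
  (74,[4,2,3,2,0,1,0,1,2,3,4,2,0]),
  (75,[2,3,4,2,3,1,0,1,2,3,4,1,2,3,2,1,0]),
  (76,[3,4,2,3,0,1,2,3,4,0,1,2,3,0]),
  (78,[4,3,2,3,4,0,1,2,3,2,3,1,2,3,4,0]),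
  (81,[4,3,1,2,3,4,0,1,2,3,2,1,0]),
  (82,[3,4,2,3,0,1,2,3,4,2,3,1,2,3,0]),
  (83,[3,4,2,3,2,3,4,1,2,3,0,1,2,3,4,2,3,2]),
  (84,[4,2,3,2,1,0,1,2,3,4,2,3,1,2,3,4,2,3,2]),
  (85,[3,4,0,1,0,1,2,3,0,1,2,3,4,3,1,2,3,0]),
  (86,[3,4,1,0,1,2,3,0,1,2,3,4,2,3,1,2,3,0]),
  (89,[2,3,4,2,3,1,0,1,2,3,4,1,0,1,2,3,2]),
  (90,[4,2,1,0,1,2,3,2,3,4,1,2,3,2,1,0]),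
  (91,[3,4,2,3,2,3,4,1,0,1,2,3,1,2,3,4,3,1,2,0]),
  (93,[4,3,2,3,1,2,3,1,0,1,2,3,4,2,3,1,2]),
  (95,[0,1,2,3,4,2,3,1,2,3,4,1,2,3,1,0]),
  (97,[4,2,3,1,0,1,2,3,4,2,3,1,2,3,0]),
  (99,[4,2,3,2,3,4,1,2,3,2,3,1,2,3,4,3,2,1,0])]

def V2 : List (ℕ × List ℕ) := [(16,[2,0,1,0,1,2,3,2,3,1,2,3,0,1,0]),
  (17,[2,3,1,0,1,2,3,0,1,2,3,2,1,0]),
  (22,[]),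
  (29,[3,4,1,2,3,2,3,4,1]),
  (32,[4,3,1,2,3,4,0,1]),
  (34,[4,1,2,3,2,3,4,3,1]),
  (36,[4,3,1,2,3,4,2,3,1]),
  (40,[1,2,3,2,3,1]),
  (41,[1,0,1]),
  (43,[1,2,3,1]),
  (45,[4,3,1,2,3,4,1]),
  (47,[2,3,1,2,3,1,0,1,2,3,0,1,2,3,2,1,0,1,0]),
  (49,[0,1,2,3,2,3,1,2,3,0,1,0,1,2]),
  (57,[3,4,1,2,3,2,3,4,3,2,1]),
  (59,[4,3,1,2,3,4,3,2,3,2,1]),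
  (63,[3,1,2,0,1]),
  (67,[3,1,2,1]),
  (68,[3,1,2,3,2,1]),
  (70,[0,1,2,3,0,1,2,3,1,0,1,2,0]),
  (72,[3,0,1,2,3,0,1,2,3,2,1,0,1,2,0]),
  (77,[1,2,3,0,1]),
  (79,[4,3,1,2,3,4,3,2,1]),
  (94,[0,1,0,1,2,3,1,2,3,1,0,1,2,0]),
  (96,[2,3,1,2,0,1,0,1,2,3,2,3,1,2,3,0])]

def V3 : List (ℕ × List ℕ) := [(12,[0,1,2,3,1,2,0,1,0,1,2,3,4,2,3,1,2,3,4,3,1]),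
  (26,[2,3,4,2,3,1,2,3,4,1,2,3,2,3,1,0,1,2,3,4,2,3,2,1,0]),
  (33,[]),
  (37,[4,3,1,2,3,4,3,1,2,3,2,1,0,1,2,3,0,1,2,1,0])]

def D1 : List (ℕ × List ℕ) := [(1,[2,3,1,0]),
  (2,[]),
  (3,[3,1,2,1]),
  (4,[1,0,1]),
  (5,[1,2,3,1]),
  (6,[1,2,3,0,1]),
  (7,[3,1,2,3,2,1]),
  (8,[3,1,2,3,2,1,0,1,2,3,4,2,3,1,2,3,4,1]),
  (9,[3,2,3,0]),
  (10,[3,2,3,1,2,3,4,2,3,1,2,3,4,1]),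
  (11,[3,0,1,2]),
  (12,[3,2,3,1,2,3,4,1,0,1,2,3,2,3,4,1]),
  (15,[3,1,2,3,4,0,1,2,3,0,1,2,3,4,3,1]),
  (18,[3,1,2,3,4,0,1,2,3,0,1,2,3,4,1,2,3,0]),
  (19,[3,1,2,3,4,1,2,3,0,1,2,3,4,1,2,3,0]),
  (20,[2,3,4,1,2,3,0,1,0,1,2,3,4,3,1]),
  (21,[0,1,2,3,4,0,1,2,3,0,1,2,3,4,3,2,1]),
  (23,[2,3,2,3,4,1,0,1,2,3,2,3,4,1]),
  (24,[3,4,2,3,0,1,2,3,4,1,2,3,0]),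
  (25,[4,3,1,2,3,4,0,1]),
  (26,[3,4,2,3,0,1,2,3,4,3,0,1]),
  (27,[4,3,1,2,3,4,1]),
  (28,[4,2,3,1,0,1,2,3,4,3,2,3,1]),
  (30,[3,2,3,4,1,2,3,1,0,1,2,3,4,2,3,1]),
  (31,[2,3,4,2,3,1,0,1,2,3,4,0,1]),
  (33,[1,2,3,4,1,2,3,1,0,1,2,3,4,3,2,3,1]),
  (35,[3,4,2,3,0,1,2,3,4,3,1]),
  (37,[2,3,4,1,2,3,0,1,0,1,2,3,4,3,0,1]),
  (38,[3,2,3,4,0,1,2,3,2,3,4,3,1]),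
  (42,[1,2,3,4,1,2,3,1,0,1,2,3,4,1,2,3,0]),
  (44,[3,0,1,0,1,2,3,4,1,2,3,1,2,3,4,1]),
  (46,[2,3,4,2,3,1,0,1,2,3,4,2,3,1]),
  (48,[0,1,2,3,4,2,3,1,2,3,4,3,1,2,3,0]),
  (50,[0,1,2,3,4,1,2,3,1,2,3,4,3,1]),
  (52,[4,2,3,1,0,1,2,3,4,3,0,1]),
  (53,[4,0,1,2,3,1,0,1,2,3,4,2,3,1]),
  (54,[4,1,2,3,2,3,4,3,1]),
  (55,[0,1,2,3,4,2,3,1,2,3,4,0,1]),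
  (56,[4,3,1,2,3,4,2,3,1]),
  (60,[4,2,3,1,0,1,2,3,4,3,1]),
  (61,[4,2,3,1,0,1,2,3,4,1,2,3,0]),
  (64,[4,3,1,2,3,4,3,2,1]),
  (65,[3,4,1,2,3,2,3,4,1]),
  (66,[0,1,2,3,4,1,0,1,2,3,2,3,4,1]),
  (71,[3,2,3,1,2,3,4,2,3,1,2,3,4,0,1]),
  (73,[4,3,1,2,3,4,3,1,2,3,0]),
  (74,[4,2,1,0,1,2,3,2,3,4,1]),
  (75,[2,3,4,2,3,1,0,1,2,3,4,3,1,2,3,0]),
  (76,[3,4,0,1,2,3,1,2,3,4,1]),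
  (78,[4,0,1,2,3,1,0,1,2,3,4,3,1,2,3,0]),
  (81,[4,3,1,2,3,4,3,2,3,2,1]),
  (82,[3,4,2,3,0,1,2,3,4,2,3,2,1]),
  (83,[4,3,2,3,1,0,1,2,3,4,2,3,1,2,3,4,0]),
  (84,[1,2,3,4,0,1,2,3,1,0,1,2,3,4,3,1]),
  (85,[3,4,1,0,1,2,3,0,1,2,3,4,1,2,3,0]),
  (86,[3,4,1,0,1,2,3,0,1,2,3,4,2,3,2,1]),
  (89,[3,4,1,0,1,2,3,0,1,2,3,4,3,1]),
  (90,[2,3,4,1,0,1,2,3,2,3,4,3,1]),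
  (91,[0,1,2,3,0,1,2,3,4,0,1,2,3,2,3,4,1]),
  (93,[4,2,0,1,0,1,2,3,1,2,3,4,3,1]),
  (95,[0,1,2,3,4,2,3,1,2,3,4,1]),
  (97,[4,2,3,1,0,1,2,3,4,2,3,2,1]),
  (99,[1,2,3,1,0,1,2,3,4,2,3,1,2,3,4,1])]

def D2 : List (ℕ × List ℕ) := [(24,[]),
  (27,[1,2,3,0,1,2,3,1,0]),
  (31,[2,3,1,2,3,1,0,1,2,3,0,1,0]),
  (33,[3,2,3,1,2,3,2,1,0,1]),
  (71,[2,3,2,0,1,0,1,0]),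
  (84,[3,0,1,2,3,1,2,0,1])]

def D3 : List (ℕ × List ℕ) := [(3,[1,2,3,4,1,2,3,2,3,1,2,3,4,2,3,2,1,0,1,2,3,4,2,3,0]),
  (4,[3,4,2,1,0,1,2,3,2,3,4,1,2,3,2,3,1,2,3,4,3,2,3,1,2,3,0,1]),
  (6,[3,0,1,2,3,4,3,1,2,3,0,1,2,3,0,1,2,3,4,3,0,1,2,3,2,1,0]),
  (10,[4,2,3,2,0,1,0,1,2,3,4,3,2,3,1,2,3,1,2,1,0,1]),
  (11,[1,2,3,2,3,4,1,2,3,2,3,4,3,1,2,3,0,1,2,3,4,3,2,1,0,1,2,3]),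
  (12,[4,2,3,2,0,1,0,1,2,3,4,3,2,3,1,2,3,0,1,2,0,1]),
  (21,[2,1,0,1,2,3,2,3,1,0,1,2]),
  (23,[0,1,2,1,0]),
  (52,[1,0,1,2,3,1,2,3,4,1,2,3,2,1,0,1,2,3,4,3,2,0]),
  (55,[4,2,3,1,0,1,2,3,4,1,2,3,1,0,1,2,3,0,1,2,3]),
  (60,[1,2,3,0,1,2,3,4,0,1,2,3,2,1,0,1,2,3,4,3,2,0]),
  (61,[3,2,3,1,2,3,4,0,1,0,1,2,3,1,2,3,4,1,0,1,2]),
  (64,[4,2,1,0,1,2,3,2,3,4,1,2,3,0,1,2,3,0,1,2,3]),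
  (82,[]),
  (85,[2,3,1,0,1,2,3,2,1,0,1,2]),
  (97,[3,2,3,1,2,3,4,0,1,2,3,0,1,2,3,4,2,1,0,1,2])]

def F1 : List (ℕ × List ℕ) := [(13,[]),
  (14,[3,1,2,3,2,1]),
  (16,[2,1,0,1,2,1]),
  (17,[0,1,2,1,0]),
  (22,[2,3,1,0]),
  (29,[3,2,3,0,1,0,1,2,3,2,1,0]),
  (32,[3,0,1,2,3,1,2,1]),
  (34,[0,1,2,3,1,0,1,2,1]),
  (36,[2,1,0,1,2,3,2,1]),
  (39,[3,2,3,1,2,3,1,0,1,2,1]),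
  (40,[3,1,2,3,0,1,2,3,0]),
  (41,[1,0,1,2,3,1,0]),
  (43,[1,2,3,1,2,3,1,0]),
  (45,[0,1,0,1,2,3,2,3,1,2]),
  (47,[1,0,1,2,3,2,1,0]),
  (49,[2,3,1,2,3,0,1,0]),
  (51,[0,1,2,3,2]),
  (57,[2,3,2,3,1,2,3,0,1,2,3,2]),
  (58,[2,3,1,2,3,1,2,0,1,0]),
  (59,[2,3,0,1,2,3,0,1,0,1,2,1]),
  (62,[3,2,1,0,1,2,3,1,2]),
  (63,[3,1,0,1,2,3,0]),
  (67,[3,2,3,0]),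
  (68,[3,2,3,1,2,3,2]),
  (69,[1,2,3,1]),
  (70,[3,0,1,0,1,2,0]),
  (72,[3,1,2,3,0,1,0,1,2]),
  (77,[1,2,3,0,1,2,3,1,0]),
  (79,[3,2,3,2,1,0,1,2,3]),
  (80,[3,1,2,3,2,1,0,1,2,3,2]),
  (87,[3,1,2,1]),
  (88,[2,3,0,1,2,0,1,0]),
  (92,[2,3,2,3,1,0,1,2,1]),
  (94,[3,0,1,2]),
  (96,[2,3,2,1,0]),
  (98,[1,2,3,1,0,1,2,3,2])]

def F2 : List (ℕ × List ℕ) := [(7,[1,2,3,1,2,3,4,1,0,1,2,3,2,3,4,1,2,3,0]),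
  (9,[3,2,1,0,1,2,3,4,2,3,1,2,3,4,1,2,3,0]),
  (11,[2,3,4,2,3,1,0,1,2,3,4,1,0,1,2,3,2,1,0,1]),
  (21,[3,1,2,3,4,1,0,1,2,3,1,2,3,4,1]),
  (25,[3,4,2,3,0,1,2,3,4,1,2,3,0,1,0,1,2,3,1,0]),
  (27,[3,4,3,1,2,3,0,1,2,3,0,1,2,3,4,3,0,1,2,3,1,0]),
  (30,[4,2,1,0,1,2,3,2,3,4,1,0,1,2,1,0]),
  (35,[]),
  (42,[3,4,1,2,3,2,3,4,3,2,1]),
  (46,[2,3,0,1,2,3,1,2,0,1,0,1]),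
  (48,[4,3,1,2,3,4,1,2,3,1,0,1,2,3,0,1]),
  (50,[3,0,1,2,3,4,3,1,2,3,0,1,2,3,0,1,2,3,4,3,0,1]),
  (52,[3,4,2,3,0,1,2,3,4,1,2,3,2,1,0,1,2,3]),
  (55,[0,1,0,1,2,3,4,2,3,0,1,2,3,4,1,2,3,2,1,0]),
  (82,[4,2,3,2,0,1,0,1,2,3,4,3,2,3,1,2,0,1,0,1]),
  (83,[0,1,2,3,4,2,3,1,2,3,4,1,2,3,2,0,1,0,1,0]),
  (86,[4,3,2,3,4,1,2,3,1,2,3,1,0,1,2,3,4,2,3]),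
  (89,[1,0,1]),
  (91,[4,3,1,2,3,4,3,2,3,2,1]),
  (93,[3,4,1,0,1,2,3,0,1,2,3,4,1,2,3,2,1,0,1,2,3]),
  (97,[0,1,2,3,4,2,3,1,2,3,4,1,2,3,2,1,0])]

def F3 : List (ℕ × List ℕ) := [(4,[2,3,0,1,2,3,1,2,0]),
  (6,[]),
  (28,[4,2,3,1,0,1,2,3,4,1,0,1,2]),
  (37,[2,3,4,0,1,2,3,2,1,0,1,2,3,4,3,2,0]),
  (56,[2,3,4,2,3,1,0,1,2,3,4,1,0,1,2,3,2]),
  (74,[4,2,3,2,0,1,0,1,2,3,4,3,2,3,1,2,0]),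
  (75,[2,3,4,2,3,2,0,1,0,1,2,3,4,2,3,2,0]),
  (81,[2,3,4,1,2,3,2,1,0,1,2,3,4,2,3,1,2])]

end Cfsg.Agent.StdG24.JTwoData
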