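import Cfsg.Agent.StdG24.JTwoData

/-!
# Centralisers in the Hall–Janko group on 100 points: counting by transversals
-/

set_option autoImplicit false

namespace Cfsg.Agent.StdG24.JTwoSift

open Equiv Cfsg.Agent.SporadicA.PermTab Cfsg.Agent.SporadicA.J2Data Cfsg.Agent.SporadicA.J2Hundred
  Cfsg.Agent.J2.HundredGens Cfsg.Agent.StdG24.JTwoData

/-- every word of `T` fixes the points of `B` and maps `b` to its label -/
def okT (B : List ℕ) (b : ℕ) (T : List (ℕ × List ℕ)) : Bool :=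
  T.all fun t => Nat.beq (run t.2 b) t.1 && B.all fun c => Nat.beq (run t.2 c) c

theorem okT_spec {B : List ℕ} {b : ℕ} {T : List (ℕ × List ℕ)} (h : okT B b T = true) {t : ℕ × List ℕ}
    (ht : t ∈ T) : run t.2 b = t.1 ∧ ∀ c ∈ B, run t.2 c = c := by
  unfold okT at h
  rw [List.all_eq_true] at h
  have h1 := h t ht
  rw [Bool.and_eq_true, List.all_eq_true] at h1
  exact ⟨Nat.eq_of_beq_eq_true h1.1, fun c hc => Nat.eq_of_beq_eq_true (h1.2 c hc)⟩

/-- sum over a list -/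
def sumL {α : Type} (f : α → ℕ) (l : List α) : ℕ := List.rec 0 (fun a _ ih => Nat.add (f a) ih) l

theorem sumL_eq {α : Type} (f : α → ℕ) (l : List α) : sumL f l = (l.map f).sum := by
  induction l with
  | nil => rfl
  | cons a l ih =>
    rw [List.map_cons, List.sum_cons, ← ih]; rfl

/-- additional conditions: the word `W` commutes with the words of `E` at the points of `Bs` -/
def cm (E : List (List ℕ)) (Bs : List ℕ) (W : List ℕ) : Bool :=
  E.all fun e => Bs.all fun b => Nat.beq (run W (run e b)) (run e (run W b))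

/-- the candidates for elements commuting with `x` -/
def spec (xw : List ℕ) (E : List (List ℕ)) (Bs : List ℕ) (T0 T1 T2 T3 : List (ℕ × List ℕ)) : List (List ℕ) :=
  T0.flatMap fun t0 => T1.flatMap fun t1 => cond (Nat.beq (run t0.2 t1.1) (run xw t0.1))
    (T2.flatMap fun t2 => T3.flatMap fun t3 =>
      cond (Nat.beq (run t0.2 (run t1.2 (run t2.2 t3.1))) (run xw (run t0.2 (run t1.2 t2.1))))
        (cond (cm E Bs (t0.2 ++ (t1.2 ++ (t2.2 ++ t3.2)))) [t0.2 ++ (t1.2 ++ (t2.2 ++ t3.2))] []) []) []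

/-- their number -/
def cnt (xw : List ℕ) (E : List (List ℕ)) (Bs : List ℕ) (T0 T1 T2 T3 : List (ℕ × List ℕ)) : ℕ :=
  sumL (fun t0 => force (run xw t0.1) fun q => sumL (fun t1 => cond (Nat.beq (run t0.2 t1.1) q)
    (sumL (fun t2 => force (run xw (run t0.2 (run t1.2 t2.1))) fun r => sumL (fun t3 =>
      cond (Nat.beq (run t0.2 (run t1.2 (run t2.2 t3.1))) r)
        (cond (cm E Bs (t0.2 ++ (t1.2 ++ (t2.2 ++ t3.2)))) 1 0) 0) T3) T2) 0) T1) T0

theorem length_flatMap' {α β : Type} (l : List α) (F : α → List β) (f : α → ℕ)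
    (h : ∀ a, (F a).length = f a) : (l.flatMap F).length = sumL f l := by
  rw [List.length_flatMap, sumL_eq]
  congr 1
  exact List.map_congr_left fun a _ => h a

theorem spec_length (xw : List ℕ) (E : List (List ℕ)) (Bs : List ℕ) (T0 T1 T2 T3 : List (ℕ × List ℕ)) :
    (spec xw E Bs T0 T1 T2 T3).length = cnt xw E Bs T0 T1 T2 T3 := by
  unfold spec cnt
  refine length_flatMap' _ _ _ fun t0 => ?_
  rw [force_eq]
  refine length_flatMap' _ _ _ fun t1 => ?_
  cases Nat.beq (run t0.2 t1.1) (run xw t0.1) with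
  | false => rfl
  | true =>
    rw [cond_true, cond_true]
    refine length_flatMap' _ _ _ fun t2 => ?_
    rw [force_eq]
    refine length_flatMap' _ _ _ fun t3 => ?_
    cases Nat.beq (run t0.2 (run t1.2 (run t2.2 t3.1))) (run xw (run t0.2 (run t1.2 t2.1))) with
    | false => rfl
    | true =>
      rw [cond_true, cond_true]
      cases cm E Bs (t0.2 ++ (t1.2 ++ (t2.2 ++ t3.2))) with
      | false => rfl
      | true => rfl

/-- a chain of transversals for `G` -/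
structure Ch (b0 b1 b2 b3 : Fin 100) (T0 T1 T2 T3 : List (ℕ × List ℕ)) : Prop where
  ok0 : okT [] b0 T0 = true
  ok1 : okT [(b0 : ℕ)] b1 T1 = true
  ok2 : okT [(b0 : ℕ), b1] b2 T2 = true
  ok3 : okT [(b0 : ℕ), b1, b2] b3 T3 = true
  nd0 : (T0.map Prod.fst).Nodup
  nd1 : (T1.map Prod.fst).Nodup
  nd2 : (T2.map Prod.fst).Nodup
  nd3 : (T3.map Prod.fst).Nodup
  card : T0.length * (T1.length * (T2.length * T3.length)) = 604800

variable {b0 b1 b2 b3 : Fin 100} {T0 T1 T2 T3 : List (ℕ × List ℕ)}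

theorem val_eq {g h : Perm (Fin 100)} {i : Fin 100} (hh : g = h) : ((g i : Fin 100) : ℕ) = (h i : Fin 100) := by
  rw [hh]

theorem idx_eq {T : List (ℕ × List ℕ)} (hn : (T.map Prod.fst).Nodup) {i j : Fin T.length}
    (h : (T.get i).1 = (T.get j).1) : i = j := by
  have h1 := (List.nodup_iff_injective_get.1 hn)
  have h2 : (T.map Prod.fst).get (Fin.cast (by rw [List.length_map]) i) =
      (T.map Prod.fst).get (Fin.cast (by rw [List.length_map]) j) := by
    simpa using h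
  have h3 := h1 h2
  exact Fin.ext (by simpa [Fin.ext_iff] using h3)

/-- the product of four transversal elements -/
noncomputable def prd (T0 T1 T2 T3 : List (ℕ × List ℕ))
    (x : Fin T0.length × Fin T1.length × Fin T2.length × Fin T3.length) : Perm (Fin 100) :=
  pw (T0.get x.1).2 * (pw (T1.get x.2.1).2 * (pw (T2.get x.2.2.1).2 * pw (T3.get x.2.2.2).2))

theorem Ch.fix {B : List ℕ} {b : ℕ} {T : List (ℕ × List ℕ)} (h : okT B b T = true) {c : Fin 100}
    (hc : (c : ℕ) ∈ B) (i : Fin T.length) : pw (T.get i).2 c = c := by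
  apply Fin.ext
  rw [pw_val]
  exact (okT_spec h (List.get_mem T i)).2 _ hc

theorem Ch.img {B : List ℕ} {b : Fin 100} {T : List (ℕ × List ℕ)} (h : okT B b T = true)
    (i : Fin T.length) : ((pw (T.get i).2 b : Fin 100) : ℕ) = (T.get i).1 := by
  rw [pw_val]
  exact (okT_spec h (List.get_mem T i)).1

theorem Ch.injective (h : Ch b0 b1 b2 b3 T0 T1 T2 T3) : Function.Injective (prd T0 T1 T2 T3) := by
  rintro ⟨i0, i1, i2, i3⟩ ⟨j0, j1, j2, j3⟩ hij
  unfold prd at hij
  simp only at hij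
  have m0 : (b0 : ℕ) ∈ [(b0 : ℕ)] := by simp
  have m1 : (b0 : ℕ) ∈ [(b0 : ℕ), b1] := by simp
  have m2 : (b1 : ℕ) ∈ [(b0 : ℕ), b1] := by simp
  have m3 : (b0 : ℕ) ∈ [(b0 : ℕ), b1, b2] := by simp
  have m4 : (b1 : ℕ) ∈ [(b0 : ℕ), b1, b2] := by simp
  have m5 : (b2 : ℕ) ∈ [(b0 : ℕ), b1, b2] := by simp
  have e0 := val_eq (i := b0) hij
  simp only [Perm.mul_apply, Ch.fix h.ok1 m0, Ch.fix h.ok2 m1, Ch.fix h.ok3 m3] at e0
  rw [Ch.img h.ok0, Ch.img h.ok0] at e0
  obtain rfl := idx_eq h.nd0 e0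
  have hij1 := mul_left_cancel hij
  have e1 := val_eq (i := b1) hij1
  simp only [Perm.mul_apply, Ch.fix h.ok2 m2, Ch.fix h.ok3 m4] at e1
  rw [Ch.img h.ok1, Ch.img h.ok1] at e1
  obtain rfl := idx_eq h.nd1 e1
  have hij2 := mul_left_cancel hij1
  have e2 := val_eq (i := b2) hij2
  simp only [Perm.mul_apply, Ch.fix h.ok3 m5] at e2
  rw [Ch.img h.ok2, Ch.img h.ok2] at e2
  obtain rfl := idx_eq h.nd2 e2
  have hij3 := mul_left_cancel hij2
  have e3 := val_eq (i := b3) hij3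
  rw [Ch.img h.ok3, Ch.img h.ok3] at e3
  obtain rfl := idx_eq h.nd3 e3
  rfl

theorem prd_mem (x : Fin T0.length × Fin T1.length × Fin T2.length × Fin T3.length) :
    prd T0 T1 T2 T3 x ∈ G :=
  mul_mem (pw_mem _) (mul_mem (pw_mem _) (mul_mem (pw_mem _) (pw_mem _)))

theorem Ch.exists (h : Ch b0 b1 b2 b3 T0 T1 T2 T3) {g : Perm (Fin 100)} (hg : g ∈ G) :
    ∃ x, prd T0 T1 T2 T3 x = g := by
  let f : Fin T0.length × Fin T1.length × Fin T2.length × Fin T3.length → G :=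
    fun x => ⟨prd T0 T1 T2 T3 x, prd_mem x⟩
  have hf : Function.Injective f := fun x y hxy => h.injective (congrArg Subtype.val hxy)
  have hb := hf.bijective_of_nat_card_le (by
    rw [card_G, Nat.card_eq_fintype_card]
    simp only [Fintype.card_prod, Fintype.card_fin]
    rw [h.card])
  obtain ⟨x, hx⟩ := hb.2 ⟨g, hg⟩
  exact ⟨x, congrArg Subtype.val hx⟩

theorem Ch.mem_spec (h : Ch b0 b1 b2 b3 T0 T1 T2 T3) {xw : List ℕ} (h01 : run xw b0 = b1)
    (h23 : run xw b2 = b3) {E : List (List ℕ)} {Bs : List (Fin 100)} {g : Perm (Fin 100)} (hg : g ∈ G)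
    (hc : g * pw xw = pw xw * g) (hE : ∀ e ∈ E, g * pw e = pw e * g) :
    ∃ W ∈ spec xw E (Bs.map Fin.val) T0 T1 T2 T3, g = pw W := by
  obtain ⟨⟨i0, i1, i2, i3⟩, hx⟩ := h.exists hg
  have m0 : (b0 : ℕ) ∈ [(b0 : ℕ)] := by simp
  have m1 : (b0 : ℕ) ∈ [(b0 : ℕ), b1] := by simp
  have m2 : (b1 : ℕ) ∈ [(b0 : ℕ), b1] := by simp
  have m3 : (b0 : ℕ) ∈ [(b0 : ℕ), b1, b2] := by simp
  have m4 : (b1 : ℕ) ∈ [(b0 : ℕ), b1, b2] := by simp
  have m5 : (b2 : ℕ) ∈ [(b0 : ℕ), b1, b2] := by simp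
  set t0 := T0.get i0 with ht0
  set t1 := T1.get i1 with ht1
  set t2 := T2.get i2 with ht2
  set t3 := T3.get i3 with ht3
  have hgW : g = pw (t0.2 ++ (t1.2 ++ (t2.2 ++ t3.2))) := by
    rw [← hx, pw_append, pw_append, pw_append]; rfl
  have x0 : pw xw b0 = b1 := Fin.ext (by rw [pw_val, h01])
  have x2 : pw xw b2 = b3 := Fin.ext (by rw [pw_val, h23])
  have g0 : ((g b0 : Fin 100) : ℕ) = t0.1 := by
    rw [← hx]
    unfold prd
    simp only [Perm.mul_apply, Ch.fix h.ok1 m0, Ch.fix h.ok2 m1, Ch.fix h.ok3 m3]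
    exact Ch.img h.ok0 _
  have g1 : ((g b1 : Fin 100) : ℕ) = run t0.2 t1.1 := by
    rw [← hx]
    unfold prd
    simp only [Perm.mul_apply, Ch.fix h.ok2 m2, Ch.fix h.ok3 m4]
    rw [pw_val, Ch.img h.ok1]
  have g2 : ((g b2 : Fin 100) : ℕ) = run t0.2 (run t1.2 t2.1) := by
    rw [← hx]
    unfold prd
    simp only [Perm.mul_apply, Ch.fix h.ok3 m5]
    rw [pw_val, pw_val, Ch.img h.ok2]
  have g3 : ((g b3 : Fin 100) : ℕ) = run t0.2 (run t1.2 (run t2.2 t3.1)) := by
    rw [← hx]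
    unfold prd
    simp only [Perm.mul_apply]
    rw [pw_val, pw_val, pw_val, Ch.img h.ok3]
  have c1 : run t0.2 t1.1 = run xw t0.1 := by
    rw [← g1, ← g0, ← pw_val, ← x0]
    have := congrArg (fun f : Perm (Fin 100) => ((f b0 : Fin 100) : ℕ)) hc
    simpa [Perm.mul_apply] using this
  have c3 : run t0.2 (run t1.2 (run t2.2 t3.1)) = run xw (run t0.2 (run t1.2 t2.1)) := by
    rw [← g3, ← g2, ← pw_val, ← x2]
    have := congrArg (fun f : Perm (Fin 100) => ((f b2 : Fin 100) : ℕ)) hc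
    simpa [Perm.mul_apply] using this
  have hcm : cm E (Bs.map Fin.val) (t0.2 ++ (t1.2 ++ (t2.2 ++ t3.2))) = true := by
    unfold cm
    rw [List.all_eq_true]
    intro e he
    rw [List.all_eq_true]
    intro b hb
    obtain ⟨b', -, rfl⟩ := List.mem_map.1 hb
    have h1 := congrArg (fun f : Perm (Fin 100) => ((f b' : Fin 100) : ℕ)) (hE e he)
    rw [hgW] at h1
    simp only [Perm.mul_apply, pw_val] at h1
    rw [h1]
    exact Nat.beq_refl _
  refine ⟨t0.2 ++ (t1.2 ++ (t2.2 ++ t3.2)), ?_, hgW⟩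
  unfold spec
  rw [List.mem_flatMap]
  refine ⟨t0, List.get_mem _ _, ?_⟩
  rw [List.mem_flatMap]
  refine ⟨t1, List.get_mem _ _, ?_⟩
  rw [c1, Nat.beq_refl, cond_true, List.mem_flatMap]
  refine ⟨t2, List.get_mem _ _, ?_⟩
  rw [List.mem_flatMap]
  refine ⟨t3, List.get_mem _ _, ?_⟩
  rw [c3, Nat.beq_refl, cond_true, hcm, cond_true]
  exact List.mem_singleton.2 rfl

/-- the number of elements of `G` commuting with `xw` and the words of `E` -/
theorem Ch.card_le (h : Ch b0 b1 b2 b3 T0 T1 T2 T3) {xw : List ℕ} (h01 : run xw b0 = b1)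
    (h23 : run xw b2 = b3) {E : List (List ℕ)} {Bs : List (Fin 100)} {n : ℕ}
    (hn : cnt xw E (Bs.map Fin.val) T0 T1 T2 T3 = n) (C : Subgroup G)
    (hC : ∀ g ∈ C, g * gw xw = gw xw * g ∧ ∀ e ∈ E, g * gw e = gw e * g) : Nat.card C ≤ n := by
  classical
  rw [← hn, ← spec_length]
  set S := spec xw E (Bs.map Fin.val) T0 T1 T2 T3
  have h1 : ∀ g : C, ∃ i : Fin S.length, ((g : G) : Perm (Fin 100)) = pw (S.get i) := by
    intro g
    obtain ⟨W, hW, hgW⟩ := h.mem_spec h01 h23 (E := E) (Bs := Bs) (g := ((g : G) : Perm (Fin 100))) (g : G).2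
      (congrArg Subtype.val (hC g g.2).1) (fun e he => congrArg Subtype.val ((hC g g.2).2 e he))
    obtain ⟨i, hi⟩ := List.get_of_mem hW
    exact ⟨i, by rw [hi, hgW]⟩
  choose f hf using h1
  have hinj : Function.Injective f := by
    intro x y hxy
    apply Subtype.ext
    apply Subtype.ext
    rw [hf x, hf y, hxy]
  have := Nat.card_le_card_of_injective f hinj
  rwa [Nat.card_eq_fintype_card (α := Fin S.length), Fintype.card_fin] at this

end Cfsg.Agent.StdG24.JTwoSift
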