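import Cfsg.Agent.StdG24.P957Of
import Cfsg.Agent.StdG24.CentX
import Cfsg.Agent.StdG24.Iso416
import Cfsg.Agent.StdG24.Basic
import Cfsg.Agent.S1055

/-!
# The homomorphism of the group of the ten letters onto a simple group is injective

`Γ` finite, `j : L0 → Γ` injective, `w` an involution whose centralizer normalises `j L0` and meets the
centralizer of `j L0` in a four-group `V`; `G0 ≥ j L0` contains `w` and an involution `d` with `(w d)³ = 1`;
`ψ : G0 → K` is surjective onto a simple group and `ψ w ≠ 1`, `ψ (w d) ≠ 1`. Then `ψ` is injective.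
-/

set_option autoImplicit false

namespace Cfsg.Agent.StdG24.LettersAbs

open Cfsg Cfsg.Agent.CoOneType Cfsg.Agent.StdG24.Words Cfsg.Agent.StdG24.PWords Subgroup

/-- `L0` is simple -/
theorem simple_L0 : IsSimpleGroup L0 := by
  haveI : Fintype (GaloisField 2 2) := Fintype.ofFinite _
  have hF : Fintype.card (GaloisField 2 2) = 4 := by
    rw [← Nat.card_eq_fintype_card, GaloisField.card 2 2 (by norm_num)]; norm_num
  obtain ⟨E⟩ := Iso416.equiv_chev (GaloisField 2 2) hF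
  have h3 : ∃ a : GaloisField 2 2, a ≠ 0 ∧ a ≠ 1 := by
    by_contra h
    push Not at h
    have h1 : Fintype.card (GaloisField 2 2) ≤ 2 := by
      classical
      calc Fintype.card (GaloisField 2 2) = (Finset.univ : Finset (GaloisField 2 2)).card := rfl
        _ ≤ ({0, 1} : Finset (GaloisField 2 2)).card := Finset.card_le_card (by
            intro a _
            by_cases ha : a = 0
            · simp [ha]
            · simp [h a ha])
        _ ≤ 2 := Finset.card_le_two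
    omega
  haveI := (Cfsg.Agent.S1055.result h3).1
  exact E.isSimpleGroup

theorem st_ne : (s * t) ^ 2 ≠ (1 : L0) := by
  rw [pow_two]
  have h := CentX.E_ne (a := gw pg [0, 1, 0, 1]) (b := gw pg []) (by decide +kernel)
  rw [← pp_eq_E, ← pp_eq_E] at h
  simpa only [pp, pl, List.map_cons, List.map_nil, List.prod_cons, List.prod_nil, mul_one, mul_assoc] using h

section Abs

variable {Γ K : Type*} [Group Γ] [Group K]

/-- An involution `z` acting without fixed points on the kernel of a homomorphism inverts it. -/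
theorem inverts [Finite Γ] {G0 : Subgroup Γ} {ψ : G0 →* K} {z : Γ} (hz : z ∈ G0) (hz2 : z * z = 1)
    (hB : ∀ n : G0, ψ n = 1 → (n : Γ) * z = z * n → n = 1) :
    ∀ n : G0, ψ n = 1 → z * (n : Γ) * z⁻¹ = (n : Γ)⁻¹ := by
  have hzi : z⁻¹ = z := inv_eq_of_mul_eq_one_left hz2
  set ζ : G0 := ⟨z, hz⟩ with hζ
  have hζ2 : ζ * ζ = 1 := Subtype.ext hz2
  have hζi : ζ⁻¹ = ζ := inv_eq_of_mul_eq_one_left hζ2
  set φ : ψ.ker →* ψ.ker := (MulAut.conjNormal (H := ψ.ker) ζ).toMonoidHom with hφ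
  have hφa : ∀ m : ψ.ker, ((φ m : ψ.ker) : G0) = ζ * m * ζ⁻¹ := fun m =>
    MulAut.conjNormal_apply ζ m
  have hfpf : MonoidHom.FixedPointFree φ := by
    intro m hm
    have h1 : ζ * (m : G0) * ζ⁻¹ = m := by rw [← hφa, hm]
    have h2 := hB m.1 m.2 (by
      have h3 := congrArg Subtype.val h1
      have h4 : z * (m : G0) * z⁻¹ = ((m : G0) : Γ) := h3
      rw [mul_inv_eq_iff_eq_mul] at h4
      exact h4.symm)
    exact Subtype.ext h2
  have hinvol : Function.Involutive φ := by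
    intro m
    apply Subtype.ext
    rw [hφa, hφa, hζi]
    calc ζ * (ζ * (m : G0) * ζ) * ζ = (ζ * ζ) * m * (ζ * ζ) := by group
      _ = m := by rw [hζ2]; group
  have hcoe := hfpf.coe_eq_inv_of_involutive hinvol
  intro n hn
  have h1 := congrFun hcoe ⟨n, hn⟩
  have h2 := congrArg (fun m : ψ.ker => ((m : G0) : Γ)) h1
  rw [hφa] at h2
  exact h2

/-- the image of a conjugate inverts too -/
theorem inverts_conj {G0 : Subgroup Γ} {ψ : G0 →* K} {a y : Γ} (hy : y ∈ G0)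
    (ha : ∀ n : G0, ψ n = 1 → a * (n : Γ) * a⁻¹ = (n : Γ)⁻¹) :
    ∀ n : G0, ψ n = 1 → (y * a * y⁻¹) * (n : Γ) * (y * a * y⁻¹)⁻¹ = (n : Γ)⁻¹ := by
  intro n hn
  have h1 := ha (⟨y, hy⟩⁻¹ * n * ⟨y, hy⟩) (by rw [map_mul, map_mul, map_inv, hn]; simp)
  have h2 : a * (y⁻¹ * n * y) * a⁻¹ = (y⁻¹ * (n : Γ) * y)⁻¹ := h1
  calc (y * a * y⁻¹) * (n : Γ) * (y * a * y⁻¹)⁻¹ = y * (a * (y⁻¹ * n * y) * a⁻¹) * y⁻¹ := by group
    _ = (n : Γ)⁻¹ := by rw [h2]; group

variable [Finite Γ] [IsSimpleGroup K] {j : L0 →* Γ} {G0 V : Subgroup Γ} {ψ : G0 →* K} {w d : Γ}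

/-- **Injectivity.** -/
theorem injective (hψ : Function.Surjective ψ) (hjG : ∀ l, j l ∈ G0) (hw : w ∈ G0)
    (hd : d ∈ G0) (hw2 : w * w = 1) (hd2 : d * d = 1) (hwd : (w * d) ^ 3 = 1)
    (hw' : ψ ⟨w, hw⟩ ≠ 1) (hwd' : ψ (⟨w, hw⟩ * ⟨d, hd⟩) ≠ 1) {l₀ : L0} (hj : ψ ⟨j l₀, hjG l₀⟩ ≠ 1)
    (hwV : w ∈ V) (hV4 : Nat.card V = 4)
    (hM : ∀ g, g * w = w * g → g ∈ MM j) (hC : ∀ g, g * w = w * g → g ∈ KK j → g ∈ V)
    (hρ : V ≤ G0 → ∀ v ∈ V, v ≠ 1 → ∃ ρ ∈ G0, ρ * v * ρ⁻¹ = w) :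
    Function.Injective ψ := by
  have hw1 : w ≠ 1 := by
    intro h
    apply hw'
    have : (⟨w, hw⟩ : G0) = 1 := Subtype.ext h
    rw [this, map_one]
  -- `ψ ∘ j` is injective
  have hinj : ∀ l : L0, ψ ⟨j l, hjG l⟩ = 1 → l = 1 := by
    haveI := simple_L0
    let χ : L0 →* K := ψ.comp (j.codRestrict G0 hjG)
    have hker : χ.ker = ⊥ := by
      rcases IsSimpleGroup.eq_bot_or_eq_top_of_normal χ.ker inferInstance with h | h
      · exact h
      · exfalso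
        apply hj
        have h1 : l₀ ∈ χ.ker := by rw [h]; trivial
        exact h1
    intro l hl
    have h1 : l ∈ χ.ker := hl
    rw [hker] at h1
    exact h1
  -- kernel elements commuting with `w` lie in `V`
  have hNV : ∀ n : G0, ψ n = 1 → (n : Γ) * w = w * n → (n : Γ) ∈ V := by
    intro n hn hnw
    refine hC _ hnw ?_
    rw [mem_KK]
    intro l
    obtain ⟨l', hl'⟩ := (mem_MM.1 (hM _ hnw)).1 l
    have h1 : ψ (n * ⟨j l, hjG l⟩ * n⁻¹ * ⟨j l, hjG l⟩⁻¹) = 1 := by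
      rw [map_mul, map_mul, map_mul, map_inv, hn, one_mul, inv_one, mul_one, map_inv, mul_inv_cancel]
    have h2 : (n * ⟨j l, hjG l⟩ * n⁻¹ * ⟨j l, hjG l⟩⁻¹ : G0) = ⟨j (l' * l⁻¹), hjG _⟩ := by
      apply Subtype.ext
      show (n : Γ) * j l * (n : Γ)⁻¹ * (j l)⁻¹ = j (l' * l⁻¹)
      rw [hl', map_mul, map_inv]
    rw [h2] at h1
    have h3 := hinj _ h1
    have h4 : l' = l := mul_inv_eq_one.mp h3
    rw [h4, mul_inv_eq_iff_eq_mul] at hl'
    exact hl'
  -- kernel elements commuting with `w` are trivial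
  have hB : ∀ n : G0, ψ n = 1 → (n : Γ) * w = w * n → n = 1 := by
    intro n hn hnw
    by_contra hn1
    have hnV := hNV n hn hnw
    have hnn1 : (n : Γ) ≠ 1 := fun h => hn1 (Subtype.ext h)
    have hnw' : (n : Γ) ≠ w := by
      intro h
      apply hw'
      rw [← hn]
      congr 1
      exact Subtype.ext h.symm
    -- then `V ≤ G0`
    have hVG : V ≤ G0 := by
      have h2 : 2 ∣ Nat.card (V ⊓ G0 : Subgroup Γ) := by
        have h3 : orderOf (⟨w, hwV, hw⟩ : (V ⊓ G0 : Subgroup Γ)) = 2 := by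
          refine orderOf_eq_prime ?_ ?_
          · rw [pow_two]; exact Subtype.ext hw2
          · intro h; exact hw1 (congrArg Subtype.val h)
        rw [← h3]; exact orderOf_dvd_natCard _
      have h4 : Nat.card (V ⊓ G0 : Subgroup Γ) ∣ 4 := by
        rw [← hV4]; exact Subgroup.card_dvd_of_le inf_le_left
      have h5 : Nat.card (V ⊓ G0 : Subgroup Γ) ≠ 2 := by
        intro h6
        have h7 := (Nat.card_eq_two_iff' (⟨1, one_mem _⟩ : (V ⊓ G0 : Subgroup Γ))).1 h6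
        have h8 := h7.unique (y₁ := ⟨w, hwV, hw⟩) (y₂ := ⟨n, hnV, n.2⟩)
          (fun h => hw1 (congrArg Subtype.val h)) (fun h => hnn1 (congrArg Subtype.val h))
        exact hnw' (congrArg Subtype.val h8).symm
      have h6 : Nat.card (V ⊓ G0 : Subgroup Γ) = 4 := by
        have h7 := Nat.le_of_dvd (by norm_num) h4
        interval_cases (Nat.card (V ⊓ G0 : Subgroup Γ)) <;> omega
      have h7 : V ⊓ G0 = V := Subgroup.eq_of_le_of_card_ge inf_le_left (by rw [h6, hV4])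
      rw [← h7]; exact inf_le_right
    obtain ⟨ρ, hρG, hρn⟩ := hρ hVG n hnV hnn1
    apply hw'
    have h3 : (⟨w, hw⟩ : G0) = ⟨ρ, hρG⟩ * n * ⟨ρ, hρG⟩⁻¹ := Subtype.ext hρn.symm
    rw [h3, map_mul, map_mul, map_inv, hn, mul_one, mul_inv_cancel]
  -- `w` inverts the kernel, so does `d`
  have hI := inverts hw hw2 hB
  have hwi : w⁻¹ = w := inv_eq_of_mul_eq_one_left hw2
  have hdi : d⁻¹ = d := inv_eq_of_mul_eq_one_left hd2
  have hd' : (w * d) * w * (w * d)⁻¹ = d := by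
    have h1 : w * d * (w * d) * (w * d) = 1 := by
      rw [← hwd, pow_succ, pow_two]
    rw [mul_inv_rev, hwi, hdi]
    calc w * d * w * (d * w) = w * d * (w * d) * (w * d) * (d⁻¹ * (w * w⁻¹)) * (w⁻¹ * w) := by group
      _ = d := by rw [h1, hdi]; group
  have hJ : ∀ n : G0, ψ n = 1 → d * (n : Γ) * d⁻¹ = (n : Γ)⁻¹ := by
    have h1 := inverts_conj (ψ := ψ) (G0.mul_mem hw hd) hI
    rw [hd'] at h1
    exact h1
  -- `w d` centralizes the kernel
  have hcomm : ∀ n : G0, ψ n = 1 → (w * d) * (n : Γ) = n * (w * d) := by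
    intro n hn
    have h1 : (w * d) * (n : Γ) * (w * d)⁻¹ = n := by
      calc (w * d) * (n : Γ) * (w * d)⁻¹ = w * (d * n * d⁻¹) * w⁻¹ := by group
        _ = (w * (n : Γ) * w⁻¹)⁻¹ := by rw [hJ n hn]; group
        _ = n := by rw [hI n hn, inv_inv]
    rw [mul_inv_eq_iff_eq_mul] at h1
    exact h1
  -- the kernel is abelian
  have habel : ∀ n m : G0, ψ n = 1 → ψ m = 1 → (n : Γ) * m = m * n := by
    intro n m hn hm
    have h1 := hI (n * m) (by rw [map_mul, hn, hm, one_mul])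
    have h2 : w * ((n : Γ) * m) * w⁻¹ = (m : Γ)⁻¹ * (n : Γ)⁻¹ := by
      rw [← mul_inv_rev]; exact h1
    have h3 : w * ((n : Γ) * m) * w⁻¹ = (n : Γ)⁻¹ * (m : Γ)⁻¹ := by
      rw [← hI n hn, ← hI m hm]; group
    have h4 : ((m : Γ) * n)⁻¹ = ((n : Γ) * m)⁻¹ := by
      rw [mul_inv_rev, mul_inv_rev, ← h3, h2]
    exact (inv_injective h4).symm
  -- the centralizer of the kernel is everything
  set Z : Subgroup G0 := Subgroup.centralizer (ψ.ker : Set G0) with hZ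
  have hZn : Z.Normal := by
    rw [hZ]; infer_instance
  have hwdZ : (⟨w, hw⟩ * ⟨d, hd⟩ : G0) ∈ Z := by
    rw [hZ, Subgroup.mem_centralizer_iff]
    intro n hn
    exact Subtype.ext (hcomm n hn).symm
  have hmap : Z.map ψ = ⊤ := by
    have hn : (Z.map ψ).Normal := Subgroup.Normal.map hZn ψ hψ
    rcases hn.eq_bot_or_eq_top with h | h
    · exfalso
      apply hwd'
      have h1 : ψ (⟨w, hw⟩ * ⟨d, hd⟩) ∈ Z.map ψ := ⟨_, hwdZ, rfl⟩
      rw [h, Subgroup.mem_bot] at h1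
      exact h1
    · exact h
  have hwZ : (⟨w, hw⟩ : G0) ∈ Z := by
    have h1 : ψ ⟨w, hw⟩ ∈ Z.map ψ := by rw [hmap]; trivial
    obtain ⟨z, hz, hzw⟩ := h1
    have h2 : (z⁻¹ * ⟨w, hw⟩ : G0) ∈ Z := by
      rw [hZ, Subgroup.mem_centralizer_iff]
      intro n hn
      have h3 : ψ (z⁻¹ * ⟨w, hw⟩) = 1 := by rw [map_mul, map_inv, hzw, inv_mul_cancel]
      exact Subtype.ext (habel n (z⁻¹ * ⟨w, hw⟩) hn h3)
    have h3 := Z.mul_mem hz h2
    rwa [mul_inv_cancel_left] at h3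
  rw [injective_iff_map_eq_one]
  intro n hn
  apply hB n hn
  rw [hZ, Subgroup.mem_centralizer_iff] at hwZ
  exact congrArg Subtype.val (hwZ n hn)

end Abs

section VG

variable {Γ K : Type*} [Group Γ] [Group K] {j : L0 →* Γ} {G0 V : Subgroup Γ} {ψ : G0 →* K} {w : Γ}

/-- `V ≤ G0` -/
theorem V_le (hψ : Function.Bijective ψ) (hjG : ∀ l, j l ∈ G0) (hw : w ∈ G0) (hw1 : w ≠ 1)
    (hV4 : Nat.card V = 4) (hwV : w ∈ V) (hC : ∀ g, g * w = w * g → g ∈ KK j → g ∈ V)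
    {k : K} (hk1 : k ≠ 1) (hkw : k ≠ ψ ⟨w, hw⟩) (hkw' : k * ψ ⟨w, hw⟩ = ψ ⟨w, hw⟩ * k)
    (hkj : ∀ l, k * ψ ⟨j l, hjG l⟩ = ψ ⟨j l, hjG l⟩ * k) : V ≤ G0 := by
  obtain ⟨κ, rfl⟩ := hψ.2 k
  have hκV : (κ : Γ) ∈ V := by
    apply hC
    · have h1 := hψ.1 (by rw [map_mul, map_mul]; exact hkw' : ψ (κ * ⟨w, hw⟩) = ψ (⟨w, hw⟩ * κ))
      exact congrArg Subtype.val h1
    · rw [mem_KK]
      intro l
      have h1 := hψ.1 (by rw [map_mul, map_mul]; exact hkj l :
        ψ (κ * ⟨j l, hjG l⟩) = ψ (⟨j l, hjG l⟩ * κ))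
      exact congrArg Subtype.val h1
  have hκ1 : (κ : Γ) ≠ 1 := by
    intro h
    apply hk1
    have : κ = 1 := Subtype.ext h
    rw [this, map_one]
  have hκw : (κ : Γ) ≠ w := by
    intro h
    apply hkw
    congr 1
    exact Subtype.ext h
  have : Finite V := Nat.finite_of_card_ne_zero (by omega)
  have hle : V ⊓ G0 ≤ V := inf_le_left
  have : Finite (V ⊓ G0 : Subgroup Γ) := Finite.of_injective _ (Subgroup.inclusion_injective hle)
  have h4 : Nat.card (V ⊓ G0 : Subgroup Γ) ∣ 4 := by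
    rw [← hV4]; exact Subgroup.card_dvd_of_le inf_le_left
  have h5 : Nat.card (V ⊓ G0 : Subgroup Γ) ≠ 2 := by
    intro h6
    have h7 := (Nat.card_eq_two_iff' (⟨1, one_mem _⟩ : (V ⊓ G0 : Subgroup Γ))).1 h6
    have h8 := h7.unique (y₁ := ⟨w, hwV, hw⟩) (y₂ := ⟨κ, hκV, κ.2⟩)
      (fun h => hw1 (congrArg Subtype.val h)) (fun h => hκ1 (congrArg Subtype.val h))
    exact hκw (congrArg Subtype.val h8).symm
  have h6 : Nat.card (V ⊓ G0 : Subgroup Γ) ≠ 1 := by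
    intro h7
    rw [Nat.card_eq_one_iff_unique] at h7
    have h8 := h7.1.elim (⟨w, hwV, hw⟩ : (V ⊓ G0 : Subgroup Γ)) 1
    exact hw1 (congrArg Subtype.val h8)
  have h7 : Nat.card (V ⊓ G0 : Subgroup Γ) = 4 := by
    have h7 := Nat.le_of_dvd (by norm_num) h4
    interval_cases (Nat.card (V ⊓ G0 : Subgroup Γ)) <;> omega
  have h8 : V ⊓ G0 = V := Subgroup.eq_of_le_of_card_ge inf_le_left (by rw [h7, hV4])
  rw [← h8]; exact inf_le_right

end VG

end Cfsg.Agent.StdG24.LettersAbs
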