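import Cfsg.Agent.StdG24.LettersAbs
import Cfsg.Agent.StdG24.CoSide
import Cfsg.Agent.CoOneType.ModelFinal

/-!
# From the ten letters to `Co₁`
-/

set_option autoImplicit false

namespace Cfsg.Agent.StdG24.LettersCo

open Cfsg Cfsg.Agent.CoOneType Cfsg.Agent.StdG24.Words Subgroup

/-- the group of the ten letters -/
abbrev Lt {Γ : Type*} [Group Γ] (s t x y w d e f g h : Γ) : Subgroup Γ :=
  closure ({s, t, x, y, w, d, e, f, g, h} : Set Γ)

/-- the pairs letter of `Γ`, letter of `Co₁` -/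
def pairs {Γ : Type*} (s t x y w d e f g h : Γ) : Set (Γ × Spor.Co1) :=
  {(s, Model.s), (t, Model.t), (x, Model.x), (y, Model.y), (w, Model.w), (d, Model.d), (e, Model.e'),
    (f, Model.f), (g, Model.g), (h, Model.h)}

theorem exists_psi {Γ : Type*} [Group Γ] [Finite Γ] {s t x y w d e f g h : Γ}
    (P : P957 s t x y w d e f g h) (hz : (s * t) ^ 2 ≠ 1) :
    ∃ (G0 : Subgroup Γ) (ψ : G0 →* Spor.Co1), G0 = Lt s t x y w d e f g h ∧ Function.Surjective ψ ∧
      ∀ p ∈ pairs s t x y w d e f g h, ∀ h' : p.1 ∈ G0, ψ ⟨p.1, h'⟩ = p.2 := by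
  have : IsSimpleGroup Spor.Co1 := Cfsg.Agent.S0399.result.1
  set Γ' := closure (pairs s t x y w d e f g h) with hΓ
  have himg1 : (MonoidHom.fst Γ Spor.Co1) '' (pairs s t x y w d e f g h) =
      {s, t, x, y, w, d, e, f, g, h} := by
    unfold pairs
    simp only [Set.image_insert_eq, Set.image_singleton]
    rfl
  have himg2 : (MonoidHom.snd Γ Spor.Co1) '' (pairs s t x y w d e f g h) =
      {Model.s, Model.t, Model.x, Model.y, Model.w, Model.d, Model.e', Model.f, Model.g, Model.h} := by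
    unfold pairs
    simp only [Set.image_insert_eq, Set.image_singleton]
    rfl
  have hmap1 : Γ'.map (MonoidHom.fst Γ Spor.Co1) = Lt s t x y w d e f g h := by
    rw [hΓ, MonoidHom.map_closure, himg1]
  have hmap2 : Γ'.map (MonoidHom.snd Γ Spor.Co1) = ⊤ := by
    rw [hΓ, MonoidHom.map_closure, himg2]
    exact Gen.closure_eq_top
  have h20 : 20160 ≤ Nat.card (Γ'.map (MonoidHom.fst Γ Spor.Co1)) :=
    Ident.card_ge P hz _ (by rw [hmap1]; exact subset_closure)
  have hub : Nat.card Γ' ≤ 31 * (2690072985600 * 503193600) :=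
    (TopStep.card_le (Identify.p957_prod P Model.p957)).2
  have hlt : 31 * (2690072985600 * 503193600) < 20160 * Nat.card Spor.Co1 := by
    rw [Identify.card_co1]; norm_num
  have h1 := Goursat.eq_one_of_card Γ' hmap2
    (lt_of_lt_of_le (lt_of_le_of_lt hub hlt) (Nat.mul_le_mul_right _ h20))
  obtain ⟨ψ, hψ⟩ := Goursat.exists_psi Γ' h1
  have hle : Lt s t x y w d e f g h ≤ Γ'.map (MonoidHom.fst Γ Spor.Co1) := hmap1.ge
  have hmem : ∀ p : Γ × Spor.Co1, p ∈ Γ' → p.1 ∈ Lt s t x y w d e f g h := by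
    intro p hp
    rw [← hmap1]; exact ⟨p, hp, rfl⟩
  refine ⟨Lt s t x y w d e f g h, ψ.comp (inclusion hle), rfl, ?_, ?_⟩
  · intro k
    have hk : k ∈ Γ'.map (MonoidHom.snd Γ Spor.Co1) := by rw [hmap2]; trivial
    obtain ⟨p, hp, rfl⟩ := hk
    exact ⟨⟨p.1, hmem p hp⟩, hψ p hp _⟩
  · intro p hp h'
    exact hψ p (subset_closure hp) _

/-- the commutation of an element of `Co₁` with the model of `L0` -/
theorem comm_of_gens {Γ : Type*} [Group Γ] {j : L0 →* Γ} {G0 : Subgroup Γ} {ψ : G0 →* Spor.Co1}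
    (hjG : ∀ l, j l ∈ G0) {k : Spor.Co1}
    (hs : k * ψ ⟨j PWords.s, hjG _⟩ = ψ ⟨j PWords.s, hjG _⟩ * k)
    (ht : k * ψ ⟨j PWords.t, hjG _⟩ = ψ ⟨j PWords.t, hjG _⟩ * k)
    (hx : k * ψ ⟨j PWords.x, hjG _⟩ = ψ ⟨j PWords.x, hjG _⟩ * k)
    (hy : k * ψ ⟨j PWords.y, hjG _⟩ = ψ ⟨j PWords.y, hjG _⟩ * k)
    (hq : k * ψ ⟨j PWords.q, hjG _⟩ = ψ ⟨j PWords.q, hjG _⟩ * k)
    (hv : k * ψ ⟨j PWords.v, hjG _⟩ = ψ ⟨j PWords.v, hjG _⟩ * k) (l : L0) :
    k * ψ ⟨j l, hjG l⟩ = ψ ⟨j l, hjG l⟩ * k := by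
  let χ : L0 →* Spor.Co1 := ψ.comp (j.codRestrict G0 hjG)
  have h1 : closure ({PWords.s, PWords.t, PWords.x, PWords.y, PWords.q, PWords.v} : Set L0) ≤
      (centralizer ({k} : Set Spor.Co1)).comap χ := by
    rw [closure_le]
    rintro a (rfl | rfl | rfl | rfl | rfl | rfl)
    · exact mem_centralizer_singleton_iff.2 hs.symm
    · exact mem_centralizer_singleton_iff.2 ht.symm
    · exact mem_centralizer_singleton_iff.2 hx.symm
    · exact mem_centralizer_singleton_iff.2 hy.symm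
    · exact mem_centralizer_singleton_iff.2 hq.symm
    · exact mem_centralizer_singleton_iff.2 hv.symm
  rw [PWords.closure_top] at h1
  exact (mem_centralizer_singleton_iff.1 (h1 (mem_top l))).symm

/-- **Piece (9).** -/
theorem main {Γ : Type*} [Group Γ] [Finite Γ] {j : L0 →* Γ} (hj : Function.Injective j) {w d e : Γ}
    (P : P957 (j PWords.s) (j PWords.t) (j PWords.x) (j PWords.y) w d e (j PWords.v * e)
      (j PWords.r * (j PWords.v * e)) ((j PWords.q)⁻¹ * (j PWords.r * (j PWords.v * e))))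
    {V : Subgroup Γ} (hwV : w ∈ V) (hV4 : Nat.card V = 4)
    (hM : ∀ g, g * w = w * g → g ∈ MM j) (hC : ∀ g, g * w = w * g → g ∈ KK j → g ∈ V)
    (hρ : ∀ v ∈ V, v ≠ 1 → ∃ ρ ∈ closure ((V : Set Γ) ∪ {d}), ρ * v * ρ⁻¹ = w) :
    ∃ (G0 : Subgroup Γ) (θ : G0 ≃* Spor.Co1), (∀ l, j l ∈ G0) ∧ V ≤ G0 ∧ d ∈ G0 ∧ e ∈ G0 ∧
      ∃ h : w ∈ G0, θ ⟨w, h⟩ = Model.w := by
  have hst : (j PWords.s * j PWords.t) ^ 2 ≠ 1 := by
    rw [← map_mul, ← map_pow, ← map_one j]
    exact fun h => LettersAbs.st_ne (hj h)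
  obtain ⟨G0, ψ, hG0, hψs, hψ⟩ := exists_psi P hst
  have hsub : ∀ a ∈ ({j PWords.s, j PWords.t, j PWords.x, j PWords.y, w, d, e, j PWords.v * e,
      j PWords.r * (j PWords.v * e), (j PWords.q)⁻¹ * (j PWords.r * (j PWords.v * e))} : Set Γ), a ∈ G0 :=
    fun a ha => by rw [hG0]; exact subset_closure ha
  have ms := hsub (j PWords.s) (by simp)
  have mt := hsub (j PWords.t) (by simp)
  have mx := hsub (j PWords.x) (by simp)
  have my := hsub (j PWords.y) (by simp)
  have mw := hsub w (by simp)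
  have md := hsub d (by simp)
  have me := hsub e (by simp)
  have mf := hsub (j PWords.v * e) (by simp)
  have mg := hsub (j PWords.r * (j PWords.v * e)) (by simp)
  have mh := hsub ((j PWords.q)⁻¹ * (j PWords.r * (j PWords.v * e))) (by simp)
  have mv : j PWords.v ∈ G0 := (G0.mul_mem_cancel_right me).1 mf
  have mq : j PWords.q ∈ G0 := by
    have h1 := (G0.mul_mem_cancel_right mg).1 mh
    simpa using G0.inv_mem h1
  have hjG : ∀ l, j l ∈ G0 := by
    have h1 : closure ({PWords.s, PWords.t, PWords.x, PWords.y, PWords.q, PWords.v} : Set L0) ≤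
        G0.comap j := by
      rw [closure_le]
      rintro a (rfl | rfl | rfl | rfl | rfl | rfl)
      · exact ms
      · exact mt
      · exact mx
      · exact my
      · exact mq
      · exact mv
    rw [PWords.closure_top] at h1
    exact fun l => h1 (mem_top l)
  have ps : ψ ⟨j PWords.s, ms⟩ = Model.s := hψ (j PWords.s, Model.s) (by simp [pairs]) ms
  have pt : ψ ⟨j PWords.t, mt⟩ = Model.t := hψ (j PWords.t, Model.t) (by simp [pairs]) mt
  have px : ψ ⟨j PWords.x, mx⟩ = Model.x := hψ (j PWords.x, Model.x) (by simp [pairs]) mx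
  have py : ψ ⟨j PWords.y, my⟩ = Model.y := hψ (j PWords.y, Model.y) (by simp [pairs]) my
  have pw : ψ ⟨w, mw⟩ = Model.w := hψ (w, Model.w) (by simp [pairs]) mw
  have pd : ψ ⟨d, md⟩ = Model.d := hψ (d, Model.d) (by simp [pairs]) md
  have pe : ψ ⟨e, me⟩ = Model.e' := hψ (e, Model.e') (by simp [pairs]) me
  have pf : ψ ⟨j PWords.v * e, mf⟩ = Model.f := hψ (j PWords.v * e, Model.f) (by simp [pairs]) mf
  have pg : ψ ⟨j PWords.r * (j PWords.v * e), mg⟩ = Model.g :=
    hψ (j PWords.r * (j PWords.v * e), Model.g) (by simp [pairs]) mg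
  have ph : ψ ⟨(j PWords.q)⁻¹ * (j PWords.r * (j PWords.v * e)), mh⟩ = Model.h :=
    hψ ((j PWords.q)⁻¹ * (j PWords.r * (j PWords.v * e)), Model.h) (by simp [pairs]) mh
  -- `v = f e`, `q = g h`
  have pv : ψ ⟨j PWords.v, mv⟩ = Model.f * Model.e' := by
    have h1 : (⟨j PWords.v, mv⟩ : G0) = ⟨j PWords.v * e, mf⟩ * ⟨e, me⟩ := by
      apply Subtype.ext
      show j PWords.v = j PWords.v * e * e
      rw [mul_assoc, P.e2, mul_one]
    rw [h1, map_mul, pf, pe]
  have pq : ψ ⟨j PWords.q, mq⟩ = Model.g * Model.h := by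
    have h1 : (⟨j PWords.q, mq⟩ : G0) = ⟨j PWords.r * (j PWords.v * e), mg⟩ *
        ⟨(j PWords.q)⁻¹ * (j PWords.r * (j PWords.v * e)), mh⟩⁻¹ := by
      apply Subtype.ext
      show j PWords.q = j PWords.r * (j PWords.v * e) *
        ((j PWords.q)⁻¹ * (j PWords.r * (j PWords.v * e)))⁻¹
      group
    have hi : (Model.h)⁻¹ = Model.h := inv_eq_of_mul_eq_one_left Model.v_h2
    rw [h1, map_mul, map_inv, pg, ph, hi]
  have hz' : (Model.s * Model.t) ^ 2 ≠ (1 : Spor.Co1) := by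
    rw [Gen.z_eq]
    intro h
    have h3 : CoOneE.pr (Cfsg.Agent.SporadicA.Co0Mono.signCo0 GenCrit.c0) = 1 := h
    rw [Cfsg.Agent.CoOneType.CoOneE.pr_sign_eq_one_iff] at h3
    rw [ModelFinal.wt_c0] at h3
    omega
  have hs' : Model.s ≠ (1 : Spor.Co1) := by
    intro h
    apply hz'
    have h1 := Model.p957.zx
    rw [h] at h1
    rw [h]
    have h2 : Model.x⁻¹ * (1 * Model.t) ^ 2 * Model.x = Model.x⁻¹ * 1 * Model.x := by
      rw [h1, mul_one, inv_mul_cancel]
    exact mul_left_cancel (mul_right_cancel h2)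
  have hw' : Model.w ≠ (1 : Spor.Co1) := by
    intro h
    apply CoSide.v2_ne_one
    rw [← CoSide.rho_conj, h, mul_one, mul_inv_cancel]
  have hwd' : Model.w * Model.d ≠ (1 : Spor.Co1) := by
    intro h
    have h1 : Model.w = Model.d := by
      have h2 := congrArg (fun u => u * Model.d) h
      simp only [one_mul] at h2
      rw [mul_assoc, Model.v_d2, mul_one] at h2
      exact h2
    have h2 : Model.d = Model.e' := Ident.eq_of_braid_comm Model.p957.d2 Model.p957.e2 Model.p957.de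
      (by rw [← h1]; exact Model.p957.we)
    apply Ident.w_ne_e Model.p957 hz'
    rw [h1, ← h2]
    exact Model.p957.d2
  have : IsSimpleGroup Spor.Co1 := Cfsg.Agent.S0399.result.1
  have hinj := LettersAbs.injective hψs hjG mw md P.w2 P.d2 P.wd (by rw [pw]; exact hw')
    (by rw [map_mul, pw, pd]; exact hwd') (l₀ := PWords.s) (by rw [ps]; exact hs') hwV hV4 hM hC
    (by
      intro hVG v hv hv1
      obtain ⟨ρ, hρ1, hρ2⟩ := hρ v hv hv1
      refine ⟨ρ, ?_, hρ2⟩
      have h1 : closure ((V : Set Γ) ∪ {d}) ≤ G0 := by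
        rw [closure_le]
        rintro a (ha | ha)
        · exact hVG ha
        · rw [Set.mem_singleton_iff.1 ha]; exact md
      exact h1 hρ1)
  have hw1 : w ≠ 1 := by
    intro h
    apply hw'
    rw [← pw]
    have : (⟨w, mw⟩ : G0) = 1 := Subtype.ext h
    rw [this, map_one]
  have hVG : V ≤ G0 := by
    refine LettersAbs.V_le ⟨hinj, hψs⟩ hjG mw hw1 hV4 hwV hC (k := CoSide.v2) CoSide.v2_ne_one
      (by rw [pw]; exact CoSide.v2_ne_w) (by rw [pw]; exact CoSide.v2_w) ?_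
    apply comm_of_gens
    · rw [ps]; exact CoSide.v2_s
    · rw [pt]; exact CoSide.v2_t
    · rw [px]; exact CoSide.v2_x
    · rw [py]; exact CoSide.v2_y
    · rw [pq]; exact CoSide.v2_gh
    · rw [pv]; exact CoSide.v2_fe
  exact ⟨G0, MulEquiv.ofBijective ψ ⟨hinj, hψs⟩, hjG, hVG, md, me, mw, pw⟩

end Cfsg.Agent.StdG24.LettersCo
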