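import Cfsg.Agent.StdG24.LettersCo
import Cfsg.Agent.StdG24.EightMM
import Cfsg.Agent.StdG24.F.A5Fin

/-!
# From the input of step 8 to `Co₁`
-/

set_option autoImplicit false

namespace Cfsg.Agent.StdG24.LettersFin

open Cfsg Cfsg.Agent.CoOneType Cfsg.Agent.StdG24.Words Subgroup Cfsg.Agent.StdG24.F.A5

set_option maxRecDepth 100000 in
set_option synthInstance.maxHeartbeats 400000 in
set_option synthInstance.maxSize 2000 in
theorem five : ∀ w : Alt5, w ≠ 1 → w * w = 1 → ∀ v : Alt5, v ≠ 1 → v * v = 1 → v ≠ w → v * w = w * v →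
    ∀ d : Alt5, d * d = 1 → d ≠ w → (w * d) ^ 3 = 1 → (v * d) ^ 5 = 1 ∧ v * d ≠ 1 := by decide +kernel

variable {Γ : Type*} [Group Γ] {j : L0 →* Γ} {V B : Subgroup Γ} {w d e : Γ}

theorem w_ne_d (h : Eight.In j V B) (o : Eight.Out j V B w d e) : d ≠ w := by
  intro hwd
  have h1 : d = e := Ident.eq_of_braid_comm o.d2 o.e2 o.de (by rw [hwd]; exact o.we)
  apply o.e_not
  rw [← h1, hwd]
  exact h.Vj o.w_mem

/-- `⟨V, d⟩ = B` -/
theorem B_le (h : Eight.In j V B) (o : Eight.Out j V B w d e) : B ≤ closure ((V : Set Γ) ∪ {d}) := by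
  obtain ⟨φ⟩ := h.BA
  have hB : Nat.card B = 60 := h.cardB
  have : Finite B := Nat.finite_of_card_ne_zero (by rw [hB]; norm_num)
  set C := closure ((V : Set Γ) ∪ {d}) with hC
  have hCB : C ≤ B := by
    rw [hC, closure_le]
    rintro a (ha | ha)
    · exact h.VB ha
    · rw [Set.mem_singleton_iff.1 ha]; exact o.d_mem
  have : Finite C := Finite.of_injective _ (inclusion_injective hCB)
  have hVC : V ≤ C := fun a ha => subset_closure (Or.inl ha)
  have hdC : d ∈ C := subset_closure (Or.inr rfl)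
  have h4 : 4 ∣ Nat.card C := by rw [← h.V4]; exact card_dvd_of_le hVC
  -- an involution of `V` different from `w`
  obtain ⟨v, hv, hv1, hvw⟩ : ∃ v ∈ V, v ≠ 1 ∧ v ≠ w := by
    by_contra hcon
    push Not at hcon
    have hle : V ≤ zpowers w := by
      intro v hv
      by_cases h1 : v = 1
      · rw [h1]; exact one_mem _
      · rw [hcon v hv h1]; exact mem_zpowers w
    have h2 : Nat.card (zpowers w) = 2 := by
      rw [Nat.card_zpowers]
      exact orderOf_eq_prime (by rw [pow_two]; exact o.w2) o.w_ne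
    have h3 := card_dvd_of_le hle
    rw [h2, h.V4] at h3
    norm_num at h3
  have hvv := h.sq v hv
  have hcomm : v * w = w * v := by
    have h1 := h.sq _ (V.mul_mem hv o.w_mem)
    calc v * w = (v * w)⁻¹ := eq_inv_of_mul_eq_one_left h1
      _ = w⁻¹ * v⁻¹ := mul_inv_rev v w
      _ = w * v := by rw [inv_eq_of_mul_eq_one_left hvv, inv_eq_of_mul_eq_one_left o.w2]
  have hwB : w ∈ B := h.VB o.w_mem
  have hvB : v ∈ B := h.VB hv
  have hne : ∀ {a : Γ} (ha : a ∈ B), a ≠ 1 → φ ⟨a, ha⟩ ≠ 1 := by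
    intro a ha ha1 h1
    apply ha1
    have h2 : (⟨a, ha⟩ : B) = 1 := (map_eq_one_iff φ φ.injective).1 h1
    exact congrArg Subtype.val h2
  have h35 := five (φ ⟨w, hwB⟩) (hne hwB o.w_ne) (by
      rw [← map_mul, ← map_one φ]; congr 1; exact Subtype.ext o.w2)
    (φ ⟨v, hvB⟩) (hne hvB hv1) (by rw [← map_mul, ← map_one φ]; congr 1; exact Subtype.ext hvv)
    (fun h1 => hvw (congrArg Subtype.val (φ.injective h1)))
    (by rw [← map_mul, ← map_mul]; congr 1; exact Subtype.ext hcomm)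
    (φ ⟨d, o.d_mem⟩) (by rw [← map_mul, ← map_one φ]; congr 1; exact Subtype.ext o.d2)
    (fun h1 => w_ne_d h o (congrArg Subtype.val (φ.injective h1)))
    (by rw [← map_mul, ← map_pow, ← map_one φ]; congr 1; exact Subtype.ext o.wd)
  have h5' : (v * d) ^ 5 = 1 := by
    have h1 := h35.1
    rw [← map_mul, ← map_pow, map_eq_one_iff φ φ.injective] at h1
    exact congrArg Subtype.val h1
  have h5n : v * d ≠ 1 := by
    intro h1
    apply h35.2
    rw [← map_mul, map_eq_one_iff φ φ.injective]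
    exact Subtype.ext h1
  have : Fact (Nat.Prime 5) := ⟨by norm_num⟩
  have : Fact (Nat.Prime 3) := ⟨by norm_num⟩
  have h5 : 5 ∣ Nat.card C := by
    have h1 : orderOf (⟨v * d, C.mul_mem (hVC hv) hdC⟩ : C) = 5 :=
      orderOf_eq_prime (Subtype.ext h5') (fun h2 => h5n (congrArg Subtype.val h2))
    rw [← h1]; exact orderOf_dvd_natCard _
  have h3 : 3 ∣ Nat.card C := by
    have h1 : orderOf (⟨w * d, C.mul_mem (hVC o.w_mem) hdC⟩ : C) = 3 := by
      refine orderOf_eq_prime (Subtype.ext o.wd) (fun h2 => ?_)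
      have h3 : w * d = 1 := congrArg Subtype.val h2
      apply w_ne_d h o
      calc d = w⁻¹ * (w * d) := by group
        _ = w := by rw [h3, mul_one, inv_eq_of_mul_eq_one_left o.w2]
    rw [← h1]; exact orderOf_dvd_natCard _
  have h12 : 4 * 3 ∣ Nat.card C := Nat.Coprime.mul_dvd_of_dvd_of_dvd (by norm_num) h4 h3
  have h60 : 4 * 3 * 5 ∣ Nat.card C := Nat.Coprime.mul_dvd_of_dvd_of_dvd (by norm_num) h12 h5
  have hle := Nat.le_of_dvd Nat.card_pos h60
  have heq : C = B := eq_of_le_of_card_ge hCB (by rw [hB]; exact hle)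
  exact heq.ge

/-- `B` is transitive on the involutions of `V` -/
theorem conj_w (h : Eight.In j V B) (o : Eight.Out j V B w d e) {v : Γ} (hv : v ∈ V) (hv1 : v ≠ 1) :
    ∃ ρ ∈ closure ((V : Set Γ) ∪ {d}), ρ * v * ρ⁻¹ = w := by
  obtain ⟨φ⟩ := h.BA
  have hwB : w ∈ B := h.VB o.w_mem
  have hvB : v ∈ B := h.VB hv
  have hne : ∀ {a : Γ} (ha : a ∈ B), a ≠ 1 → φ ⟨a, ha⟩ ≠ 1 := by
    intro a ha ha1 h1
    apply ha1
    have h2 : (⟨a, ha⟩ : B) = 1 := (map_eq_one_iff φ φ.injective).1 h1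
    exact congrArg Subtype.val h2
  obtain ⟨g, hg⟩ := f4 (φ ⟨v, hvB⟩) (hne hvB hv1)
    (by rw [← map_mul, ← map_one φ]; congr 1; exact Subtype.ext (h.sq v hv)) (φ ⟨w, hwB⟩)
    (by rw [← map_mul, ← map_one φ]; congr 1; exact Subtype.ext o.w2) (hne hwB o.w_ne)
  obtain ⟨ρ, rfl⟩ := φ.surjective g
  rw [← map_mul, ← map_inv, ← map_mul] at hg
  exact ⟨ρ, B_le h o ρ.2, congrArg Subtype.val (φ.injective hg)⟩

/-- **The letters generate `Co₁`, containing `N(j L₀)`.** -/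
theorem main [Finite Γ] {E : AutL.El L0} (A : AutL.Ax E) (h : Eight.In j V B) :
    ∃ (w : Γ) (G0 : Subgroup Γ) (θ : G0 ≃* Spor.Co1), w ∈ V ∧ w ≠ 1 ∧ (∀ l, j l ∈ G0) ∧ MM j ≤ G0 ∧
      ∃ hw : w ∈ G0, θ ⟨w, hw⟩ = Model.w := by
  obtain ⟨w, d, e, o⟩ := h.main
  obtain ⟨G0, θ, hjG, hVG, hd, he, hw, hθ⟩ := LettersCo.main h.inj (h.p957 o) o.w_mem h.V4
    (fun g hg => h.cent w o.w_mem o.w_ne g hg) (fun g hg hk => h.self w o.w_mem o.w_ne g hk hg)
    (fun v hv hv1 => conj_w h o hv hv1)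
  have hBG : B ≤ G0 := by
    refine (B_le h o).trans ?_
    rw [closure_le]
    rintro a (ha | ha)
    · exact hVG ha
    · rw [Set.mem_singleton_iff.1 ha]; exact hd
  refine ⟨w, G0, θ, o.w_mem, o.w_ne, hjG, ?_, hw, hθ⟩
  intro m hm
  obtain ⟨k, hk, l, h1 | h1⟩ := EightMM.MM_dec h o A hm
  · rw [h1]
    exact G0.mul_mem (hBG (h.KB hk)) (hjG l)
  · rw [h1]
    exact G0.mul_mem (G0.mul_mem (hBG (h.KB hk)) (hjG l)) he

end Cfsg.Agent.StdG24.LettersFin
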