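import Cfsg.Agent.StdG24.LettersFin
import Cfsg.Agent.StdG24.EightA1
import Cfsg.Agent.StdG24.EightA3
import Cfsg.Agent.StdG24.Hat
import Cfsg.Agent.StdG24.HatBack
import Cfsg.Agent.StdG24.FactsL0

/-!
# S1767: from `HIn` to `Co₁`
-/

set_option autoImplicit false

namespace Cfsg.Agent.StdG24.MainB

open Cfsg Cfsg.Agent.CoOneType Cfsg.Agent.StdG24.Words Cfsg.Agent.StdG24.FactsL0 Subgroup

theorem eAl : Nonempty (D0.Al ≃* alternatingGroup (Fin 5)) := ax0.eAl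

theorem eAs : Nonempty (D0.As ≃* alternatingGroup (Fin 5)) := ax0.eAs

/-- `J_L = ⟨As, i₂ n⟩` -/
theorem JL_eq : E0.As ⊔ closure {E0.i₂ * E0.n} = GenJ.JL := by
  have h1 : E0.i₂ * E0.n = GenJ.n := by
    show E0.i₂ * (E0.i₂ * GenJ.n) = GenJ.n
    rw [← mul_assoc, ax0.i₂i₂, one_mul]
  rw [h1]
  rfl

/-- the input of `Eight` -/
theorem exists_in {Γ : Type*} [Group Γ] [Finite Γ] {Z : Subgroup L0} {j : L0 →* Γ} {V : Subgroup Γ} {b g : Γ}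
    (h : EightA.In D0 Z j V b) (K12 : Nat.card (KK j) = 12)
    (KV : ∀ k ∈ KK j, ∀ v ∈ V, k * v * k⁻¹ ∈ V) (gA : ∀ a ∈ D0.As, g * j a = j a * g)
    (gw : g * j D0.w = j D0.w * g) (gV : ∃ v ∈ V, g * v * g⁻¹ ∉ V) : ∃ B, Eight.In j V B := by
  have h3 : EightA3.In3 E0 j V g :=
    { inj := h.inj, V4 := h.V4, sq := h.sq, Vj := h.Vj, cent := h.cent, self := h.self, K12 := K12,
      KV := KV, gA := gA, gw := gw, gV := gV }
  refine ⟨⁅EightA3.TT E0 j, EightA3.TT E0 j⁆,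
    { inj := h.inj, V4 := h.V4, sq := h.sq, Vj := h.Vj, cent := h.cent, self := h.self, K12 := K12,
      KV := KV, BA := h3.equiv ax0, mem_B := fun x => ?_ }⟩
  rw [h3.mem_B ax0, JL_eq]

theorem iso {G : Type*} [Group G] [Finite G] (hO : Cfsg.oddCore G = ⊥) {Z : Subgroup L0}
    (hZ : Z ≤ D0.Al) (hZ4 : Nat.card Z = 4) (hz : D0.z ∈ Z) {e : L0 →* G} (h : Emb e) {W : Subgroup G}
    {b : G} (H : Hat.HIn D0 Z e W b) : Spor.IsoCo1 (normalClosure (e.range : Set G)) := by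
  obtain ⟨D₀, hD, hcomm, V, b', j, hIn, hje, hlift⟩ := Hat.exists_hat facts0 eAs eAl hZ hZ4 hz h H
  obtain ⟨K12, KV, ρ, hρ, hρ1⟩ := hIn.kk12 facts0 eAl hZ hZ4
  obtain ⟨g, hgA, hgw, hgV⟩ := hIn.moves facts0 eAs eAl hZ hZ4 hz hρ (fun v hv => KV ρ hρ v hv) hρ1
    (fun R A B σ τ H => (F.lemmaF H).2.1) (w := D0.w) facts0.wAl facts0.w1 facts0.w5
  obtain ⟨B, hB⟩ := exists_in hIn K12 KV hgA hgw hgV
  obtain ⟨w', G0, θ, hwV, hw1, hjG, hMG, hwG, hθ⟩ := LettersFin.main ax0 hB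
  obtain ⟨w, hwN, hww, rfl, hCw, hwe⟩ := hlift w' hwV hw1
  refine HatBack.isoCo1_of hO ax0 h.inj hD hcomm (φ := QuotientGroup.mk' _)
    (QuotientGroup.mk'_surjective _) ?_ hIn.inj hje θ hjG hww hwN hwG hθ ?_ hCw ?_ hIn.V4 ?_ ?_ ?_
  · intro x
    rw [QuotientGroup.mk'_apply, QuotientGroup.eq_one_iff, mem_subgroupOf]
  · intro y hy
    exact hMG (hIn.cent _ hwV hw1 y hy)
  · intro x
    exact (mem_KK.1 (hIn.Vj hwV) x).symm
  · intro k hk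
    exact hIn.commV hk hwV
  · intro y hy x
    obtain ⟨x', hx'⟩ := (mem_MM.1 (hIn.cent _ hwV hw1 y hy)).1 x
    exact ⟨x', hx'.symm⟩
  · intro y hy hyx
    exact hIn.self _ hwV hw1 y (mem_KK.2 hyx) hy

end Cfsg.Agent.StdG24.MainB
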