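import Cfsg.Agent.StdG24.Words
import Cfsg.Agent.CoOneType.Pres

/-!
# The letters of helper957's presentation of `Co₁` inside `G₂(4)`

`s, t, x, y` generate `L₃(2)`, with `q = g h` they generate `U₃(3)`, with `r = g f` they generate `J₂`;
`v = f e` has order 3 and commutes with `s, t, x, y`.
-/

set_option autoImplicit false
set_option maxRecDepth 20000

namespace Cfsg.Agent.StdG24.PWords

open Cfsg.Agent.StdG24.Perm416 Cfsg.Agent.StdG24.Sift Cfsg.Agent.StdG24.Words

/-- the involution `n` of `N(⟨u, w⟩)` -/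
def nW : List ℕ := [xr 4 0, xr 2 0, xr 5 2, xr 10 0, xr 2 0, xr 4 0]

/-- generators of `J_L = ⟨As, n⟩`: `x₂(1), x₂(ω), x₂(ω+1), x₉(1), x₉(ω), x₉(ω+1), n` -/
def jg : List (List ℕ) := [[xr 2 0], [xr 2 1], [xr 2 2], [xr 9 0], [xr 9 1], [xr 9 2], nW]

def sI : List ℕ := [6]
def tI : List ℕ := [0, 4, 1, 6, 1, 4, 0]
def xI : List ℕ := [1, 3, 6, 3, 6, 5, 6, 1, 4, 2]
def yI : List ℕ := [6, 3, 6, 5, 1, 6, 2, 4, 1]
def qI : List ℕ := [4, 0, 5, 6, 2, 4, 6, 2, 5, 6]
def rI : List ℕ := [4, 6, 1, 5, 6, 4]

def sW : List ℕ := gw jg sI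
def tW : List ℕ := gw jg tI
def xW : List ℕ := gw jg xI
def yW : List ℕ := gw jg yI
def qW : List ℕ := gw jg qI
def rW : List ℕ := gw jg rI
def vW : List ℕ := [0xf23210512321450123215312310]

/-- words of the letters `s t x x⁻¹ y y⁻¹ q q⁻¹ v v⁻¹ r` -/
def pg : List (List ℕ) := [sW, tW, xW, xW ++ xW, yW, yW ++ yW, qW, qW ++ qW ++ qW, vW, vW ++ vW, rW]

noncomputable def s : L0 := E sW
noncomputable def t : L0 := E tW
noncomputable def x : L0 := E xW
noncomputable def y : L0 := E yW
noncomputable def q : L0 := E qW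
noncomputable def r : L0 := E rW
noncomputable def v : L0 := E vW

/-- the letters -/
noncomputable def pl : ℕ → L0
  | 0 => s
  | 1 => t
  | 2 => x
  | 3 => x⁻¹
  | 4 => y
  | 5 => y⁻¹
  | 6 => q
  | 7 => q⁻¹
  | 8 => v
  | 9 => v⁻¹
  | 10 => r
  | _ => 1

theorem x3' : x * x * x = 1 := by
  show E xW * E xW * E xW = 1
  rw [← E_append, ← E_append, ← E_nil]
  exact E_eq (by decide +kernel)

theorem y3' : y * y * y = 1 := by
  show E yW * E yW * E yW = 1
  rw [← E_append, ← E_append, ← E_nil]
  exact E_eq (by decide +kernel)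

theorem v3' : v * v * v = 1 := by
  show E vW * E vW * E vW = 1
  rw [← E_append, ← E_append, ← E_nil]
  exact E_eq (by decide +kernel)

theorem q4' : q * q * q * q = 1 := by
  show E qW * E qW * E qW * E qW = 1
  rw [← E_append, ← E_append, ← E_append, ← E_nil]
  exact E_eq (by decide +kernel)

theorem pl_eq (i : ℕ) : pl i = E (pg.getD i []) := by
  match i with
  | 0 => rfl
  | 1 => rfl
  | 2 => rfl
  | 3 =>
    show x⁻¹ = E (xW ++ xW)
    rw [E_append]; exact inv_eq_of_mul_eq_one_left x3'
  | 4 => rfl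
  | 5 =>
    show y⁻¹ = E (yW ++ yW)
    rw [E_append]; exact inv_eq_of_mul_eq_one_left y3'
  | 6 => rfl
  | 7 =>
    show q⁻¹ = E (qW ++ qW ++ qW)
    rw [E_append, E_append]; exact inv_eq_of_mul_eq_one_left q4'
  | 8 => rfl
  | 9 =>
    show v⁻¹ = E (vW ++ vW)
    rw [E_append]; exact inv_eq_of_mul_eq_one_left v3'
  | 10 => rfl
  | _ + 11 => rfl

/-- product of letters -/
noncomputable def pp (w : List ℕ) : L0 := (w.map pl).prod

theorem pp_eq_E (w : List ℕ) : pp w = E (gw pg w) := by
  unfold pp gw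
  rw [E_flatten, List.map_map]
  congr 1
  apply List.map_congr_left
  intro i _
  exact pl_eq i

/-- equality of two words in the letters -/
theorem pp_eq {a b : List ℕ} (h : eqc (gw pg a) (gw pg b) = true) : pp a = pp b := by
  rw [pp_eq_E, pp_eq_E]; exact E_eq h

theorem s2' : s * s = 1 := by
  have h := pp_eq (a := [0, 0]) (b := []) (by decide +kernel)
  simpa only [pp, pl, List.map_cons, List.map_nil, List.prod_cons, List.prod_nil, mul_one, mul_assoc] using h

theorem t2' : t * t = 1 := by
  have h := pp_eq (a := [1, 1]) (b := []) (by decide +kernel)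
  simpa only [pp, pl, List.map_cons, List.map_nil, List.prod_cons, List.prod_nil, mul_one, mul_assoc] using h

theorem st4' : s * t * s * t * s * t * s * t = 1 := by
  have h := pp_eq (a := [0, 1, 0, 1, 0, 1, 0, 1]) (b := []) (by decide +kernel)
  simpa only [pp, pl, List.map_cons, List.map_nil, List.prod_cons, List.prod_nil, mul_one, mul_assoc] using h

theorem zx' : x⁻¹ * s * t * s * t * x = s := by
  have h := pp_eq (a := [3, 0, 1, 0, 1, 2]) (b := [0]) (by decide +kernel)
  simpa only [pp, pl, List.map_cons, List.map_nil, List.prod_cons, List.prod_nil, mul_one, mul_assoc] using h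

theorem sx' : x⁻¹ * s * x = s * t * s * t * s := by
  have h := pp_eq (a := [3, 0, 2]) (b := [0, 1, 0, 1, 0]) (by decide +kernel)
  simpa only [pp, pl, List.map_cons, List.map_nil, List.prod_cons, List.prod_nil, mul_one, mul_assoc] using h

theorem zy' : y⁻¹ * s * t * s * t * y = t := by
  have h := pp_eq (a := [5, 0, 1, 0, 1, 4]) (b := [1]) (by decide +kernel)
  simpa only [pp, pl, List.map_cons, List.map_nil, List.prod_cons, List.prod_nil, mul_one, mul_assoc] using h

theorem ty' : y⁻¹ * t * y = s * t * s * t * t := by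
  have h := pp_eq (a := [5, 1, 4]) (b := [0, 1, 0, 1, 1]) (by decide +kernel)
  simpa only [pp, pl, List.map_cons, List.map_nil, List.prod_cons, List.prod_nil, mul_one, mul_assoc] using h

theorem xi' : s * t * s * t * t * x * s * t * s * t * t = x⁻¹ := by
  have h := pp_eq (a := [0, 1, 0, 1, 1, 2, 0, 1, 0, 1, 1]) (b := [3]) (by decide +kernel)
  simpa only [pp, pl, List.map_cons, List.map_nil, List.prod_cons, List.prod_nil, mul_one, mul_assoc] using h

theorem yi' : s * t * s * t * s * y * s * t * s * t * s = y⁻¹ := by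
  have h := pp_eq (a := [0, 1, 0, 1, 0, 4, 0, 1, 0, 1, 0]) (b := [5]) (by decide +kernel)
  simpa only [pp, pl, List.map_cons, List.map_nil, List.prod_cons, List.prod_nil, mul_one, mul_assoc] using h

theorem xY' : x * y⁻¹ * x * y⁻¹ * x * y⁻¹ * x * y⁻¹ * x * y⁻¹ * x * y⁻¹ * x * y⁻¹ = 1 := by
  have h := pp_eq (a := [2, 5, 2, 5, 2, 5, 2, 5, 2, 5, 2, 5, 2, 5]) (b := []) (by decide +kernel)
  simpa only [pp, pl, List.map_cons, List.map_nil, List.prod_cons, List.prod_nil, mul_one, mul_assoc] using h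

theorem xy' : x * y * x * y * x * y * x * y = 1 := by
  have h := pp_eq (a := [2, 4, 2, 4, 2, 4, 2, 4]) (b := []) (by decide +kernel)
  simpa only [pp, pl, List.map_cons, List.map_nil, List.prod_cons, List.prod_nil, mul_one, mul_assoc] using h

theorem vs' : v * s = s * v := by
  have h := pp_eq (a := [8, 0]) (b := [0, 8]) (by decide +kernel)
  simpa only [pp, pl, List.map_cons, List.map_nil, List.prod_cons, List.prod_nil, mul_one, mul_assoc] using h

theorem vt' : v * t = t * v := by
  have h := pp_eq (a := [8, 1]) (b := [1, 8]) (by decide +kernel)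
  simpa only [pp, pl, List.map_cons, List.map_nil, List.prod_cons, List.prod_nil, mul_one, mul_assoc] using h

theorem vx' : v * x = x * v := by
  have h := pp_eq (a := [8, 2]) (b := [2, 8]) (by decide +kernel)
  simpa only [pp, pl, List.map_cons, List.map_nil, List.prod_cons, List.prod_nil, mul_one, mul_assoc] using h

theorem vy' : v * y = y * v := by
  have h := pp_eq (a := [8, 4]) (b := [4, 8]) (by decide +kernel)
  simpa only [pp, pl, List.map_cons, List.map_nil, List.prod_cons, List.prod_nil, mul_one, mul_assoc] using h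

theorem rv2' : r * v * r * v = 1 := by
  have h := pp_eq (a := [10, 8, 10, 8]) (b := []) (by decide +kernel)
  simpa only [pp, pl, List.map_cons, List.map_nil, List.prod_cons, List.prod_nil, mul_one, mul_assoc] using h

theorem rvs' : r * v * s = s * r * v := by
  have h := pp_eq (a := [10, 8, 0]) (b := [0, 10, 8]) (by decide +kernel)
  simpa only [pp, pl, List.map_cons, List.map_nil, List.prod_cons, List.prod_nil, mul_one, mul_assoc] using h

theorem rvt' : r * v * t = t * r * v := by
  have h := pp_eq (a := [10, 8, 1]) (b := [1, 10, 8]) (by decide +kernel)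
  simpa only [pp, pl, List.map_cons, List.map_nil, List.prod_cons, List.prod_nil, mul_one, mul_assoc] using h

theorem rvx' : r * v * x = x * r * v := by
  have h := pp_eq (a := [10, 8, 2]) (b := [2, 10, 8]) (by decide +kernel)
  simpa only [pp, pl, List.map_cons, List.map_nil, List.prod_cons, List.prod_nil, mul_one, mul_assoc] using h

theorem rvq' : r * v * q = q⁻¹ * r * v := by
  have h := pp_eq (a := [10, 8, 6]) (b := [7, 10, 8]) (by decide +kernel)
  simpa only [pp, pl, List.map_cons, List.map_nil, List.prod_cons, List.prod_nil, mul_one, mul_assoc] using h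

theorem hhs' : q⁻¹ * r * v * s = s * q⁻¹ * r * v := by
  have h := pp_eq (a := [7, 10, 8, 0]) (b := [0, 7, 10, 8]) (by decide +kernel)
  simpa only [pp, pl, List.map_cons, List.map_nil, List.prod_cons, List.prod_nil, mul_one, mul_assoc] using h

theorem hht' : q⁻¹ * r * v * t = t * q⁻¹ * r * v := by
  have h := pp_eq (a := [7, 10, 8, 1]) (b := [1, 7, 10, 8]) (by decide +kernel)
  simpa only [pp, pl, List.map_cons, List.map_nil, List.prod_cons, List.prod_nil, mul_one, mul_assoc] using h

theorem hhy' : q⁻¹ * r * v * y = y * q⁻¹ * r * v := by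
  have h := pp_eq (a := [7, 10, 8, 4]) (b := [4, 7, 10, 8]) (by decide +kernel)
  simpa only [pp, pl, List.map_cons, List.map_nil, List.prod_cons, List.prod_nil, mul_one, mul_assoc] using h

theorem vrv3' : v * r * v * v * r * v * v * r * v = 1 := by
  have h := pp_eq (a := [8, 10, 8, 8, 10, 8, 8, 10, 8]) (b := []) (by decide +kernel)
  simpa only [pp, pl, List.map_cons, List.map_nil, List.prod_cons, List.prod_nil, mul_one, mul_assoc] using h

theorem vh3' : v * q⁻¹ * r * v * v * q⁻¹ * r * v * v * q⁻¹ * r * v = 1 := by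
  have h := pp_eq (a := [8, 7, 10, 8, 8, 7, 10, 8, 8, 7, 10, 8]) (b := []) (by decide +kernel)
  simpa only [pp, pl, List.map_cons, List.map_nil, List.prod_cons, List.prod_nil, mul_one, mul_assoc] using h

theorem q2' : q * q = s * t * s * t := by
  have h := pp_eq (a := [6, 6]) (b := [0, 1, 0, 1]) (by decide +kernel)
  simpa only [pp, pl, List.map_cons, List.map_nil, List.prod_cons, List.prod_nil, mul_one, mul_assoc] using h

theorem qx3' : q * x⁻¹ * q * x * x * q * x⁻¹ = 1 := by
  have h := pp_eq (a := [6, 3, 6, 2, 2, 6, 3]) (b := []) (by decide +kernel)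
  simpa only [pp, pl, List.map_cons, List.map_nil, List.prod_cons, List.prod_nil, mul_one, mul_assoc] using h

theorem qx' : q * x⁻¹ * q * x = x⁻¹ * q * x * q := by
  have h := pp_eq (a := [6, 3, 6, 2]) (b := [3, 6, 2, 6]) (by decide +kernel)
  simpa only [pp, pl, List.map_cons, List.map_nil, List.prod_cons, List.prod_nil, mul_one, mul_assoc] using h

theorem qy3' : q * y⁻¹ * q * y * y * q * y⁻¹ = 1 := by
  have h := pp_eq (a := [6, 5, 6, 4, 4, 6, 5]) (b := []) (by decide +kernel)
  simpa only [pp, pl, List.map_cons, List.map_nil, List.prod_cons, List.prod_nil, mul_one, mul_assoc] using h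

theorem qy' : q * y⁻¹ * q * y = y⁻¹ * q * y * q := by
  have h := pp_eq (a := [6, 5, 6, 4]) (b := [5, 6, 4, 6]) (by decide +kernel)
  simpa only [pp, pl, List.map_cons, List.map_nil, List.prod_cons, List.prod_nil, mul_one, mul_assoc] using h

theorem r5' : x * y * v * r * v * x * y * v * r * v * x * y * v * r * v * x * y * v * r * v * x * y * v * r * v * x * y * v * r * v * x * y * v * r * v = 1 := by
  have h := pp_eq (a := [2, 4, 8, 10, 8, 2, 4, 8, 10, 8, 2, 4, 8, 10, 8, 2, 4, 8, 10, 8, 2, 4, 8, 10, 8, 2, 4, 8, 10, 8, 2, 4, 8, 10, 8]) (b := []) (by decide +kernel)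
  simpa only [pp, pl, List.map_cons, List.map_nil, List.prod_cons, List.prod_nil, mul_one, mul_assoc] using h

theorem r3' : r * r * r = 1 := by
  have h := pp_eq (a := [10, 10, 10]) (b := []) (by decide +kernel)
  simpa only [pp, pl, List.map_cons, List.map_nil, List.prod_cons, List.prod_nil, mul_one, mul_assoc] using h

/-- `r` as a word in `s t x y q v` -/
def Rw : List ℕ := [4, 2, 8, 6, 3, 5, 6, 9, 7, 4, 2, 7, 3, 5]

/-- the same word with `v` and `v⁻¹` exchanged -/
def Rw' : List ℕ := [4, 2, 9, 6, 3, 5, 6, 8, 7, 4, 2, 7, 3, 5]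

theorem r_eq : pp Rw = r := by
  have h := pp_eq (a := Rw) (b := [10]) (by decide +kernel)
  rw [h]; simp only [pp, pl, List.map_cons, List.map_nil, List.prod_cons, List.prod_nil, mul_one]

theorem r_eq' : pp Rw' = r * v⁻¹ := by
  have h := pp_eq (a := Rw') (b := [10, 9]) (by decide +kernel)
  rw [h]; simp only [pp, pl, List.map_cons, List.map_nil, List.prod_cons, List.prod_nil, mul_one]

/-- the letters `a, …, f` as words in `s t x y q v` -/
def lw : List (List ℕ) := [[5, 6, 9, 6, 3, 5, 9, 6, 8, 7, 5, 3, 6, 8, 7, 5, 0], [2, 6, 8, 7, 3, 8, 7, 4, 6, 9, 2, 7, 9, 7, 3], [2, 7, 4, 3, 9, 7, 9, 7, 9, 7, 2, 4, 6, 3, 0], [2, 4, 3, 6, 8, 6, 3, 4, 6, 8, 4, 7, 3, 5], [5, 6, 9, 6, 2, 5, 7, 4, 9, 7, 8, 3, 7, 8, 7, 4], [7, 2, 8, 6, 8, 6, 2, 5, 3, 7, 9, 7, 9, 3, 7]]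

theorem lw_chk : ((List.range 6).all fun i => eqc (let6.getD i []) (gw pg (lw.getD i []))) = true := by
  decide +kernel

theorem lw_lt : ∀ i < 6, ∀ c ∈ lw.getD i [], c < 10 := by decide +kernel

/-- `L = ⟨s, t, x, y, q, v⟩` -/
theorem closure_top : Subgroup.closure ({s, t, x, y, q, v} : Set L0) = ⊤ := by
  have hg : ∀ c < 10, pl c ∈ Subgroup.closure ({s, t, x, y, q, v} : Set L0) := by
    intro c hc
    have hm : ∀ a ∈ ({s, t, x, y, q, v} : Set L0), a ∈ Subgroup.closure ({s, t, x, y, q, v} : Set L0) :=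
      fun a ha => Subgroup.subset_closure ha
    interval_cases c
    · exact hm s (by simp)
    · exact hm t (by simp)
    · exact hm x (by simp)
    · exact Subgroup.inv_mem _ (hm x (by simp))
    · exact hm y (by simp)
    · exact Subgroup.inv_mem _ (hm y (by simp))
    · exact hm q (by simp)
    · exact Subgroup.inv_mem _ (hm q (by simp))
    · exact hm v (by simp)
    · exact Subgroup.inv_mem _ (hm v (by simp))
  refine eq_top_of_let6 fun a ha => ?_
  obtain ⟨i, hi, rfl⟩ := List.getElem_of_mem ha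
  have hi6 : i < 6 := hi
  have h1 := List.all_eq_true.1 lw_chk i (List.mem_range.2 hi6)
  have h2 : E (let6.getD i []) = pp (lw.getD i []) := by rw [pp_eq_E]; exact E_eq h1
  rw [List.getD_eq_getElem _ _ hi] at h2
  rw [h2]
  refine Subgroup.list_prod_mem _ fun z hz => ?_
  obtain ⟨c, hc, rfl⟩ := List.mem_map.1 hz
  exact hg c (lw_lt i hi6 c hc)

end Cfsg.Agent.StdG24.PWords
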