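import Cfsg.Agent.StdG24.Perm416

/-!
# Verified base and transversal data for the group on 416 points

`verify [] ls = true` certifies a stabiliser chain; together with `card_LL_le` it gives
* `sift_ok`: the images of the base points under an element of the group sift successfully,
* `eq_of_base`: an element is determined by the images of the base points.
-/

set_option autoImplicit false

namespace Cfsg.Agent.StdG24.Sift

open Cfsg.Agent.StdG24.Perm416

/-! ### packed words -/

/-- apply the inverse of a packed word (4 bits for each letter, lowest first, ended by a digit `≥ 6`) -/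
noncomputable def ivf (n : ℕ) : ℕ → ℕ → ℕ :=
  Nat.rec (motive := fun _ => ℕ → ℕ → ℕ) (fun _ p => p)
    (fun _ ih w p => cond (Nat.blt (Nat.land w 15) 6)
      (ih (Nat.shiftRight w 4) (act (Nat.land w 15) p)) p) n

/-- the letters of a packed word -/
noncomputable def pkf (n : ℕ) : ℕ → List ℕ :=
  Nat.rec (motive := fun _ => ℕ → List ℕ) (fun _ => [])
    (fun _ ih w => cond (Nat.blt (Nat.land w 15) 6) (Nat.land w 15 :: ih (Nat.shiftRight w 4)) []) n

/-- the inverse of the packed word `w` applied to a point -/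
noncomputable def iv (w p : ℕ) : ℕ := ivf (Nat.log2 w) w p

/-- the letters of the packed word `w` -/
noncomputable def pk (w : ℕ) : List ℕ := pkf (Nat.log2 w) w

/-- the element given by a packed word -/
noncomputable def el (w : ℕ) : Equiv.Perm (Fin 416) := ((pk w).map lt).prod

theorem el_mem (w : ℕ) : el w ∈ LL := by
  refine Subgroup.list_prod_mem _ fun g hg => ?_
  obtain ⟨c, _, rfl⟩ := List.mem_map.1 hg
  exact lt_mem c

theorem blt_iff {a b : ℕ} : Nat.blt a b = true ↔ a < b := by
  unfold Nat.blt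
  exact ⟨fun h => Nat.le_of_ble_eq_true h, fun h => Nat.ble_eq_true_of_le h⟩

theorem ap_pkf_inv (n : ℕ) : ∀ w p : ℕ, p < 416 → ap (((pkf n w).map lt).prod)⁻¹ p = ivf n w p := by
  induction n with
  | zero => intro w p _; show ap ((([] : List ℕ).map lt).prod)⁻¹ p = p; simp [ap_one]
  | succ n ih =>
    intro w p hp
    show ap (((cond (Nat.blt (Nat.land w 15) 6) (Nat.land w 15 :: pkf n (Nat.shiftRight w 4)) []).map
      lt).prod)⁻¹ p = cond (Nat.blt (Nat.land w 15) 6)
      (ivf n (Nat.shiftRight w 4) (act (Nat.land w 15) p)) p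
    cases h : Nat.blt (Nat.land w 15) 6 with
    | false => simp [ap_one]
    | true =>
      have hc : Nat.land w 15 < 6 := blt_iff.1 h
      rw [cond_true, cond_true, List.map_cons, List.prod_cons, mul_inv_rev, ap_mul, lt_inv,
        ap_letter hc hp, ih _ _ (act_lt hc hp)]

theorem ap_el_inv (w : ℕ) {p : ℕ} (hp : p < 416) : ap (el w)⁻¹ p = iv w p := ap_pkf_inv _ _ _ hp

theorem iv_lt (w : ℕ) {p : ℕ} (hp : p < 416) : iv w p < 416 := by
  rw [← ap_el_inv w hp]; exact ap_lt _ hp

/-! ### levels -/

/-- one level of a stabiliser chain: base point, length of the orbit, digits for each word, words -/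
structure Level where
  b : ℕ
  n : ℕ
  len : ℕ
  W : ℕ

/-- the packed word of the point `p` -/
def Level.get (l : Level) (p : ℕ) : ℕ :=
  Nat.land (Nat.shiftRight l.W (Nat.mul (Nat.mul 4 l.len) p))
    (Nat.sub (Nat.shiftLeft 1 (Nat.mul 4 l.len)) 1)

/-- the point `p` is in the orbit -/
def Level.ok (l : Level) (p : ℕ) : Bool := cond (Nat.beq (Nat.land (l.get p) 15) 14) false true

/-- the inverse of the transversal element for `p`, applied to `q` -/
noncomputable def Level.inv (l : Level) (p q : ℕ) : ℕ := iv (l.get p) q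

/-- the transversal element for `p` -/
noncomputable def Level.t (l : Level) (p : ℕ) : Equiv.Perm (Fin 416) := el (l.get p)

/-- number of `k < n` with `f k` -/
noncomputable def cnt (n : ℕ) (f : ℕ → Bool) : ℕ :=
  Nat.rec (motive := fun _ => ℕ) 0 (fun k ih => cond (f k) (Nat.add ih 1) ih) n

theorem cnt_spec (f : ℕ → Bool) : ∀ n, cnt n f = ((Finset.range n).filter fun k => f k = true).card := by
  intro n
  induction n with
  | zero => rfl
  | succ n ih =>
    have h : cnt (n + 1) f = cond (f n) (cnt n f + 1) (cnt n f) := rfl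
    rw [h, Finset.range_add_one, Finset.filter_insert]
    cases hf : f n with
    | false => simp [ih]
    | true =>
      rw [cond_true, if_pos rfl, Finset.card_insert_of_notMem (by simp), ih]

/-- check of one level over the prefix `bs` -/
noncomputable def Level.chk (l : Level) (bs : List ℕ) : Bool :=
  cond (Nat.blt l.b 416) (cond (Nat.beq (cnt 416 l.ok) l.n)
    (allN 416 fun p => cond (l.ok p)
      (cond (Nat.beq (l.inv p p) l.b) (bs.all fun b => Nat.beq (l.inv p b) b) false) true) false) false

/-- check of a chain -/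
noncomputable def verify : List ℕ → List Level → Bool
  | _, [] => true
  | bs, l :: ls => cond (l.chk bs) (verify (l.b :: bs) ls) false

/-- the product of the orbit lengths -/
def prod (ls : List Level) : ℕ := (ls.map Level.n).prod

/-- the elements of `LL` fixing `bs` -/
def Stab (bs : List ℕ) : Subgroup (Equiv.Perm (Fin 416)) where
  carrier := {g | g ∈ LL ∧ ∀ b ∈ bs, ap g b = b}
  one_mem' := ⟨LL.one_mem, fun b _ => ap_one b⟩
  mul_mem' := by
    rintro g h ⟨hg, hg'⟩ ⟨hh, hh'⟩
    exact ⟨LL.mul_mem hg hh, fun b hb => by rw [ap_mul, hh' b hb, hg' b hb]⟩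
  inv_mem' := by
    rintro g ⟨hg, hg'⟩
    refine ⟨LL.inv_mem hg, fun b hb => ?_⟩
    conv_lhs => rw [← hg' b hb]
    exact ap_inv_self g b

theorem mem_Stab {bs : List ℕ} {g : Equiv.Perm (Fin 416)} :
    g ∈ Stab bs ↔ g ∈ LL ∧ ∀ b ∈ bs, ap g b = b := Iff.rfl

theorem Stab_nil : Stab [] = LL := by
  ext g; rw [mem_Stab]; simp

theorem cond_and {a b : Bool} : cond a b false = true ↔ a = true ∧ b = true := by
  cases a <;> simp

/-- what the check of a level says -/
theorem chk_spec {l : Level} {bs : List ℕ} (hbs : ∀ b ∈ bs, b < 416) (h : l.chk bs = true) :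
    l.b < 416 ∧ cnt 416 l.ok = l.n ∧
      ∀ p < 416, l.ok p = true → l.t p ∈ Stab bs ∧ ap (l.t p) l.b = p := by
  unfold Level.chk at h
  rw [cond_and, cond_and] at h
  obtain ⟨h1, h2, h3⟩ := h
  refine ⟨blt_iff.1 h1, Nat.eq_of_beq_eq_true h2, fun p hp hok => ?_⟩
  have h4 := allN_spec h3 p hp
  rw [hok, cond_true, cond_and] at h4
  obtain ⟨h5, h6⟩ := h4
  have h5 : iv (l.get p) p = l.b := Nat.eq_of_beq_eq_true h5
  refine ⟨⟨el_mem _, fun b hb => ?_⟩, ?_⟩
  · have h7 : iv (l.get p) b = b := Nat.eq_of_beq_eq_true (List.all_eq_true.1 h6 b hb)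
    have h8 := ap_self_inv (l.t p) b
    have h9 : ap (l.t p)⁻¹ b = b := by
      show ap (el (l.get p))⁻¹ b = b
      rw [ap_el_inv _ (hbs b hb), h7]
    rwa [h9] at h8
  · have h8 := ap_self_inv (l.t p) p
    have h9 : ap (l.t p)⁻¹ p = l.b := by
      show ap (el (l.get p))⁻¹ p = l.b
      rw [ap_el_inv _ hp, h5]
    rwa [h9] at h8

/-- orbit and stabiliser -/
theorem card_Stab (bs : List ℕ) {b : ℕ} (hb : b < 416) :
    ∃ O : Finset ℕ, (∀ p, p ∈ O ↔ ∃ g ∈ Stab bs, ap g b = p) ∧
      Nat.card (Stab bs) = O.card * Nat.card (Stab (b :: bs)) := by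
  classical
  set x : Fin 416 := ⟨b, hb⟩
  have e1 : (MulAction.stabilizer (Stab bs) x).map (Stab bs).subtype = Stab (b :: bs) := by
    ext g
    rw [Subgroup.mem_map, mem_Stab]
    constructor
    · rintro ⟨h, hh, rfl⟩
      refine ⟨h.2.1, fun c hc => ?_⟩
      rcases List.mem_cons.1 hc with rfl | hc
      · have : (h : Equiv.Perm (Fin 416)) x = x := hh
        show ap (h : Equiv.Perm (Fin 416)) c = c
        rw [ap_of_lt _ hb]; exact congrArg Fin.val this
      · exact h.2.2 c hc
    · rintro ⟨hg, hg'⟩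
      refine ⟨⟨g, hg, fun c hc => hg' c (List.mem_cons_of_mem _ hc)⟩, ?_, rfl⟩
      have := hg' b List.mem_cons_self
      rw [ap_of_lt _ hb] at this
      exact Fin.ext this
  have e2 : Nat.card (MulAction.stabilizer (Stab bs) x) = Nat.card (Stab (b :: bs)) := by
    rw [← e1]
    exact (Nat.card_congr (Subgroup.equivMapOfInjective _ _ (Subgroup.subtype_injective _)).toEquiv)
  refine ⟨(Set.toFinite (MulAction.orbit (Stab bs) x)).toFinset.image Fin.val, fun p => ?_, ?_⟩
  · rw [Finset.mem_image]
    constructor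
    · rintro ⟨y, hy, rfl⟩
      rw [Set.Finite.mem_toFinset] at hy
      obtain ⟨g, rfl⟩ := hy
      exact ⟨g.1, g.2, ap_of_lt _ hb⟩
    · rintro ⟨g, hg, rfl⟩
      refine ⟨g x, ?_, (ap_of_lt _ hb).symm⟩
      rw [Set.Finite.mem_toFinset]
      exact ⟨⟨g, hg⟩, rfl⟩
  · rw [Finset.card_image_of_injective _ Fin.val_injective, ← Set.ncard_eq_toFinset_card,
      ← MulAction.index_stabilizer, ← e2, mul_comm]
    exact ((MulAction.stabilizer (Stab bs) x).card_mul_index).symm

theorem verify_cons {bs : List ℕ} {l : Level} {ls : List Level} :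
    verify bs (l :: ls) = true ↔ l.chk bs = true ∧ verify (l.b :: bs) ls = true := by
  show cond (l.chk bs) (verify (l.b :: bs) ls) false = true ↔ _
  exact cond_and

theorem n_le {l : Level} {bs : List ℕ} (hbs : ∀ b ∈ bs, b < 416) (h : l.chk bs = true)
    {O : Finset ℕ} (hO : ∀ p, p ∈ O ↔ ∃ g ∈ Stab bs, ap g l.b = p) :
    (Finset.range 416).filter (fun k => l.ok k = true) ⊆ O ∧
      ((Finset.range 416).filter fun k => l.ok k = true).card = l.n := by
  obtain ⟨_, h2, h3⟩ := chk_spec hbs h
  refine ⟨fun p hp => ?_, by rw [← cnt_spec, h2]⟩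
  rw [Finset.mem_filter, Finset.mem_range] at hp
  obtain ⟨h4, h5⟩ := h3 p hp.1 hp.2
  exact (hO p).2 ⟨_, h4, h5⟩

theorem prod_le : ∀ (ls : List Level) (bs : List ℕ), (∀ b ∈ bs, b < 416) → verify bs ls = true →
    prod ls ≤ Nat.card (Stab bs) := by
  intro ls
  induction ls with
  | nil =>
    intro bs _ _
    exact Nat.one_le_iff_ne_zero.2 (Nat.card_pos).ne'
  | cons l ls ih =>
    intro bs hbs hv
    obtain ⟨hl, hv'⟩ := verify_cons.1 hv
    have hb := (chk_spec hbs hl).1
    have hbs' : ∀ b ∈ l.b :: bs, b < 416 := by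
      intro b hb'
      rcases List.mem_cons.1 hb' with rfl | h
      · exact hb
      · exact hbs b h
    obtain ⟨O, hO, hc⟩ := card_Stab bs hb
    obtain ⟨h1, h2⟩ := n_le hbs hl hO
    have h3 := Finset.card_le_card h1
    rw [h2] at h3
    rw [hc]
    have e : prod (l :: ls) = l.n * prod ls := by unfold prod; rw [List.map_cons, List.prod_cons]
    rw [e]
    exact Nat.mul_le_mul h3 (ih _ hbs' hv')

/-- the chain is tight: the orbits and the stabilisers are what they should be -/
theorem tight {l : Level} {ls : List Level} {bs : List ℕ} (hbs : ∀ b ∈ bs, b < 416)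
    (hv : verify bs (l :: ls) = true) (hc : Nat.card (Stab bs) ≤ prod (l :: ls)) :
    (∀ g ∈ Stab bs, l.ok (ap g l.b) = true) ∧ Nat.card (Stab (l.b :: bs)) ≤ prod ls := by
  obtain ⟨hl, hv'⟩ := verify_cons.1 hv
  have hb := (chk_spec hbs hl).1
  have hbs' : ∀ b ∈ l.b :: bs, b < 416 := by
    intro b hb'
    rcases List.mem_cons.1 hb' with rfl | h
    · exact hb
    · exact hbs b h
  obtain ⟨O, hO, hcO⟩ := card_Stab bs hb
  obtain ⟨h1, h2⟩ := n_le hbs hl hO
  have h3 := Finset.card_le_card h1
  rw [h2] at h3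
  have h4 := prod_le ls _ hbs' hv'
  have e : prod (l :: ls) = l.n * prod ls := by unfold prod; rw [List.map_cons, List.prod_cons]
  rw [hcO, e] at hc
  have h5 : 0 < Nat.card (Stab (l.b :: bs)) := Nat.card_pos
  have h6 : 0 < O.card := Finset.card_pos.2 ⟨ap 1 l.b, (hO _).2 ⟨1, (Stab bs).one_mem, rfl⟩⟩
  have h7 : O.card ≤ l.n := by
    by_contra hlt
    rw [not_le] at hlt
    have h8 : l.n * prod ls < O.card * Nat.card (Stab (l.b :: bs)) := by
      calc l.n * prod ls ≤ l.n * Nat.card (Stab (l.b :: bs)) := Nat.mul_le_mul_left _ h4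
        _ < O.card * Nat.card (Stab (l.b :: bs)) := Nat.mul_lt_mul_of_pos_right hlt h5
    omega
  have h8 : O.card = l.n := le_antisymm h7 h3
  refine ⟨fun g hg => ?_, ?_⟩
  · have h9 : (Finset.range 416).filter (fun k => l.ok k = true) = O :=
      Finset.eq_of_subset_of_card_le h1 (by rw [h2, h8])
    have h10 : ap g l.b ∈ O := (hO _).2 ⟨g, hg, rfl⟩
    rw [← h9, Finset.mem_filter] at h10
    exact h10.2
  · rw [h8] at hc
    exact Nat.le_of_mul_le_mul_left hc (h8 ▸ h6)

/-- sifting of a list of images of base points -/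
noncomputable def sift : List Level → List ℕ → Bool
  | _, [] => true
  | [], _ :: _ => true
  | l :: ls, q :: qs => cond (l.ok q) (sift ls (qs.map (l.inv q))) false

/-- the base points -/
def bases (ls : List Level) : List ℕ := ls.map Level.b

theorem bases_lt : ∀ (ls : List Level) (bs : List ℕ), (∀ b ∈ bs, b < 416) → verify bs ls = true →
    ∀ b ∈ bases ls, b < 416 := by
  intro ls
  induction ls with
  | nil => intro bs _ _ b hb; simp [bases] at hb
  | cons l ls ih =>
    intro bs hbs hv b hb
    obtain ⟨hl, hv'⟩ := verify_cons.1 hv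
    have hb0 := (chk_spec hbs hl).1
    have hbs' : ∀ b ∈ l.b :: bs, b < 416 := by
      intro b hb'
      rcases List.mem_cons.1 hb' with rfl | h
      · exact hb0
      · exact hbs b h
    rcases List.mem_cons.1 (show b ∈ l.b :: bases ls from hb) with rfl | h
    · exact hb0
    · exact ih _ hbs' hv' b h

theorem sift_ok_aux : ∀ (ls : List Level) (bs : List ℕ), (∀ b ∈ bs, b < 416) → verify bs ls = true →
    Nat.card (Stab bs) ≤ prod ls → ∀ g ∈ Stab bs, ∀ k : ℕ,
      sift ls (((bases ls).take k).map (ap g)) = true := by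
  intro ls
  induction ls with
  | nil => intro bs _ _ _ g _ k; simp [bases, sift]
  | cons l ls ih =>
    intro bs hbs hv hc g hg k
    cases k with
    | zero => simp [sift]
    | succ k =>
      obtain ⟨h1, h2⟩ := tight hbs hv hc
      obtain ⟨hl, hv'⟩ := verify_cons.1 hv
      obtain ⟨hb, _, h3⟩ := chk_spec hbs hl
      have hbs' : ∀ b ∈ l.b :: bs, b < 416 := by
        intro b hb'
        rcases List.mem_cons.1 hb' with rfl | h
        · exact hb
        · exact hbs b h
      have h4 := h1 g hg
      obtain ⟨h5, h6⟩ := h3 _ (ap_lt g hb) h4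
      have h7 : (l.t (ap g l.b))⁻¹ * g ∈ Stab (l.b :: bs) := by
        refine ⟨LL.mul_mem (LL.inv_mem h5.1) hg.1, fun b hb' => ?_⟩
        rcases List.mem_cons.1 hb' with rfl | hb'
        · rw [ap_mul]
          have h10 := ap_inv_self (l.t (ap g l.b)) l.b
          rwa [h6] at h10
        · rw [ap_mul, hg.2 b hb']
          have := ap_inv_self (l.t (ap g l.b)) b
          rwa [h5.2 b hb'] at this
      have h8 := ih _ hbs' hv' h2 _ h7 k
      show cond (l.ok (ap g l.b))
        (sift ls ((((bases ls).take k).map (ap g)).map (l.inv (ap g l.b)))) false = true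
      rw [h4, cond_true, List.map_map]
      have h9 : ((bases ls).take k).map ((l.inv (ap g l.b)) ∘ (ap g)) =
          ((bases ls).take k).map (ap ((l.t (ap g l.b))⁻¹ * g)) := by
        apply List.map_congr_left
        intro b hb'
        have hb'' := bases_lt ls _ hbs' hv' b (List.mem_of_mem_take hb')
        show iv (l.get (ap g l.b)) (ap g b) = _
        rw [ap_mul]
        exact (ap_el_inv _ (ap_lt g hb'')).symm
      rw [h9]; exact h8

theorem eq_one_aux : ∀ (ls : List Level) (bs : List ℕ), (∀ b ∈ bs, b < 416) → verify bs ls = true →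
    Nat.card (Stab bs) ≤ prod ls → ∀ g ∈ Stab bs, (∀ b ∈ bases ls, ap g b = b) → g = 1 := by
  intro ls
  induction ls with
  | nil =>
    intro bs _ _ hc g hg _
    have h1 : Nat.card (Stab bs) = 1 := le_antisymm hc (Nat.one_le_iff_ne_zero.2 (Nat.card_pos).ne')
    have h2 := Subgroup.card_eq_one.1 h1
    rw [h2] at hg
    exact Subgroup.mem_bot.1 hg
  | cons l ls ih =>
    intro bs hbs hv hc g hg hb
    obtain ⟨h1, h2⟩ := tight hbs hv hc
    obtain ⟨hl, hv'⟩ := verify_cons.1 hv
    have hb0 := (chk_spec hbs hl).1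
    have hbs' : ∀ b ∈ l.b :: bs, b < 416 := by
      intro b hb'
      rcases List.mem_cons.1 hb' with rfl | h
      · exact hb0
      · exact hbs b h
    refine ih _ hbs' hv' h2 g ⟨hg.1, fun b hb' => ?_⟩ fun b hb' => hb b (List.mem_cons_of_mem _ hb')
    rcases List.mem_cons.1 hb' with rfl | hb'
    · exact hb _ List.mem_cons_self
    · exact hg.2 b hb'

/-- a verified full chain -/
structure Full (ls : List Level) : Prop where
  v : verify [] ls = true
  p : prod ls = 251596800

theorem Full.card_le {ls : List Level} (h : Full ls) : Nat.card (Stab []) ≤ prod ls := by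
  rw [Stab_nil, h.p]; exact card_LL_le

theorem Full.sift_ok {ls : List Level} (h : Full ls) {g : Equiv.Perm (Fin 416)} (hg : g ∈ LL) (k : ℕ) :
    sift ls (((bases ls).take k).map (ap g)) = true :=
  sift_ok_aux ls [] (by simp) h.v h.card_le g (by rw [Stab_nil]; exact hg) k

theorem Full.eq_of_base {ls : List Level} (h : Full ls) {g k : Equiv.Perm (Fin 416)} (hg : g ∈ LL)
    (hk : k ∈ LL) (H : ∀ b ∈ bases ls, ap g b = ap k b) : g = k := by
  have h1 : k⁻¹ * g = 1 := by
    refine eq_one_aux ls [] (by simp) h.v h.card_le _ (by rw [Stab_nil]; exact LL.mul_mem (LL.inv_mem hk) hg)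
      fun b hb => ?_
    rw [ap_mul, H b hb, ap_inv_self]
  rw [← mul_one k, ← h1, mul_inv_cancel_left]

theorem Full.card {ls : List Level} (h : Full ls) : Nat.card LL = 251596800 := by
  refine le_antisymm card_LL_le ?_
  have := prod_le ls [] (by simp) h.v
  rwa [Stab_nil, h.p] at this

/-- equality of two words from the base points -/
theorem Full.el_eq {ls : List Level} (h : Full ls) {w w' : ℕ}
    (H : ((bases ls).all fun b => Nat.beq (iv w b) (iv w' b)) = true) : el w = el w' := by
  have h1 : (el w)⁻¹ = (el w')⁻¹ := by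
    refine h.eq_of_base (LL.inv_mem (el_mem _)) (LL.inv_mem (el_mem _)) fun b hb => ?_
    have hb' := bases_lt ls [] (by simp) h.v b hb
    rw [ap_el_inv _ hb', ap_el_inv _ hb']
    exact Nat.eq_of_beq_eq_true (List.all_eq_true.1 H b hb)
  exact inv_injective h1

end Cfsg.Agent.StdG24.Sift
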